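import Mathlib
import Cfsg.Agent.H19.MG12

/-!
# A standard subgroup of type `2.B`: definitions
-/

set_option autoImplicit false
set_option linter.all false

namespace H10.Mon.MG

/-- Short classes of inner product `0` with `c0`. -/
def cA (c : C) : Prop := IsS c ∧ pl c c0.1 = 0 ∧ c ≠ c0.1 ∧ ¬ IsS (c + c0.1)

/-- Extra facts on the three classes of involutions of `Co1`. -/
structure LG (eO eD s0 : G0) : Prop where
  fO : ∃ a b, IsS a ∧ IsS b ∧ IsS (a + b) ∧ eO • a = a ∧ eO • b = b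
  fD : ∃ a b, IsS a ∧ IsS b ∧ IsS (a + b) ∧ eD • a = a ∧ eD • b = b
  s2 : s0 * s0 = neg1

variable {M G : Type*} [Group M] [Group G]

/-- The model: a group like the Monster. -/
structure Mod (x y : M) (p : ZMod 2 → C → M) (γ : M) (eO eD s0 : G0) : Prop where
  two : Two x y p γ
  lf : LF eO eD s0
  lg : LG eO eD s0
  gen : ∀ K : Subgroup M, (∀ a, a * x = x * a → a * y = y * a → a ∈ K) → γ ∈ K →
    ∀ a, a * x = x * a → a ∈ K

/-- `ι` embeds `C(x)` into `G`, with `x ↦ t`. -/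
structure Em (x : M) (t : G) (ι : M → G) : Prop where
  mul : ∀ {a b}, a * x = x * a → b * x = x * b → ι (a * b) = ι a * ι b
  inj : ∀ {a b}, a * x = x * a → b * x = x * b → ι a = ι b → a = b
  hx : ι x = t

/-- The standard situation: `C(t) = L K` with `L` the image of `ι` and `K = C(L)` tightly
embedded. -/
structure St (x : M) (t : G) (ι : M → G) (K : Subgroup G) : Prop extends Em x t ι where
  memK : ∀ k, k ∈ K ↔ ∀ a, a * x = x * a → ι a * k = k * ι a
  dec : ∀ g, g * t = t * g → ∃ a, ∃ k ∈ K, a * x = x * a ∧ g = ι a * k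
  tight : ∀ u ∈ K, u * u = 1 → u ≠ 1 → ∀ g, g * u * g⁻¹ ∈ K → g * t = t * g

/-- `ι` is onto `C(t)`, and the fusion in `⟨t, ι y⟩` is as in the Monster. -/
structure Fr (x y : M) (t : G) (ι : M → G) : Prop extends Em x t ι where
  sur : ∀ g, g * t = t * g → ∃ a, a * x = x * a ∧ ι a = g
  nc : ¬ IsConj t (ι y)
  fz : ∃ b, b * ι y = ι y * b ∧ b * t * b⁻¹ = t * ι y

/-- Coordinates for the extraspecial group `2^(1+24)` in `G`. -/
structure Fq (x y : M) (p : ZMod 2 → C → M) (ι : M → G) (q : ZMod 2 → C → G) : Prop where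
  mul : ∀ s c t d, q s c * q t d = q (s + t + bb c d) (c + d)
  inj : ∀ {s c t d}, q s c = q t d → s = t ∧ c = d
  eq : ∀ s c, pl c c0.1 = 0 → q s c = ι (p s c)
  act : ∀ s c a, a * x = x * a → a * y = y * a → q s c * ι a * (q s c)⁻¹ = ι (p s c * a * (p s c)⁻¹)
  rel : ∀ a k, a * x = x * a → a * y = y * a → Rel p a k → Rel q (ι a) k

/-- The normaliser of the extraspecial group has the shape `2^(1+24).Co1`. -/
structure Nq (y : G) (q : ZMod 2 → C → G) : Prop where
  mul : ∀ s c t d, q s c * q t d = q (s + t + bb c d) (c + d)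
  inj : ∀ {s c t d}, q s c = q t d → s = t ∧ c = d
  one : q 1 0 = y
  up : ∀ g, (∀ s c, ∃ t d, g * q s c * g⁻¹ = q t d) → ∃ k, Rel q g k
  down : ∀ k, ∃ g, Rel q g k
  cent : ∀ g, (∀ t c, g * q t c = q t c * g) → g = 1 ∨ g = y

section
variable {x y : M} {t : G} {ι : M → G}

theorem cm_one : (1 : M) * x = x * 1 := by rw [one_mul, mul_one]
theorem cm_mul {a b : M} (ha : a * x = x * a) (hb : b * x = x * b) : a * b * x = x * (a * b) := by
  rw [mul_assoc, hb, ← mul_assoc, ha, mul_assoc]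
theorem cm_inv {a : M} (ha : a * x = x * a) : a⁻¹ * x = x * a⁻¹ :=
  (show Commute a x from ha).inv_left
theorem cm_conj {a b : M} (ha : a * x = x * a) (hb : b * x = x * b) :
    a * b * a⁻¹ * x = x * (a * b * a⁻¹) := cm_mul (cm_mul ha hb) (cm_inv ha)
theorem cm_pow {a : M} (ha : a * x = x * a) (n : ℕ) : a ^ n * x = x * a ^ n :=
  (show Commute a x from ha).pow_left n

namespace Em
variable (E : Em x t ι)
include E

theorem one : ι 1 = 1 := by
  have := E.mul (a := 1) (b := 1) cm_one cm_one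
  rwa [mul_one, left_eq_mul] at this

theorem inv {a : M} (ha : a * x = x * a) : ι a⁻¹ = (ι a)⁻¹ :=
  eq_inv_of_mul_eq_one_left (by rw [← E.mul (cm_inv ha) ha, inv_mul_cancel, E.one])

theorem conj {a b : M} (ha : a * x = x * a) (hb : b * x = x * b) :
    ι (a * b * a⁻¹) = ι a * ι b * (ι a)⁻¹ := by
  rw [E.mul (cm_mul ha hb) (cm_inv ha), E.mul ha hb, E.inv ha]

theorem pow {a : M} (ha : a * x = x * a) : ∀ n : ℕ, ι (a ^ n) = ι a ^ n
  | 0 => by rw [pow_zero, pow_zero, E.one]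
  | n + 1 => by rw [pow_succ, pow_succ, E.mul (cm_pow ha n) ha, pow ha n]

theorem comm {a b : M} (ha : a * x = x * a) (hb : b * x = x * b) :
    ι a * ι b = ι b * ι a ↔ a * b = b * a := by
  rw [← E.mul ha hb, ← E.mul hb ha]
  exact ⟨E.inj (cm_mul ha hb) (cm_mul hb ha), fun e => by rw [e]⟩

theorem cm {a : M} (ha : a * x = x * a) : ι a * t = t * ι a := E.hx ▸ (E.comm ha rfl).2 ha

theorem eq_one {a : M} (ha : a * x = x * a) : ι a = 1 ↔ a = 1 :=
  ⟨fun e => E.inj ha cm_one (e.trans E.one.symm), fun e => e ▸ E.one⟩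

/-- `ι` as a homomorphism. -/
def hom : Subgroup.centralizer ({x} : Set M) →* G where
  toFun a := ι a
  map_one' := E.one
  map_mul' a b := E.mul (Subgroup.mem_centralizer_singleton_iff.1 a.2)
    (Subgroup.mem_centralizer_singleton_iff.1 b.2)

theorem hom_inj : Function.Injective E.hom := fun a b e => Subtype.ext
  (E.inj (Subgroup.mem_centralizer_singleton_iff.1 a.2)
    (Subgroup.mem_centralizer_singleton_iff.1 b.2) e)

end Em
end

/-- The stabiliser of the extraspecial group. -/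
def Nq.N {y : G} {q : ZMod 2 → C → G} (H : Nq y q) : Subgroup G where
  carrier := {g | ∃ k, Rel q g k}
  one_mem' := ⟨1, Rel.one⟩
  mul_mem' := fun ⟨_, a⟩ ⟨_, b⟩ => ⟨_, a.mul b⟩
  inv_mem' := fun ⟨_, a⟩ => ⟨_, a.inv⟩

theorem Nq.q_mem {y : G} {q : ZMod 2 → C → G} (H : Nq y q) (s : ZMod 2) (c : C) : q s c ∈ H.N :=
  ⟨qe s c, fun t d => by
    rw [mul_inv_eq_iff_eq_mul, H.mul, H.mul, ep_qe, co_qe, one_smul, add_comm d c]
    congr 1
    linear_combination -zz2 (bb d c)⟩

/-- All lemmas on `Sit` apply inside `N`. -/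
theorem Nq.sit {y : G} {q : ZMod 2 → C → G} (H : Nq y q) :
    Sit (G := H.N) ⟨q 1 0, H.q_mem 1 0⟩ fun s c => ⟨q s c, H.q_mem s c⟩ where
  mul s c t d := Subtype.ext (H.mul s c t d)
  inj e := H.inj (congrArg Subtype.val e)
  one := rfl
  up g _ := g.2.imp fun k h t c => Subtype.ext (h t c)
  down k := by
    obtain ⟨g, h⟩ := H.down k
    exact ⟨⟨g, k, h⟩, fun t c => Subtype.ext (h t c)⟩
  cent g h := (H.cent g fun t c => congrArg Subtype.val (h t c)).imp Subtype.ext
    fun e => Subtype.ext (e.trans H.one.symm)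

end H10.Mon.MG
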