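import Mathlib
import Cfsg.Agent.H0.BS0
import Cfsg.Agent.H19.MG3

set_option autoImplicit false
set_option linter.all false
set_option maxRecDepth 100000

namespace H10.Mon.MG

open Cfsg H9 H29 H10.Mon.LFt LS H11.M24I

variable {eO eD s0 : G0}

theorem exists_LF2 : ∃ eO eD s0 : G0, LF eO eD s0 ∧ LG eO eD s0 := by
  refine ⟨LFt.eO, LFt.eD, LFt.s0, ⟨cls', clsN', fun h hh k => ?_, mn_mem _ _, sT', ?_,
    free_of (N := N0') cS (by decide +kernel), free_of (N := ND') cD (by decide +kernel), ?_, dO', ?_,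
    oP', fun c _ h => im_of_perp sqO h, oT', oV', ?_, ?_⟩, ?_, ?_, ?_⟩
  · obtain ⟨σ, o, rfl⟩ := mem_N0_iff.1 hh
    obtain rfl := perm_one k
    exact red_one o
  · exact ⟨dec 643, sh0_of (by decide +kernel), by
      rw [← cS.ap, ← dec_Om, ← dec_xor]; exact eqD_iff.1 (by decide +kernel)⟩
  · exact ⟨dec 8388608, by rw [← cD.ap]; decide +kernel⟩
  · exact ⟨dec 5, sh0_of (by decide +kernel), by
      rw [← cD.ap, ← dec_Om, ← dec_xor]; exact eqD_iff.1 (by decide +kernel)⟩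
  · simp only [List.forall_mem_cons]
    exact ⟨LFt.card_fix (N := NO') (W := WO) (F := FO) cO (by decide +kernel),
      LFt.card_fix (N := ND') (W := WD) (F := FD) cD (by decide +kernel),
      LFt.card_fix (N := N0') (W := W0) (F := F0) cS (by decide +kernel), by simp⟩
  · simp only [List.forall_mem_cons]
    exact ⟨⟨dec 4096, by decide +kernel, by rw [← fmN_iff cO]; decide +kernel⟩,
      ⟨dec 4096, by decide +kernel, by rw [← fmN_iff cD]; decide +kernel⟩, by simp⟩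
  · exact ⟨dec 4048, dec 3885, (sh0_of (by decide +kernel)).1, (sh0_of (by decide +kernel)).1,
      by rw [← dec_xor]; exact (sh0_of (by decide +kernel)).1,
      by rw [← cO.ap]; exact eqD_iff.1 (by decide +kernel),
      by rw [← cO.ap]; exact eqD_iff.1 (by decide +kernel)⟩
  · exact ⟨dec 3885, dec 3907, (sh0_of (by decide +kernel)).1, (sh0_of (by decide +kernel)).1,
      by rw [← dec_xor]; exact (sh0_of (by decide +kernel)).1,
      by rw [← cD.ap]; exact eqD_iff.1 (by decide +kernel),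
      by rw [← cD.ap]; exact eqD_iff.1 (by decide +kernel)⟩
  · have d1 : isM24 r1 = true := by decide +kernel
    have d2 : isCw oS = true := by decide +kernel
    have v := validP_of_isM24 d1
    rw [LFt.s0, mn, dif_pos ⟨d1, d2⟩, mono_mul, neg1_eq]
    refine congrArg₂ mono ?_ ?_
    · refine Subtype.ext ?_
      change H9.pm r1 * H9.pm r1 = 1
      rw [← pm_mulP v v, show mulP r1 r1 = idP by decide +kernel, pm_idP]
    · refine Subtype.ext ?_
      simp only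
      rw [pm_smul_ofMask v, ← ofMask_xor, ← ofMask_full]
      exact congrArg ofMask (by decide +kernel)

theorem LG.nfix (L : LG eO eD s0) {h : G0} (hc : Cj h s0) :
    h * h = neg1 ∧ ∀ c, IsS c → h • c ≠ c := by
  obtain ⟨u, hu⟩ := hc
  have e : u * h * u⁻¹ * (u * h * u⁻¹) = neg1 := by
    rw [← mul_inv_cancel_left s0 (u * h * u⁻¹)]
    rcases mem_center_G0.1 (center_of_fix (h := s0⁻¹ * (u * h * u⁻¹)) fun c => by
      rw [mul_smul, hu, inv_smul_smul]) with e | e <;> rw [e]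
    · rw [mul_one, L.s2]
    · rw [mul_assoc, ← mul_assoc neg1, ← neg1_comm, mul_assoc, neg1_mul_self, mul_one, L.s2]
  have e' : h * h = neg1 := by
    calc _ = u⁻¹ * (u * h * u⁻¹ * (u * h * u⁻¹)) * u := by group
      _ = _ := by rw [e, neg1_comm, inv_mul_cancel_right]
  refine ⟨e', ?_⟩
  rintro _ ⟨x, hx, rfl⟩ k
  have : h • h • x = x := by
    rcases eq_or_neg hx (by rw [co_norm, hx]; norm_num) (k.symm.trans (smul_kap _ _)) with k | k
    · rw [k, k]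
    · rw [k, co_neg, k, neg_neg]
  rw [← mul_smul, e', neg1_smul] at this
  exact leechEL.ne_neg (x := x) (fun e => by rw [e] at hx; simp [Cfsg.sqNorm] at hx) this.symm

theorem LG.tri (L : LG eO eD s0) {h : G0} (hc : Cj h eO ∨ Cj h eD) :
    ∃ a b, IsS a ∧ IsS b ∧ IsS (a + b) ∧ h • a = a ∧ h • b = b := by
  have k : ∀ {s : G0}, (∃ a b, IsS a ∧ IsS b ∧ IsS (a + b) ∧ s • a = a ∧ s • b = b) → Cj h s →
      ∃ a b, IsS a ∧ IsS b ∧ IsS (a + b) ∧ h • a = a ∧ h • b = b :=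
    fun {s} ⟨a, b, h1, h2, h3, h4, h5⟩ ⟨u, hu⟩ => by
      have f : ∀ c : C, s • c = c → h • u⁻¹ • c = u⁻¹ • c := fun c hc => by
        rw [eq_inv_smul_iff, ← mul_smul, ← mul_smul, hu, hc]
      exact ⟨_, _, h1.smul u⁻¹, h2.smul u⁻¹, smul_add u⁻¹ a b ▸ h3.smul u⁻¹, f a h4, f b h5⟩
  exact hc.elim (k L.fO) (k L.fD)

theorem five : ∃ f : Fin 5 → C, ∀ i j, i ≠ j → IsS (f i + f j) :=
  ⟨fun i => dec (![1088, 912, 3646, 1213, 1022] i), fun i j h => by
    rw [← dec_xor]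
    exact (sh0_of (by revert i j; decide +kernel)).1⟩

theorem cA_Om : cA (c0.1 + Om) :=
  ⟨(sh0_Om sh0_c0).1, by rw [pl_add', pl_self, pl_comm, pl_Om, c0_fst]; rfl,
    fun e => Om_ne_zero (by simpa using e), by
      rw [add_right_comm, cc2, zero_add]; exact not_isS_Om⟩

theorem cA.smul {c : C} (hc : cA c) {h : G0} (e : h • c0.1 = c0.1) : cA (h • c) :=
  ⟨hc.1.smul h, by rw [← e, pl_smul, hc.2.1], fun k => hc.2.2.1 (smul_left_cancel h (k.trans e.symm)),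
    by rw [← e, ← smul_add, isS_smul]; exact hc.2.2.2⟩

theorem ex_oddA : ∃ v, cA v ∧ pl v Om = 1 := by
  have h1 : inL 0x0011001100110011001100110011001100110011001100110011001100110011001100110011001100110011000d0011 = true := by decide +kernel
  refine ⟨kapC 0x0011001100110011001100110011001100110011001100110011001100110011001100110011001100110011000d0011, ⟨isS_code h1 (by decide +kernel), by rw [c0_code]; decide +kernel,
    by rw [c0_code]; decide +kernel, ?_⟩, by rw [pl_Om]; decide +kernel⟩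
  rw [← kap_code (lv_coe h1), c0_val, isS_add (by rw [lv_coe h1, norm_vc]; decide +kernel) norm_vU',
    lv_coe h1, vU'_eq, dot_vc]
  decide +kernel

theorem ex_evO : ∃ w, IsS w ∧ pl w c0.1 = 1 ∧ pl w Om = 0 :=
  ⟨kapC 0x001000100010001000100010001000100010001000100012001000120010001000120010001000120012001200120012, isS_code (by decide +kernel) (by decide +kernel), by rw [c0_code]; decide +kernel,
    by rw [pl_Om]; decide +kernel⟩

theorem fst_dec {n : ℕ} (h : n < 4096) : (dec n).1 = 0 :=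
  fst_zero (H29.beq_true.2 (Nat.shiftRight_eq_zero n 12 h))

theorem nS_dec {n : ℕ} (h : n < 4096 ∧ SH.testBit n = false) : ¬ IsS (dec n) := fun k => by
  have := sh0_bit h.1 ⟨k, fst_dec h.1⟩
  rw [h.2] at this
  exact Bool.false_ne_true this

theorem pl_fst {c d : C} (h1 : c.1 = 0) (h2 : d.1 = 0) : pl c d = 0 := by
  rw [pl, bb_fst h1, bb_fst h2, add_zero]

theorem cA_dec {n : ℕ} (h : SH.testBit n = true ∧ dec n ≠ dec 0xbe0 ∧ n ^^^ 0xbe0 < 4096 ∧
    SH.testBit (n ^^^ 0xbe0) = false) : cA (dec n) :=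
  ⟨(sh0_of h.1).1, pl_fst (sh0_of h.1).2 c0_fst, c0_dec ▸ h.2.1, by
    rw [c0_dec, ← dec_xor]; exact nS_dec h.2.2⟩

theorem ex_trip : ∃ a b u v : C, a.1 = 0 ∧ b.1 = 0 ∧ u.1 = 0 ∧ v.1 = 0 ∧ cA a ∧ cA b ∧ IsS u ∧
    IsS (u + c0.1) ∧ cA v ∧ ∀ e ∈ [a + b, u + v], e ≠ 0 ∧ e + c0.1 ≠ 0 ∧ ¬ IsS e ∧ ¬ IsS (e + c0.1) := by
  refine ⟨dec 1, dec 5, dec 27, dec 1, fst_dec (by norm_num), fst_dec (by norm_num),
    fst_dec (by norm_num), fst_dec (by norm_num), cA_dec (by decide +kernel), cA_dec (by decide +kernel),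
    (sh0_of (by decide +kernel)).1, by rw [c0_dec, ← dec_xor]; exact (sh0_of (by decide +kernel)).1,
    cA_dec (by decide +kernel), ?_⟩
  simp only [List.forall_mem_cons, c0_dec, ← dec_xor]
  exact ⟨⟨by decide +kernel, by decide +kernel, nS_dec (by decide +kernel), nS_dec (by decide +kernel)⟩,
    ⟨by decide +kernel, by decide +kernel, nS_dec (by decide +kernel), nS_dec (by decide +kernel)⟩,
    by simp⟩

theorem tr_abs {x y : L} (hx : sqNorm (x : V) = 32) (hy : sqNorm (y : V) = 32)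
    (h : dotInt (x : V) vU' = dotInt (y : V) vU' ∨ dotInt (x : V) vU' = -dotInt (y : V) vU') :
    ∃ h : G0, h • c0.1 = c0.1 ∧ h • kap x = kap y := by
  rcases h with h | h
  · obtain ⟨g, g1, g2⟩ := tr_C2' hx hy (by rw [dU', dU', dot_comm, h, dot_comm])
    exact ⟨g, fix_c0.2 (.inl g1), by rw [smul_kap, g2]⟩
  · obtain ⟨g, g1, g2⟩ := tr_C2' hx ((norm_negL y).trans hy) (by
      rw [dU', dU', dot_comm, h, dot_comm (vU' : V), AddSubgroup.coe_neg, dot_neg_left])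
    exact ⟨g, fix_c0.2 (.inl g1), by rw [smul_kap, g2, kap_neg]⟩

theorem trAA {c d : C} (h1 : IsS c) (h2 : IsS (c + c0.1)) (h3 : IsS d) (h4 : IsS (d + c0.1)) :
    ∃ h : G0, h • c0.1 = c0.1 ∧ h • c = d := by
  obtain ⟨x, hx, rfl⟩ := h1
  obtain ⟨y, hy, rfl⟩ := h3
  have a1 := (isS_add hx norm_vU').1 h2
  have a2 := (isS_add hy norm_vU').1 h4
  exact tr_abs hx hy (by omega)

theorem dot_eight {x : L} (hx : sqNorm (x : V) = 32) (h2 : pl (kap x) c0.1 = 1) :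
    dotInt (x : V) vU' = 8 ∨ dotInt (x : V) vU' = -8 := by
  have h3 : kap x ≠ c0.1 := fun e => by rw [e, pl_self] at h2; exact zero_ne_one h2
  have h4 : ¬ (2 : ℤ) ∣ dotInt (x : V) vU' / 8 := fun e => by
    rw [pl, c0_val, ← ip_kap, ip_apply, (ZMod.intCast_zmod_eq_zero_iff_dvd _ 2).2 e] at h2
    exact zero_ne_one h2
  have a0 := dot8 x vU'
  have a1 := min_norm (x - vU').2 fun h => h3 (by
    rw [c0_val, sub_eq_zero.1 (Subtype.ext h : x - vU' = 0)])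
  have a2 := min_norm (x + vU').2 fun h => h3 (by
    rw [c0_val, add_eq_zero_iff_eq_neg.1 (Subtype.ext h : x + vU' = 0), kap_neg])
  rw [AddSubgroup.coe_sub, sqNorm_sub, hx, norm_vU'] at a1
  rw [AddSubgroup.coe_add, sqNorm_add, hx, norm_vU'] at a2
  omega

theorem trO1 {c d : C} (h1 : IsS c) (h2 : pl c c0.1 = 1) (h3 : IsS d) (h4 : pl d c0.1 = 1) :
    ∃ h : G0, h • c0.1 = c0.1 ∧ h • c = d := by
  obtain ⟨x, hx, rfl⟩ := h1
  obtain ⟨y, hy, rfl⟩ := h3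
  have a1 := dot_eight hx h2
  have a2 := dot_eight hy h4
  exact tr_abs hx hy (by omega)

theorem trT4 {c d : C} (h0 : bb c c = 0) (h1 : ¬ IsS c) (h2 : pl c c0.1 = 1) (h3 : bb d d = 0)
    (h4 : ¬ IsS d) (h5 : pl d c0.1 = 1) : ∃ h : G0, h • c0.1 = c0.1 ∧ h • c = d := by
  have n : ∀ {c : C}, pl c c0.1 = 1 → c ≠ 0 := fun h e => by
    rw [e, pl_comm, pl_zero] at h; exact zero_ne_one h
  obtain ⟨g, rfl⟩ := typ4 (n h2) h0 h1
  obtain ⟨g', rfl⟩ := typ4 (n h5) h3 h4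
  have k : ∀ {g : G0}, pl (g • Om) c0.1 = 1 → (g⁻¹ • c0).1.1 11 = 1 := fun {g} h => by
    rw [← pl_Om, smul_val, ← pl_smul g, smul_inv_smul, pl_comm, h]
  have k' : ∀ {c : C}, c.1 11 = 1 → c.1 ≠ 0 := fun h e => by rw [e] at h; exact zero_ne_one h
  obtain ⟨u, u1, u2⟩ := trans_N0 (c := g⁻¹ • c0) (d := g'⁻¹ • c0)
    ⟨fun e => absurd e (k' (k h2)), fun e => absurd e (k' (k h5))⟩ ((k h2).trans (k h5).symm)
  refine ⟨g' * u * g⁻¹, ?_, by rw [mul_smul, mul_smul, inv_smul_smul, fix_Om.2 u1]⟩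
  have := congrArg Subtype.val u2
  rw [smul_val, smul_val, smul_val] at this
  rw [mul_smul, mul_smul, this, smul_inv_smul]

theorem cA_tri : cA (dec 1) ∧ cA (dec 8) ∧ cA (dec 1 + dec 8) :=
  ⟨cA_dec (by decide +kernel), cA_dec (by decide +kernel), by
    rw [← dec_xor]; exact cA_dec (by decide +kernel)⟩

theorem genG0 (H : Subgroup G0) (h1 : ∀ h : G0, h • c0.1 = c0.1 → h ∈ H) {n : G0} (hn : n ∈ H)
    (e : n • c0.1 = c0.1 + Om) : H = ⊤ := by
  have a1 : ∀ c, cA c → ∃ g ∈ H, g • c0.1 = c := fun c hc => by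
    obtain ⟨h, e1, e2⟩ := tr_perp hc.1 hc.2.1 hc.2.2.1 hc.2.2.2
    exact ⟨h⁻¹ * n, mul_mem (inv_mem (h1 h e1)) hn, by rw [mul_smul, e, ← e2, inv_smul_smul]⟩
  have a2 : ∀ c, IsS c → pl c c0.1 = 0 → ∃ g ∈ H, g • c0.1 = c := fun c hc h0 => by
    by_cases b1 : c = c0.1
    · exact ⟨1, one_mem _, by rw [one_smul, b1]⟩
    by_cases b2 : IsS (c + c0.1)
    swap
    · exact a1 c ⟨hc, h0, b1, b2⟩
    obtain ⟨_, _, u, v, -, -, u0, v0, -, -, u1, u2, v1, k⟩ := ex_trip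
    obtain ⟨k1, -, k2, -⟩ := k (u + v) (by simp)
    obtain ⟨g, g1, rfl⟩ := a1 v v1
    obtain ⟨g', g2, g3⟩ := a1 (g⁻¹ • u) ⟨u1.smul _, by
      rw [← pl_smul g, smul_inv_smul, pl_fst u0 v0], fun e => k1 (by
        rw [← e, smul_inv_smul, cc2]), fun e => k2 (by
          rwa [← isS_smul (h := g), smul_add, smul_inv_smul] at e)⟩
    obtain ⟨h, e1, e2⟩ := trAA u1 u2 hc b2
    exact ⟨h * g * g', mul_mem (mul_mem (h1 h e1) g1) g2, by
      rw [mul_smul, mul_smul, g3, smul_inv_smul, e2]⟩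
  refine eq_top_iff.2 fun g _ => ?_
  obtain ⟨a, b1, b2⟩ : ∃ a, cA a ∧ pl (g • c0.1) a = 0 := by
    rcases z2 (pl (g • c0.1) (dec 1)) with k | k
    · exact ⟨_, cA_tri.1, k⟩
    rcases z2 (pl (g • c0.1) (dec 8)) with l | l
    exacts [⟨_, cA_tri.2.1, l⟩, ⟨_, cA_tri.2.2, by rw [pl_add, k, l]; rfl⟩]
  obtain ⟨u, u1, rfl⟩ := a1 a b1
  obtain ⟨v, v1, v2⟩ := a2 (u⁻¹ • g • c0.1) (((isS_val c0).smul _).smul _) (by
    rw [← pl_smul u, smul_inv_smul, b2])
  have := h1 (v⁻¹ * u⁻¹ * g) (by rw [mul_smul, mul_smul, ← v2, inv_smul_smul])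
  simpa [mul_assoc] using mul_mem u1 (mul_mem v1 this)

/-- The classes in `cA` span `c0^⊥`. -/
theorem span_cA (W : AddSubgroup C) (h : ∀ c, cA c → c ∈ W) {c : C} (hc : pl c c0.1 = 0) : c ∈ W := by
  refine span_perp W ?_ (fun y y1 y2 => h _ ⟨⟨y, y1, rfl⟩, perp_kap (by rw [y2]; rfl), fun e => ?_,
    ?_⟩) hc
  · rw [c0_dec, show 0xbe0 = 1 ^^^ 3 ^^^ 3042 by decide, dec_xor, dec_xor]
    exact add_mem (add_mem (h _ (cA_dec (by decide +kernel))) (h _ (cA_dec (by decide +kernel))))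
      (h _ (cA_dec (by decide +kernel)))
  · have := norm_vU'
    rcases eq_or_neg norm_vU' (by rw [y1]; norm_num) e.symm with e | e <;> rw [e, dU'] at y2
    · rw [dot_self] at y2; omega
    · rw [AddSubgroup.coe_neg, dot_comm, dot_neg_left, dot_self] at y2; omega
  · rw [c0_val, isS_add y1 norm_vU', dot_comm]
    change ¬ (dU' y = 16 ∨ dU' y = -16)
    omega

theorem descend (W : AddSubgroup C) : ∀ l : List G0, (∀ s ∈ l, ∀ c ∈ W, s • c ∈ W) →
    (∀ s ∈ l, ∀ c : C, s • s • c = c) → (∀ s ∈ l, ∀ t ∈ l, ∀ c : C, s • t • c = t • s • c) →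
    (∃ c ∈ W, c ≠ 0) → ∃ c ∈ W, c ≠ 0 ∧ ∀ s ∈ l, s • c = c
  | [], _, _, _, ⟨c, h1, h2⟩ => ⟨c, h1, h2, by simp⟩
  | s :: l, h1, h2, h3, h4 => by
    obtain ⟨c, c1, c2, c3⟩ := descend W l (fun t ht => h1 t (.tail _ ht)) (fun t ht => h2 t (.tail _ ht))
      (fun t ht u hu => h3 t (.tail _ ht) u (.tail _ hu)) h4
    by_cases e : s • c = c
    · exact ⟨c, c1, c2, List.forall_mem_cons.2 ⟨e, c3⟩⟩
    · exact ⟨c + s • c, add_mem c1 (h1 s (.head _) c c1), fun k => e (add_eq_zero_C.1 k).symm,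
        List.forall_mem_cons.2 ⟨by rw [smul_add, h2 s (.head _), add_comm], fun t ht => by
          rw [smul_add, h3 t (.tail _ ht) s (.head _), c3 t ht]⟩⟩

def irD : List (ℕ × List ℕ × List ℕ) := [(10558, [1, 2050, 2052, 2056, 16, 2080, 64, 2176, 256, 512, 3072, 2048, 4624, 9408, 20432, 36560, 66541, 135120, 263870, 524926, 1050676, 2099453, 4196462, 13297452],
    [9389447, 14926044, 5690902, 11645376, 3084691, 0, 4900765, 0, 164062, 0, 0, 1101, 0, 0, 0, 0, 0, 0, 0, 0, 0, 0, 0, 0]),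
  (21116, [1, 2050, 2052, 2056, 16, 2080, 64, 128, 256, 2560, 1024, 2048, 6574, 12077, 18091, 33863, 65536, 134215, 263208, 527109, 1049219, 2097542, 4196462, 10675363],
    [6678280, 0, 3012047, 3127251, 0, 0, 0, 0, 0, 0, 0, 1054, 0, 0, 0, 0, 0, 0, 0, 0, 0, 0, 0, 0]),
  (36294, [1, 2, 4, 2056, 2064, 2080, 2112, 2176, 256, 2560, 1024, 2048, 8144, 12240, 17808, 36560, 66863, 135120, 263851, 526191, 1051319, 2098667, 4195071, 11501867],
    [0, 0, 2188951, 0, 2966789, 0, 0, 0, 0, 0, 0, 655, 0, 0, 0, 0, 0, 0, 0, 0, 0, 0, 0, 0]),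
  (72588, [2049, 2, 2052, 8, 2064, 32, 64, 2176, 256, 2560, 1024, 2048, 5550, 10349, 17643, 34119, 65536, 134215, 263598, 524613, 1048777, 2097152, 4194413, 11096098],
    [0, 0, 0, 0, 0, 0, 0, 0, 0, 0, 0, 29, 0, 0, 0, 0, 0, 0, 0, 0, 0, 0, 0, 0]),
  (138790, [2049, 2, 4, 8, 2064, 32, 64, 2176, 2304, 512, 3072, 2048, 4640, 12240, 20432, 34800, 68174, 132617, 265630, 526926, 1051214, 2099647, 4196462, 14227414],
    [0, 0, 0, 0, 0, 0, 0, 0, 0, 0, 0, 1550, 0, 0, 0, 0, 0, 0, 0, 0, 0, 0, 0, 0]),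
  (267634, [1, 2050, 2052, 8, 2064, 2080, 64, 2176, 2304, 2560, 3072, 2048, 6078, 10493, 16763, 36743, 67239, 134039, 262534, 524667, 1051885, 2099257, 4194585, 16474922],
    [0, 0, 0, 0, 0, 0, 0, 0, 0, 0, 0, 263, 0, 0, 0, 0, 0, 0, 0, 0, 0, 0, 0, 0]),
  (525274, [2049, 2050, 2052, 2056, 2064, 32, 2112, 2176, 2304, 2560, 1024, 2048, 4734, 10493, 19339, 35511, 68043, 133579, 262707, 524350, 1050676, 2099277, 4194304, 12448574],
    [0, 0, 0, 0, 0, 0, 0, 0, 0, 0, 0, 1419, 0, 0, 0, 0, 0, 0, 0, 0, 0, 0, 0, 0]),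
  (1050548, [2049, 2, 4, 2056, 16, 32, 2112, 128, 2304, 512, 3072, 2048, 4206, 12077, 17643, 36199, 65536, 134351, 266029, 526372, 1051210, 2099522, 4196462, 13932522],
    [0, 0, 0, 0, 0, 0, 0, 0, 0, 0, 0, 1887, 0, 0, 0, 0, 0, 0, 0, 0, 0, 0, 0, 0]),
  (2101096, [2049, 2, 2052, 8, 16, 2080, 2112, 128, 256, 512, 3072, 2048, 7616, 8192, 20160, 33024, 65536, 131072, 264965, 527109, 1048777, 2097348, 4196357, 12997829],
    [0, 0, 0, 0, 0, 0, 0, 0, 0, 0, 0, 27, 0, 0, 0, 0, 0, 0, 0, 0, 0, 0, 0, 0]),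
  (4202192, [2049, 2050, 2052, 8, 16, 32, 64, 2176, 2304, 512, 1024, 2048, 4096, 10336, 19008, 34848, 65536, 131850, 262534, 524864, 1048672, 2097316, 4194304, 9990158],
    [0, 0, 0, 0, 0, 0, 0, 0, 0, 0, 0, 1245, 0, 0, 0, 0, 0, 0, 0, 0, 0, 0, 0, 0])]

noncomputable def irT (m : ℕ → G0) (l : List (ℕ × List ℕ × List ℕ)) : C →+ C :=
  (l.map fun d => (lm d.2.2).comp (AddMonoidHom.id C + DistribSMul.toAddMonoidHom C (m d.1))).sum

noncomputable def irN (l : List (ℕ × List ℕ × List ℕ)) (n : ℕ) : ℕ :=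
  List.rec 0 (fun d _ a => Nat.xor (apC d.2.2 (Nat.xor n (apC d.2.1 n))) a) l

theorem irT_cons (m : ℕ → G0) (d : ℕ × List ℕ × List ℕ) (l : List (ℕ × List ℕ × List ℕ)) (c : C) :
    irT m (d :: l) c = lm d.2.2 (c + m d.1 • c) + irT m l c := by
  rw [irT, List.map_cons, List.sum_cons]; rfl

theorem irT_dec (m : ℕ → G0) (n : ℕ) (l : List (ℕ × List ℕ × List ℕ))
    (h : ∀ d ∈ l, Cols (m d.1) d.2.1 ∧ d.2.2.length = 24) : irT m l (dec n) = dec (irN l n) := by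
  induction l with
  | nil => exact dec_zero.symm
  | cons d l ih =>
    rw [irT_cons, ih fun e he => h e (.tail _ he), ← (h d (.head _)).1.ap, ← dec_xor,
      lm_dec (h d (.head _)).2, ← dec_xor]
    rfl

theorem irT_fix (m : ℕ → G0) {c : C} (l : List (ℕ × List ℕ × List ℕ)) (h : ∀ d ∈ l, m d.1 • c = c) :
    irT m l c = 0 := by
  induction l with
  | nil => rfl
  | cons d l ih => rw [irT_cons, ih fun e he => h e (.tail _ he), h d (.head _), cc2, map_zero, add_zero]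

theorem irr_aux (m : ℕ → G0) (D : List (ℕ × List ℕ × List ℕ))
    (ok : ∀ d ∈ D, (Cols (m d.1) d.2.1 ∧ d.2.2.length = 24) ∧
      (dec (apC d.2.1 0xbe0) = dec 0xbe0 ∧ eqL (mulC d.2.1 d.2.1) hCI = true) ∧
        ∀ e ∈ D, eqL (mulC d.2.1 e.2.1) (mulC e.2.1 d.2.1) = true)
    (ky : ∀ j < 24, dec (2 ^ j) + dec (irN D (2 ^ j)) =
      cr 5 (dec (2 ^ j)) • dec 0xbe0 + (cr 5 (dec (2 ^ j)) + cr 11 (dec (2 ^ j))) • dec 2048)
    (W : AddSubgroup C) (h1 : ∀ h : G0, h • c0.1 = c0.1 → ∀ c ∈ W, h • c ∈ W) (h : ∃ c ∈ W, c ≠ 0) :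
    ∃ c ∈ W, c ≠ 0 ∧ c = cr 5 c • c0.1 + (cr 5 c + cr 11 c) • Om := by
  have cl := fun d hd => (ok d hd).1.1
  have mm : ∀ {s}, s ∈ D.map (fun d => m d.1) → ∃ d ∈ D, m d.1 = s := List.mem_map.1
  obtain ⟨c, c1, c2, c3⟩ := descend W (D.map fun d => m d.1)
    (fun s hs => by
      obtain ⟨d, hd, rfl⟩ := mm hs
      exact h1 _ (by rw [c0_dec, ← (cl d hd).ap, (ok d hd).2.1.1]))
    (fun s hs => by
      obtain ⟨d, hd, rfl⟩ := mm hs
      exact sq_of_cols (cl d hd) (ok d hd).2.1.2)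
    (fun s hs t ht c => by
      obtain ⟨d, hd, rfl⟩ := mm hs
      obtain ⟨e, he, rfl⟩ := mm ht
      rw [← mul_smul, ← mul_smul]
      refine cols_ac ((cl d hd).mul (cl e he)) ?_ c
      rw [eqL_true ((ok d hd).2.2 e he)]
      exact (cl e he).mul (cl d hd)) h
  have gen : ∀ (a b a' b' : ZMod 2) (x y : C), a • x + (a + b) • y + (a' • x + (a' + b') • y) =
      (a + a') • x + (a + a' + (b + b')) • y := fun a b a' b' x y => by
    simp only [add_smul]; abel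
  have key : ∀ c : C, c + irT m D c = cr 5 c • c0.1 + (cr 5 c + cr 11 c) • Om := by
    refine dec_induction (by simp only [map_zero, add_zero, zero_smul]) (fun j hj => ?_)
      fun c d hc hd => ?_
    · rw [irT_dec _ _ _ fun d hd => (ok d hd).1, c0_dec, ← dec_Om]
      exact ky j hj
    · rw [map_add, add_add_add_comm, hc, hd, map_add, map_add]
      exact gen _ _ _ _ _ _
  have e := key c
  rw [irT_fix m D fun d hd => c3 _ (List.mem_map_of_mem hd), add_zero] at e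
  exact ⟨c, c1, c2, e⟩

theorem irD_ok : H29.allL irD (fun d => and2 (and2 (chkM idP d.1 d.2.1) (Nat.beq d.2.2.length 24))
    (and2 (and2 (eqD (apC d.2.1 0xbe0) 0xbe0) (eqL (mulC d.2.1 d.2.1) hCI))
      (H29.allL irD fun e => eqL (mulC d.2.1 e.2.1) (mulC e.2.1 d.2.1)))) = true := by
  decide +kernel

theorem irD_ok' : ∀ d ∈ irD, (chkM idP d.1 d.2.1 = true ∧ d.2.2.length = 24) ∧
    (dec (apC d.2.1 0xbe0) = dec 0xbe0 ∧ eqL (mulC d.2.1 d.2.1) hCI = true) ∧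
      ∀ e ∈ irD, eqL (mulC d.2.1 e.2.1) (mulC e.2.1 d.2.1) = true := fun d hd => by
  have := allL_true.1 irD_ok d hd
  rw [and2_true, and2_true, and2_true, and2_true, H29.beq_true, eqD_iff, allL_true] at this
  exact this

theorem irD_key : ∀ j < 24, dec (2 ^ j) + dec (irN irD (2 ^ j)) =
    cr 5 (dec (2 ^ j)) • dec 0xbe0 + (cr 5 (dec (2 ^ j)) + cr 11 (dec (2 ^ j))) • dec 2048 := by
  decide +kernel

theorem irr (W : AddSubgroup C) (h0 : ∀ c ∈ W, pl c c0.1 = 0)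
    (h1 : ∀ h : G0, h • c0.1 = c0.1 → ∀ c ∈ W, h • c ∈ W) {c : C} (hc : c ∈ W) (n0 : c ≠ 0)
    (n1 : c ≠ c0.1) : c0.1 ∈ W := by
  obtain ⟨c, c1, c2, e⟩ := irr_aux (mn idP) irD
    (fun d hd => ⟨⟨cols_mn (irD_ok' d hd).1.1, (irD_ok' d hd).1.2⟩, (irD_ok' d hd).2⟩) irD_key W h1
    ⟨c, hc, n0⟩
  have tr : ∀ {a}, cA a → ∃ h : G0, h • c0.1 = c0.1 ∧ h • (c0.1 + Om) = a := fun ha => by
    obtain ⟨h, e1, e2⟩ := tr_perp ha.1 ha.2.1 ha.2.2.1 ha.2.2.2
    exact ⟨h⁻¹, inv_smul_eq_iff.2 e1.symm, inv_smul_eq_iff.2 e2.symm⟩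
  rcases z2 (cr 5 c) with a | a <;> rcases z2 (cr 11 c) with b | b <;> rw [a, b] at e <;>
    simp only [zero_smul, one_smul, add_zero, zero_add, z11] at e
  · exact (c2 e).elim
  · have k : ∀ {a}, cA a → a + c0.1 ∈ W := fun ha => by
      obtain ⟨h, e1, rfl⟩ := tr ha
      rw [smul_add, e1, add_right_comm, cc2, zero_add]
      exact h1 h e1 _ (e ▸ c1)
    have := add_mem (add_mem (k cA_tri.1) (k cA_tri.2.1)) (k cA_tri.2.2)
    rwa [add_add_add_comm (dec 1), cc2, add_zero, ← add_assoc, cc2, zero_add] at this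
  · refine span_cA W (fun a ha => ?_) (pl_self _)
    obtain ⟨h, e1, rfl⟩ := tr ha
    exact h1 h e1 _ (e ▸ c1)
  · exact e ▸ c1

theorem fixE0 {h : G0} (e : ∀ c : C, c.1 = 0 → h • c = c) : Ac h 1 := by
  obtain ⟨σ, o, rfl⟩ := mem_N0_iff.1 (fix_Om.1 (e _ Om_fst))
  obtain rfl := perm_one fun c hc => .inl (e c hc.2)
  have k : ∀ {s : G0} {S : List ℕ} (n : ℕ), Cols s S → n < 4096 → dec (apC S n) ≠ dec n →
      ¬ ∃ u ∈ N0, Ac (u * mono 1 o * u⁻¹) s := fun n hs hn h ⟨u, hu, k⟩ => h (by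
    rw [hs.ap, ← k, mul_smul, mul_smul, e _ (fst_smul_zero (inv_mem hu) (fst_dec hn)), smul_inv_smul])
  exact (red_one o).resolve_right fun h => h.elim (k 3 cO (by norm_num) (by decide +kernel))
    (k 5 cD (by norm_num) (by decide +kernel))

end H10.Mon.MG
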