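import Mathlib
import Cfsg.Agent.H0.BS0

set_option autoImplicit false
set_option linter.all false

namespace H10.Mon.MG

variable {eO eD s0 : G0}

theorem perp1 {c d : C} (h : ∀ a, pl a d = 0 → pl a c = 0) : c = 0 ∨ c = d := by
  by_contra hn
  push Not at hn
  obtain ⟨u, hu⟩ := exists_polar_one hn.1
  obtain ⟨v, hv⟩ := exists_polar_one (c := c + d) fun e => hn.2 (add_eq_zero_C.1 e)
  replace hu : pl u c = 1 := (pl_comm _ _).trans hu
  replace hv : pl v c + pl v d = 1 := by rw [← pl_add, pl_comm]; exact hv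
  have h1 := h u
  have h2 := h v
  have h3 := h (u + v)
  rw [pl_add', pl_add'] at h3
  revert hu hv h1 h2 h3
  generalize pl u c = a; generalize pl v c = b; generalize pl u d = e; generalize pl v d = f
  revert a b e f
  decide

theorem perp2 {c d e : C} (h : ∀ a, pl a d = 0 → pl a e = 0 → pl a c = 0) :
    c = 0 ∨ c = d ∨ c = e ∨ c = d + e := by
  by_cases h1 : ∀ a, pl a d = 0 → pl a c = 0
  · exact (perp1 h1).imp_right .inl
  push Not at h1
  obtain ⟨u, u1, u2⟩ := h1
  have u3 : pl u e = 1 := (z2 _).resolve_left fun e => u2 (h u u1 e)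
  have u4 : pl u c = 1 := (z2 _).resolve_left u2
  rcases perp1 (c := c + e) (d := d) fun a ha => by
    rw [pl_add]
    rcases z2 (pl a e) with k | k
    · rw [h a ha k, k, add_zero]
    · have := h (a + u) (by rw [pl_add', ha, u1, add_zero]) (by rw [pl_add', k, u3]; rfl)
      rwa [pl_add', u4, ← k] at this with k | k
  · exact .inr (.inr (.inl (add_eq_zero_C.1 k)))
  · exact .inr (.inr (.inr (by rw [← k, add_assoc, cc2, add_zero])))

theorem ext_fun (e : C → ZMod 2)
    (h : ∀ c d, pl c c0.1 = 0 → pl d c0.1 = 0 → e (c + d) = e c + e d) :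
    ∃ d, ∀ c, pl c c0.1 = 0 → e c = pl d c := by
  obtain ⟨w, hw⟩ := exists_polar_one (isS_ne (isS_val c0))
  replace hw : pl w c0.1 = 1 := (pl_comm _ _).trans hw
  have k : ∀ c, pl (c + pl c c0.1 • w) c0.1 = 0 := fun c => by
    rcases z2 (pl c c0.1) with k | k <;> rw [k]
    · rwa [zero_smul, add_zero]
    · rw [one_smul, pl_add', k, hw]; rfl
  obtain ⟨d, hd⟩ := exists_polar (AddMonoidHom.mk' (fun c => e (c + pl c c0.1 • w)) fun a b => by
    rw [← h _ _ (k a) (k b), pl_add', add_smul, add_add_add_comm])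
  exact ⟨d, fun c hc => (by simpa [hc] using hd c : e c = bb d c + bb c d)⟩

theorem siegel (ζ : C → C) (add : ∀ c d, ζ (c + d) = ζ c + ζ d) (h1 : ∀ c, bb (ζ c) (ζ c) = bb c c)
    (h2 : ∀ c, pl c c0.1 = 0 → pl c Om = 0 → ζ c = c) :
    (∀ c, ζ c = c) ∨ ∀ c, ζ c = c + pl c c0.1 • Om + pl c Om • c0.1 := by
  have o1 : pl c0.1 Om = 0 := by rw [pl_Om, c0_fst]; rfl
  have o2 : pl Om c0.1 = 0 := by rw [pl_comm, o1]
  have hp : ∀ c d, pl (ζ c) (ζ d) = pl c d := fun c d => by
    have := h1 (c + d)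
    rw [add, bb_add_self, bb_add_self, h1, h1] at this
    exact add_left_cancel this
  have hm : ∀ c, (ζ c = c ∨ ζ c = c + c0.1 ∨ ζ c = c + Om ∨ ζ c = c + (c0.1 + Om)) ∧
      pl c (ζ c) = 0 := fun c => by
    have f : ∀ {e}, ζ c + c = e → ζ c = c + e := fun h => by
      rw [← h, add_comm (ζ c), ← add_assoc, cc2, zero_add]
    have := (perp2 (c := ζ c + c) (d := c0.1) (e := Om) fun a a1 a2 => by
      rw [pl_add, ← hp a c, h2 a a1 a2, zz2]).imp add_eq_zero_C.1 (Or.imp f (Or.imp f f))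
    refine ⟨this, ?_⟩
    have k := h1 c
    have g : ∀ {e : C}, e.1 = 0 → ζ c = c + e → pl c (ζ c) = 0 := fun h e => by
      rw [e, bb_add_self, bb_fst h, add_zero, add_eq_left] at k
      rw [e, pl_add, pl_self, k, add_zero]
    rcases this with e | e | e | e
    exacts [by rw [e, pl_self], g c0_fst e, g Om_fst e,
      g (by rw [Prod.fst_add, c0_fst, Om_fst, add_zero]) e]
  obtain ⟨v, v1, v2⟩ := exists_perp_one Om_ne_zero (S_ne_Om c0).symm
  replace v1 : pl v c0.1 = 0 := v1
  replace v2 : pl v Om = 1 := (pl_comm _ _).trans v2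
  obtain ⟨w, w1, w2⟩ : ∃ w, pl w c0.1 = 1 ∧ pl w Om = 0 := by
    obtain ⟨w, hw⟩ := exists_polar_one (isS_ne (isS_val c0))
    replace hw : pl w c0.1 = 1 := (pl_comm _ _).trans hw
    rcases z2 (pl w Om) with k | k
    exacts [⟨w, hw, k⟩, ⟨w + v, by rw [pl_add', hw, v1, add_zero], by rw [pl_add', k, v2]; rfl⟩]
  have hv : ζ v = v ∨ ζ v = v + c0.1 := by
    obtain ⟨e | e | e | e, k⟩ := hm v
    exacts [.inl e, .inr e, by simp [e, pl_add, pl_self, v2] at k,
      by simp [e, pl_add, pl_self, v1, v2] at k]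
  have hw : ζ w = w ∨ ζ w = w + Om := by
    obtain ⟨e | e | e | e, k⟩ := hm w
    exacts [.inl e, by simp [e, pl_add, pl_self, w1] at k, .inr e,
      by simp [e, pl_add, pl_self, w1, w2] at k]
  have k := (hm (v + w)).2
  have dec : ∀ c, ζ c = c + pl c c0.1 • (ζ w + w) + pl c Om • (ζ v + v) := fun c => by
    rcases z2 (pl c c0.1) with a | a <;> rcases z2 (pl c Om) with b | b <;> rw [a, b] <;>
      simp only [zero_smul, one_smul, add_zero]
    · exact h2 c a b
    · have := h2 (c + v) (by rw [pl_add', a, v1, add_zero]) (by rw [pl_add', b, v2]; rfl)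
      rw [add] at this
      linear_combination (exp := 1) this - cc2 (ζ v)
    · have := h2 (c + w) (by rw [pl_add', a, w1]; rfl) (by rw [pl_add', b, w2, add_zero])
      rw [add] at this
      linear_combination (exp := 1) this - cc2 (ζ w)
    · have := h2 (c + w + v) (by rw [pl_add', pl_add', a, w1, v1]; rfl)
        (by rw [pl_add', pl_add', b, w2, v2]; rfl)
      rw [add, add] at this
      linear_combination (exp := 1) this - cc2 (ζ w) - cc2 (ζ v)
  rw [add] at k
  have s : ∀ a b : C, a + b + a = b := fun a b => by rw [add_right_comm, cc2, zero_add]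
  rcases hv with a | a <;> rcases hw with b | b <;> rw [a, b] at k dec
  · exact .inl fun c => by rw [dec, cc2, cc2, smul_zero, smul_zero, add_zero, add_zero]
  · simp [pl_add, pl_add', pl_self, pl_comm w v, v2, w2, ← add_assoc, zz2] at k
  · simp [pl_add, pl_add', pl_self, pl_comm w v, v1, w1, add_right_comm _ (1 : ZMod 2), zz2] at k
  · exact .inr fun c => by rw [dec, s, s]

theorem card_C : Nat.card C = 2 ^ 24 := by simp [C, K]

/-- The fixed classes. -/
def FixC (h : G0) : AddSubgroup C where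
  carrier := {c | h • c = c}
  zero_mem' := smul_zero h
  add_mem' := fun {a b} ha hb => by rw [Set.mem_setOf_eq, smul_add, ha, hb]
  neg_mem' := fun {a} ha => by rwa [neg_eq_iff_add_eq_zero.2 (cc2 a)]

theorem card_fix (L : LF eO eD s0) {h : G0} (h2 : ∀ c : C, h • h • c = c) (h1 : ¬ Ac h 1) :
    Nat.card (FixC h) ≤ 2 ^ 19 := by
  have k : ∀ s ∈ [eO, eD, s0], Cj h s → Nat.card (FixC h) ≤ 2 ^ 19 := fun s hs ⟨u, hu⟩ =>
    le_trans (Nat.card_le_card_of_injective (fun c : FixC h => (⟨u • c.1, by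
      rw [← hu, mul_smul, mul_smul, inv_smul_smul, c.2]⟩ : {c : C // s • c = c}))
      fun a b e => Subtype.ext (smul_left_cancel u (congrArg Subtype.val e))) (L.fix s hs)
  rcases L.cls h h2 with e | e | e | e
  exacts [(h1 e).elim, k _ (by simp) e, k _ (by simp) e, k _ (by simp) e]

theorem card_le_two {W U : AddSubgroup C} (h : ∀ a ∈ U, ∀ b ∈ U, a ∈ W ∨ b ∈ W ∨ a + b ∈ W) :
    Nat.card U ≤ 2 * Nat.card W := by
  by_cases h1 : U ≤ W
  · have := AddSubgroup.card_le_of_le h1
    omega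
  obtain ⟨u, u1, u2⟩ := SetLike.not_le_iff_exists.1 h1
  classical
  have := Nat.card_le_card_of_injective (fun c : U => if e : c.1 ∈ W then ((true, ⟨_, e⟩) : Bool × W)
    else (false, ⟨u + c.1, ((h u u1 c c.2).resolve_left u2).resolve_left e⟩)) fun a b e => by
      beta_reduce at e
      split_ifs at e <;> simp at e <;> exact e
  simpa using this

/-- The classes perpendicular to `d` in `U`. -/
def PerpC (U : AddSubgroup C) (d : C) : AddSubgroup C where
  carrier := {c | c ∈ U ∧ pl c d = 0}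
  zero_mem' := ⟨zero_mem _, by rw [pl_comm, pl_zero]⟩
  add_mem' := fun ha hb => ⟨add_mem ha.1 hb.1, by rw [pl_add', ha.2, hb.2, add_zero]⟩
  neg_mem' := fun {a} ha => by rwa [neg_eq_iff_add_eq_zero.2 (cc2 a)]

theorem card_perp (U : AddSubgroup C) (d : C) : Nat.card U ≤ 2 * Nat.card (PerpC U d) :=
  card_le_two fun a ha b hb => by
    rcases z2 (pl a d) with k | k
    · exact .inl ⟨ha, k⟩
    rcases z2 (pl b d) with l | l
    · exact .inr (.inl ⟨hb, l⟩)
    · exact .inr (.inr ⟨add_mem ha hb, by rw [pl_add', k, l]; rfl⟩)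

theorem fix20 (L : LF eO eD s0) : ∀ (n : ℕ) {h : G0}, Ac (h ^ 2 ^ n) 1 →
    2 ^ 19 < Nat.card (FixC h) → Ac h 1
  | 0, h, e, _ => by simpa using e
  | n + 1, h, e, k => by
    have := fix20 L n (h := h * h) (by rwa [← pow_two, ← pow_mul, ← pow_succ'])
      (k.trans_le (AddSubgroup.card_le_of_le fun c hc => by
        change (h * h) • c = c
        rw [mul_smul, hc, hc]))
    by_contra h1
    exact (card_fix L (fun c => by rw [← mul_smul, this, one_smul]) h1).not_gt k

theorem fix8 (L : LF eO eD s0) {h : G0} {n : ℕ} (h2 : Ac (h ^ 2 ^ n) 1) (d e : C)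
    (hh : ∀ a b, pl a d = 0 → pl a e = 0 → pl b d = 0 → pl b e = 0 →
      h • a = a ∨ h • b = b ∨ h • (a + b) = a + b) : Ac h 1 := by
  refine fix20 L n h2 ?_
  have h1 := card_perp ⊤ d
  have h2 := card_perp (PerpC ⊤ d) e
  have h3 := card_le_two (W := FixC h) (U := PerpC (PerpC ⊤ d) e) fun a ha b hb =>
    hh a b ha.1.2 ha.2 hb.1.2 hb.2
  rw [AddSubgroup.card_top, card_C] at h1
  omega

theorem fixU (L : LF eO eD s0) {h : G0} {d e : C} (de : pl d e = 0)
    (hh : ∀ c, pl c d = 0 → pl c e = 0 → h • c = c) : Ac h 1 := by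
  refine fix8 L (n := 1) (fun c => ?_) d e fun a b a1 a2 _ _ => .inl (hh a a1 a2)
  have k : h • (h • c + c) = h • c + c := by
    rcases perp2 (c := h • c + c) (d := d) (e := e) fun a a1 a2 => by
      rw [pl_add, ← pl_smul h a c, hh a a1 a2, zz2] with k | k | k | k <;> rw [k]
    · exact smul_zero _
    · exact hh d (pl_self _) de
    · exact hh e (pl_comm _ _ ▸ de) (pl_self _)
    · exact hh _ (by rw [pl_add', pl_self, pl_comm, de, add_zero]) (by rw [pl_add', pl_self, de, add_zero])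
  rw [smul_add, add_comm _ c] at k
  rw [pow_one, pow_two, mul_smul, one_smul]
  exact add_right_cancel k

theorem ord4 (L : LF eO eD s0) {h : G0} (h4 : Ac (h ^ 4) 1)
    (hh : ∀ a b : C, h • h • a = a → h • h • b = b → h • a = a ∨ h • b = b ∨ h • (a + b) = a + b) :
    Ac (h * h) 1 := by
  let N : C →+ C := AddMonoidHom.mk' (fun c => c + h • c) fun a b => by
    rw [smul_add, add_add_add_comm]
  have N2 : ∀ c, N (N c) = c + h • h • c := fun c => by
    change c + h • c + h • (c + h • c) = _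
    rw [smul_add, add_assoc, ← add_assoc (h • c), cc2, zero_add]
  have m2 : ∀ {c}, c ∈ FixC (h * h) ↔ N (N c) = 0 := fun {c} => by
    rw [N2, add_eq_zero_C, ← mul_smul, eq_comm]; rfl
  have s1 : ∀ a b : C, N (N a) = 0 → N (N b) = 0 → N a = 0 ∨ N b = 0 ∨ N (a + b) = 0 :=
    fun a b ha hb => by
      rw [N2, add_eq_zero_C] at ha hb
      exact (hh a b ha.symm hb.symm).imp (fun e => add_eq_zero_C.2 e.symm)
        (Or.imp (fun e => add_eq_zero_C.2 e.symm) fun e => add_eq_zero_C.2 e.symm)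
  have h1 := card_le_two (W := FixC (h * h)) (U := (N.comp (N.comp N)).ker) fun a ha b hb => by
    simpa only [m2, map_add] using s1 (N a) (N b) ha hb
  have h2 := card_le_two (W := (N.comp (N.comp N)).ker) (U := ⊤) fun a _ b _ => by
    have k : ∀ c, N (N (N (N c))) = 0 := fun c => by
      rw [N2, N2, smul_add, smul_add, add_assoc, ← add_assoc (h • h • c), cc2, zero_add,
        add_eq_zero_C, ← mul_smul, ← mul_smul, ← mul_smul, show h * h * h * h = h ^ 4 by simp [pow_succ], h4,
        one_smul]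
    simpa only [AddMonoidHom.mem_ker, AddMonoidHom.comp_apply, map_add] using
      s1 (N (N a)) (N (N b)) (k a) (k b)
  rw [AddSubgroup.card_top, card_C] at h2
  exact fix20 L 1 (by rwa [show (h * h) ^ 2 ^ 1 = h ^ 4 by simp [pow_succ, mul_assoc]]) (by omega)

end H10.Mon.MG
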