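import Mathlib
import Cfsg.Agent.H0.BS0
import Cfsg.Agent.H4.LR2

set_option autoImplicit false
set_option linter.all false

namespace H10.Mon.MG

/-- Linear rigidity of `c0^⊥`. -/
theorem LR0 (f : C → C) (add : ∀ c d, pl c c0.1 = 0 → pl d c0.1 = 0 → f (c + d) = f c + f d)
    (mem : ∀ c, pl c c0.1 = 0 → pl (f c) c0.1 = 0) (inj : ∀ c, pl c c0.1 = 0 → f c = 0 → c = 0)
    (f0 : f c0.1 = c0.1) (sq : ∀ c, pl c c0.1 = 0 → bb (f c) (f c) = bb c c)
    (hA : ∀ c, cA c → cA (f c)) :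
    ∃ h : G0, h • c0.1 = c0.1 ∧ ∀ c, pl c c0.1 = 0 → f c = h • c := by
  obtain ⟨b, hb⟩ := exists_polar_one (S_ne_zero c0)
  have k : ∀ c, pl (c + pl c c0.1 • b) c0.1 = 0 := fun c => by
    rcases z2 (pl c c0.1) with e | e <;> rw [e]
    · rw [zero_smul, add_zero, e]
    · rw [one_smul, pl_add', e, pl_comm, show pl c0.1 b = 1 from hb]; rfl
  let F : C →+ C := AddMonoidHom.mk' (fun c => f (c + pl c c0.1 • b)) fun c d => by
    rw [← add _ _ (k c) (k d), pl_add', add_smul, add_add_add_comm]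
  have e : ∀ c, pl c c0.1 = 0 → F c = f c := fun c hc => by
    change f (c + pl c c0.1 • b) = _
    rw [hc, zero_smul, add_zero]
  obtain ⟨h, h1, h2⟩ := H4.LR.Gd.rig (F := F)
    ⟨fun c hc => by rw [e c hc, mem c hc], fun c hc l => inj c hc (e c hc ▸ l),
      by rw [e _ (pl_self _), f0], fun c d hc hd => by
        have := sq (c + d) (by rw [pl_add', hc, hd, add_zero])
        rw [add c d hc hd, bb_add_self, bb_add_self, sq c hc, sq d hd] at this
        rw [e c hc, e d hd]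
        exact add_left_cancel this, fun c hc => by rw [e c hc.2.1]; exact hA c hc⟩
  exact ⟨h, h1, fun c hc => (e c hc).symm.trans (h2 c hc)⟩

end H10.Mon.MG
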