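import Mathlib
import Cfsg.Agent.H0.BSL1
import Cfsg.Agent.H0.BSL2
import Cfsg.Agent.H0.BSL3

set_option autoImplicit false
set_option linter.all false

namespace H10.Mon.MG

variable {M : Type*} [Group M] {x y γ : M} {p : ZMod 2 → C → M} {eO eD s0 : G0}

theorem pl_zero' (c : C) : pl 0 c = 0 := by rw [pl_comm, pl_zero]

theorem pl_c0_Om : pl c0.1 Om = 0 := by rw [pl_Om, c0_fst]; rfl

theorem pl_Om_c0 : pl Om c0.1 = 0 := by rw [pl_comm, pl_c0_Om]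

theorem pl_fix {h : G0} (e : h • c0.1 = c0.1) (c : C) : pl (h • c) c0.1 = pl c c0.1 := by
  conv_lhs => rw [← e, pl_smul]

theorem Sit.cm_iff (H : Sit y p) {s t : ZMod 2} {c d : C} :
    p s c * p t d = p t d * p s c ↔ pl c d = 0 := by
  rw [← mul_inv_eq_iff_eq_mul, H.cj]
  exact ⟨fun h => by simpa using (H.inj h).1, fun h => by rw [h, add_zero]⟩

theorem card_C2' : Nat.card (MulAction.stabilizer G0 vU') = 42305421312000 := by
  obtain ⟨g0, hg⟩ := std32 vU' norm_vU'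
  exact (simple_card_transport g0 C2 (MulAction.stabilizer G0 vU') (fun a => by
    rw [MulAction.mem_stabilizer_iff, MulAction.mem_stabilizer_iff, ← hg, conj_fix_iff])
    simple_C2 card_C2).2

theorem perf_C2' (N : Subgroup (MulAction.stabilizer G0 vU'))
    (h : ∀ a b, a * b * a⁻¹ * b⁻¹ ∈ N) : N = ⊤ := by
  haveI := simple_C2'
  haveI : N.Normal := ⟨fun n hn g => by simpa using mul_mem (h g n) hn⟩
  refine (this.eq_bot_or_eq_top).resolve_left fun e => ?_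
  letI : CommGroup (MulAction.stabilizer G0 vU') :=
    { (inferInstance : Group _) with
      mul_comm := fun a b => by
        have := h a b
        rwa [e, Subgroup.mem_bot, mul_inv_eq_one, mul_inv_eq_iff_eq_mul] at this }
  have := IsSimpleGroup.prime_card (α := MulAction.stabilizer G0 vU')
  rw [card_C2'] at this
  exact absurd (this.eq_one_or_self_of_dvd 2 (by norm_num)) (by norm_num)

theorem exists_stab' {h : G0} (e : h • c0.1 = c0.1) :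
    ∃ u : MulAction.stabilizer G0 vU', Ac h u.1 := by
  rcases fix_c0.1 e with h1 | h1
  · exact ⟨⟨h, h1⟩, fun _ => rfl⟩
  · exact ⟨⟨neg1 * h, by rw [MulAction.mem_stabilizer_iff, mul_smul, h1, neg1_smul, neg_neg]⟩,
      fun _ => by rw [mul_smul, neg1_smul_C]⟩

namespace One

variable (H : One x y p)
include H

theorem rel_fix {a : M} {k : GT} (hk : Rel p a k) (hx : a * x = x * a) :
    co k • c0.1 = c0.1 ∧ ep k c0.1 = 0 := H.s.cm_q hk (H.hx ▸ hx)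

theorem yx : y * x = x * y := H.xy.symm

theorem p1 : p 1 c0.1 = y * x := by rw [← H.hx, H.s.y_mul, zero_add]

theorem conjR {a : M} (hx : a * x = x * a) (hy : a * y = y * a) (s : ZMod 2) {c : C}
    (hc : pl c c0.1 = 0) : ∃ t d, pl d c0.1 = 0 ∧ a * p s c * a⁻¹ = p t d := by
  obtain ⟨k, hk⟩ := H.s.up a hy
  exact ⟨_, _, by rw [pl_fix (H.rel_fix hk hx).1, hc], hk s c⟩

theorem cenR {u : M} (h : ∀ s c, pl c c0.1 = 0 → u * p s c = p s c * u) :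
    u = 1 ∨ u = y ∨ u = x ∨ u = y * x :=
  H.cent (fun s c hc => .inl (mul_inv_eq_iff_eq_mul.2 (h s c hc))) (H.hx ▸ h 0 _ (pl_self _))

theorem y_ne_x : y ≠ x := fun e => H.nc (e ▸ IsConj.refl _)

theorem y_ne_yx : y ≠ y * x := fun e => H.x_ne (by simpa using e)

/-- `C(x, y) / R` is perfect. -/
theorem perf (K : Subgroup M) (h1 : ∀ s c, pl c c0.1 = 0 → p s c ∈ K)
    (h2 : ∀ a b, a * x = x * a → a * y = y * a → b * x = x * b → b * y = y * b →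
      a * b * a⁻¹ * b⁻¹ ∈ K) {a : M} (hx : a * x = x * a) (hy : a * y = y * a) : a ∈ K := by
  let N : Subgroup (MulAction.stabilizer G0 vU') :=
    { carrier := {h | ∃ g ∈ K, g * x = x * g ∧ ∃ k, Rel p g k ∧ Ac (co k) h.1}
      one_mem' := ⟨1, one_mem _, cm_one, 1, Rel.one, fun c => by rw [map_one]; rfl⟩
      mul_mem' := by
        rintro a b ⟨g, g1, g0, k, g2, g3⟩ ⟨g', g1', g0', k', g2', g3'⟩
        exact ⟨_, mul_mem g1 g1', cm_mul g0 g0', _, g2.mul g2', fun c => by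
          rw [map_mul, Subgroup.coe_mul, mul_smul, mul_smul, g3', g3]⟩
      inv_mem' := by
        rintro a ⟨g, g1, g0, k, g2, g3⟩
        exact ⟨_, inv_mem g1, cm_inv g0, _, g2.inv, fun c => by
          rw [map_inv, Subgroup.coe_inv, inv_smul_eq_iff, g3, smul_inv_smul]⟩ }
  have hN : N = ⊤ := perf_C2' N fun u v => by
    obtain ⟨a, k, a1, a2, a3⟩ := H.liftX (fix_c0.2 (.inl u.2))
    obtain ⟨b, l, b1, b2, b3⟩ := H.liftX (fix_c0.2 (.inl v.2))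
    exact ⟨_, h2 a b a3 (H.s.rel_cm a1) b3 (H.s.rel_cm b1), cm_mul (cm_conj a3 b3) (cm_inv b3), _,
      (a1.conj b1).mul b1.inv, fun c => by simp only [map_mul, map_inv, a2, b2]; rfl⟩
  obtain ⟨k, hk⟩ := H.s.up a hy
  obtain ⟨u, hu⟩ := exists_stab' (H.rel_fix hk hx).1
  obtain ⟨g, g1, g0, l, g2, g3⟩ : u ∈ N := hN ▸ Subgroup.mem_top _
  obtain ⟨t, c, e⟩ := H.s.same g2 hk (g3.trans hu.symm)
  exact e ▸ mul_mem g1 (h1 t c (H.cm_x.1 (by
    rw [show p t c = g⁻¹ * a by rw [e, inv_mul_cancel_left]]; exact cm_mul (cm_inv g0) hx)))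

theorem cenU (L : LF eO eD s0) {u : M} {d : C} (hd : pl d c0.1 = 0)
    (h : ∀ s c, pl c c0.1 = 0 → pl c d = 0 → u * p s c = p s c * u) :
    ∃ s c, u = p s c ∧ (c = 0 ∨ c = c0.1 ∨ c = d ∨ c = c0.1 + d) := by
  obtain ⟨k, hk⟩ := H.s.up u (H.s.one ▸ h 1 0 (pl_zero' _) (pl_zero' _))
  obtain ⟨s, c, rfl⟩ := H.s.inQ hk (fixU L (d := c0.1) (e := d) (pl_comm _ _ ▸ hd)
    fun c h1 h2 => (H.s.cm_q hk (h 0 c h1 h2)).1)
  exact ⟨s, c, rfl, perp2 fun a a1 a2 => pl_comm _ _ ▸ H.s.cm_iff.1 (h 0 a a1 a2)⟩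

theorem big [Finite M] {S : Subgroup M} (hS : ∀ a ∈ S, a * x = x * a)
    (h : Nat.card ↥(Subgroup.centralizer ({x} : Set M) ⊓ Subgroup.centralizer {y}) ∣ Nat.card S) :
    ∃ n, n * x = x * n ∧ ∀ s c, pl c c0.1 = 0 → n * p s c * n⁻¹ ∈ S := by
  haveI : Fact (Nat.Prime 2) := ⟨Nat.prime_two⟩
  set X := Subgroup.centralizer ({x} : Set M) with hX
  have mX : ∀ {a}, a ∈ X ↔ a * x = x * a := Subgroup.mem_centralizer_singleton_iff
  have SX : S ≤ X := fun a ha => mX.2 (hS a ha)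
  obtain ⟨P⟩ : Nonempty (Sylow 2 (S.subgroupOf X)) := inferInstance
  obtain ⟨T', hT'⟩ := (P.isPGroup'.map (S.subgroupOf X).subtype).exists_le_sylow
  obtain ⟨T, hT⟩ := (H.s.pgQ.comap_subtype (K := X)).exists_le_sylow
  obtain ⟨n, hn⟩ := MulAction.exists_smul_eq X T T'
  obtain ⟨m, m1, m2⟩ := H.syl (T'.isPGroup'.map X.subtype) (by rintro _ ⟨a, -, rfl⟩; exact mX.1 a.2)
  have h1 : Nat.card T' ∣ Nat.card ↥(X ⊓ Subgroup.centralizer {y}) := by
    rw [← Subgroup.card_map_of_injective (K := T'.1) X.subtype_injective,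
      ← Subgroup.card_map_of_injective (f := (MulAut.conj m).toMonoidHom) (MulAut.conj m).injective]
    refine Subgroup.card_dvd_of_le ?_
    rintro _ ⟨_, ⟨a, ha, rfl⟩, rfl⟩
    exact ⟨mX.2 (cm_conj m1 (mX.1 a.2)),
      Subgroup.mem_centralizer_singleton_iff.2 (m2 _ ⟨a, ha, rfl⟩)⟩
  obtain ⟨e, he⟩ := T'.isPGroup'.exists_card_eq
  have h2 : 2 ^ e ∣ Nat.card P := P.pow_dvd_card_of_pow_dvd_card (by
    rw [Nat.card_congr (Subgroup.subgroupOfEquivOfLe SX).toEquiv, ← he]; exact h1.trans h)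
  have h3 := Subgroup.eq_of_le_of_card_ge hT' (by
    rw [Subgroup.card_map_of_injective (S.subgroupOf X).subtype_injective, he]
    exact Nat.le_of_dvd Nat.card_pos h2)
  refine ⟨n, mX.1 n.2, fun s c hc => ?_⟩
  have : n * ⟨p s c, mX.2 (H.cm_x.2 hc)⟩ * n⁻¹ ∈ T'.1 := by
    rw [← hn]
    exact ⟨_, hT (show _ ∈ _ from ⟨s, c, rfl⟩), rfl⟩
  rw [← h3] at this
  obtain ⟨a, -, e⟩ := this
  have := a.2
  rw [Subgroup.mem_subgroupOf] at this
  have e' : ((a : X) : M) = n * p s c * (n : M)⁻¹ := congrArg Subtype.val e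
  exact e' ▸ this

theorem nsub {N : Subgroup M} (h2 : ∀ g ∈ N, g * x = x * g ∧ g * y = y * g)
    (h3 : ∀ a, a * x = x * a → a * y = y * a → ∀ g ∈ N, a * g * a⁻¹ ∈ N) (hx : x ∉ N) {g : M}
    (hg : g ∈ N) : g = 1 ∨ g = y ∨ g = y * x := by
  let W : AddSubgroup C :=
    { carrier := {c | ∃ s, p s c ∈ N}
      zero_mem' := ⟨0, H.s.zero ▸ one_mem _⟩
      add_mem' := fun ⟨s, a⟩ ⟨t, b⟩ => ⟨_, H.s.mul _ _ _ _ ▸ mul_mem a b⟩
      neg_mem' := fun {a} ha => by rwa [neg_eq_iff_add_eq_zero.2 (cc2 a)] }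
  have key : ∀ s c, p s c ∈ N → c = 0 ∨ c = c0.1 := fun s c hc => by
    by_contra hn
    push Not at hn
    obtain ⟨t, ht⟩ := irr W (fun c ⟨s, h⟩ => H.cm_x.1 (h2 _ h).1) (fun h e c ⟨s, hs⟩ => by
      obtain ⟨a, k, a1, rfl, a3⟩ := H.liftX e
      exact ⟨_, a1 s c ▸ h3 a a3 (H.s.rel_cm a1) _ hs⟩) ⟨s, hc⟩ hn.1 hn.2
    obtain ⟨d, d1, d2⟩ := exists_perp_one hn.1 hn.2
    have := h3 _ (H.cm_x (t := 0).2 d1) (H.s.cm 0 d) _ hc
    rw [H.s.cj, pl_comm, show pl c d = 1 from d2, ← H.s.mul_y] at this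
    have hy : y ∈ N := by simpa using mul_mem (inv_mem hc) this
    rcases H.s.or_y 0 t c0.1 with e | e <;> rw [H.hx] at e
    exacts [hx (e ▸ ht), hx (e ▸ mul_mem ht hy)]
  obtain ⟨g1, g2⟩ := h2 g hg
  obtain ⟨k, hk⟩ := H.s.up g g2
  have h1 := center_of_perp (H.rel_fix hk g1).1 fun d hd => by
    have := mul_mem hg (h3 _ (H.cm_x (t := 0).2 hd) (H.s.cm 0 d) _ (inv_mem hg))
    rw [show g * (p 0 d * g⁻¹ * (p 0 d)⁻¹) = g * p 0 d * g⁻¹ * (p 0 d)⁻¹ by group, hk, H.s.q_inv,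
      H.s.mul] at this
    rcases key _ _ this with e | e
    · exact .inl (add_eq_zero_C.1 e)
    · exact .inr (by rw [← e, add_comm (co k • d), ← add_assoc, cc2, zero_add])
  obtain ⟨t, c, rfl⟩ := H.s.inQ hk fun c => by
    rcases mem_center_G0.1 h1 with e | e <;> rw [e]
    rw [neg1_smul_C, one_smul]
  rcases key _ _ hg with rfl | rfl
  · rcases H.s.q0 t with e | e <;> simp [e]
  · rcases z2 t with rfl | rfl
    exacts [(hx (H.hx ▸ hg)).elim, .inr (.inr H.p1)]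

end One

theorem Two.cenH (H : Two x y p γ) {u : M} (hx : u * x = x * u)
    (h : ∀ a, a * x = x * a → a * u = u * a) : u = 1 ∨ u = x := by
  have gx := mul_inv_eq_iff_eq_mul.1 H.gx
  have := mul_inv_eq_iff_eq_mul.2 (h γ gx)
  rcases H.one.cenR (u := u) fun s c hc => (h _ (H.one.cm_x.2 hc)).symm with e | e | e | e
  · exact .inl e
  · exact (H.O_ne.2 (by rw [← H.gy, ← e, this])).elim
  · exact .inr e
  · rw [e, cj_mul gx, H.gy, mul_left_inj] at this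
    exact (H.O_ne.2 this).elim

/-- Fusion in `C(x)` on the singular elements of `R`. -/
theorem Two.fusR [Finite M] (H : Two x y p γ) (L : LF eO eD s0) (s : ZMod 2) {c : C}
    (h0 : pl c c0.1 = 0) (h1 : bb c c = 0) (n0 : c ≠ 0) (n1 : c ≠ c0.1) :
    (cA c ∧ ∃ a, a * x = x * a ∧ a * p s c * a⁻¹ = y * x) ∨
    (cA (c + c0.1) ∧ ∃ a, a * x = x * a ∧ a * p s c * a⁻¹ = y) ∨
    (¬ cA c ∧ ¬ cA (c + c0.1) ∧ ∀ t, (∃ a, a * x = x * a ∧ a * p s c * a⁻¹ = p t c) ∧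
      ∃ a, a * x = x * a ∧ a * p s c * a⁻¹ = p t (c + c0.1)) := by
  have O := H.one
  have e0 : c + c0.1 + c0.1 = c := by rw [add_assoc, cc2, add_zero]
  have h0' : pl (c + c0.1) c0.1 = 0 := by rw [pl_add', h0, pl_self, add_zero]
  have h1' : bb (c + c0.1) (c + c0.1) = 0 := by rw [bb_add_self, h1, h0, bb_S c0]; rfl
  have n0' : c + c0.1 ≠ 0 := fun e => n1 (add_eq_zero_C.1 e)
  have n1' : c + c0.1 ≠ c0.1 := fun e => n0 (by simpa using e)
  have fl : ∀ {c}, c ≠ 0 → c ≠ c0.1 → ∀ s t, ∃ a, a * x = x * a ∧ a * p s c * a⁻¹ = p t c :=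
    fun {c} n0 n1 s t => by
      rcases z2_or t s with rfl | rfl
      · exact ⟨1, cm_one, by simp⟩
      · obtain ⟨d, d1, d2⟩ := exists_perp_one n0 n1
        exact ⟨p 0 d, O.cm_x.2 d1, by rw [H.s.cj, pl_comm, show pl c d = 1 from d2]⟩
  by_cases a : IsS c <;> by_cases b : IsS (c + c0.1)
  · refine .inr (.inr ⟨fun h => h.2.2.2 b, fun h => h.2.2.2 (e0.symm ▸ a), fun t => ⟨fl n0 n1 s t, ?_⟩⟩)
    obtain ⟨h, e1, e2⟩ := trAA a b b (e0.symm ▸ a)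
    obtain ⟨g, k, g1, rfl, g2⟩ := O.liftX e1
    obtain ⟨u, u1, u2⟩ := fl n0' n1' (s + ep k c) t
    exact ⟨u * g, cm_mul u1 g2, by rw [← u2, ← e2, ← g1]; group⟩
  · refine .inl ⟨⟨a, h0, n1, b⟩, ?_⟩
    obtain ⟨u, u1, u2⟩ := H.pAB L (s := p s c * x) (cm_mul (O.cm_x.2 h0) rfl)
      ⟨O.mul_x s c ▸ H.qB _ n0' h1' b, by rw [mul_assoc, H.xx, mul_one]; exact H.qA s a⟩
    exact ⟨u, u1, by rw [← u2, cj_mul u1, mul_assoc _ x, H.xx, mul_one]⟩
  · exact .inr (.inl ⟨⟨b, h0', n1', e0.symm ▸ a⟩,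
      H.pAB L (O.cm_x.2 h0) ⟨H.qB _ n0 h1 a, O.mul_x s c ▸ H.qA _ b⟩⟩)
  · refine .inr (.inr ⟨fun h => a h.1, fun h => b h.1, fun t => ⟨fl n0 n1 s t, ?_⟩⟩)
    exact H.pBB L (O.cm_x.2 h0) ⟨H.qB _ n0 h1 a, O.mul_x s c ▸ H.qB _ n0' h1' b⟩ (O.cm_x.2 h0')
      ⟨H.qB _ n0' h1' b, by rw [O.mul_x, e0]; exact H.qB _ n0 h1 a⟩

end H10.Mon.MG
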