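import Mathlib
import Cfsg.Agent.H0.BSM0

set_option autoImplicit false
set_option linter.all false

namespace H10.Mon.MG

variable {M : Type*} [Group M] {x y γ : M} {p : ZMod 2 → C → M} {eO eD s0 : G0}

/-- An automorphism of `C(x, y)`. -/
structure AutC (x y : M) (β : M → M) : Prop where
  mul : ∀ {a b}, a * x = x * a → a * y = y * a → b * x = x * b → b * y = y * b →
    β (a * b) = β a * β b
  mem : ∀ {a}, a * x = x * a → a * y = y * a → β a * x = x * β a ∧ β a * y = y * β a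
  inj : ∀ {a}, a * x = x * a → a * y = y * a → β a = 1 → a = 1

namespace AutC

variable {β : M → M} (B : AutC x y β)
include B

theorem one : β 1 = 1 := by
  have := B.mul (a := 1) (b := 1) cm_one cm_one cm_one cm_one
  rwa [mul_one, left_eq_mul] at this

theorem inv {a : M} (hx : a * x = x * a) (hy : a * y = y * a) : β a⁻¹ = (β a)⁻¹ :=
  eq_inv_of_mul_eq_one_left (by rw [← B.mul (cm_inv hx) (cm_inv hy) hx hy, inv_mul_cancel, B.one])

theorem conj {a b : M} (hx : a * x = x * a) (hy : a * y = y * a) (hx' : b * x = x * b)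
    (hy' : b * y = y * b) : β (a * b * a⁻¹) = β a * β b * (β a)⁻¹ := by
  rw [B.mul (cm_mul hx hx') (cm_mul hy hy') (cm_inv hx) (cm_inv hy), B.mul hx hy hx' hy', B.inv hx hy]

theorem inj' {a b : M} (hx : a * x = x * a) (hy : a * y = y * a) (hx' : b * x = x * b)
    (hy' : b * y = y * b) (e : β a = β b) : a = b :=
  mul_inv_eq_one.1 (B.inj (cm_mul hx (cm_inv hx')) (cm_mul hy (cm_inv hy')) (by
    rw [B.mul hx hy (cm_inv hx') (cm_inv hy'), B.inv hx' hy', e, mul_inv_cancel]))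

theorem sur [Finite M] {a : M} (hx : a * x = x * a) (hy : a * y = y * a) :
    ∃ b, b * x = x * b ∧ b * y = y * b ∧ β b = a := by
  obtain ⟨b, e⟩ := Finite.surjective_of_injective
    (f := fun b : {b : M // b * x = x * b ∧ b * y = y * b} =>
      (⟨β b, B.mem b.2.1 b.2.2⟩ : {b : M // b * x = x * b ∧ b * y = y * b}))
    (fun a b e => Subtype.ext (B.inj' a.2.1 a.2.2 b.2.1 b.2.2 (congrArg Subtype.val e))) ⟨a, hx, hy⟩
  exact ⟨b, b.2.1, b.2.2, congrArg Subtype.val e⟩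

end AutC

theorem One.aut_y [Finite M] (H : One x y p) {β : M → M} (B : AutC x y β) :
    β y = y ∧ (β x = x ∨ β x = y * x) ∧
      ∀ s c, pl c c0.1 = 0 → ∃ t d, pl d c0.1 = 0 ∧ β (p s c) = p t d := by
  have cx := fun s {c} h => (H.cm_x (t := s) (c := c)).2 h
  let N : Subgroup M :=
    { carrier := {g | ∃ s c, pl c c0.1 = 0 ∧ g = β (p s c)}
      one_mem' := ⟨0, 0, pl_zero' _, by rw [H.s.zero, B.one]⟩
      mul_mem' := by
        rintro _ _ ⟨s, c, h, rfl⟩ ⟨t, d, h', rfl⟩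
        exact ⟨_, c + d, by rw [pl_add', h, h', add_zero], by
          rw [← B.mul (cx s h) (H.s.cm _ _) (cx t h') (H.s.cm _ _), H.s.mul]⟩
      inv_mem' := by
        rintro _ ⟨s, c, h, rfl⟩
        exact ⟨_, _, h, by rw [← B.inv (cx s h) (H.s.cm _ _), H.s.q_inv]⟩ }
  have h3 : ∀ s c, pl c c0.1 = 0 → ∃ t d, pl d c0.1 = 0 ∧ β (p s c) = p t d := fun s c hc => by
    obtain ⟨t, d, e⟩ := H.nrm (N := N) (m := 2 ^ 2) Nat.prime_three (by norm_num) (by norm_num)
      (by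
        rintro _ ⟨s, c, h, rfl⟩
        have h2 := B.mul (cx s h) (H.s.cm _ _) (cx s h) (H.s.cm _ _)
        have h0 : pl 0 c0.1 = 0 := pl_zero' _
        rw [H.s.sq] at h2
        refine ⟨0, 0, ?_⟩
        rw [show 2 ^ 2 = 2 * 2 from rfl, pow_mul, pow_two, pow_two, ← h2,
          ← B.mul (cx _ h0) (H.s.cm _ _) (cx _ h0) (H.s.cm _ _), H.s.sq0 _ (bb_zero_left _), B.one,
          H.s.zero])
      (by rintro _ ⟨s, c, h, rfl⟩; exact B.mem (cx s h) (H.s.cm _ _))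
      (by
        rintro a a1 a2 _ ⟨s, c, h, rfl⟩
        obtain ⟨b, b1, b2, rfl⟩ := B.sur a1 a2
        obtain ⟨t, d, h', e⟩ := H.conjR b1 b2 s h
        exact ⟨t, d, h', by rw [← e, B.conj b1 b2 (cx s h) (H.s.cm _ _)]⟩) ⟨s, c, hc, rfl⟩
    exact ⟨t, d, H.cm_x.1 (e ▸ (B.mem (cx s hc) (H.s.cm _ _)).1), e⟩
  have hy : β y = y := by
    obtain ⟨d, d1, d2⟩ := exists_perp_one Om_ne_zero (S_ne_Om c0).symm
    have e := H.s.cj 0 0 Om d
    rw [pl_comm, show pl Om d = 1 from d2, ← H.s.mul_y] at e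
    have e' := congrArg β e
    obtain ⟨t, u, -, h1⟩ := h3 0 d d1
    obtain ⟨t', u', -, h2⟩ := h3 0 Om pl_Om_c0
    rw [B.conj (cx _ d1) (H.s.cm _ _) (cx _ pl_Om_c0) (H.s.cm _ _),
      B.mul (cx _ pl_Om_c0) (H.s.cm _ _) H.yx rfl, h1, h2, H.s.cj] at e'
    rcases z2 (pl u u') with h | h <;> rw [h] at e'
    · rw [add_zero, left_eq_mul] at e'
      exact (H.s.y_ne (B.inj H.yx rfl e')).elim
    · rw [← H.s.mul_y] at e'
      exact (mul_left_cancel e').symm
  refine ⟨hy, ?_, h3⟩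
  rcases H.cenR (u := β x) fun s c hc => by
    obtain ⟨b, b1, b2, e⟩ := B.sur (cx s hc) (H.s.cm s c)
    rw [← e, ← B.mul rfl H.xy b1 b2, ← B.mul b1 b2 rfl H.xy, b1] with e | e | e | e
  · exact (H.x_ne (B.inj rfl H.xy e)).elim
  · exact (H.y_ne_x (B.inj' H.yx rfl rfl H.xy (hy.trans e.symm))).elim
  · exact .inl e
  · exact .inr e

theorem One.aut_rig [Finite M] (H : One x y p) {β : M → M} (B : AutC x y β)
    (hA : ∀ s c t d, cA c → β (p s c) = p t d → cA d) :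
    ∃ a d, a * x = x * a ∧ a * y = y * a ∧ ∀ g, g * x = x * g → g * y = y * g →
      β g = a * p 0 d * g * (a * p 0 d)⁻¹ := by
  have cx := fun s {c} h => (H.cm_x (t := s) (c := c)).2 h
  obtain ⟨hy, hx, h3⟩ := H.aut_y B
  choose! e f hf he using h3 0
  have h0 : ∀ s, β (p s 0) = p s 0 := fun s => by
    rcases H.s.q0 s with h | h <;> rw [h]
    exacts [B.one, hy]
  have hs : ∀ s c, pl c c0.1 = 0 → β (p s c) = p (s + e c) (f c) := fun s c hc => by
    have := B.mul (cx s (pl_zero' _)) (H.s.cm _ _) (cx 0 hc) (H.s.cm _ _)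
    rwa [h0, he c hc, H.s.mul, H.s.mul, bb_zero_left, bb_zero_left, zero_add, zero_add, add_zero,
      add_zero, add_zero] at this
  have hm : ∀ c d, pl c c0.1 = 0 → pl d c0.1 = 0 →
      bb c d + e (c + d) = e c + e d + bb (f c) (f d) ∧ f (c + d) = f c + f d := fun c d hc hd => by
    have := B.mul (cx 0 hc) (H.s.cm _ _) (cx 0 hd) (H.s.cm _ _)
    rw [H.s.mul, hs _ _ (by rw [pl_add', hc, hd, add_zero]), he c hc, he d hd, H.s.mul, zero_add,
      zero_add] at this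
    exact H.s.inj this
  obtain ⟨h, h1, h2⟩ := LR0 f (fun c d hc hd => (hm c d hc hd).2) hf
    (fun c hc e0 => by
      have := hs (e c) c hc
      rw [zz2, e0, H.s.zero] at this
      exact (H.s.inj ((B.inj (cx _ hc) (H.s.cm _ _) this).trans H.s.zero.symm)).2)
    (by
      have := he _ (pl_self c0.1)
      rw [H.hx] at this
      rcases hx with hx | hx <;> rw [hx] at this
      exacts [(H.s.inj (H.hx.trans this)).2.symm, (H.s.inj (H.p1.trans this)).2.symm])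
    (fun c hc => by
      have := B.mul (cx 0 hc) (H.s.cm _ _) (cx 0 hc) (H.s.cm _ _)
      rw [H.s.sq, h0, he c hc, H.s.sq] at this
      exact (H.s.inj this).1.symm)
    fun c hc => hA 0 c _ _ hc (he c hc.2.1)
  obtain ⟨a, k, a1, rfl, a3⟩ := H.liftX h1
  have a2 := H.s.rel_cm a1
  obtain ⟨d, hd⟩ := ext_fun (fun c => e c + ep k c) fun c d hc hd => by
    have := (hm c d hc hd).1
    rw [h2 c hc, h2 d hd] at this
    rw [ep_add]
    linear_combination this + zz2 (bb (co k • c) (co k • d))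
  refine ⟨a, d, a3, a2, fun g g1 g2 => ?_⟩
  set n := a * p 0 d with hn
  have ny : n * y = y * n := cm_mul a2 (H.s.cm _ _)
  have hR : ∀ s c, pl c c0.1 = 0 → β (p s c) = n * p s c * n⁻¹ := fun s c hc => by
    rw [hs s c hc, h2 c hc, show n * p s c * n⁻¹ = a * (p 0 d * p s c * (p 0 d)⁻¹) * a⁻¹ by
      rw [hn]; group, H.s.cj, a1, ← hd c hc, add_assoc, add_assoc, zz2, add_zero]
  have nx : n * x * n⁻¹ = x ∨ n * x * n⁻¹ = y * x := by
    have := hR 0 _ (pl_self c0.1)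
    rw [H.hx] at this
    rwa [← this]
  have nC : ∀ {g}, g * x = x * g → g * y = y * g → n * g * n⁻¹ * x = x * (n * g * n⁻¹) :=
    fun {g} g1 g2 => by
      have h1 : Commute (n * g * n⁻¹) (n * x * n⁻¹) := by
        rw [Commute, SemiconjBy, conj_mul, conj_mul, g1]
      have h2 : Commute (n * g * n⁻¹) y := cm_conj ny g2
      rcases nx with e | e <;> rw [e] at h1
      · exact h1
      · have := h2.mul_right h1
        rwa [← mul_assoc y, H.s.yy, one_mul] at this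
  have dl : ∀ {g}, g * x = x * g → g * y = y * g → ∀ {u}, u * x = x * u → u * y = y * u →
      Commute ((n * g * n⁻¹)⁻¹ * β g) u := fun {g} g1 g2 u u1 u2 => by
    have cu : Commute x u := u1.symm
    have cu' : Commute y u := u2.symm
    rcases H.cenR (u := (n * g * n⁻¹)⁻¹ * β g) fun s c hc => by
      obtain ⟨s', c', hc', e⟩ : ∃ s' c', pl c' c0.1 = 0 ∧ n * p s' c' * n⁻¹ = p s c := by
        obtain ⟨t, u, u1, u2⟩ := H.conjR (cm_inv a3) (cm_inv a2) s hc
        refine ⟨t + pl d u, u, u1, ?_⟩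
        rw [show n * p (t + pl d u) u * n⁻¹ = a * (p 0 d * p (t + pl d u) u * (p 0 d)⁻¹) * a⁻¹ by
          rw [hn]; group, H.s.cj, add_assoc, zz2, add_zero, ← u2]
        group
      obtain ⟨t, u, u1, u2⟩ := H.conjR g1 g2 s' hc'
      have e1 := hR t u u1
      rw [← u2, B.conj g1 g2 (cx _ hc') (H.s.cm _ _), hR _ _ hc', e] at e1
      rw [mul_assoc, mul_inv_eq_iff_eq_mul.1 e1, ← e]
      group with e | e | e | e <;> rw [e]
    exacts [Commute.one_left _, cu', cu, cu'.mul_left cu]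
  let K : Subgroup M :=
    { carrier := {g | (g * x = x * g ∧ g * y = y * g) ∧ β g = n * g * n⁻¹}
      one_mem' := ⟨⟨cm_one, cm_one⟩, by rw [B.one]; group⟩
      mul_mem' := fun ⟨⟨a1, a2⟩, a3⟩ ⟨⟨b1, b2⟩, b3⟩ => ⟨⟨cm_mul a1 b1, cm_mul a2 b2⟩, by
        rw [B.mul a1 a2 b1 b2, a3, b3, conj_mul]⟩
      inv_mem' := fun ⟨⟨a1, a2⟩, a3⟩ => ⟨⟨cm_inv a1, cm_inv a2⟩, by
        rw [B.inv a1 a2, a3]; group⟩ }
  refine (H.perf K (fun s c hc => ⟨⟨cx s hc, H.s.cm _ _⟩, hR s c hc⟩) (fun u v u1 u2 v1 v2 =>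
    ⟨⟨cm_mul (cm_conj u1 v1) (cm_inv v1), cm_mul (cm_conj u2 v2) (cm_inv v2)⟩, ?_⟩) g1 g2).2
  rw [B.mul (cm_conj u1 v1) (cm_conj u2 v2) (cm_inv v1) (cm_inv v2), B.conj u1 u2 v1 v2, B.inv v1 v2]
  have c1 := dl u1 u2 (B.mem v1 v2).1 (B.mem v1 v2).2
  have c2 := dl v1 v2 (cm_inv (nC u1 u2)) (cm_inv (cm_conj ny u2))
  generalize β u = U at c1 ⊢
  generalize β v = V at c1 c2 ⊢
  calc _ = n * u * n⁻¹ * ((n * u * n⁻¹)⁻¹ * U * V) * U⁻¹ * V⁻¹ := by group
    _ = n * u * n⁻¹ * (n * v * n⁻¹) * ((n * v * n⁻¹)⁻¹ * V * (n * u * n⁻¹)⁻¹) * V⁻¹ := by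
      rw [c1.eq]; group
    _ = _ := by rw [c2.eq]; group

theorem Two.fusA [Finite M] (H : Two x y p γ) (L : LF eO eD s0) (s : ZMod 2) {c : C} (h : cA c) :
    ∃ a, a * x = x * a ∧ a * p s c * a⁻¹ = y * x := by
  rcases H.fusR L s h.2.1 (bb_isS h.1) (isS_ne h.1) h.2.2.1 with e | e | e
  exacts [e.2, (h.2.2.2 e.1.1).elim, (e.1 h).elim]

/-- Recognition of the classes in `cA` by fusion. -/
theorem Two.cA_of' [Finite M] (H : Two x y p γ) (L : LF eO eD s0) {β : M → M} (B : AutC x y β)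
    {A D : M → Prop} (hA : ∀ a g, a * x = x * a → A g → A (a * g * a⁻¹)) (hD : ∀ g, A g → D g → False)
    (hy : D y) {s t r : ZMod 2} {c d : C} (hc : cA c) (e : β (p s c) = p t d) (h1 : A (p t d))
    (h2 : D (p r (d + c0.1))) : cA d := by
  have O := H.one
  obtain ⟨b1, b2, -⟩ := O.aut_y B
  have cx := O.cm_x (t := s).2 hc.2.1
  have cy := H.s.cm s c
  have b3 : ∀ {u}, u * x = x * u → u * y = y * u → β u = p t d → ∀ r f, u = p r f → f = c :=
    fun u1 u2 h r f e' => (H.s.inj (e'.symm.trans (B.inj' u1 u2 cx cy (h.trans e.symm)))).2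
  have n0 : d ≠ 0 := by
    rintro rfl
    rcases H.s.q0 t with h | h
    exacts [isS_ne hc.1 (b3 cm_one cm_one (B.one.trans h.symm) _ _ H.s.zero.symm).symm,
      isS_ne hc.1 (b3 O.yx rfl (b1.trans h.symm) _ _ H.s.one.symm).symm]
  have n1 : d ≠ c0.1 := by
    rintro rfl
    have b4 := B.mul O.yx rfl rfl O.xy
    have yx := cm_mul O.yx (rfl : x * x = x * x)
    have yx' := cm_mul (rfl : y * y = y * y) O.xy
    rcases z2 t with rfl | rfl <;> rcases b2 with h | h <;> rw [b1, h] at b4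
    · exact hc.2.2.1 (b3 rfl O.xy (h.trans O.hx.symm) _ _ O.hx.symm).symm
    · rw [← mul_assoc, H.s.yy, one_mul] at b4
      exact hc.2.2.1 (b3 yx yx' (b4.trans O.hx.symm) _ _ O.p1.symm).symm
    · exact hc.2.2.1 (b3 yx yx' (b4.trans O.p1.symm) _ _ O.p1.symm).symm
    · exact hc.2.2.1 (b3 rfl O.xy (h.trans O.p1.symm) _ _ O.hx.symm).symm
  rcases H.fusR L t (O.cm_x.1 (e ▸ (B.mem cx cy).1)) (H.bb_of (by
    rw [← e, ← B.mul cx cy cx cy, H.s.sq0 _ (bb_isS hc.1), B.one])) n0 n1 with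
    h | ⟨-, a, a1, a2⟩ | ⟨-, -, h⟩
  · exact h.1
  · exact (hD _ (a2 ▸ hA a _ a1 h1) hy).elim
  · obtain ⟨-, a, a1, a2⟩ := h r
    exact (hD _ (a2 ▸ hA a _ a1 h1) h2).elim

theorem Two.cA_of [Finite M] (H : Two x y p γ) (L : LF eO eD s0) {β : M → M} (B : AutC x y β)
    {A D : M → Prop} (hA : ∀ a g, a * x = x * a → A g → A (a * g * a⁻¹)) (hD : ∀ g, A g → D g → False)
    (hy : D y) {s t : ZMod 2} {c d : C} (hc : cA c) (e : β (p s c) = p t d) (h1 : A (p t d))
    (h2 : D (p t d * x)) : cA d := H.cA_of' L B hA hD hy hc e h1 (H.one.mul_x t d ▸ h2)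

/-- All automorphisms of `C(x)` are inner. -/
theorem Mod.inner [Finite M] (H : Mod x y p γ eO eD s0) {α : M → M} (E : Em x (α x) α)
    (mem : ∀ a, a * x = x * a → α a * x = x * α a) :
    ∃ n, n * x = x * n ∧ ∀ a, a * x = x * a → α a = n * a * n⁻¹ := by
  have T := H.two
  have O := T.one
  have gx := mul_inv_eq_iff_eq_mul.1 T.gx
  have sur : ∀ {α : M → M}, Em x (α x) α → (∀ a, a * x = x * a → α a * x = x * α a) →
      ∀ a, a * x = x * a → ∃ b, b * x = x * b ∧ α b = a := fun {α} E mem a ha => by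
    obtain ⟨b, e⟩ := Finite.surjective_of_injective
      (f := fun b : {b : M // b * x = x * b} => (⟨α b, mem b b.2⟩ : {b : M // b * x = x * b}))
      (fun a b e => Subtype.ext (E.inj a.2 b.2 (congrArg Subtype.val e))) ⟨a, ha⟩
    exact ⟨b, b.2, congrArg Subtype.val e⟩
  have ax : α x = x := (T.cenH (mem x rfl) fun a ha => by
    obtain ⟨b, b1, rfl⟩ := sur E mem a ha
    exact E.cm b1).resolve_left fun e => O.x_ne ((E.eq_one rfl).1 e)
  -- twisting by an inner automorphism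
  have tw : ∀ {α : M → M} (n : M), n * x = x * n → Em x x α →
      (∀ a, a * x = x * a → α a * x = x * α a) → Em x x (fun a => n⁻¹ * α a * n) ∧
        ∀ a, a * x = x * a → n⁻¹ * α a * n * x = x * (n⁻¹ * α a * n) := fun {α} n hn E mem =>
    ⟨⟨fun ha hb => by rw [E.mul ha hb]; group, fun ha hb e => E.inj ha hb (by simpa using e),
      by rw [E.hx, cm_inv hn, inv_mul_cancel_right]⟩,
      fun a ha => cm_mul (cm_mul (cm_inv hn) (mem a ha)) hn⟩
  have back : ∀ {α : M → M} (n : M), n * x = x * n →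
      (∃ m, m * x = x * m ∧ ∀ a, a * x = x * a → n⁻¹ * α a * n = m * a * m⁻¹) →
      ∃ m, m * x = x * m ∧ ∀ a, a * x = x * a → α a = m * a * m⁻¹ := fun n hn ⟨m, m1, m2⟩ =>
    ⟨n * m, cm_mul hn m1, fun a ha => by
      rw [show n * m * a * (n * m)⁻¹ = n * (m * a * m⁻¹) * n⁻¹ by group, ← m2 a ha]; group⟩
  -- step 3: trivial on `C(x, y)`
  have s3 : ∀ {α : M → M}, Em x x α → (∀ a, a * x = x * a → α a * x = x * α a) →
      (∀ a, a * x = x * a → a * y = y * a → α a = a) →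
      ∃ m, m * x = x * m ∧ ∀ a, a * x = x * a → α a = m * a * m⁻¹ := fun {α} E mem h => by
    have fin : ∀ m, m * x = x * m → (∀ a, a * x = x * a → a * y = y * a → a * m = m * a) →
        α γ = m * γ * m⁻¹ → ∃ m, m * x = x * m ∧ ∀ a, a * x = x * a → α a = m * a * m⁻¹ :=
      fun m m1 m2 m3 => ⟨m, m1, fun a ha => (H.gen
        { carrier := {a | a * x = x * a ∧ α a = m * a * m⁻¹}
          one_mem' := ⟨cm_one, by rw [E.one]; group⟩
          mul_mem' := fun ⟨a1, a2⟩ ⟨b1, b2⟩ => ⟨cm_mul a1 b1, by rw [E.mul a1 b1, a2, b2, conj_mul]⟩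
          inv_mem' := fun ⟨a1, a2⟩ => ⟨cm_inv a1, by rw [E.inv a1, a2]; group⟩ }
        (fun a a1 a2 => ⟨a1, by rw [h a a1 a2, ← m2 a a1 a2, mul_inv_cancel_right]⟩) ⟨gx, m3⟩ a ha).2⟩
    set z := p 0 Om with hz
    have zx : z * x = x * z := O.cm_x.2 pl_Om_c0
    have zy : z * y = y * z := T.s.cm _ _
    have zz : z * z = 1 := T.s.sq0 _ (bb_fst Om_fst _)
    obtain ⟨δ, hδ⟩ : ∃ δ, α γ = γ * δ := ⟨γ⁻¹ * α γ, by group⟩
    obtain ⟨s, c, e, hc⟩ := O.cenU H.lf (u := δ) pl_Om_c0 fun s c h1 h2 => by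
      have u1 := O.cm_x (t := s).2 h1
      have := E.conj gx u1
      rw [h _ (cm_conj gx u1) (by
        have : p s c * z = z * p s c := T.s.cm_iff.2 h2
        rw [← T.gO, conj_mul, conj_mul, this]), h _ u1 (T.s.cm _ _), hδ] at this
      rw [← mul_inv_eq_iff_eq_mul]
      calc _ = γ⁻¹ * (γ * δ * p s c * (γ * δ)⁻¹) * γ := by group
        _ = _ := by rw [← this]; group
    obtain ⟨v, v1, v2⟩ := exists_perp_one Om_ne_zero (S_ne_Om c0).symm
    set r := p 0 v with hr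
    have rx : r * x = x * r := O.cm_x.2 v1
    have ry : r * y = y * r := T.s.cm _ _
    have rz : r * z * r⁻¹ = z * y := by
      rw [hr, hz, T.s.cj, pl_comm, show pl Om v = 1 from v2, T.s.mul_y]
    have gy : γ * y * γ⁻¹ = z := T.gy
    have gz : γ * z * γ⁻¹ = y := T.gO
    have e2 : γ * δ * (γ * δ) = γ * γ := by
      rw [← hδ, ← E.mul gx gx, h _ (cm_mul gx gx) (mul_inv_eq_iff_eq_mul.1 (by
        rw [show γ * γ * y * (γ * γ)⁻¹ = γ * (γ * y * γ⁻¹) * γ⁻¹ by group, gy, gz]))]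
    have wx := cm_mul gx rx
    have w1 : γ * r * y * (γ * r)⁻¹ = z := by rw [mul_assoc γ, ry, ← gy]; group
    have w2 : γ * r * z * (γ * r)⁻¹ = y * z := by
      rw [show γ * r * z * (γ * r)⁻¹ = γ * (r * z * r⁻¹) * γ⁻¹ by group, rz, ← conj_mul, gy, gz]
    have e3 : (γ * δ * r) ^ 3 = (γ * r) ^ 3 := by
      rw [← hδ, ← h r rx ry, ← E.mul gx rx, h r rx ry, ← E.pow wx, h _ (cm_pow wx 3)
        (mul_inv_eq_iff_eq_mul.1 (by
          rw [show (γ * r) ^ 3 * y * ((γ * r) ^ 3)⁻¹ =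
            γ * r * (γ * r * (γ * r * y * (γ * r)⁻¹) * (γ * r)⁻¹) * (γ * r)⁻¹ by
              rw [pow_three]; group, w1, w2, ← conj_mul, w1, w2, ← mul_assoc, zy, mul_assoc, zz,
            mul_one]))]
    have l1 : ∀ a, y * (x * a) = x * (y * a) := fun a => by rw [← mul_assoc, O.yx, mul_assoc]
    have l2 : ∀ a, z * (x * a) = x * (z * a) := fun a => by rw [← mul_assoc, zx, mul_assoc]
    have l3 : ∀ a, z * (y * a) = y * (z * a) := fun a => by rw [← mul_assoc, zy, mul_assoc]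
    have l4 : ∀ a, x * (x * a) = a := fun a => by rw [← mul_assoc, O.xx, one_mul]
    have l5 : ∀ a, y * (y * a) = a := fun a => by rw [← mul_assoc, T.s.yy, one_mul]
    have l6 : ∀ a, z * (z * a) = a := fun a => by rw [← mul_assoc, zz, one_mul]
    have nyz : y * z ≠ 1 := fun e => T.O_ne.2 (by rw [← hz, ← l5 z, e, mul_one])
    have wx' := mul_inv_eq_iff_eq_mul.2 wx
    replace e2 : δ * (γ * δ * γ⁻¹) = 1 := by
      calc _ = γ⁻¹ * (γ * δ * (γ * δ)) * γ⁻¹ := by group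
        _ = _ := by rw [e2]; group
    replace e3 : γ * δ * γ⁻¹ * (γ * r * (γ * δ * γ⁻¹) * (γ * r)⁻¹) *
        (γ * r * (γ * r * (γ * δ * γ⁻¹) * (γ * r)⁻¹) * (γ * r)⁻¹) = 1 := by
      calc _ = (γ * δ * r) ^ 3 * ((γ * r) ^ 3)⁻¹ := by rw [pow_three, pow_three]; group
        _ = _ := by rw [e3, mul_inv_cancel]
    have hd : (δ = 1 ∨ δ = y) ∨ (δ = x ∨ δ = x * y) ∨ (δ = z ∨ δ = z * y) ∨
        (δ = x * z ∨ δ = x * z * y) := by
      rw [e]
      rcases hc with rfl | rfl | rfl | rfl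
      · exact .inl (T.s.q0 s)
      · exact .inr (.inl (O.hx ▸ T.s.or_y s 0 c0.1))
      · exact .inr (.inr (.inl (T.s.or_y s 0 Om)))
      · refine .inr (.inr (.inr ?_))
        rw [← O.hx, hz, T.s.mul]
        exact T.s.or_y _ _ _
    generalize γ * r = w at w1 w2 wx' e3
    have c1 : ∀ a, a * x = x * a → a * y = y * a → a * 1 = 1 * a := fun a _ _ => by simp
    rcases hd with (d | d) | (d | d) | (d | d) | (d | d) <;> rw [d] at e2 e3 hδ
    · exact fin 1 cm_one c1 (by simpa using hδ)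
    all_goals
      simp only [← conj_mul, gy, gz, T.gx, w1, w2, wx'] at e2 e3
      try simp only [mul_assoc, l1, l2, l3, l4, l5, l6, O.yx, zx, zy, O.xx, T.s.yy, zz, mul_one] at e2
      try simp only [mul_assoc, l1, l2, l3, l4, l5, l6, O.yx, zx, zy, O.xx, T.s.yy, zz, mul_one,
        one_mul] at e3
    · exact (nyz e2).elim
    · exact (O.x_ne e3).elim
    · exact (nyz e2).elim
    · exact (nyz e2).elim
    · refine fin y O.yx (fun a _ h => h) ?_
      rw [hδ, T.s.y_inv, ← mul_assoc, mul_inv_eq_iff_eq_mul.1 gz]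
    · exact (nyz e2).elim
    · exact (O.x_ne e3).elim
  -- step 2: `⟨x, y⟩` is preserved
  have s2 : ∀ {α : M → M}, Em x x α → (∀ a, a * x = x * a → α a * x = x * α a) →
      (α y = y ∨ α y = y * x) →
      ∃ m, m * x = x * m ∧ ∀ a, a * x = x * a → α a = m * a * m⁻¹ := fun {α} E mem h => by
    have B : AutC x y α := ⟨fun a1 _ b1 _ => E.mul a1 b1, fun {a} a1 a2 => ⟨mem a a1, by
      have h1 : Commute (α a) (α y) := (E.comm a1 O.yx).2 a2
      rcases h with h | h <;> rw [h] at h1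
      · exact h1
      · have := h1.mul_right (show Commute (α a) x from mem a a1)
        rwa [mul_assoc, O.xx, mul_one] at this⟩, fun a1 _ => (E.eq_one a1).1⟩
    obtain ⟨n, d, n1, n2, n3⟩ := O.aut_rig B fun s c t d hc e => by
      obtain ⟨a, a1, a2⟩ := T.fusA H.lf s hc
      have cx := O.cm_x (t := s).2 hc.2.1
      have := E.conj a1 cx
      rw [a2, E.mul O.yx rfl, (O.aut_y B).1, E.hx, e] at this
      exact T.cA_of H.lf B (A := IsConj x) (D := IsConj y) (fun a g _ h => h.trans (cj_of rfl))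
        (fun g => T.nAB) (IsConj.refl _) hc e (O.A_yx.trans (cj_of this.symm).symm)
        (cj_of (a := α a) (by rw [cj_mul (mem a a1), ← this, mul_assoc, O.xx, mul_one])).symm
    have nx : n * p 0 d * x = x * (n * p 0 d) :=
      mul_inv_eq_iff_eq_mul.1 ((n3 x rfl O.xy).symm.trans E.hx)
    obtain ⟨E', mem'⟩ := tw _ nx E mem
    exact back _ nx (s3 E' mem' fun a a1 a2 => by rw [n3 a a1 a2]; group)
  have su := sur E mem
  rw [ax] at E
  obtain ⟨m, m1, m2⟩ := O.syl (P :=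
    { carrier := {b | b * x = x * b ∧ α b ∈ T.s.Q}
      one_mem' := ⟨cm_one, by rw [E.one]; exact one_mem _⟩
      mul_mem' := fun ⟨a1, a2⟩ ⟨b1, b2⟩ => ⟨cm_mul a1 b1, E.mul a1 b1 ▸ mul_mem a2 b2⟩
      inv_mem' := fun ⟨a1, a2⟩ => ⟨cm_inv a1, E.inv a1 ▸ inv_mem a2⟩ })
    (pg_of 2 fun b ⟨b1, s, c, e⟩ => (E.eq_one (cm_pow b1 _)).1 (by rw [E.pow b1, e, T.s.q4]))
    fun b hb => hb.1
  obtain ⟨E', mem'⟩ := tw _ (mem m m1) E mem
  refine back _ (mem m m1) (s2 E' mem' ?_)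
  rcases O.cenR (u := (α m)⁻¹ * α y * α m) fun s c hc => by
    obtain ⟨b, b1, e⟩ := su _ (O.cm_x (t := s).2 hc)
    have := (E.comm (cm_conj m1 b1) O.yx).2 (m2 b ⟨b1, s, c, e⟩)
    rw [E.conj m1 b1, e] at this
    calc _ = (α m)⁻¹ * (α y * (α m * p s c * (α m)⁻¹)) * α m := by group
      _ = _ := by rw [← this]; group with e | e | e | e
  · exact (T.s.y_ne ((E'.eq_one O.yx).1 e)).elim
  · exact .inl e
  · exact (O.y_ne_x (E'.inj O.yx rfl (e.trans E'.hx.symm))).elim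
  · exact .inr e

end H10.Mon.MG
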