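import Mathlib
import Cfsg.Agent.H0.BSM

set_option autoImplicit false
set_option linter.all false

namespace H10.Mon.MG

variable {M G : Type*} [Group M] [Group G] {x y γ : M} {p : ZMod 2 → C → M} {eO eD s0 : G0}

/-- Some lift of `a` squares to `1`. -/
def Gd (R : G → M → Prop) (a : M) : Prop := ∃ g, R g a ∧ g * g = 1

section
variable {t : G} {R : G → M → Prop} (h : Cor t x R) (tt : t * t = 1)
include h

theorem Gd.conj {a n : M} (hn : n * x = x * n) (k : Gd R a) : Gd R (n * a * n⁻¹) := by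
  obtain ⟨g, r, e⟩ := k
  obtain ⟨m, rm⟩ := h.down n hn
  exact ⟨_, h.conj rm r, by rw [conj_mul, e]; group⟩

theorem Gd.of {a n : M} (hn : n * x = x * n) (k : Gd R (n * a * n⁻¹)) : Gd R a := by
  simpa [mul_assoc] using k.conj h (cm_inv hn)

theorem Gd.mx {a : M} (k : Gd R a) : Gd R (a * x) := by
  obtain ⟨g, r, e⟩ := k
  exact ⟨g, h.mulz r, e⟩

theorem Gd.one : Gd R 1 := ⟨1, h.one, mul_one _⟩

include tt

theorem sq_uq {a : M} {g g' : G} (r : R g a) (r' : R g' a) : g' * g' = g * g := by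
  rcases h.uq r r' with rfl | rfl
  · rfl
  · rw [(show Commute g t from h.cm r).symm.mul_mul_mul_comm, tt, mul_one]

theorem One.inv_lift (H : One x y p) {Y U : G} (hY : R Y y) {s : ZMod 2} {c : C} (hc : cA c)
    (r : R U (p s c)) : Y * U * Y = U := by
  obtain ⟨d, d1, d2⟩ := exists_perp_one (isS_ne hc.1) hc.2.2.1
  obtain ⟨m, rm⟩ := h.down (p 0 d) (H.cm_x.2 d1)
  have r1 := h.conj rm r
  rw [H.s.cj, pl_comm, show pl c d = 1 from d2, ← H.s.mul_y] at r1
  have e := sq_uq h tt r1 (h.mul r hY)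
  have r2 := h.mul r r
  rw [H.s.sq0 _ (bb_isS hc.1), h.ker] at r2
  have e2 : m * (U * U) * m⁻¹ = U * U := by
    rcases r2 with e | e <;> rw [e]
    exacts [by group, mul_inv_eq_iff_eq_mul.2 (h.cm rm)]
  rw [conj_mul, e2] at e
  exact mul_left_cancel (a := U) (by rw [← e]; group)

theorem One.lift_y (H : One x y p) {Y : G} (hY : R Y y) : Y * Y = 1 := by
  obtain ⟨h1, h2, h3⟩ := cA_tri
  obtain ⟨U, r⟩ := h.down (p 0 (dec 1)) (H.cm_x.2 h1.2.1)
  obtain ⟨V, r'⟩ := h.down (p 0 (dec 8)) (H.cm_x.2 h2.2.1)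
  have e1 := H.inv_lift h tt hY h1 r
  have e2 := H.inv_lift h tt hY h2 r'
  have e3 := H.inv_lift h tt hY h3 (H.s.mul _ _ _ _ ▸ h.mul r r')
  have e4 : Y * U * Y * (Y * V * Y) = Y * (U * V) * Y := by rw [e1, e2, e3]
  have e5 : Y * U * (Y * Y) * (V * Y) = Y * U * 1 * (V * Y) := by
    rw [mul_one]; simpa only [mul_assoc] using e4
  exact mul_left_cancel (mul_right_cancel e5)

theorem One.lift_cm (H : One x y p) {Y A : G} (hY : R Y y) {a : M} (hy : a * y = y * a)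
    (r : R A a) : A * Y = Y * A := by
  have yy := H.lift_y h tt hY
  have yt : Commute Y t := h.cm hY
  let K := h.symm.pre (Subgroup.centralizer {Y})
  have ky : y ∈ K := ⟨Y, Subgroup.mem_centralizer_singleton_iff.2 rfl, hY⟩
  have fl : ∀ {A a}, a * y = y * a → R A a → A * Y * A⁻¹ = Y ∨ A * Y * A⁻¹ = Y * t :=
    fun {A a} hy r => h.uq hY (by simpa only [mul_inv_eq_iff_eq_mul.2 hy] using h.conj r hY)
  have : a ∈ K := H.perf K (fun s c hc => by
      obtain ⟨s', k⟩ : ∃ s, p s c ∈ K := span_cA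
        { carrier := {c | ∃ s, p s c ∈ K}
          zero_mem' := ⟨0, H.s.zero ▸ one_mem K⟩
          add_mem' := fun ⟨_, a⟩ ⟨_, b⟩ => ⟨_, H.s.mul _ _ _ _ ▸ mul_mem a b⟩
          neg_mem' := fun {c} a => by rwa [neg_eq_of_add_eq_zero_left (cc2 c)] }
        (fun c hc => by
          obtain ⟨U, r⟩ := h.down (p 0 c) (H.cm_x.2 hc.2.1)
          refine ⟨0, U, Subgroup.mem_centralizer_singleton_iff.2 ?_, r⟩
          conv_rhs => rw [← H.inv_lift h tt hY hc r]
          rw [← mul_assoc, ← mul_assoc, yy, one_mul]) hc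
      rcases H.s.or_y s s' c with e | e <;> rw [e]
      exacts [k, mul_mem k ky])
    (fun a b a1 a2 b1 b2 => by
      obtain ⟨A, ra⟩ := h.down a⁻¹ (cm_inv a1)
      obtain ⟨B, rb⟩ := h.down b⁻¹ (cm_inv b1)
      refine ⟨A⁻¹ * B⁻¹ * A * B, Subgroup.mem_centralizer_singleton_iff.2 ?_,
        by simpa using h.mul (h.mul (h.mul (h.inv ra) (h.inv rb)) ra) rb⟩
      have ca : A * t * A⁻¹ = t := mul_inv_eq_iff_eq_mul.2 (h.cm ra)
      have cb : B * t * B⁻¹ = t := mul_inv_eq_iff_eq_mul.2 (h.cm rb)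
      have key : A * (B * Y * B⁻¹) * A⁻¹ = B * (A * Y * A⁻¹) * B⁻¹ := by
        rcases fl (cm_inv a2) ra with e | e <;> rcases fl (cm_inv b2) rb with f | f <;>
          simp only [e, f, ← conj_mul, ca, cb]
      calc _ = A⁻¹ * B⁻¹ * (A * (B * Y * B⁻¹) * A⁻¹) * A * B := by group
        _ = _ := by rw [key]; group)
    (h.cm' r) hy
  obtain ⟨B, hB, rb⟩ := this
  have hB := Subgroup.mem_centralizer_singleton_iff.1 hB
  rcases h.uq rb r with rfl | rfl
  · exact hB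
  · exact (show Commute B Y from hB).mul_left yt.symm

end

/-- Involutions of `C(x)` lift to involutions in every double cover of `C(x) / ⟨x⟩`. -/
theorem Two.lift_inv [Finite M] (H : Two x y p γ) (L : LF eO eD s0) {t : G} {R : G → M → Prop}
    (h : Cor t x R) (tt : t * t = 1) {g : G} {a : M} (r : R g a) (ha : a * a = 1) : g * g = 1 := by
  have O := H.one
  obtain ⟨Y, hY⟩ := h.down y O.yx
  have gy : ∀ {a}, a * y = y * a → Gd R a → Gd R (a * y) := fun {a} hy ⟨A, r, e⟩ =>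
    ⟨_, h.mul r hY, by
      rw [(show Commute A Y from O.lift_cm h tt hY hy r).symm.mul_mul_mul_comm, e,
        O.lift_y h tt hY, mul_one]⟩
  have gA : ∀ {a s c}, cA c → a * p s c = p s c * a → Gd R a → Gd R (a * p s c) :=
    fun {a s c} hc e k => by
      obtain ⟨n, n1, n2⟩ := H.fusA L s hc
      obtain ⟨A, ra, -⟩ := id k
      have c1 : Commute (n * a * n⁻¹) x := cm_conj n1 (h.cm' ra)
      have c2 : Commute (n * a * n⁻¹) (y * x) := by
        rw [← n2]; show _ * _ = _ * _; rw [conj_mul, conj_mul, e]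
      have c3 := c2.mul_right c1
      rw [mul_assoc y, H.xx, mul_one] at c3
      refine Gd.of h n1 ?_
      rw [← conj_mul, n2, ← mul_assoc]
      exact (gy c3 (k.conj h n1)).mx h
  obtain ⟨b, c, u, v, b0, c0', u0, v0, hb, hc, u1, u2, hv, k⟩ := ex_trip
  have q0 : ∀ {c d : C}, c.1 = 0 → d.1 = 0 → ∀ s t, p s c * p t d = p t d * p s c :=
    fun h1 h2 s t => H.s.cm_iff.2 (pl_fst h1 h2)
  have gB : ∀ {a}, a * x = x * a → T2 y y x a → Gd R a := fun {a} a1 a2 => by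
    have k1 := gA (s := 0) hc (q0 b0 c0' 0 0) (by simpa using gA (s := 0) hb cm_one (Gd.one h))
    rw [H.s.mul] at k1
    obtain ⟨f1, f2⟩ := H.bbQ _ ⟨by rw [Prod.fst_add, b0, c0', add_zero], k (b + c) (by simp)⟩
    obtain ⟨n, n1, n2⟩ := H.pBB L a1 a2 f1 f2
    exact Gd.of h n1 (n2 ▸ k1)
  have uv : (u + v).1 = 0 := by rw [Prod.fst_add, u0, v0, add_zero]
  suffices k : Gd R a by
    obtain ⟨g', r', e⟩ := k
    rw [sq_uq h tt r' r, e]
  have hx := h.cm' r
  have g1 : Gd R y := by simpa using gy cm_one (Gd.one h)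
  rcases H.ty L hx ha with (rfl | rfl) | e | (e | e) | e
  · exact Gd.one h
  · simpa using (Gd.one h).mx h
  · obtain ⟨n, s, d, n1, n2⟩ := H.pAA L hx e
    have d1 : IsS d := H.isS_of (n2 ▸ e.1.trans (cj_of rfl))
    have d2 : IsS (d + c0.1) := H.isS_of (by
      rw [← O.mul_x s d, ← n2, ← cj_mul n1]; exact e.2.trans (cj_of rfl))
    obtain ⟨f1, f2⟩ := H.bbQ 0 ⟨uv, k (u + v) (by simp)⟩
    have k1 := gA (s := 0) hv (q0 uv v0 0 0) (gB f1 f2)
    rw [H.s.mul, add_assoc u, cc2, add_zero u] at k1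
    obtain ⟨w, w1, w2⟩ := trAA u1 u2 d1 d2
    obtain ⟨m, l, m1, rfl, m2⟩ := O.liftX w1
    have k2 := k1.conj h m2
    rw [m1, w2] at k2
    refine Gd.of h n1 ?_
    rw [n2]
    rcases H.s.or_y s _ d with e | e <;> rw [e]
    exacts [k2, gy (H.s.cm _ _) k2]
  · obtain ⟨n, n1, n2⟩ := H.pAB L (s := a * x) (cm_mul hx rfl)
      ⟨e.2, by rw [mul_assoc, H.xx, mul_one]; exact e.1⟩
    have := (Gd.of h n1 (n2 ▸ g1)).mx h
    rwa [mul_assoc, H.xx, mul_one] at this
  · obtain ⟨n, n1, n2⟩ := H.pAB L hx e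
    exact Gd.of h n1 (n2 ▸ g1)
  · exact gB hx e

end H10.Mon.MG
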