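import Mathlib
import Cfsg.Agent.H9.MB5
import Cfsg.Agent.S1704

set_option autoImplicit false
set_option linter.all false

namespace H10.Mon.MG

theorem exists_em {G : Type*} [Group G] [Finite G] (L : Subgroup G) (hq : Cfsg.IsQuasisimple L)
    (h2 : Nat.card (Subgroup.center L) = 2)
    (e : L ⧸ Subgroup.center L ≃* Cfsg.Spor.BabyMonster) :
    ∃ t ι, Em (G := G) (tM tau) t ι ∧ ∀ g, g ∈ L ↔ ∃ a, a * tM tau = tM tau * a ∧ ι a = g := by
  obtain ⟨t, ι, E, h⟩ := MB.cover Cfsg.Agent.S1704.result hq.1 h2 e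
  exact ⟨t, fun a => ι a, ⟨fun ha hb => congrArg Subtype.val (E.mul ha hb),
    fun ha hb e => E.inj ha hb (Subtype.ext e), congrArg Subtype.val E.hx⟩, fun g =>
    ⟨fun hg => (h ⟨g, hg⟩).imp fun a k => ⟨k.1, congrArg Subtype.val k.2⟩,
      fun ⟨a, _, k⟩ => k ▸ (ι a).2⟩⟩

end H10.Mon.MG
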