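import Mathlib
import Cfsg.Agent.H0.BSM0
import Cfsg.Agent.H10.TB

set_option autoImplicit false
set_option linter.all false

namespace H10.Mon.MG

open Subgroup

section
variable {M Γ : Type*} [Group M] [Group Γ] {x y γ : M} {p : ZMod 2 → C → M}

theorem One.card1 [Finite M] (H : One x y p) :
    Nat.card ↥(centralizer ({x} : Set M) ⊓ centralizer {y}) = 84610842624000 * 2 ^ 23 := by
  have c3 := H.s.cardK 0 (isS_ne (isS_val c0))
  rw [H.hx, show MulAction.orbit G0 c0.1 = {c | IsS c} from Set.ext fun d => ⟨fun ⟨g, e⟩ =>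
    e ▸ (isS_val c0).smul g, fun hd => (trans_S c0 (toS d hd)).imp fun g e => congrArg Subtype.val e⟩,
    ncard_isS, inf_comm] at c3
  omega

theorem Two.vw (H : Two x y p γ) {n : M} (hn : n * x = x * n) :
    Two x (n * y * n⁻¹) (fun s c => n * p s c * n⁻¹) (n * γ * n⁻¹) where
  s := H.s.view n
  hx := by rw [H.hx, mul_inv_eq_iff_eq_mul.2 hn]
  nc h := H.nc (h.trans (cj_of rfl).symm)
  gx := mul_inv_eq_iff_eq_mul.2 (cm_conj hn (mul_inv_eq_iff_eq_mul.1 H.gx))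
  gy := by rw [← H.gy]; group
  gO := by conv_rhs => rw [← H.gO]
           group

variable [Finite M] (H : Two x y p γ) {R : M → Γ → Prop} (h : Cor x 1 R) {S Q : Subgroup Γ} {z t : Γ}
  (hc : Nat.card (h.pre S) = 84610842624000 * 2 ^ 23) (hz : ∀ s ∈ S, s * z = z * s) (hQ : Q ≤ S)
  (q4 : ∀ q ∈ Q, q ^ 2 ^ 23 = 1) (nQ : ∀ s ∈ S, ∀ q ∈ Q, s * q * s⁻¹ ∈ Q) (ht : t * z * t⁻¹ ∈ Q)
  (ht' : t * z * t⁻¹ ≠ z) (gen : ∀ K : Subgroup Γ, S ≤ K → t ∈ K → ∀ b, b ∈ K) (K : Subgroup M)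
  (h1 : ∀ a, a * x = x * a → a * y = y * a → a ∈ K) (h2 : γ ∈ K) {a : M} (ha : a * x = x * a)
include H hc hz hQ q4 nQ ht ht' gen h1 h2 ha

theorem Two.gen0 (hy : R y z) : a ∈ K := by
  have O := H.one
  have s1 : ∀ {a s}, s ∈ S → R a s → a * y = y * a := fun {a s} hs r => by
    have := h.conj r hy
    rw [mul_inv_eq_iff_eq_mul.2 (hz s hs)] at this
    exact mul_inv_eq_iff_eq_mul.1 (O.eq_y (cj_of rfl) (by rcases h.uq hy this with e | e <;> simp [e]))
  have s2 : h.pre S = centralizer {x} ⊓ centralizer {y} := eq_of_le_of_card_ge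
    (fun a ⟨s, hs, r⟩ => ⟨mem_centralizer_singleton_iff.2 (h.cm r),
      mem_centralizer_singleton_iff.2 (s1 hs r)⟩) (by rw [hc, O.card1])
  obtain ⟨τ, rt⟩ := h.down t (by simp)
  have tx := h.cm rt
  obtain ⟨s, c, e⟩ := O.nrm (N := h.pre Q) (m := 2 ^ 23 * 2) Nat.prime_three (by norm_num) (by norm_num)
    (fun g ⟨q, hq, r⟩ => ⟨0, 0, by
      have := h.pow r (2 ^ 23)
      rw [q4 q hq, h.ker] at this
      rw [H.s.zero, pow_mul, pow_two]
      rcases this with e | e <;> rw [e]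
      exacts [mul_one _, H.xx]⟩)
    (fun g ⟨q, hq, r⟩ => ⟨h.cm r, s1 (hQ hq) r⟩)
    (fun a a1 a2 g ⟨q, hq, r⟩ => by
      obtain ⟨s, hs, r'⟩ : a ∈ h.pre S := s2 ▸ ⟨mem_centralizer_singleton_iff.2 a1,
        mem_centralizer_singleton_iff.2 a2⟩
      exact ⟨_, nQ s hs q hq, h.conj r' r⟩)
    (g := τ * y * τ⁻¹) ⟨_, ht, h.conj rt hy⟩
  have c1 : pl c c0.1 = 0 := O.cm_x.1 (e ▸ cm_conj tx O.yx)
  have c2 : c ≠ 0 := by
    rintro rfl
    rcases H.s.q0 s with f | f <;> rw [f] at e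
    · exact H.s.y_ne (conj_eq_one_iff.1 e)
    · have := h.symm.uq hy (e ▸ h.conj rt hy)
      rw [mul_one, or_self] at this
      exact ht' this
  have e0 : c + c0.1 + c0.1 = c := by rw [add_assoc, cc2, add_zero]
  obtain ⟨u, u1, u2⟩ := tr_perp (e := c + c0.1) (H.isS_of (by
      rw [← O.mul_x s c, ← e, ← cj_mul tx]; exact O.A_yx.trans (cj_of rfl)))
    (by rw [pl_add', c1, pl_self, add_zero]) (fun f => c2 (by simpa using f))
    (fun f => H.nAB (H.qA s (e0 ▸ f)) (cj_of e))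
  rw [smul_add, u1, add_comm, add_right_inj] at u2
  obtain ⟨m, k, m1, rfl, m2⟩ := O.liftX u1
  obtain ⟨b, b1, b2, b3⟩ : ∃ b, b * x = x * b ∧ b * y = y * b ∧ b * p s c * b⁻¹ = p 0 Om := by
    have m3 := m1 s c
    rw [u2] at m3
    rcases z2 (s + ep k c) with f | f <;> rw [f] at m3
    · exact ⟨m, m2, H.s.rel_cm m1, m3⟩
    · obtain ⟨d, d1, d2⟩ := exists_perp_one Om_ne_zero (S_ne_Om c0).symm
      refine ⟨p 0 d * m, cm_mul (O.cm_x.2 d1) m2, cm_mul (H.s.cm _ _) (H.s.rel_cm m1), ?_⟩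
      have := H.s.cj 0 1 Om d
      rw [pl_comm, show pl Om d = 1 from d2, z11, ← m3] at this
      rw [← this]; group
  have gx := mul_inv_eq_iff_eq_mul.1 H.gx
  have tK : τ ∈ K := by
    have := h1 (γ⁻¹ * (b * τ)) (cm_mul (cm_inv gx) (cm_mul b1 tx)) (mul_inv_eq_iff_eq_mul.1 (by
      calc _ = γ⁻¹ * (b * (τ * y * τ⁻¹) * b⁻¹) * γ := by group
        _ = _ := by rw [e, b3, ← H.gy]; group))
    simpa using mul_mem (inv_mem (h1 b b1 b2)) (mul_mem h2 this)
  obtain ⟨b, rb⟩ := h.up a ha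
  obtain ⟨a', a1, a2⟩ := gen (h.symm.pre K) (fun s hs => by
    obtain ⟨a, r⟩ := h.down s (by simp)
    exact ⟨a, h1 a (h.cm r) (s1 hs r), r⟩) ⟨τ, tK, rt⟩ b
  rcases h.uq a2 rb with rfl | rfl
  exacts [a1, mul_mem a1 (h1 x rfl O.xy)]

theorem Two.gen1 : a ∈ K := by
  obtain ⟨n, n1, n2⟩ := H.one.big (S := h.pre S) (fun a ⟨_, _, r⟩ => h.cm r) (by rw [hc, H.one.card1])
  have H' := H.vw n1
  obtain ⟨u, r⟩ := h.down z (by simp)
  have z1 : z ≠ 1 := by rintro rfl; simp at ht'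
  have hy : R (n * y * n⁻¹) z := by
    rcases H'.one.cent (u := u) (fun s d hd => by
      obtain ⟨v, v1, v2⟩ := n2 s d hd
      have := h.conj r v2
      rw [← hz v v1, mul_inv_cancel_right] at this
      exact h.uq v2 this) (h.cm r) with e | e | e | e <;> rw [e] at r
    · exact (z1 (by simpa using h.ker'.1 r)).elim
    · exact r
    · exact (z1 (by simpa using h.symm.uq (h.ker.2 (.inr rfl)) r)).elim
    · simpa [mul_assoc, H.xx] using h.mz r
  have := H'.gen0 h hc hz hQ q4 nQ ht ht' gen (K.comap (MulAut.conj n⁻¹).toMonoidHom)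
    (fun a a1 a2 => h1 _ (cm_conj (cm_inv n1) a1) (by
      change n⁻¹ * a * n⁻¹⁻¹ * y = y * (n⁻¹ * a * n⁻¹⁻¹)
      calc _ = n⁻¹ * (a * (n * y * n⁻¹)) * n := by group
        _ = _ := by rw [a2]; group))
    (by simpa [mul_assoc] using h2) (cm_conj n1 ha) hy
  simpa [mul_assoc] using this

end

open H29 H29.BP H29.BP.Dat H29.BM H29.YB in
theorem genM (hB : Cfsg.IsB Cfsg.Spor.BabyMonster) {γ : MM tau} (H : Two (tM tau) (zM tau) qM γ)
    (K : Subgroup (MM tau))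
    (h1 : ∀ a, a * tM tau = tM tau * a → a * zM tau = zM tau * a → a ∈ K) (h2 : γ ∈ K)
    (a : MM tau) (ha : a * tM tau = tM tau * a) : a ∈ K := by
  obtain ⟨e⟩ : Nonempty (Cfsg.Spor.BabyMonster ≃* BB) := by
    obtain ⟨π, hπ⟩ := sm_yr.hom
    have h : π.range = BB := by
      rw [MonoidHom.range_eq_map, ← PY_top, map_gen, ← gen_BB]
      exact gen_congr fun c hc => hπ c (by revert c; decide)
    haveI : Finite PY.G := Nat.finite_of_card_ne_zero (hB.2 ▸ by norm_num)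
    exact ⟨(MulEquiv.ofBijective π.rangeRestrict ((Nat.bijective_iff_surjective_and_card _).2
      ⟨π.rangeRestrict_surjective, by rw [h, card_BB]; exact hB.2⟩)).trans (MulEquiv.subgroupCongr h)⟩
  obtain ⟨φ0, h0⟩ := exists_cv ((Subgroup.orderOf_coe (tM tau)).symm.trans orderOf_tt) (Y.baby_cover hB)
  have hφ : Cv (tM tau) (e.toMonoidHom.comp φ0) := ⟨e.surjective.comp h0.surj, fun g =>
    (map_eq_one_iff _ e.injective).trans (h0.ker g)⟩
  generalize e.toMonoidHom.comp φ0 = φ at hφ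
  have h := hφ.cor (x' := (1 : BB)) (φ' := Subgroup.subtype _)
    ⟨fun b => ⟨⟨b, mem_centralizer_singleton_iff.2 (by simp)⟩, rfl⟩, fun g => by simp⟩
  have nb : ∀ {b}, b ∈ BB → -b ∈ BB → False := fun {b} h1 h2 => neg_BB (by
    simpa [← neg_mul'] using BB.mul_mem h2 (BB.inv_mem h1))
  have nk : ∀ {b}, b ∈ D.KK → -b ∈ D.KK := fun {b} hb => by
    simpa [← neg_mul'] using mul_mem (neg_one_mem (D := D)) hb
  refine H.gen1 h (S := D.KK.subgroupOf BB) (Q := (BP.QQ D.cl).subgroupOf BB) (z := ⟨D.z, z_BB⟩)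
    (t := ⟨t, t_BB⟩) ?_ (fun s hs => Subtype.ext hs.comm) (fun q ⟨x, hx⟩ => ?_) (fun q hq => ?_)
    (fun s hs q ⟨x, hx⟩ => ?_) ⟨2097152, ?_⟩ (fun e => ?_) (fun K' k1 k2 b => ?_) K h1 h2 ha
  · have e1 : h.pre (D.KK.subgroupOf BB) = ((D.KK.subgroupOf BB).comap φ).map (Subgroup.subtype _) := by
      ext a
      exact ⟨fun ⟨b, hb, u, _, e⟩ => ⟨⟨a, u⟩, by rw [SetLike.mem_coe, mem_comap, e]; exact hb, rfl⟩,
        fun ⟨a, h1, e⟩ => ⟨_, h1, e ▸ a.2, mem_centralizer_singleton_iff.2 (by simp), by subst e; rfl⟩⟩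
    have c1 : (BB.subgroupOf D.KK).index = 2 := index_eq_two_iff.2 ⟨⟨-1, neg_one_mem⟩, fun b => by
      simp only [mem_subgroupOf, coe_mul]
      have e : b.1 * -1 = -b.1 := by rw [← mul_neg', mul_one]
      have := GP_PB (KK_GP b.2)
      change _ ∨ _ at this
      have := @nb b
      rw [e, xor_def]; tauto⟩
    have c2 := (BB.subgroupOf D.KK).card_mul_index
    have c3 := ((D.KK.subgroupOf BB).comap φ).card_mul_index
    have c4 := (D.KK.subgroupOf BB).card_mul_index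
    have c5 : Nat.card (D.KK.subgroupOf BB) = Nat.card (BB.subgroupOf D.KK) := by
      rw [← card_map_of_injective (subtype_injective _), ← card_map_of_injective
        (K := BB.subgroupOf D.KK) (subtype_injective _), subgroupOf_map_subtype,
        subgroupOf_map_subtype, inf_comm]
    rw [index_comap_of_surjective _ hφ.surj, hφ.card H.x_ne, ← c4, ← mul_assoc] at c3
    rw [e1, card_map_of_injective (subtype_injective _), Nat.eq_of_mul_eq_mul_right
      (Nat.pos_of_ne_zero index_ne_zero_of_finite) c3, c5, ← card_KK, ← c2, c1, mul_comm]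
  · exact mem_subgroupOf.2 ((show D.P x = q.1 from hx) ▸ D_ok.P_mem x)
  · refine Subtype.ext ?_
    have := congrArg Subtype.val (pow_card_eq_one' (x := (⟨q.1, hq⟩ : BP.QQ D.cl)))
    rwa [BP.card_QQ] at this
  · obtain ⟨y, hy⟩ := D_ok.norm (mem_subgroupOf.1 hs) x
    exact ⟨y, by
      change _ = s.1 * q.1 * s.1⁻¹
      rw [show q.1 = D.P x from hx.symm, hy, mul_inv_cancel_right]; rfl⟩
  · change D.P _ = t * D.z * t⁻¹
    rw [t_inv, tz]
  · have e' : t * D.z * t⁻¹ = D.z := congrArg Subtype.val e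
    rw [t_inv, tz] at e'
    exact absurd (Pu_inj D.cl e').2.2 (by decide)
  · let P : Subgroup BP.GG :=
      { carrier := {g | g ∈ K'.map BB.subtype ∨ -g ∈ K'.map BB.subtype}
        one_mem' := .inl (one_mem _)
        mul_mem' := fun {a b} ha hb => by
          rcases ha with ha | ha <;> rcases hb with hb | hb <;> have := mul_mem ha hb
          · exact .inl this
          · exact .inr (by rwa [mul_neg'])
          · exact .inr (by rwa [neg_mul'])
          · exact .inl (by rwa [← neg_mul', ← mul_neg', neg_neg'] at this)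
        inv_mem' := fun {a} ha => ha.imp inv_mem fun h => by rw [← neg_inv']; exact inv_mem h }
    rcases GP_ind (H := P) (fun k hk => (GP_PB (KK_GP hk)).imp (fun h => ⟨⟨k, h⟩, k1 hk, rfl⟩)
      fun h => ⟨⟨-k, h⟩, k1 (nk hk), rfl⟩) (.inl ⟨_, k2, rfl⟩) (BB_le b.2) with ⟨c, c1, c2⟩ | ⟨c, c1, c2⟩
    · exact (Subtype.ext c2 : c = b) ▸ c1
    · exact (nb b.2 (c2 ▸ c.2)).elim

end H10.Mon.MG
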