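import Mathlib
import Cfsg.Agent.H0.BSM

set_option autoImplicit false
set_option linter.all false

namespace H10.Mon.MG

open Subgroup

variable {M G : Type*} [Group M] [Group G] {x y γ : M} {p : ZMod 2 → C → M}
  {eO eD s0 : G0} {t : G} {ι : M → G}

/-- The image of the part of `R` orthogonal to `c`. -/
def Em.RR (E : Em x t ι) (O : One x y p) (c : C) : Subgroup G where
  carrier := {g | ∃ s e, pl e c0.1 = 0 ∧ pl e c = 0 ∧ g = ι (p s e)}
  one_mem' := ⟨0, 0, pl_zero' _, pl_zero' _, by rw [O.s.zero, E.one]⟩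
  mul_mem' := by
    rintro _ _ ⟨s, e, a, b, rfl⟩ ⟨s', e', a', b', rfl⟩
    exact ⟨_, e + e', by rw [pl_add', a, a', add_zero], by rw [pl_add', b, b', add_zero],
      by rw [← E.mul (O.cm_x.2 a) (O.cm_x.2 a'), O.s.mul]⟩
  inv_mem' := by
    rintro _ ⟨s, e, a, b, rfl⟩
    exact ⟨_, e, a, b, by rw [← E.inv (O.cm_x.2 a), O.s.q_inv]⟩

theorem Em.pgR (E : Em x t ι) (O : One x y p) (c : C) : IsPGroup 2 (E.RR O c) := pg_of 2 (by
  rintro _ ⟨s, e, a, -, rfl⟩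
  rw [← E.pow (O.cm_x.2 a), O.s.q4, E.one])

theorem cm_of_conj {a b n : G} (h : n * a * n⁻¹ * b = b * (n * a * n⁻¹)) :
    n⁻¹ * b * n * a = a * (n⁻¹ * b * n) := by
  calc _ = n⁻¹ * (b * (n * a * n⁻¹)) * n := by group
    _ = _ := by rw [← h]; group

variable [Finite M] [Finite G]

theorem Em.n1 (E : Em x t ι) (O : One x y p)
    (sur : ∀ g, g * t = t * g → ∃ a, a * x = x * a ∧ ι a = g) {g : G}
    (h : g * t * g⁻¹ = ι y ∨ g * t * g⁻¹ = t * ι y) :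
    ∃ b, b * ι y = ι y * b ∧ b * t * b⁻¹ = g * t * g⁻¹ := by
  choose! ρ r1 r2 using sur
  have yt : Commute (ι y) t := E.cm O.yx
  have tt : t * t = 1 := by rw [← E.hx, ← E.mul rfl rfl, O.xx, E.one]
  have cu : ∀ {a}, a * x = x * a → a * y = y * a → Commute (g * t * g⁻¹) (ι a) := fun {a} a1 a2 => by
    have c1 : Commute (ι y) (ι a) := (E.comm O.yx a1).2 a2.symm
    have c2 : Commute t (ι a) := (E.cm a1).symm
    rcases h with h | h <;> rw [h]
    exacts [c1, c2.mul_left c1]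
  have c1 : ∀ {a}, a * x = x * a → a * y = y * a → g⁻¹ * ι a * g * t = t * (g⁻¹ * ι a * g) :=
    fun a1 a2 => cm_of_conj (cu a1 a2)
  have c2 := c1 rfl O.xy
  rw [E.hx] at c2
  have mc := @mem_centralizer_singleton_iff M _
  obtain ⟨n, n1, n2⟩ := O.big (S := centralizer {x} ⊓ centralizer {ρ (g⁻¹ * t * g)})
    (fun a ha => mc.1 ha.1) (card_dvd_of_injective (MonoidHom.mk'
      (fun a => ⟨ρ (g⁻¹ * ι a.1 * g), mc.2 (r1 _ (c1 (mc.1 a.2.1) (mc.1 a.2.2))), mc.2 (by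
        rw [← E.comm (r1 _ (c1 (mc.1 a.2.1) (mc.1 a.2.2))) (r1 _ c2),
          r2 _ (c1 (mc.1 a.2.1) (mc.1 a.2.2)), r2 _ c2]
        calc _ = g⁻¹ * (ι a.1 * t) * g := by group
          _ = _ := by rw [E.cm (mc.1 a.2.1)]; group)⟩)
      fun a b => Subtype.ext (by
        have ha := c1 (mc.1 a.2.1) (mc.1 a.2.2)
        have hb := c1 (mc.1 b.2.1) (mc.1 b.2.2)
        have hc := c1 (mc.1 (a * b).2.1) (mc.1 (a * b).2.2)
        change ρ _ = ρ _ * ρ _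
        refine E.inj (r1 _ hc) (cm_mul (r1 _ ha) (r1 _ hb)) ?_
        rw [E.mul (r1 _ ha) (r1 _ hb), r2 _ ha, r2 _ hb, r2 _ hc, coe_mul,
          E.mul (mc.1 a.2.1) (mc.1 b.2.1)]
        group))
      fun a b e => Subtype.ext (E.inj (mc.1 a.2.1) (mc.1 b.2.1) (by
        have := congrArg (fun z => ι z.1) e
        simp only [MonoidHom.mk'_apply] at this
        rw [r2 _ (c1 (mc.1 a.2.1) (mc.1 a.2.2)), r2 _ (c1 (mc.1 b.2.1) (mc.1 b.2.2))] at this
        simpa using this)))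
  have bt : g * ι n * t * (g * ι n)⁻¹ = g * t * g⁻¹ := by
    rw [mul_assoc g, E.cm n1]; group
  have bv : g * ι n * ι (n⁻¹ * ρ (g⁻¹ * t * g) * n) * (g * ι n)⁻¹ = t := by
    rw [E.mul (cm_mul (cm_inv n1) (r1 _ c2)) n1, E.mul (cm_inv n1) (r1 _ c2), E.inv n1, r2 _ c2]
    group
  have t1 : t ≠ 1 := fun e => O.x_ne ((E.eq_one rfl).1 (E.hx.trans e))
  have ut : g * t * g⁻¹ ≠ t := fun e => by
    rcases h with h | h <;> rw [h] at e
    · exact O.y_ne_x (E.inj O.yx rfl (e.trans E.hx.symm))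
    · exact O.s.y_ne ((E.eq_one O.yx).1 (by simpa using e))
  rw [← bt] at h cu ut ⊢
  have hv := O.cenR (u := n⁻¹ * ρ (g⁻¹ * t * g) * n) fun s c hc => cm_of_conj (mc.1 (n2 s c hc).2)
  generalize n⁻¹ * ρ (g⁻¹ * t * g) * n = v at hv bv
  generalize g * ι n = b at h cu ut bv ⊢
  have hv' : v = y ∨ v = y * x := by
    rcases hv with rfl | e | rfl | e
    exacts [(t1 (by rw [← bv, E.one]; group)).elim, .inl e, (ut (E.hx ▸ bv)).elim, .inr e]
  have c3 : ∀ {a}, a * x = x * a → a * y = y * a → b * ι a * b⁻¹ * t = t * (b * ι a * b⁻¹) :=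
    fun {a} a1 a2 => by
      rw [← bv, conj_mul, conj_mul]
      rcases hv' with rfl | rfl
      exacts [by rw [(E.comm a1 O.yx).2 a2],
        by rw [(E.comm a1 (cm_mul O.yx rfl)).2 (cm_mul a2.symm a1.symm).symm]]
  have B : AutC x y fun a => ρ (b * ι a * b⁻¹) := by
    refine ⟨fun {a a'} a1 a2 b1 b2 => ?_, fun {a} a1 a2 => ⟨r1 _ (c3 a1 a2), ?_⟩, fun {a} a1 a2 e => ?_⟩
    · have hc := c3 (cm_mul a1 b1) (cm_mul a2 b2)
      refine E.inj (r1 _ hc) (cm_mul (r1 _ (c3 a1 a2)) (r1 _ (c3 b1 b2))) ?_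
      rw [E.mul (r1 _ (c3 a1 a2)) (r1 _ (c3 b1 b2)), r2 _ (c3 a1 a2), r2 _ (c3 b1 b2), r2 _ hc,
        E.mul a1 b1, conj_mul]
    · rw [← E.comm (r1 _ (c3 a1 a2)) O.yx, r2 _ (c3 a1 a2)]
      have c4 : Commute (b * ι a * b⁻¹) (b * t * b⁻¹) := by
        show _ * _ = _ * _; rw [conj_mul, conj_mul, E.cm a1]
      have c5 : Commute (b * ι a * b⁻¹) t := c3 a1 a2
      rcases h with h | h <;> rw [h] at c4
      · exact c4
      · simpa [← mul_assoc, tt] using (c5.mul_right c4).eq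
    · have := r2 _ (c3 a1 a2)
      rw [e, E.one, eq_comm, conj_eq_one_iff] at this
      exact (E.eq_one a1).1 this
  have := r2 _ (c3 O.yx rfl)
  rw [(O.aut_y B).1] at this
  exact ⟨b, mul_inv_eq_iff_eq_mul.1 this.symm, rfl⟩

theorem Em.fus (E : Em x t ι) (H : Two x y p γ) (L : LF eO eD s0)
    (sur : ∀ g, g * t = t * g → ∃ a, a * x = x * a ∧ ι a = g) {g : G} (h1 : g * t * g⁻¹ ≠ t)
    (h2 : g * t * g⁻¹ * t = t * (g * t * g⁻¹)) : IsConj t (ι y) ∨ IsConj t (ι (y * x)) := by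
  have O := H.one
  have tt : t * t = 1 := by rw [← E.hx, ← E.mul rfl rfl, O.xx, E.one]
  have t1 : t ≠ 1 := fun e => O.x_ne ((E.eq_one rfl).1 (E.hx.trans e))
  obtain ⟨a, a1, a2⟩ := sur _ h2
  obtain ⟨m, s, c, m1, m2⟩ := H.mf L a1 ((E.eq_one (cm_mul a1 a1)).1 (by
    rw [E.mul a1 a1, a2, conj_mul, tt]; group))
  have hd : ι m * g * t * (ι m * g)⁻¹ = ι (p s c) := by rw [← m2, E.conj m1 a1, a2]; group
  have hn : ι (p s c) ≠ t := fun e => h1 (by
    rw [← m2, E.conj m1 a1, a2, mul_inv_eq_iff_eq_mul, ← E.cm m1] at e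
    exact mul_left_cancel e)
  have c1 : pl c c0.1 = 0 := O.cm_x.1 (m2 ▸ cm_conj m1 a1)
  have cx := O.cm_x (t := s).2 c1
  have c2 : bb c c = 0 := H.bb_of (s := s) ((E.eq_one (cm_mul cx cx)).1 (by
    rw [E.mul cx cx, ← hd, conj_mul, tt]; group))
  generalize ι m * g = g at hd
  have cj : ∀ {u}, (∃ a, a * x = x * a ∧ a * p s c * a⁻¹ = u) → IsConj t (ι u) := by
    rintro _ ⟨a, a1, rfl⟩
    rw [E.conj a1 cx]
    exact (cj_of hd).trans (cj_of rfl)
  by_contra! no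
  have n0 : c ≠ 0 := by
    rintro rfl
    rcases H.s.q0 s with e | e <;> rw [e] at hd
    exacts [t1 (conj_eq_one_iff.1 (hd.trans E.one)), no.1 (cj_of hd)]
  have n1 : c ≠ c0.1 := by
    rintro rfl
    rcases z2 s with rfl | rfl
    exacts [hn (O.hx ▸ E.hx), no.2 (cj_of (O.p1 ▸ hd))]
  rcases H.fusR L s c1 c2 n0 n1 with e | e | ⟨-, -, e⟩
  · exact no.2 (cj e.2)
  · exact no.1 (cj e.2)
  have mc := @mem_centralizer_singleton_iff G _
  have tQ : ∀ c', pl c0.1 c' = 0 → t ∈ E.RR O c' := fun c' h =>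
    ⟨0, c0.1, pl_self _, h, by rw [O.hx, E.hx]⟩
  have yx := cm_mul O.yx (rfl : x * x = x * x)
  obtain ⟨n, n2, n3⟩ := odd_idx (Q := E.RR O c)
    (H := centralizer {t} ⊓ centralizer {ι y} ⊓ centralizer {ι (p s c)}) (L := centralizer {ι (p s c)})
    (E.pgR O c) (by
      rintro _ ⟨r, f, f1, f2, rfl⟩
      have := O.cm_x (t := r).2 f1
      exact ⟨⟨mc.2 (E.cm this), mc.2 ((E.comm this O.yx).2 (H.s.cm _ _))⟩,
        mc.2 ((E.comm this cx).2 (H.s.cm_iff.2 f2))⟩) inf_le_right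
    (fun n hn T t1 t2 t3 => by
      have k : ∀ {u}, u * x = x * u → u ≠ 1 → ¬ IsConj t (ι u) → (∀ τ ∈ T, τ * ι u = ι u * τ) →
          n⁻¹ * ι u * n = ι y ∨ n⁻¹ * ι u * n = ι (y * x) := fun {u} u1 u2 u3 u4 => by
        have k1 : ∀ τ ∈ E.RR O c, n⁻¹ * ι u * n * τ = τ * (n⁻¹ * ι u * n) := fun τ hτ =>
          cm_of_conj (u4 _ (t3 _ (t1 hτ)))
        obtain ⟨w, w1, w2⟩ := sur _ (k1 _ (tQ c (by rw [pl_comm, c1])))
        have u5 : ¬ IsConj t (ι w) := fun h => u3 (h.trans (cj_of (a := n) (by rw [w2]; group)))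
        obtain ⟨r, f, rfl, f1⟩ := O.cenU L (u := w) c1 fun r f f1 f2 =>
          (E.comm w1 (O.cm_x.2 f1)).1 (w2 ▸ k1 _ ⟨r, f, f1, f2, rfl⟩)
        rw [← w2]
        rcases f1 with rfl | rfl | rfl | rfl
        · rcases H.s.q0 r with e | e <;> rw [e] at w2 ⊢
          · exact (u2 ((E.eq_one u1).1 (by
              rw [E.one, eq_comm, mul_assoc, inv_mul_eq_one] at w2
              simpa using w2))).elim
          · exact .inl rfl
        · rcases z2 r with rfl | rfl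
          · exact (u5 (by rw [O.hx, E.hx])).elim
          · exact .inr (by rw [O.p1])
        · exact (u5 (cj (e r).1)).elim
        · exact (u5 (cj (add_comm c _ ▸ (e r).2))).elim
      have k1 := k O.yx H.s.y_ne no.1 fun τ hτ => mc.1 (t2 hτ).1.2
      have k2 := k yx (fun e => O.y_ne_x (by
        rw [← mul_one y, ← H.xx, ← mul_assoc, e, one_mul])) no.2 fun τ hτ => by
          rw [E.mul O.yx rfl, E.hx]
          exact (show Commute τ _ from mc.1 (t2 hτ).1.2).mul_right (mc.1 (t2 hτ).1.1)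
      have e1 : ι y * ι (y * x) = t := by rw [← E.mul O.yx yx, ← mul_assoc, H.s.yy, one_mul, E.hx]
      have e2 : ι (y * x) * ι y = t := by
        rw [← E.mul yx O.yx, mul_assoc, O.xy, ← mul_assoc, H.s.yy, one_mul, E.hx]
      have ne : n⁻¹ * ι y * n ≠ n⁻¹ * ι (y * x) * n := fun e =>
        O.y_ne_yx (E.inj O.yx yx (by simpa using e))
      have e3 : n⁻¹ * t * n = n⁻¹ * ι y * n * (n⁻¹ * ι (y * x) * n) := by rw [← e1]; group
      have nt : n * t = t * n := by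
        have : n⁻¹ * t * n = t := by
          rcases k1 with a | a <;> rcases k2 with b | b
          exacts [(ne (a.trans b.symm)).elim, by rw [e3, a, b, e1], by rw [e3, a, b, e2],
            (ne (a.trans b.symm)).elim]
        conv_lhs => rw [← this]
        group
      obtain ⟨w, w1, rfl⟩ := sur n nt
      have e4 : (ι w)⁻¹ * ι y * ι w = ι (w⁻¹ * y * w⁻¹⁻¹) := by
        rw [E.conj (cm_inv w1) O.yx, E.inv w1, inv_inv]
      have cw := cm_conj (cm_inv w1) O.yx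
      rw [e4] at k1
      have := O.eq_y (u := w⁻¹ * y * w⁻¹⁻¹) (cj_of rfl)
        (k1.elim (fun a => .inr (.inl (E.inj cw O.yx a))) fun a => .inr (.inr (.inr (E.inj cw yx a))))
      exact ⟨⟨mc.2 nt, mc.2 ((E.comm w1 O.yx).2 (by
        simpa using cm_inv (mul_inv_eq_iff_eq_mul.1 this)))⟩, hn⟩)
    ((E.pgR O 0).map (MulAut.conj g).toMonoidHom) (by
      rintro _ ⟨_, ⟨r, f, f1, -, rfl⟩, rfl⟩
      refine mc.2 ?_
      change g * _ * g⁻¹ * _ = _ * (g * _ * g⁻¹)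
      rw [← hd, conj_mul, conj_mul, E.cm (O.cm_x.2 f1)])
  have k1 : ∀ τ ∈ E.RR O 0, (n * g)⁻¹ * t * (n * g) * τ = τ * ((n * g)⁻¹ * t * (n * g)) := fun τ hτ =>
    cm_of_conj (by simpa [mul_assoc] using mc.1 (n3 _ ⟨τ, hτ, rfl⟩).1.1)
  obtain ⟨w, w1, w2⟩ := sur _ (k1 _ (tQ 0 (pl_zero _)))
  have cw : IsConj t (ι w) := cj_of (a := (n * g)⁻¹) (by rw [w2, inv_inv])
  rcases O.cenR (u := w) fun r f f1 => (E.comm w1 (O.cm_x.2 f1)).1 (w2 ▸ k1 _ ⟨r, f, f1, pl_zero _, rfl⟩)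
    with rfl | rfl | rfl | rfl
  · exact t1 (isConj_one_left.1 (E.one ▸ cw))
  · exact no.1 cw
  · refine hn ?_
    rw [← mul_inv_eq_iff_eq_mul.2 (mc.1 n2), ← hd]
    rw [E.hx] at w2
    conv_lhs => rw [w2]
    group
  · exact no.2 cw

theorem Em.fr (E : Em x t ι) (H : Two x y p γ) (L : LF eO eD s0)
    (sur : ∀ g, g * t = t * g → ∃ a, a * x = x * a ∧ ι a = g) {g : G} (h1 : g * t * g⁻¹ ≠ t)
    (h2 : g * t * g⁻¹ * t = t * (g * t * g⁻¹)) : Fr x y t ι := by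
  have O := H.one
  have nc : ¬ IsConj t (ι y) := fun h => by
    obtain ⟨g, hg⟩ := isConj_iff.1 h
    obtain ⟨b, b1, b2⟩ := E.n1 O sur (.inl hg)
    rw [hg, mul_inv_eq_iff_eq_mul, ← b1] at b2
    exact O.y_ne_x (E.inj O.yx rfl ((mul_left_cancel b2).symm.trans E.hx.symm))
  obtain ⟨g, hg⟩ := isConj_iff.1 ((E.fus H L sur h1 h2).resolve_left nc)
  rw [E.mul O.yx rfl, E.hx, E.cm O.yx] at hg
  exact ⟨E, sur, nc, hg ▸ E.n1 O sur (.inr hg)⟩

end H10.Mon.MG
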