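import Mathlib
import Cfsg.Agent.H2.MinNormal
import Cfsg.Agent.H0.BSK2

set_option autoImplicit false
set_option linter.all false

namespace H10.Mon.MG.KR

open Subgroup

variable {M G : Type*} [Group M] [Group G] {x y γ : M} {p : ZMod 2 → C → M}
  {eO eD s0 : G0} {t : G} {ι : M → G} {K : Subgroup G}

theorem ex_pair (d e : C) : ∃ a b, pl a d = 0 ∧ pl a e = 0 ∧ pl b d = 0 ∧ pl b e = 0 ∧ pl a b = 1 := by
  classical
  by_contra! hn
  have h1 := card_perp ⊤ d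
  have h2 := card_perp (PerpC ⊤ d) e
  have h3 := Nat.card_le_card_of_injective (fun c : PerpC (PerpC ⊤ d) e =>
    (⟨c.1, by simpa using perp2 (c := c.1) fun a a1 a2 =>
      (z2 _).resolve_right (hn a c a1 a2 c.2.1.2 c.2.2)⟩ : ({0, d, e, d + e} : Finset C)))
    fun a b h => Subtype.ext (Subtype.mk.inj h)
  rw [AddSubgroup.card_top, card_C] at h1
  rw [Nat.card_eq_fintype_card (α := ({0, d, e, d + e} : Finset C)), Fintype.card_coe] at h3
  have := Finset.card_le_four (a := (0 : C)) (b := d) (c := e) (d := d + e)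
  omega

theorem ex_u [Finite G] {A Y Q : Subgroup G} {d j : G} (dd : d * d = 1) (hd : d ∈ A)
    (cd : ∀ a ∈ A, a * d = d * a) (nY : ∀ a ∈ A, ∀ u ∈ Y, a * u * a⁻¹ ∈ Y) (hQ : IsPGroup 2 Q)
    (QA : Q ≤ A) (j1 : j ∈ A) (j2 : j ∈ Y) (j3 : j ≠ 1) (j4 : j ≠ d) (j5 : j ^ 2 ^ 2 = 1) :
    ∃ u ∈ A, u ∈ Y ∧ u ≠ 1 ∧ u ≠ d ∧ (u * u = 1 ∨ u * u = d) ∧
      ∀ r ∈ Q, r * u * r⁻¹ = u ∨ r * u * r⁻¹ = u * d := by
  haveI : Fact (Nat.Prime 2) := ⟨Nat.prime_two⟩
  obtain ⟨P, hP, QP⟩ := H22.exists_sylIn QA hQ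
  obtain ⟨n, n1, n2⟩ := hP.exists_cj_le (zpowers_le.2 j1) (pg_of 2 (by
    rintro _ ⟨i, rfl⟩
    rw [← zpow_natCast, ← zpow_mul, mul_comm, zpow_mul, zpow_natCast, j5, one_zpow]))
  have cj : ∀ a ∈ A, a * d * a⁻¹ = d := fun a ha => mul_inv_eq_iff_eq_mul.2 (cd a ha)
  haveI := hP.isPGroup.isNilpotent
  haveI : ((zpowers d).subgroupOf P).Normal := ⟨fun u hu a => by
    rw [mem_subgroupOf] at hu ⊢
    change a.1 * u.1 * a.1⁻¹ ∈ _
    rcases mem_zpowers_invol dd hu with e | e <;> rw [e]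
    exacts [by simp, by rw [cj _ (hP.le a.2)]; exact mem_zpowers d]⟩
  haveI : (Y.subgroupOf P).Normal := ⟨fun u hu a => nY a (hP.le a.2) u hu⟩
  obtain ⟨u, u1, u2, u3⟩ := H2.exists_mem_central_mod (N := (zpowers d).subgroupOf P)
    (C := Y.subgroupOf P) fun h => by
      rcases mem_zpowers_invol dd (h (x := ⟨_, H22.cj_le_iff.1 n2 j (mem_zpowers j)⟩) (nY n n1 j j2))
        with e | e
      · exact j3 (conj_eq_one_iff.1 e)
      · exact j4 (by simpa using e.trans (cj n n1).symm)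
  have u4 : ∀ r ∈ Q, r * u.1 * r⁻¹ = u ∨ r * u.1 * r⁻¹ = u * d := fun r hr => by
    have := mem_zpowers_invol dd (u3 (commutator_mem_commutator (inv_mem (mem_zpowers u))
      (mem_top ⟨r, QP hr⟩)))
    change u.1⁻¹ * r * u.1⁻¹⁻¹ * r⁻¹ = 1 ∨ u.1⁻¹ * r * u.1⁻¹⁻¹ * r⁻¹ = d at this
    refine this.imp (fun e => ?_) fun e => ?_
    exacts [by rw [← mul_one u.1]; nth_rewrite 2 [← e]; group, by rw [← e]; group]
  obtain ⟨m, hm⟩ := hP.isPGroup u
  replace hm : u.1 ^ 2 ^ m = 1 := congrArg Subtype.val hm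
  have u5 := hP.le u.2
  replace u1 : u.1 ∈ Y := u1
  replace u2 : u.1 ∉ zpowers d := u2
  generalize u.1 = u at u1 u2 u4 u5 hm
  induction m generalizing u with
  | zero => exact (u2 (by simp_all)).elim
  | succ m ih =>
    by_cases h : u * u ∈ zpowers d
    · exact ⟨u, u5, u1, fun e => u2 (e ▸ one_mem _), fun e => u2 (e ▸ mem_zpowers _),
        mem_zpowers_invol dd h, u4⟩
    · refine ih _ (mul_mem u1 u1) h (fun r hr => .inl ?_) (mul_mem u5 u5)
        (by rwa [← pow_two, ← pow_mul, ← pow_succ'])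
      rw [← conj_mul]
      rcases u4 r hr with e | e <;> rw [e]
      rw [(show Commute u d from cd u u5).symm.mul_mul_mul_comm, dd, mul_one]

variable (S : St x t ι K)
include S

theorem kc {k : G} (hk : k ∈ K) {a : M} (ha : a * x = x * a) : ι a * k = k * ι a := (S.memK k).1 hk a ha

theorem kt {k : G} (hk : k ∈ K) : t * k = k * t := S.hx ▸ kc S hk rfl

theorem tK : t ∈ K := (S.memK t).2 fun a ha => S.toEm.cm ha

theorem nK {u k : G} (hu : u * t = t * u) (hk : k ∈ K) : u * k * u⁻¹ ∈ K := by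
  obtain ⟨a, l, hl, a1, rfl⟩ := S.dec u hu
  have := mul_mem (mul_mem hl hk) (inv_mem hl)
  rwa [show ι a * l * k * (ι a * l)⁻¹ = ι a * (l * k * l⁻¹) * (ι a)⁻¹ by group, kc S this a1,
    mul_inv_cancel_right]

theorem mulk {a b : M} (ha : a * x = x * a) (hb : b * x = x * b) {k : G} (hk : k ∈ K) (l : G) :
    ι a * k * (ι b * l) = ι (a * b) * (k * l) := by
  rw [S.mul ha hb, mul_assoc, ← mul_assoc k, ← kc S hk hb]; group

theorem cmp (H : Two x y p γ) {a b : M} (ha : a * x = x * a) (hb : b * x = x * b) {k l : G}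
    (hk : k ∈ K) (hl : l ∈ K) (e : ι a * k = ι b * l) : a = b ∨ a = b * x := by
  have c := cm_mul (cm_inv hb) ha
  have : ι (b⁻¹ * a) ∈ K := by
    rw [S.mul (cm_inv hb) ha, S.toEm.inv hb, show ι a = ι b * l * k⁻¹ by rw [← e]; group]
    simpa [mul_assoc] using mul_mem hl (inv_mem hk)
  have := H.cenH c fun g hg => (S.toEm.comm hg c).1 (kc S this hg)
  rwa [inv_mul_eq_iff_eq_mul, inv_mul_eq_iff_eq_mul, mul_one] at this

theorem caseR [Finite M] [Finite G] (H : Two x y p γ) (L : LF eO eD s0)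
    (h : ∃ k ∈ K, k ≠ 1 ∧ k ≠ t ∧ (k * k = 1 ∨ k * k = t)) {g k : G}
    (hk : k ∈ K) {s : ZMod 2} {c : C} (h0 : pl c c0.1 = 0) (n0 : c ≠ 0)
    (n1 : c ≠ c0.1) (e : g * t * g⁻¹ = ι (p s c) * k) : False := by
  have O := H.one
  have E := S.toEm
  have tt : t * t = 1 := by rw [← E.hx, ← E.mul rfl rfl, O.xx, E.one]
  have cx := O.cm_x (t := s).2 h0
  have dt : g * t * g⁻¹ * t = t * (g * t * g⁻¹) := by
    rw [e]; exact (show Commute _ t from E.cm cx).mul_left (kt S hk).symm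
  have mc := @mem_centralizer_singleton_iff G _
  obtain ⟨j, j1, j2, j3, j4, j5⟩ : ∃ j ∈ K, j ≠ 1 ∧ j ≠ t ∧ (j * j = 1 ∨ j * j = t) ∧
      g⁻¹ * t * g * j = j * (g⁻¹ * t * g) := by
    obtain ⟨a, l, hl, a1, a2⟩ := S.dec _ (cm_of_conj dt)
    rw [a2]
    by_cases b : l = 1 ∨ l = t
    · obtain ⟨j, j1, j2, j3, j4⟩ := h
      refine ⟨j, j1, j2, j3, j4, (show Commute _ j from kc S j1 a1).mul_left ?_⟩
      rcases b with rfl | rfl
      exacts [Commute.one_left _, kt S j1]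
    · push Not at b
      refine ⟨l, hl, b.1, b.2, ?_, (show Commute _ l from kc S hl a1).mul_left rfl⟩
      have e1 : ι (a * a) * (l * l) = ι 1 * 1 := by
        rw [← mulk S a1 a1 hl, ← a2, E.one]
        calc _ = g⁻¹ * (t * t) * g := by group
          _ = _ := by rw [tt]; group
      rcases cmp S H (cm_mul a1 a1) cm_one (mul_mem hl hl) (one_mem _) e1 with f | f <;> rw [f] at e1
      · exact .inl (mul_left_cancel e1)
      · rw [one_mul, E.hx, E.one, mul_one, ← tt] at e1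
        exact .inr (mul_left_cancel e1)
  have Rd : ∀ {r f}, pl f c0.1 = 0 → (ι (p r f) * (g * t * g⁻¹) = g * t * g⁻¹ * ι (p r f) ↔ pl f c = 0) :=
    fun {r f} hf => by
      have cf := O.cm_x (t := r).2 hf
      rw [e, mul_assoc, ← kc S hk cf, ← mul_assoc, ← mul_assoc, mul_left_inj, E.comm cf cx, H.s.cm_iff]
  obtain ⟨u, ⟨u1, u2⟩, u3, u4, u5, u6, u7⟩ := ex_u (A := centralizer {t} ⊓ centralizer {g * t * g⁻¹})
    (Y := H22.cj g K) (Q := E.RR O c) (d := g * t * g⁻¹) (j := g * j * g⁻¹)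
    (by rw [conj_mul, tt]; group) ⟨mc.2 dt, mc.2 rfl⟩ (fun a ha => mc.1 ha.2)
    (fun a ha u hu => H22.mem_cj.2 (by
      have := nK S (cm_of_conj (mc.1 ha.2).symm) (H22.mem_cj.1 hu)
      simpa [mul_assoc] using this)) (E.pgR O c)
    (by
      rintro _ ⟨r, f, f1, f2, rfl⟩
      exact ⟨mc.2 (E.cm (O.cm_x.2 f1)), mc.2 ((Rd f1).2 f2)⟩)
    ⟨mc.2 (by simpa using cm_of_conj (n := g⁻¹) (by simpa using j5)),
      mc.2 (by rw [conj_mul, conj_mul, kt S j1])⟩ (H22.conj_mem_cj j1)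
    (fun e => j2 (conj_eq_one_iff.1 e)) (fun e => j3 (by simpa using e)) (by
      rw [conj_pow, show 2 ^ 2 = 2 * 2 from rfl, pow_mul, pow_two, pow_two]
      rcases j4 with e | e <;> simp [e, tt])
  obtain ⟨b, l, hl, b1, rfl⟩ := S.dec u (mc.1 u1)
  have dd : g * t * g⁻¹ * (g * t * g⁻¹) = 1 := by rw [conj_mul, tt]; group
  have ud : Commute (ι b * l) (g * t * g⁻¹) := mc.1 u2
  have fx : ∀ {a}, a * x = x * a → ι a * (ι b * l) * (ι a)⁻¹ = ι b * l → a * b = b * a := fun {a} a1 e => by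
    rwa [mul_inv_eq_iff_eq_mul, mul_assoc, ← kc S hl a1, ← mul_assoc, ← mul_assoc, mul_left_inj,
      E.comm a1 b1] at e
  have two : ∀ r ∈ E.RR O c, ∀ r' ∈ E.RR O c, r * (ι b * l) * r⁻¹ = ι b * l ∨
      r' * (ι b * l) * r'⁻¹ = ι b * l ∨ r * r' * (ι b * l) * (r * r')⁻¹ = ι b * l := fun r hr r' hr' => by
    refine (u7 r hr).imp_right fun a => (u7 r' hr').imp_right fun a' => ?_
    obtain ⟨w, f, f1, f2, rfl⟩ := hr
    calc _ = ι (p w f) * (r' * (ι b * l) * r'⁻¹) * (ι (p w f))⁻¹ := by group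
      _ = _ := by rw [a', ← conj_mul, a, mul_inv_eq_iff_eq_mul.2 ((Rd f1).2 f2), mul_assoc _ _ (_ * _), dd,
        mul_one]
  have by' : b * y = y * b := by
    obtain ⟨f, f', f1, f2, f3, f4, f5⟩ := ex_pair c0.1 c
    have : ∃ w, pl w c0.1 = 0 ∧ pl w c = 0 ∧ bb w w = 1 := by
      rcases z2 (bb f f) with a | a
      · rcases z2 (bb f' f') with a' | a'
        · exact ⟨f + f', by rw [pl_add', f1, f3, add_zero], by rw [pl_add', f2, f4, add_zero],
            by rw [bb_add_self, a, a', f5]; rfl⟩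
        · exact ⟨f', f3, f4, a'⟩
      · exact ⟨f, f1, f2, a⟩
    obtain ⟨w, w1, w2, w3⟩ := this
    have cw := O.cm_x (t := 0).2 w1
    have := two _ ⟨0, w, w1, w2, rfl⟩ _ ⟨0, w, w1, w2, rfl⟩
    rw [← or_assoc, or_self, ← E.mul cw cw, H.s.sq, w3, H.s.one] at this
    rcases this with a | a
    · have := (show Commute (p 0 w) b from fx cw a)
      have := (this.mul_left this).eq
      rw [H.s.sq, w3, H.s.one] at this
      exact this.symm
    · exact (fx O.yx a).symm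
  obtain ⟨κ, hκ⟩ := H.s.up b by'
  have b2 := cm_mul b1 b1
  have l2 := mul_mem hl hl
  have b8 : b ^ 2 ^ 3 = 1 := by
    have e1 : ι (b * b * (b * b)) * (l * l * (l * l)) = ι 1 * 1 := by
      rw [← mulk S b2 b2 l2, ← mulk S b1 b1 hl, E.one]
      rcases u6 with e | e <;> rw [e]
      rw [dd, mul_one]
    rw [show b ^ 2 ^ 3 = b * b * (b * b) * (b * b * (b * b)) by
      simp only [← pow_two, ← pow_mul]; rfl]
    rcases cmp S H (cm_mul b2 b2) cm_one (mul_mem l2 l2) (one_mem _) e1 with f | f <;> rw [f]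
    exacts [mul_one _, by rw [one_mul, H.xx]]
  have rp : ∀ n : ℕ, Rel p (b ^ n) (κ ^ n) := fun n => by
    induction n with
    | zero => simpa using Rel.one
    | succ n ih => rw [pow_succ, pow_succ]; exact ih.mul hκ
  obtain ⟨s', c', rfl⟩ := H.s.inQ hκ (fix8 L (n := 3) (fun f => by
      rw [← map_pow, (H.s.rel_uniq (rp _) (b8 ▸ Rel.one) f).2, map_one]) c0.1 c
    fun f f' f1 f2 f3 f4 => by
      have c1 := O.cm_x (t := 0).2 f1
      have c2 := O.cm_x (t := 0).2 f3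
      have := two _ ⟨0, f, f1, f2, rfl⟩ _ ⟨0, f', f3, f4, rfl⟩
      rw [← E.mul c1 c2] at this
      refine this.imp (fun a => (H.s.cm_q hκ (fx c1 a).symm).1) (Or.imp
        (fun a => (H.s.cm_q hκ (fx c2 a).symm).1) fun a => ?_)
      have := (fx (cm_mul c1 c2) a).symm
      rw [H.s.mul] at this
      exact (H.s.cm_q hκ this).1)
  have T2 : ∀ {r f m}, pl f c0.1 = 0 → m ∈ K → ι (p r f) * m ∈ H22.cj g K → ι (p r f) * m ≠ 1 →
      ι (p r f) * m * (ι (p r f) * m) = 1 → c = f ∨ c = c0.1 + f := fun {r f m} f1 m1 w1 w2 w3 => by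
    refine ((perp2 fun a a1 a2 => (Rd (r := 0) a1).1 ?_).resolve_left n0).resolve_left n1
    have ca := O.cm_x (t := 0).2 a1
    have c1 : Commute (ι (p 0 a)) (ι (p r f) * m) :=
      (show Commute _ _ from (E.comm ca (O.cm_x.2 f1)).2 (H.s.cm_iff.2 a2)).mul_right (kc S m1 ca)
    have := S.tight _ (H22.mem_cj.1 w1) (by
      calc _ = g⁻¹ * (ι (p r f) * m * (ι (p r f) * m)) * g := by group
        _ = _ := by rw [w3]; group) (fun e => w2 ((conj_eq_one_iff (a := g⁻¹)).1 (by rwa [inv_inv])))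
      (g⁻¹ * ι (p 0 a) * g) (by
        have : g⁻¹ * ι (p 0 a) * g * (g⁻¹ * (ι (p r f) * m) * g) * (g⁻¹ * ι (p 0 a) * g)⁻¹ =
          g⁻¹ * (ι (p 0 a) * (ι (p r f) * m) * (ι (p 0 a))⁻¹) * g := by group
        rw [this, c1.eq, mul_inv_cancel_right]; exact H22.mem_cj.1 w1)
    calc _ = g * (g⁻¹ * ι (p 0 a) * g * t) * g⁻¹ := by group
      _ = _ := by rw [this]; group
  have c1 := O.cm_x.1 b1
  rcases u6 with a | a
  · have k1 := T2 c1 hl u3 u4 a
    have e1 : ι (p s' c') * l * (g * t * g⁻¹) = ι (p (s' + s + bb c' c) (c' + c)) * (l * k) := by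
      rw [e, mulk S b1 cx hl, H.s.mul]
    have k2 := T2 (by rw [pl_add', c1, h0, add_zero]) (mul_mem hl hk)
      (e1 ▸ mul_mem u3 (H22.conj_mem_cj (tK S)))
      (e1 ▸ fun f => u5 (by rw [← mul_one (_ * l), ← dd, ← mul_assoc, f, one_mul]))
      (by rw [← e1, ud.symm.mul_mul_mul_comm, a, dd, mul_one])
    have k3 : c' = 0 ∨ c' = c0.1 := k2.imp (fun f => by simpa using f) fun f => by
      rw [← add_assoc, eq_comm, add_eq_right, add_eq_zero_C] at f
      exact f.symm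
    rcases k3 with rfl | rfl <;> rcases k1 with f | f
    exacts [n0 f, n1 (f.trans (add_zero _)), n1 f, n0 (f.trans (cc2 _))]
  · rw [mulk S b1 b1 hl, e, H.s.sq] at a
    rcases cmp S H (H.s.sq s' c' ▸ b2) cx l2 hk a with f | f
    · exact n0 (H.s.inj f).2.symm
    · rw [O.mul_x] at f
      exact n1 (add_eq_zero_C.1 (H.s.inj f).2.symm)

end H10.Mon.MG.KR
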