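import Mathlib
import Cfsg.Prelude.Def_Local
import Cfsg.Agent.H0.BSKR

set_option autoImplicit false
set_option linter.all false

namespace H10.Mon.MG

open Subgroup KR

variable {M G : Type*} [Group M] [Group G] [Finite M] [Finite G] {x y γ : M} {p : ZMod 2 → C → M}
  {eO eD s0 : G0} {t : G} {ι : M → G} {K : Subgroup G}

theorem St.of (H : Mod x y p γ eO eD s0) (E : Em x t ι) {L : Subgroup G}
    (hL : Cfsg.IsStandardSubgroup L) (h : ∀ g, g ∈ L ↔ ∃ a, a * x = x * a ∧ ι a = g) :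
    St x t ι (Subgroup.centralizer (L : Set G)) := by
  have mK : ∀ k, k ∈ centralizer (L : Set G) ↔ ∀ a, a * x = x * a → ι a * k = k * ι a := fun k =>
    ⟨fun hk a ha => hk _ ((h _).2 ⟨a, ha, rfl⟩), fun hk g hg => by
      obtain ⟨a, ha, rfl⟩ := (h g).1 hg
      exact hk a ha⟩
  have nL : ∀ g ∈ normalizer (L : Set G), ∃ a, ∃ k ∈ centralizer (L : Set G),
      a * x = x * a ∧ g = ι a * k := fun g hg => by
    choose! α a1 a2 using fun a (ha : a * x = x * a) =>
      (h _).1 ((mem_normalizer_iff.1 hg _).1 ((h _).2 ⟨a, ha, rfl⟩))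
    obtain ⟨n, n1, n2⟩ := H.inner (α := α) ⟨fun {a b} ha hb =>
      E.inj (a1 _ (cm_mul ha hb)) (cm_mul (a1 _ ha) (a1 _ hb)) (by
        rw [E.mul (a1 _ ha) (a1 _ hb), a2 _ ha, a2 _ hb, a2 _ (cm_mul ha hb), E.mul ha hb, conj_mul]),
      fun {a b} ha hb e => E.inj ha hb (by simpa [a2 _ ha, a2 _ hb] using congrArg ι e), rfl⟩ a1
    refine ⟨n, (ι n)⁻¹ * g, (mK _).2 fun a ha => ?_, n1, by group⟩
    have := a2 a ha
    rw [n2 a ha, E.conj n1 ha] at this
    calc _ = (ι n)⁻¹ * (ι n * ι a * (ι n)⁻¹) * g := by group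
      _ = _ := by rw [this]; group
  have ti : ∀ u ∈ centralizer (L : Set G), u * u = 1 → u ≠ 1 → ∀ g,
      g * u * g⁻¹ ∈ centralizer (L : Set G) → g ∈ normalizer (L : Set G) := fun u hu u1 u2 g hg => by
    rw [hL.2.2.2]
    by_contra hn
    refine Nat.not_even_iff_odd.2 (hL.2.1.2 g hn) (even_iff_two_dvd.2 ?_)
    rw [← orderOf_eq_prime (x := g * u * g⁻¹) (p := 2) (by rw [pow_two, conj_mul, u1]; group)
      fun e => u2 (conj_eq_one_iff.1 e)]
    exact orderOf_dvd_natCard _ ⟨hg, u, hu, rfl⟩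
  have tK : t ∈ centralizer (L : Set G) := (mK t).2 fun a ha => E.cm ha
  refine ⟨E, mK, fun g hg => nL g (ti t tK (by rw [← E.hx, ← E.mul rfl rfl, H.two.xx, E.one])
    (fun e => H.two.x_ne ((E.eq_one rfl).1 (E.hx.trans e))) g
    (by rwa [mul_inv_eq_iff_eq_mul.2 hg])), fun u hu u1 u2 g hg => ?_⟩
  obtain ⟨a, k, hk, ha, rfl⟩ := nL g (ti u hu u1 u2 g hg)
  exact (show Commute _ t from E.cm ha).mul_left (E.hx ▸ ((mK k).1 hk x rfl).symm)

/-- `m > 2`: the order of `K` is divisible by 4. -/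
def Big (t : G) (K : Subgroup G) : Prop := ∃ k ∈ K, k ≠ 1 ∧ k ≠ t ∧ (k * k = 1 ∨ k * k = t)

theorem St.sur_of (S : St x t ι K) (tt : orderOf t = 2) (hb : Cfsg.centralizerPPrimeCore 2 t = ⊥)
    (h : ¬ Big t K) {g : G} (hg : g * t = t * g) : ∃ a, a * x = x * a ∧ ι a = g := by
  have t2 : t * t = 1 := by rw [← pow_two, ← tt, pow_orderOf_eq_one]
  haveI : ((zpowers t).subgroupOf K).Normal := ⟨fun u hu a => by
    rw [mem_subgroupOf] at hu ⊢
    change a.1 * u.1 * a.1⁻¹ ∈ _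
    rcases mem_zpowers_invol t2 hu with e | e <;> rw [e]
    exacts [by simp, by rw [← kt S a.2, mul_inv_cancel_right]; exact mem_zpowers t]⟩
  have od : ¬ 2 ∣ ((zpowers t).subgroupOf K).index := fun hd => by
    obtain ⟨q, hq⟩ := exists_prime_orderOf_dvd_card' (G := K ⧸ (zpowers t).subgroupOf K) 2 hd
    obtain ⟨k, rfl⟩ := QuotientGroup.mk_surjective q
    have k1 : k.1 ∉ zpowers t := fun e => by
      rw [(QuotientGroup.eq_one_iff k).2 e, orderOf_one] at hq
      omega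
    have k2 := pow_orderOf_eq_one (k : K ⧸ (zpowers t).subgroupOf K)
    rw [hq, pow_two, ← QuotientGroup.mk_mul, QuotientGroup.eq_one_iff] at k2
    exact h ⟨k, k.2, fun e => k1 (e ▸ one_mem _), fun e => k1 (e ▸ mem_zpowers _),
      mem_zpowers_invol t2 k2⟩
  obtain ⟨O, hO⟩ := exists_right_complement'_of_coprime (N := (zpowers t).subgroupOf K) (by
    rw [Nat.card_congr (subgroupOfEquivOfLe (zpowers_le.2 (tK S))).toEquiv, Nat.card_zpowers, tt]
    exact (Nat.Prime.coprime_iff_not_dvd Nat.prime_two).2 od)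
  rw [hO.symm.index_eq_card] at od
  have dk : ∀ k ∈ K, k ∈ O.map K.subtype ∨ t * k ∈ O.map K.subtype := fun k hk => by
    obtain ⟨⟨z, o⟩, e⟩ := hO.2 ⟨k, hk⟩
    replace e : z.1.1 * o.1.1 = k := congrArg Subtype.val e
    refine (mem_zpowers_invol t2 z.2).imp (fun f => ⟨o, o.2, ?_⟩) fun f => ⟨o, o.2, ?_⟩ <;>
      change z.1.1 = _ at f
    exacts [by rwa [f, one_mul] at e, by rw [← e, f, ← mul_assoc, t2, one_mul]; rfl]
  have OK := map_subtype_le O
  rw [← card_map_of_injective (f := K.subtype) (subtype_injective _)] at od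
  generalize O.map K.subtype = O at dk OK od
  have OC : O ≤ centralizer {t} := fun o ho => mem_centralizer_singleton_iff.2 (kt S (OK ho)).symm
  have pw : ∀ o ∈ O, o ^ Nat.card O = 1 := fun o ho =>
    congrArg Subtype.val (pow_card_eq_one' (x := (⟨o, ho⟩ : O)))
  have hN : (O.subgroupOf (centralizer {t})).Normal := ⟨fun o ho a => by
    have a1 := nK S (mem_centralizer_singleton_iff.1 a.2) (OK ho)
    refine (dk _ a1).resolve_right fun e => od ?_
    have := pw _ e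
    rw [(show Commute t _ from kt S a1).mul_pow, conj_pow, pw _ ho, mul_one, mul_inv_cancel,
      mul_one] at this
    exact tt ▸ orderOf_dvd_of_pow_eq_one this⟩
  have Ob : ∀ o ∈ O, o = 1 := fun o ho => mem_bot.1 (hb ▸ ⟨⟨o, OC ho⟩, H2.le_pPrimeCore hN (by
    rw [Nat.card_congr (subgroupOfEquivOfLe OC).toEquiv]
    exact ((Nat.Prime.coprime_iff_not_dvd Nat.prime_two).2 od).symm) ho, rfl⟩)
  obtain ⟨a, k, hk, ha, rfl⟩ := S.dec g hg
  rcases dk k hk with e | e
  · exact ⟨a, ha, by rw [Ob k e, mul_one]⟩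
  · exact ⟨a * x, cm_mul ha rfl, by
      rw [S.mul ha rfl, S.hx, ← mul_one k, ← t2, ← mul_assoc k, ← kt S hk, Ob _ e, one_mul]⟩

theorem St.sur' (S : St x t ι K) (H : Two x y p γ) (L : LF eO eD s0)
    (hb : Cfsg.centralizerPPrimeCore 2 t = ⊥)
    (cY : Big t K → ∀ {g k : G}, k ∈ K → g * t * g⁻¹ = ι y * k → False)
    (cC : (∀ g a, ∀ k ∈ K, a * x = x * a → g * t * g⁻¹ = ι a * k → g * t * g⁻¹ ≠ t → a * a = x) → False)
    {u : G} (hu : u * t = t * u) : ∃ a, a * x = x * a ∧ ι a = u := by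
  have E := S.toEm
  have O := H.one
  have tt : t * t = 1 := by rw [← E.hx, ← E.mul rfl rfl, O.xx, E.one]
  have t1 : t ≠ 1 := fun e => O.x_ne ((E.eq_one rfl).1 (E.hx.trans e))
  refine S.sur_of (orderOf_eq_prime (by rw [pow_two, tt]) t1) hb (fun h => cC fun g a k hk ha e ne => ?_) hu
  have := cmp S H (cm_mul ha ha) cm_one (mul_mem hk hk) (one_mem K) (by
    rw [← mulk S ha ha hk, ← e, conj_mul, tt, E.one]; group)
  rw [one_mul] at this
  refine this.resolve_left fun a2 => ?_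
  obtain ⟨n, s, c, n1, n2⟩ := H.mf L ha a2
  have e1 : ι n * g * t * (ι n * g)⁻¹ = ι (p s c) * k := by
    rw [← n2, E.conj n1 ha, ← E.inv n1, mul_assoc (_ * _) (ι _), kc S hk (cm_inv n1), E.inv n1,
      ← mul_assoc, mul_assoc (ι n), mul_assoc (ι n), mul_assoc (ι n) (ι a), ← e]
    group
  have nK : ι (p s c) * k ∉ K := fun f => by
    have := S.tight t (tK S) tt t1 _ (e1 ▸ f)
    rw [mul_assoc, ← mul_assoc t, ← E.cm n1, mul_assoc, mul_right_inj] at this
    exact ne (mul_inv_eq_iff_eq_mul.2 this)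
  by_cases n0 : c = 0
  · subst n0
    rcases H.s.q0 s with f | f <;> rw [f] at e1 nK
    exacts [nK (by rwa [E.one, one_mul]), cY h hk e1]
  by_cases n1' : c = c0.1
  · subst n1'
    rcases z2 s with rfl | rfl
    · exact nK (by rw [O.hx, E.hx]; exact mul_mem (tK S) hk)
    · rw [O.p1, E.mul O.yx rfl, E.hx, mul_assoc (ι y)] at e1
      exact cY h (mul_mem (tK S) hk) e1
  exact caseR S H L h hk (O.cm_x.1 (n2 ▸ cm_conj n1 ha)) n0 n1' e1

end H10.Mon.MG
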