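import Mathlib
import Cfsg.Agent.H0.BSK0
import Cfsg.Agent.H9.BKC

set_option autoImplicit false
set_option linter.all false

namespace H10.Mon.MG

variable {M G : Type*} [Group M] [Group G] [Finite M] [Finite G] {x y γ : M} {p : ZMod 2 → C → M}
  {eO eD s0 : G0} {t : G} {ι : M → G} {K : Subgroup G}

theorem St.sur (S : St x t ι K) (H : Two x y p γ) (L : LF eO eD s0)
    (hb : Cfsg.centralizerPPrimeCore 2 t = ⊥) {g : G} (h1 : g * t * g⁻¹ ≠ t)
    (h2 : g * t * g⁻¹ * t = t * (g * t * g⁻¹)) {u : G} (hu : u * t = t * u) :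
    ∃ a, a * x = x * a ∧ ι a = u :=
  S.sur' H L hb (fun h _ _ hk e => S.caseY' H h hk e) (fun all => S.caseC' H L all h1 h2) hu

end H10.Mon.MG
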