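import Mathlib
import Cfsg.Agent.H0.BSM

set_option autoImplicit false
set_option linter.all false

namespace H10.Mon.MG

variable {M G : Type*} [Group M] [Group G] [Finite M] {x y γ : M} {p : ZMod 2 → C → M}
  {eO eD s0 : G0} {t : G} {ι : M → G} {q : ZMod 2 → C → G}

theorem One.conj_x (O : One x y p) (s : ZMod 2) {w : C} (h : pl w c0.1 = 1) :
    p s w * x * (p s w)⁻¹ = y * x := by
  rw [← O.p1, ← O.hx, O.s.cj, h, zero_add]

theorem One.conjQ (O : One x y p) (s : ZMod 2) (w : C) {g : M} (g1 : g * x = x * g)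
    (g2 : g * y = y * g) : p s w * g * (p s w)⁻¹ * x = x * (p s w * g * (p s w)⁻¹) := by
  rcases z2 (pl w c0.1) with h | h
  · exact cm_conj (O.cm_x.2 h) g1
  have h1 : Commute (p s w * g * (p s w)⁻¹) (p s w * x * (p s w)⁻¹) := by
    rw [Commute, SemiconjBy, conj_mul, conj_mul, g1]
  have := (show Commute _ y from cm_conj (O.s.cm s w) g2).mul_right h1
  rwa [O.conj_x s h, ← mul_assoc y, O.s.yy, one_mul] at this

theorem Fr.A_yx (F : Fr x y t ι) (O : One x y p) : IsConj t (ι (y * x)) := by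
  obtain ⟨b, -, b2⟩ := F.fz
  rw [F.mul O.yx rfl, F.hx, F.cm O.yx]
  exact cj_of b2

/-- An involution of `G` that acts on `C(t, ι y)` as `p 0 w`. -/
theorem Fr.exists_b (F : Fr x y t ι) (H : Two x y p γ) (L : LF eO eD s0) {w : C}
    (w1 : pl w c0.1 = 1) (w2 : bb w w = 0) : ∃ b, b * b = 1 ∧ ∀ g, g * x = x * g → g * y = y * g →
      b * ι g * b⁻¹ = ι (p 0 w * g * (p 0 w)⁻¹) := by
  have O := H.one
  have E := F.toEm
  obtain ⟨b, b1, b2⟩ := F.fz
  have yy : ι y * ι y = 1 := by rw [← E.mul O.yx O.yx, H.s.yy, E.one]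
  have b3 : b * (t * ι y) * b⁻¹ = t := by rw [cj_mul b1, b2, mul_assoc, yy, mul_one]
  choose! β h1 h2 using fun a (h1 : a * x = x * a) (h2 : a * y = y * a) =>
    F.sur (b * ι a * b⁻¹) (by
      have : Commute (ι a) (t * ι y) :=
        (show Commute (ι a) t from E.cm h1).mul_right ((E.comm h1 O.yx).2 h2)
      conv_lhs => rw [← b3]
      conv_rhs => rw [← b3]
      rw [conj_mul, conj_mul, this.eq])
  have B : AutC x y β := ⟨fun a1 a2 c1 c2 => E.inj (h1 _ (cm_mul a1 c1) (cm_mul a2 c2))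
      (cm_mul (h1 _ a1 a2) (h1 _ c1 c2)) (by
        rw [E.mul (h1 _ a1 a2) (h1 _ c1 c2), h2 _ (cm_mul a1 c1) (cm_mul a2 c2), h2 _ a1 a2,
          h2 _ c1 c2, E.mul a1 c1, conj_mul]),
    fun a1 a2 => ⟨h1 _ a1 a2, (E.comm (h1 _ a1 a2) O.yx).1 (by
      rw [h2 _ a1 a2]; exact cm_conj b1 ((E.comm a1 O.yx).2 a2))⟩,
    fun a1 a2 e => (E.eq_one a1).1 (by
      rw [← conj_eq_one_iff (a := b), ← h2 _ a1 a2, e, E.one])⟩
  have bx : β x = y * x := E.inj (h1 _ rfl O.xy) (cm_mul O.yx rfl) (by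
    rw [h2 _ rfl O.xy, E.mul O.yx rfl, E.hx, b2, E.cm O.yx])
  obtain ⟨a, d, a1, a2, a3⟩ := O.aut_rig B fun s c r d hc e => by
    obtain ⟨a, a1, a2⟩ := H.fusA L s hc
    have cx := O.cm_x (t := s).2 hc.2.1
    have cy := H.s.cm s c
    have k1 := h2 _ (cm_mul cx rfl) (cm_mul cy O.xy)
    rw [B.mul cx cy rfl O.xy, e, bx, ← mul_assoc, H.s.mul_y, O.mul_x] at k1
    refine H.cA_of' L B (A := fun g => g * x = x * g ∧ IsConj t (ι g)) (D := fun g => IsConj (ι y) (ι g))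
      (fun a g a1 h => ⟨cm_conj a1 h.1, h.2.trans (cj_of (E.conj a1 h.1).symm)⟩)
      (fun g h h' => F.nc (h.2.trans h'.symm)) (IsConj.refl _) hc e
      ⟨e ▸ h1 _ cx cy, (F.A_yx O).trans ((cj_of ((E.conj a1 cx).symm.trans (congrArg ι a2))).symm.trans
        (cj_of (by rw [← e, h2 _ cx cy])))⟩
      ((cj_of (a := ι a) (by
        rw [← E.conj a1 (cm_mul cx rfl), cj_mul a1, a2, mul_assoc, O.xx, mul_one])).symm.trans
        (cj_of k1.symm))
  have hd : pl d c0.1 = 1 := (z2 _).resolve_left fun hd => by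
    have := a3 x rfl O.xy
    rw [bx, cm_mul a1 (O.cm_x.2 hd), mul_inv_cancel_right, mul_eq_right] at this
    exact H.s.y_ne this
  have ww : p 0 w * p 0 w = 1 := H.s.sq0 0 w2
  have u1 : a * (p 0 d * p 0 w) * x = x * (a * (p 0 d * p 0 w)) := cm_mul a1 (by
    rw [H.s.mul]; exact O.cm_x.2 (by rw [pl_add', hd, w1]; rfl))
  obtain ⟨b, hb⟩ : ∃ b : G, ∀ g, g * x = x * g → g * y = y * g →
      b * ι g * b⁻¹ = ι (p 0 w * g * (p 0 w)⁻¹) := ⟨(ι (a * (p 0 d * p 0 w)))⁻¹ * b, fun g g1 g2 => by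
    rw [show ∀ u : G, u⁻¹ * b * ι g * (u⁻¹ * b)⁻¹ = u⁻¹ * (b * ι g * b⁻¹) * u⁻¹⁻¹ from
      fun u => by group, ← h2 g g1 g2, ← E.inv u1, ← E.conj (cm_inv u1) (h1 g g1 g2), a3 g g1 g2]
    congr 1
    calc _ = (p 0 w)⁻¹ * g * p 0 w := by group
      _ = _ := by rw [inv_eq_of_mul_eq_one_right ww]⟩
  have b2 : ∀ g, g * x = x * g → g * y = y * g → b * b * ι g * (b * b)⁻¹ = ι g := fun g g1 g2 => by
    rw [show b * b * ι g * (b * b)⁻¹ = b * (b * ι g * b⁻¹) * b⁻¹ by group, hb g g1 g2,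
      hb _ (O.conjQ 0 w g1 g2) (cm_conj (H.s.cm _ _) g2)]
    congr 1
    calc _ = p 0 w * p 0 w * g * (p 0 w * p 0 w)⁻¹ := by group
      _ = _ := by rw [ww]; group
  obtain ⟨z, z1, z2⟩ := F.sur (b * b) (mul_inv_eq_iff_eq_mul.1 (E.hx ▸ b2 x rfl O.xy))
  have bt : b * t * b⁻¹ = ι y * t := by rw [← E.hx, hb x rfl O.xy, O.conj_x 0 w1, E.mul O.yx rfl]
  have tt : t * t = 1 := by rw [← E.hx, ← E.mul rfl rfl, O.xx, E.one]
  have by' : b * ι y * b⁻¹ = ι y := by rw [hb y O.yx rfl, H.s.cm, mul_inv_cancel_right]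
  have ny : ι y ≠ 1 := fun e => H.s.y_ne ((E.eq_one O.yx).1 e)
  have z3 : b * ι z * b⁻¹ = ι z := by rw [z2]; group
  rcases O.cenR (u := z) fun s c hc => (E.comm z1 (O.cm_x.2 hc)).1 (by
    rw [z2]; exact mul_inv_eq_iff_eq_mul.1 (b2 _ (O.cm_x.2 hc) (H.s.cm _ _))) with e | e | e | e <;>
    rw [e] at z2 z3
  · exact ⟨b, z2.symm.trans E.one, hb⟩
  · refine ⟨b * t, ?_, fun g g1 g2 => ?_⟩
    · calc _ = b * t * b⁻¹ * (b * b) * t := by group
        _ = 1 := by rw [bt, ← z2, E.cm O.yx, mul_assoc t, yy, mul_one, tt]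
    · rw [← hb g g1 g2, mul_assoc b, ← E.cm g1]
      group
  · rw [E.hx, bt, mul_eq_right] at z3
    exact (ny z3).elim
  · rw [E.mul O.yx rfl, E.hx, ← conj_mul, by', bt, mul_right_inj, mul_eq_right] at z3
    exact (ny z3).elim

theorem Fr.exists_fq (F : Fr x y t ι) (H : Two x y p γ) (L : LF eO eD s0) : ∃ q, Fq x y p ι q := by
  have O := H.one
  have E := F.toEm
  obtain ⟨w, w0, w1, -⟩ := ex_evO
  obtain ⟨b, bb1, hb⟩ := F.exists_b H L w1 (bb_isS w0)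
  have ww : p 0 w * p 0 w = 1 := H.s.sq0 0 (bb_isS w0)
  have cw := fun {g} => O.conjQ 0 w (g := g)
  have wx := O.conj_x 0 w1
  have wy := H.s.cm 0 w
  have dec : ∀ s c, ∃ a, a * x = x * a ∧ a * y = y * a ∧ (p s c = a ∨ p s c = a * p 0 w) := fun s c => by
    rcases z2 (pl c c0.1) with h | h
    · exact ⟨_, O.cm_x.2 h, H.s.cm _ _, .inl rfl⟩
    · refine ⟨p s c * p 0 w, ?_, cm_mul (H.s.cm _ _) wy, .inr (by rw [mul_assoc, ww, mul_one])⟩
      rw [H.s.mul]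
      exact O.cm_x.2 (by rw [pl_add', h, w1]; rfl)
  generalize p 0 w = u at *
  have ui : u⁻¹ = u := inv_eq_of_mul_eq_one_right ww
  have bi : b⁻¹ = b := inv_eq_of_mul_eq_one_right bb1
  classical
  let κ : M → G := fun g => if g * x = x * g then ι g else ι (g * u) * b
  have k1 : ∀ {a}, a * x = x * a → κ a = ι a := fun h => if_pos h
  have k2 : ∀ {a}, a * x = x * a → κ (a * u) = ι a * b := fun {a} h => by
    have : ¬ a * u * x = x * (a * u) := fun e => by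
      have := cm_mul (cm_inv h) e
      rw [inv_mul_cancel_left, ← mul_inv_eq_iff_eq_mul, wx, mul_eq_right] at this
      exact H.s.y_ne this
    simp only [κ, if_neg this, mul_assoc, ww, mul_one]
  let N : M → Prop := fun g => ∃ a, a * x = x * a ∧ a * y = y * a ∧ (g = a ∨ g = a * u)
  have km : ∀ {g h}, N g → N h → κ (g * h) = κ g * κ h := by
    rintro _ _ ⟨a, a1, a2, rfl | rfl⟩ ⟨c, c1, c2, rfl | rfl⟩
    · rw [k1 (cm_mul a1 c1), k1 a1, k1 c1, E.mul a1 c1]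
    · rw [← mul_assoc, k2 (cm_mul a1 c1), k1 a1, k2 c1, E.mul a1 c1, mul_assoc]
    · rw [show ∀ c, a * u * c = a * (u * c * u⁻¹) * u from fun c => by group,
        k2 (cm_mul a1 (cw c1 c2)), k2 a1, k1 c1, E.mul a1 (cw c1 c2), ← hb _ c1 c2]
      group
    · rw [show a * u * (c * u) = a * (u * c * u⁻¹) by rw [ui]; group,
        k1 (cm_mul a1 (cw c1 c2)), k2 a1, k2 c1, E.mul a1 (cw c1 c2), ← hb _ c1 c2, bi]
      group
  have nm : ∀ {g h}, N g → N h → N (g * h) := by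
    rintro _ _ ⟨a, a1, a2, rfl | rfl⟩ ⟨c, c1, c2, rfl | rfl⟩
    · exact ⟨_, cm_mul a1 c1, cm_mul a2 c2, .inl rfl⟩
    · exact ⟨_, cm_mul a1 c1, cm_mul a2 c2, .inr (mul_assoc _ _ _).symm⟩
    · exact ⟨_, cm_mul a1 (cw c1 c2), cm_mul a2 (cm_conj wy c2), .inr (by group)⟩
    · exact ⟨_, cm_mul a1 (cw c1 c2), cm_mul a2 (cm_conj wy c2), .inl (by rw [ui]; group)⟩
  have cj : ∀ {g h k}, N g → N h → N k → g * h * g⁻¹ = k → κ g * κ h * (κ g)⁻¹ = κ k :=
    fun a b c e => by rw [mul_inv_eq_iff_eq_mul] at e ⊢; rw [← km a b, e, km c a]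
  have mul : ∀ s c r d, κ (p s c) * κ (p r d) = κ (p (s + r + bb c d) (c + d)) := fun s c r d => by
    rw [← km (dec s c) (dec r d), H.s.mul]
  refine ⟨fun s c => κ (p s c), mul, fun {s c r d} e => H.s.inj ?_, fun s c hc => k1 (O.cm_x.2 hc),
    fun s c a a1 a2 => ?_, fun a k a1 a2 h s c => ?_⟩
  · have e1 := km (dec s c) (dec (r + bb d d) d)
    beta_reduce at e
    rw [e, ← km (dec r d) (dec _ d), ← H.s.q_inv, mul_inv_cancel, k1 cm_one, E.one] at e1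
    obtain ⟨a, a1, -, h | h⟩ := nm (dec s c) (dec (r + bb d d) d) <;> rw [← H.s.q_inv] at h <;>
      rw [h] at e1
    · rw [k1 a1, E.eq_one a1] at e1
      exact mul_inv_eq_one.1 (h.trans e1)
    · have := hb x rfl O.xy
      rw [k2 a1, mul_eq_one_iff_inv_eq] at e1
      rw [wx, ← e1, ← E.inv a1, ← E.conj (cm_inv a1) rfl] at this
      have := E.inj (cm_conj (cm_inv a1) rfl) (cm_mul O.yx rfl) this
      rw [cm_inv a1, mul_inv_cancel_right, eq_comm, mul_eq_right] at this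
      exact (H.s.y_ne this).elim
  · rw [← k1 a1, ← k1 (O.conjQ s c a1 a2)]
    exact cj (dec s c) ⟨a, a1, a2, .inl rfl⟩
      ⟨_, O.conjQ s c a1 a2, cm_conj (H.s.cm _ _) a2, .inl rfl⟩ rfl
  · rw [← k1 a1]
    exact cj ⟨a, a1, a2, .inl rfl⟩ (dec s c) (dec _ _) (h s c)

end H10.Mon.MG
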