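import Mathlib
import Cfsg.Agent.H0.BSQ1

set_option autoImplicit false
set_option linter.all false

namespace H10.Mon.MG

variable {M G : Type*} [Group M] [Group G] [Finite M] {x y γ : M} {p : ZMod 2 → C → M}
  {eO eD s0 : G0} {t : G} {ι : M → G} {q : ZMod 2 → C → G}

namespace Fq

variable (Q : Fq x y p ι q)
include Q

theorem zero : q 0 0 = 1 := by
  have := Q.mul 0 0 0 0
  rwa [bb_zero_left, add_zero, add_zero, add_zero, mul_eq_left] at this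

theorem q_inv (s : ZMod 2) (c : C) : (q s c)⁻¹ = q (s + bb c c) c :=
  inv_eq_of_mul_eq_one_right (by rw [Q.mul, cc2, ← add_assoc, zz2, zero_add, zz2, Q.zero])

theorem cj (s r : ZMod 2) (c d : C) : q s d * q r c * (q s d)⁻¹ = q (r + pl d c) c := by
  rw [mul_inv_eq_iff_eq_mul, Q.mul, Q.mul, add_comm d c, pl]
  congr 1
  linear_combination -zz2 (bb c d)

theorem rel_q (s : ZMod 2) (c : C) : Rel q (q s c) (qe s c) := fun r d => by
  rw [Q.cj, ep_qe, co_qe, one_smul]; rfl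

theorem flip {c : C} (h : c ≠ 0) (r s : ZMod 2) : IsConj (q r c) (q s c) := by
  rcases z2_or s r with rfl | rfl
  · exact IsConj.refl _
  · obtain ⟨d, hd⟩ := exists_polar_one h
    exact cj_of (a := q 0 d) (by rw [Q.cj, pl_comm, show pl c d = 1 from hd])

theorem tr (O : One x y p) {c : C} (n : c ≠ 0) {h : G0} (e : h • c0.1 = c0.1) (r s : ZMod 2) :
    IsConj (q r c) (q s (h • c)) := by
  obtain ⟨a, k, a1, rfl, a2⟩ := O.liftX e
  exact (cj_of (Q.rel a k a2 (O.s.rel_cm a1) a1 r c)).trans (Q.flip (fun e => n (smul_left_cancel (co k) (e.trans (smul_zero _).symm))) _ _)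

/-- An element that normalises the extraspecial group. -/
theorem lin {g : G} (h1 : g * q 1 0 * g⁻¹ = q 1 0) (h : ∀ d, ∃ r c, g * q 0 d * g⁻¹ = q r c) :
    ∃ (e : C → ZMod 2) (f : C → C), (∀ r d, g * q r d * g⁻¹ = q (r + e d) (f d)) ∧
      (∀ c d, f (c + d) = f c + f d) ∧ (∀ c, bb (f c) (f c) = bb c c) ∧
      ∀ k : GT, (∀ c, f c = co k • c) → ∃ d, Rel q g (k * qe 0 d) := by
  choose e f h using h
  have h0 : ∀ r, g * q r 0 * g⁻¹ = q r 0 := fun r => by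
    rcases z2 r with rfl | rfl
    exacts [by rw [Q.zero, mul_one, mul_inv_cancel], h1]
  have hs : ∀ r d, g * q r d * g⁻¹ = q (r + e d) (f d) := fun r d => by
    have := Q.mul r 0 0 d
    rw [bb_zero_left, add_zero, add_zero, zero_add] at this
    rw [← this, ← conj_mul, h0, h, Q.mul, bb_zero_left, add_zero, zero_add]
  have hm : ∀ c d, bb c d + e (c + d) = e c + e d + bb (f c) (f d) ∧ f (c + d) = f c + f d :=
    fun c d => by
      have := hs (0 + 0 + bb c d) (c + d)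
      rw [← Q.mul, ← conj_mul, h, h, Q.mul, zero_add, zero_add] at this
      exact ⟨(Q.inj this).1.symm, (Q.inj this).2.symm⟩
  refine ⟨e, f, hs, fun c d => (hm c d).2, fun c => ?_, fun k hk => ?_⟩
  · have := h0 (0 + 0 + bb c c)
    rw [← cc2 c, ← Q.mul, ← conj_mul, h, Q.mul, Q.mul, zz2, zz2, zero_add, zero_add] at this
    exact (Q.inj this).1
  · obtain ⟨d, hd⟩ := exists_polar (AddMonoidHom.mk' (fun c => e c + ep k c) fun c d => by
      have := (hm c d).1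
      rw [hk, hk] at this
      rw [ep_add]
      linear_combination this + zz2 (bb (co k • c) (co k • d)))
    have r : Rel q (g * (q 0 d)⁻¹) k := fun r c => by
      rw [show g * (q 0 d)⁻¹ * q r c * (g * (q 0 d)⁻¹)⁻¹ = g * ((q 0 d)⁻¹ * q r c * (q 0 d)⁻¹⁻¹) * g⁻¹ by
        group, Q.q_inv, Q.cj, hs, hk]
      have h5 : pl d c = e c + ep k c := (hd c).symm
      congr 1
      linear_combination zz2 (e c) + h5
    exact ⟨d, by simpa using r.mul (Q.rel_q 0 d)⟩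

end Fq

namespace Fr

variable (F : Fr x y t ι) (H : Two x y p γ) (L : LF eO eD s0) (Q : Fq x y p ι q)
include F H Q

theorem q_y : q 1 0 = ι y := by rw [Q.eq _ _ (pl_zero' _), H.s.one]

theorem q_t : q 0 c0.1 = t := by rw [Q.eq _ _ (pl_self _), H.hx, F.hx]

theorem q_cm (s : ZMod 2) (c : C) : q s c * ι y = ι y * q s c := by
  rw [← F.q_y H Q, ← mul_inv_eq_iff_eq_mul, Q.cj, pl_zero, add_zero]

theorem up1 {g : G} (h1 : g * t = t * g) (h2 : g * ι y = ι y * g) :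
    ∃ a k, a * x = x * a ∧ ι a = g ∧ Rel p a k ∧ Rel q g k := by
  obtain ⟨a, a1, rfl⟩ := F.sur g h1
  have a2 := (F.toEm.comm a1 H.one.yx).1 h2
  obtain ⟨k, hk⟩ := H.s.up a a2
  exact ⟨a, k, a1, rfl, hk, Q.rel a k a1 a2 hk⟩

include L

theorem inQ {u : G} (hy : u * ι y = ι y * u)
    (h : ∀ c, pl c c0.1 = 0 → pl c Om = 0 → ∃ r, u * q 0 c * u⁻¹ = q r c) : ∃ s c, u = q s c := by
  obtain ⟨r, hr⟩ := h _ (pl_self _) pl_c0_Om
  obtain ⟨d, hd⟩ : ∃ d, pl d c0.1 = r := by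
    obtain ⟨w, -, w1, -⟩ := ex_evO
    rcases z2 r with rfl | rfl
    exacts [⟨0, pl_zero' _⟩, ⟨w, w1⟩]
  have e : ∀ v, q 0 d * u * v * (q 0 d * u)⁻¹ = q 0 d * (u * v * u⁻¹) * (q 0 d)⁻¹ := fun v => by group
  obtain ⟨a, k, a1, a2, a3, a4⟩ := F.up1 H Q (g := q 0 d * u) (mul_inv_eq_iff_eq_mul.1 (by
    rw [← F.q_t H Q, e, hr, Q.cj, hd, zz2])) (cm_mul (F.q_cm H Q _ _) hy)
  obtain ⟨s, c, rfl⟩ := H.s.inQ a3 (fixU L pl_c0_Om fun c c1 c2 => by
    obtain ⟨r, hr⟩ := h c c1 c2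
    have := a4 0 c
    rw [e, hr, Q.cj] at this
    exact (Q.inj this).2.symm)
  rw [← Q.eq _ _ (H.one.cm_x.1 a1), ← inv_mul_eq_iff_eq_mul, Q.q_inv, Q.mul] at a2
  exact ⟨_, _, a2.symm⟩

omit L in
theorem actW (s : ZMod 2) (c : C) {a : M} (a1 : a * x = x * a) (a2 : a * p 0 Om = p 0 Om * a) :
    γ * p s c * γ⁻¹ * a * (γ * p s c * γ⁻¹)⁻¹ * x = x * (γ * p s c * γ⁻¹ * a * (γ * p s c * γ⁻¹)⁻¹) ∧
      ι γ * q s c * (ι γ)⁻¹ * ι a * (ι γ * q s c * (ι γ)⁻¹)⁻¹ =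
        ι (γ * p s c * γ⁻¹ * a * (γ * p s c * γ⁻¹)⁻¹) := by
  have gx := mul_inv_eq_iff_eq_mul.1 H.gx
  obtain ⟨b, rfl⟩ : ∃ b, a = γ * b * γ⁻¹ := ⟨γ⁻¹ * a * γ, by group⟩
  have b1 : b * x = x * b := by simpa [mul_assoc] using cm_conj (cm_inv gx) a1
  have b2 : b * y = y * b := by
    rw [← H.gy, conj_mul, conj_mul] at a2
    simpa using a2
  have e : γ * p s c * γ⁻¹ * (γ * b * γ⁻¹) * (γ * p s c * γ⁻¹)⁻¹ =
    γ * (p s c * b * (p s c)⁻¹) * γ⁻¹ := by group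
  have b3 := H.one.conjQ s c b1 b2
  refine ⟨e ▸ cm_conj gx b3, ?_⟩
  rw [e, F.toEm.conj gx b3, F.toEm.conj gx b1, ← Q.act s c b b1 b2]
  group

theorem relW (s : ZMod 2) {c : C} (hc : pl c Om = 0) :
    ∃ k, Rel q (ι γ * q s c * (ι γ)⁻¹) k := by
  have O := H.one
  have E := F.toEm
  have gx := mul_inv_eq_iff_eq_mul.1 H.gx
  have my := fun s => H.ev_cm s (e := c) (pl_Om c ▸ hc)
  rcases z2 (pl c c0.1) with hx | hx
  · obtain ⟨k, hk⟩ := H.s.up _ (my s)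
    have := cm_conj gx (O.cm_x (t := s).2 hx)
    exact ⟨k, by
      rw [Q.eq _ _ hx, ← E.conj gx (O.cm_x.2 hx)]; exact Q.rel _ k this (my s) hk⟩
  have mo : ∀ s, γ * p s c * γ⁻¹ * p 0 Om = p 0 Om * (γ * p s c * γ⁻¹) := fun s => by
    rw [← H.gy, conj_mul, conj_mul, H.s.cm]
  have A : ∀ s {k}, Rel p (γ * p s c * γ⁻¹) k → ∀ r e, pl e c0.1 = 0 → pl e Om = 0 →
      (pl (co k • e) c0.1 = 0 ∧ pl (co k • e) Om = 0) ∧
      ι γ * q s c * (ι γ)⁻¹ * q r e * (ι γ * q s c * (ι γ)⁻¹)⁻¹ = q (r + ep k e) (co k • e) :=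
    fun s k hk r e e1 e2 => by
      obtain ⟨h1, h2⟩ := F.actW H Q s c (O.cm_x (t := r).2 e1) (H.s.cm_iff.2 e2)
      rw [hk] at h1 h2
      exact ⟨⟨O.cm_x.1 h1, by rw [← (H.s.cm_q hk (mo s)).1, pl_smul, e2]⟩,
        by rw [Q.eq _ _ e1, h2, Q.eq _ _ (O.cm_x.1 h1)]⟩
  obtain ⟨k, hk⟩ := H.s.up _ (my s)
  have hk' : Rel p (γ * p (s + bb c c) c * γ⁻¹) k⁻¹ := by
    have := hk.inv
    rwa [conj_inv, H.s.q_inv] at this
  have A1 := A s hk
  have A2 := A _ hk'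
  rw [← Q.q_inv, ← conj_inv] at A2
  have hO := (H.s.cm_q hk (mo s)).1
  have h0 : co k • (c0.1 + Om) = c0.1 := by
    have := hk 0 c0.1
    rw [H.hx, show γ * p s c * γ⁻¹ * x * (γ * p s c * γ⁻¹)⁻¹ =
      γ * (p s c * (γ⁻¹ * x * γ) * (p s c)⁻¹) * γ⁻¹ by group, cm_inv gx, inv_mul_cancel_right,
      O.conj_x s hx, cj_mul gx, H.gy, O.mul_x] at this
    rw [smul_add, ← (H.s.inj this).2, hO, add_right_comm, cc2, zero_add]
  generalize ι γ * q s c * (ι γ)⁻¹ = σ at A1 A2 ⊢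
  have sy : σ * q 1 0 * σ⁻¹ = q 1 0 := by
    rw [(A1 1 0 (pl_zero' _) (pl_zero' _)).2, smul_zero, ← H.s.one] at *
    have := hk 1 0
    rw [H.s.one, my, mul_inv_cancel_right, ← H.s.one] at this
    rw [← (H.s.inj this).1]
  obtain ⟨e, f, hs, f1, f2, f3⟩ := Q.lin sy fun d => F.inQ H L Q
    (cm_conj (mul_inv_eq_iff_eq_mul.1 (F.q_y H Q ▸ sy)) (F.q_cm H Q _ _)) fun u u1 u2 => by
      obtain ⟨⟨b1, b2⟩, b3⟩ := A2 0 u u1 u2
      rw [show σ * q 0 d * σ⁻¹ * q 0 u * (σ * q 0 d * σ⁻¹)⁻¹ =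
        σ * (q 0 d * (σ⁻¹ * q 0 u * σ⁻¹⁻¹) * (q 0 d)⁻¹) * σ⁻¹ by group, b3, Q.cj, (A1 _ _ b1 b2).2,
        map_inv, smul_inv_smul]
      exact ⟨_, rfl⟩
  rcases siegel (fun d => (co k)⁻¹ • f d) (fun a b => by rw [f1, smul_add])
    (fun a => by rw [bb_smul_self, f2]) (fun a a1 a2 => by
      rw [inv_smul_eq_iff]
      exact (Q.inj ((hs 0 a).symm.trans (A1 0 a a1 a2).2)).2) with z | z
  · obtain ⟨d, hd⟩ := f3 k fun a => inv_smul_eq_iff.1 (z a)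
    exact ⟨_, hd⟩
  exfalso
  simp only [inv_smul_eq_iff] at z
  have pk : ∀ a, pl (co k • a) c0.1 = pl a c0.1 + pl a Om := fun a => by
    rw [← pl_add, ← pl_smul (co k) a, h0]
  have nz : ∀ {a : C}, pl a c0.1 = 1 → a ≠ 0 := fun h e => by
    rw [e, pl_zero'] at h; exact zero_ne_one h
  obtain ⟨v, v1, v2⟩ := ex_oddA
  obtain ⟨w, w1, w2, w3⟩ := ex_evO
  obtain ⟨a, a1, a2⟩ := H.fusA L 0 v1
  have vx := O.cm_x (t := 0).2 v1.2.1
  have v3 : pl (v + c0.1) c0.1 = 0 := by rw [pl_add', v1.2.1, pl_self, add_zero]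
  have v4 : pl (v + c0.1) Om = 1 := by rw [pl_add', v2, pl_c0_Om, add_zero]
  have c1 : IsConj t (q 0 v) := (F.A_yx O).trans (cj_of (a := ι a) (by
    rw [Q.eq _ _ v1.2.1, ← E.conj a1 vx, a2])).symm
  have c2 : IsConj (ι y) (q (0 + bb v c0.1) (v + c0.1)) := (cj_of (a := ι a) (by
    rw [Q.eq _ _ v3, ← O.mul_x, ← E.conj a1 (cm_mul vx rfl), cj_mul a1, a2, mul_assoc, O.xx,
      mul_one])).symm
  have c3 := c1.trans (cj_of (hs 0 v))
  have c4 := c2.trans (cj_of (hs _ _))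
  have c5 := cj_of (hs 0 w)
  rw [z, v1.2.1, v2, zero_smul, add_zero, one_smul] at c3
  rw [z, v3, v4, zero_smul, add_zero, one_smul, add_assoc v, cc2, add_zero] at c4
  rw [z, w2, w3, zero_smul, add_zero, one_smul] at c5
  have p1 : pl (co k • v) c0.1 = 1 := by rw [pk, v1.2.1, v2, zero_add]
  have p2 : pl (co k • (v + c0.1)) c0.1 = 1 := by rw [pk, v3, v4, zero_add]
  obtain ⟨h, h1, h2⟩ := trO1 (v1.1.smul _) p1 w1 w2
  obtain ⟨h', h3, h4⟩ := trT4 (d := co k • (w + Om))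
    (by rw [bb_smul_self, bb_add_self, bb_isS v1.1, bb_S c0, v1.2.1]; rfl)
    (isS_smul.not.2 v1.2.2.2) p2
    (by rw [bb_smul_self, bb_add_self, bb_isS w1, bb_fst Om_fst, w3]; rfl)
    (isS_smul.not.2 (sh2_Om w1 (fun e => by
      rw [pl_fst e c0_fst] at w2; exact zero_ne_one w2) (pl_Om w ▸ w3)))
    (by rw [pk, pl_add', pl_add', w2, w3, pl_Om_c0, pl_self]; rfl)
  exact F.nc ((c3.trans (h4 ▸ Q.tr O (nz p2) h3 _ _)).trans
    (c5.symm.trans (c4.trans (h2 ▸ Q.tr O (nz p1) h1 _ 0)).symm))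

theorem down (k : GT) : ∃ g, Rel q g k := by
  have O := H.one
  obtain ⟨w, -, w1, w2⟩ := ex_evO
  obtain ⟨l, hl⟩ := F.relW H L Q 0 w2
  have := genG0
    { carrier := {h | ∃ g k, Rel q g k ∧ co k = h}
      one_mem' := ⟨1, 1, Rel.one, map_one _⟩
      mul_mem' := by
        rintro _ _ ⟨g, k, h, rfl⟩ ⟨g', k', h', rfl⟩
        exact ⟨_, _, h.mul h', map_mul _ _ _⟩
      inv_mem' := by
        rintro _ ⟨g, k, h, rfl⟩
        exact ⟨_, _, h.inv, map_inv _ _⟩ }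
    (fun h e => by
      obtain ⟨a, k, a1, a2, a3⟩ := O.liftX e
      exact ⟨_, k, Q.rel a k a3 (H.s.rel_cm a1) a1, a2⟩) ⟨_, l, hl, rfl⟩ (by
      have gx := mul_inv_eq_iff_eq_mul.1 H.gx
      have := hl 0 c0.1
      rw [F.q_t H Q, ← F.hx, (F.actW H Q 0 w rfl (O.cm_x.2 pl_Om_c0).symm).2,
        show γ * p 0 w * γ⁻¹ * x * (γ * p 0 w * γ⁻¹)⁻¹ =
          γ * (p 0 w * (γ⁻¹ * x * γ) * (p 0 w)⁻¹) * γ⁻¹ by group, cm_inv gx, inv_mul_cancel_right,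
        O.conj_x 0 w1, cj_mul gx, H.gy, O.mul_x,
        ← Q.eq _ _ (by rw [pl_add', pl_Om_c0, pl_self, add_zero])] at this
      rw [← (Q.inj this).2, add_comm])
  obtain ⟨g, l, h1, h2⟩ : co k ∈ _ := this ▸ Subgroup.mem_top _
  obtain ⟨d, hd⟩ := exists_polar (AddMonoidHom.mk' (fun c => ep l c + ep k c) fun c d => by
    rw [ep_add, ep_add, h2]
    linear_combination zz2 (bb c d) + zz2 (bb (co k • c) (co k • d)))
  refine ⟨g * q 0 d, fun r c => ?_⟩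
  rw [show g * q 0 d * q r c * (g * q 0 d)⁻¹ = g * (q 0 d * q r c * (q 0 d)⁻¹) * g⁻¹ by group, Q.cj, h1,
    h2, show pl d c = ep l c + ep k c from (hd c).symm]
  congr 1
  linear_combination zz2 (ep l c)

end Fr

end H10.Mon.MG
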