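import Mathlib
import Cfsg.Prelude.Def_SporadicB

/-! Basic theory of classes of 3-transpositions (Fischer): primitivity implies rank three. -/

set_option autoImplicit false

namespace H0

variable {G : Type*} [Group G]

/-- conjugation -/
def cj (g x : G) : G := g * x * g⁻¹

theorem cj_def (g x : G) : cj g x = g * x * g⁻¹ := rfl

theorem cj_cj (g h x : G) : cj g (cj h x) = cj (g * h) x := by simp only [cj]; group

@[simp] theorem cj_one (x : G) : cj 1 x = x := by simp [cj]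

@[simp] theorem cj_inj {g x y : G} : cj g x = cj g y ↔ x = y := by simp [cj]

@[simp] theorem cj_inv_cj (g x : G) : cj g⁻¹ (cj g x) = x := by simp only [cj]; group

@[simp] theorem cj_cj_inv (g x : G) : cj g (cj g⁻¹ x) = x := by simp only [cj]; group

theorem cj_mul (g x y : G) : cj g (x * y) = cj g x * cj g y := by simp only [cj]; group

theorem cj_cj_conj (g x y : G) : cj g (cj x y) = cj (cj g x) (cj g y) := by simp only [cj]; group

@[simp] theorem commute_cj {g x y : G} : Commute (cj g x) (cj g y) ↔ Commute x y := by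
  simp only [commute_iff_eq, ← cj_mul, cj_inj]

theorem cj_eq_self {g x : G} : cj g x = x ↔ Commute g x := by
  simp only [cj, commute_iff_eq, mul_inv_eq_iff_eq_mul]

theorem cj_of_commute {g x : G} (h : Commute g x) : cj g x = x := cj_eq_self.2 h

@[simp] theorem cj_self (x : G) : cj x x = x := cj_of_commute (Commute.refl x)

theorem cj_injective (g : G) : Function.Injective (cj g) := fun _ _ h => cj_inj.1 h

theorem commute_cj_left {g x y : G} (h : Commute g y) : Commute (cj g x) y ↔ Commute x y := by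
  conv_lhs => rw [← cj_of_commute h]
  exact commute_cj

theorem commute_cj_right {g x y : G} (h : Commute g x) : Commute x (cj g y) ↔ Commute x y := by
  conv_lhs => rw [← cj_of_commute h]
  exact commute_cj

/-- A generating conjugacy class of elements of order dividing two, any two of which commute or
satisfy the braid relation. -/
structure TT (D : Set G) : Prop where
  sq : ∀ d ∈ D, d * d = 1
  dich : ∀ d ∈ D, ∀ e ∈ D, Commute d e ∨ cj d e = cj e d
  conj : ∀ d ∈ D, ∀ g : G, cj g d ∈ D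
  trans : ∀ d ∈ D, ∀ e ∈ D, ∃ g : G, cj g d = e
  gen : Subgroup.closure D = ⊤

theorem inv_eq_of_sq {d : G} (h : d * d = 1) : d⁻¹ = d := inv_eq_of_mul_eq_one_right h

theorem dich_of_set {E : Set G} (hE : Cfsg.IsThreeTranspositionSet E) {d e : G} (hd : d ∈ E)
    (he : e ∈ E) : Commute d e ∨ cj d e = cj e d := by
  have hd2 : d * d = 1 := by have := pow_orderOf_eq_one d; rwa [hE.1 d hd, pow_two] at this
  have he2 : e * e = 1 := by have := pow_orderOf_eq_one e; rwa [hE.1 e he, pow_two] at this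
  rcases hE.2 d hd e he with h | h
  · left
    rw [pow_two] at h
    have h1 : d * e = (d * e)⁻¹ := (inv_eq_of_mul_eq_one_right h).symm
    rw [mul_inv_rev, inv_eq_of_sq hd2, inv_eq_of_sq he2] at h1
    exact h1
  · right
    have h1 : (d * e * d) * (e * d * e) = 1 := by rw [← h]; simp only [pow_succ, pow_zero]; group
    have h2 := eq_inv_of_mul_eq_one_left h1
    simp only [cj, inv_eq_of_sq hd2, inv_eq_of_sq he2]
    rw [h2]; simp only [mul_inv_rev, inv_eq_of_sq hd2, inv_eq_of_sq he2, mul_assoc]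

theorem sq_of_set {E : Set G} (hE : Cfsg.IsThreeTranspositionSet E) {d : G} (hd : d ∈ E) :
    d * d = 1 := by have := pow_orderOf_eq_one d; rwa [hE.1 d hd, pow_two] at this

theorem ne_one_of_set {E : Set G} (hE : Cfsg.IsThreeTranspositionSet E) {d : G} (hd : d ∈ E) :
    d ≠ 1 := by
  intro h; have := hE.1 d hd; rw [h] at this; simp at this

theorem TT.of_class {D : Set G} (hD : Cfsg.IsThreeTranspositionClass D) : TT D := by
  obtain ⟨hE, ⟨d0, -, rfl⟩, hg⟩ := hD
  refine ⟨fun d hd => sq_of_set hE hd, fun d hd e he => dich_of_set hE hd he, ?_, ?_, hg⟩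
  · intro d hd g
    exact IsConj.trans hd (isConj_iff.2 ⟨g, rfl⟩)
  · intro d hd e he
    exact isConj_iff.1 (IsConj.trans (IsConj.symm hd) he)

namespace TT

variable {D : Set G} (hD : TT D)
include hD

theorem inv {d : G} (hd : d ∈ D) : d⁻¹ = d := inv_eq_of_sq (hD.sq d hd)

theorem cj_cj_same {d : G} (hd : d ∈ D) (x : G) : cj d (cj d x) = x := by
  rw [cj_cj, hD.sq d hd, cj_one]

theorem braid {d e : G} (hd : d ∈ D) (he : e ∈ D) (h : ¬ Commute d e) : cj d e = cj e d :=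
  (hD.dich d hd e he).resolve_left h

theorem mem_cj {d g : G} : cj g d ∈ D ↔ d ∈ D :=
  ⟨fun h => by simpa using hD.conj _ h g⁻¹, fun h => hD.conj d h g⟩

theorem cj_mul_adj {d e : G} (hd : d ∈ D) (he : e ∈ D) (h : ¬ Commute d e) :
    cj (d * e) d = e := by
  rw [← cj_cj, ← hD.braid hd he h, hD.cj_cj_same hd]

theorem pow_six {d e : G} (hd : d ∈ D) (he : e ∈ D) : (d * e) ^ 6 = 1 := by
  have hd2 := hD.sq d hd
  have he2 := hD.sq e he
  rcases hD.dich d hd e he with h | h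
  · have : (d * e) ^ 2 = 1 := by rw [h.mul_pow, pow_two, pow_two, hd2, he2, one_mul]
    rw [show 6 = 2 * 3 by rfl, pow_mul, this, one_pow]
  · have : (d * e) ^ 3 = 1 := by
      simp only [cj, hD.inv hd, hD.inv he] at h
      calc (d * e) ^ 3 = (d * e * d) * (e * d * e) := by simp only [pow_succ, pow_zero]; group
        _ = e * d * (e * e) * d * e := by rw [h]; group
        _ = 1 := by rw [he2, mul_one, mul_assoc e d d, hd2, mul_one, he2]
    rw [show 6 = 3 * 2 by rfl, pow_mul, this, one_pow]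

theorem pow_three {d e : G} (hd : d ∈ D) (he : e ∈ D) (h : cj d e = cj e d) :
    (d * e) ^ 3 = 1 := by
  have hd2 := hD.sq d hd
  have he2 := hD.sq e he
  simp only [cj, hD.inv hd, hD.inv he] at h
  calc (d * e) ^ 3 = (d * e * d) * (e * d * e) := by simp only [pow_succ, pow_zero]; group
    _ = e * d * (e * e) * d * e := by rw [h]; group
    _ = 1 := by rw [he2, mul_one, mul_assoc e d d, hd2, mul_one, he2]

/-- The block lemma. -/
theorem block {r : G → G → Prop} (symm : ∀ x y, r x y → r y x)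
    (tr : ∀ x y z, r x y → r y z → r x z) {a b c : G} (ha : a ∈ D) (hc : c ∈ D)
    (inva : ∀ x y, r x y → r (cj a x) (cj a y)) (invc : ∀ x y, r x y → r (cj c x) (cj c y))
    (hab : r a b) (hcb : Commute c b) (hca : ¬ Commute c a) : r c a := by
  have h1 := invc _ _ hab
  rw [cj_of_commute hcb, hD.braid hc ha hca] at h1
  have h2 := inva _ _ (tr _ _ _ h1 (symm _ _ hab))
  rwa [hD.cj_cj_same ha, cj_self] at h2

end TT

/-- the members of `D` other than `d` commuting with `d` -/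
def Dx (D : Set G) (d : G) : Set G := {y | y ∈ D ∧ y ≠ d ∧ Commute d y}

/-- invariant equivalence relation on `D` -/
structure InvEq (D : Set G) (r : G → G → Prop) : Prop where
  refl : ∀ x ∈ D, r x x
  symm : ∀ x y, r x y → r y x
  tr : ∀ x y z, r x y → r y z → r x z
  inv : ∀ g x y, r x y → r (cj g x) (cj g y)

/-- primitivity of the conjugation action on `D` -/
def Prim (D : Set G) : Prop :=
  ∀ r : G → G → Prop, InvEq D r →
    (∀ x ∈ D, ∀ y ∈ D, r x y → x = y) ∨ (∀ x ∈ D, ∀ y ∈ D, r x y)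

theorem InvEq.inv_iff {D : Set G} {r : G → G → Prop} (h : InvEq D r) {g x y : G} :
    r (cj g x) (cj g y) ↔ r x y :=
  ⟨fun h1 => by simpa using h.inv g⁻¹ _ _ h1, h.inv g x y⟩

theorem rtg_symm {α : Type*} {R : α → α → Prop} (hs : ∀ x y, R x y → R y x) {x y : α}
    (h : Relation.ReflTransGen R x y) : Relation.ReflTransGen R y x := by
  induction h with
  | refl => exact Relation.ReflTransGen.refl
  | tail _ h2 ih => exact Relation.ReflTransGen.head (hs _ _ h2) ih

theorem rtg_lift {α : Type*} {R S : α → α → Prop} (f : α → α)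
    (hf : ∀ x y, R x y → S (f x) (f y)) {x y : α}
    (h : Relation.ReflTransGen R x y) : Relation.ReflTransGen S (f x) (f y) := by
  induction h with
  | refl => exact Relation.ReflTransGen.refl
  | tail _ h2 ih => exact ih.tail (hf _ _ h2)

theorem invEq_rtg {D : Set G} {R : G → G → Prop} (symm : ∀ x y, R x y → R y x)
    (inv : ∀ g x y, R x y → R (cj g x) (cj g y)) : InvEq D (Relation.ReflTransGen R) where
  refl _ _ := Relation.ReflTransGen.refl
  symm _ _ h := rtg_symm symm h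
  tr _ _ _ h1 h2 := h1.trans h2
  inv g _ _ h := rtg_lift (cj g) (fun a b => inv g a b) h

theorem rtg_closed {R : G → G → Prop} {U : Set G} (hU : ∀ x ∈ U, ∀ y, R x y → y ∈ U) {x y : G}
    (h : Relation.ReflTransGen R x y) (hx : x ∈ U) : y ∈ U := by
  induction h with
  | refl => exact hx
  | tail _ h2 ih => exact hU _ ih _ h2

namespace TT

variable {D : Set G} (hD : TT D)
include hD

theorem mem_Dx_cj {g d y : G} : cj g y ∈ Dx D (cj g d) ↔ y ∈ Dx D d := by
  simp [Dx, hD.mem_cj]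

theorem image_Dx (g d : G) : cj g '' Dx D d = Dx D (cj g d) := by
  ext y
  constructor
  · rintro ⟨z, hz, rfl⟩; exact hD.mem_Dx_cj.2 hz
  · intro hy
    refine ⟨cj g⁻¹ y, ?_, by simp⟩
    rw [← hD.mem_Dx_cj (g := g)]; simpa using hy

theorem ncard_Dx {d e : G} (hd : d ∈ D) (he : e ∈ D) : (Dx D d).ncard = (Dx D e).ncard := by
  obtain ⟨g, rfl⟩ := hD.trans d hd e he
  rw [← hD.image_Dx, Set.ncard_image_of_injective _ (cj_injective g)]

theorem Dx_nonempty {d e : G} (hd : d ∈ D) (he : e ∈ D) (h : (Dx D d).Nonempty) :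
    (Dx D e).Nonempty := by
  obtain ⟨g, rfl⟩ := hD.trans d hd e he
  rw [← hD.image_Dx]; exact h.image _

theorem exists_adj (h : ∃ x ∈ D, ∃ y ∈ D, ¬ Commute x y) {e : G} (he : e ∈ D) :
    ∃ y ∈ D, ¬ Commute e y := by
  obtain ⟨x, hx, y, hy, h⟩ := h
  obtain ⟨g, rfl⟩ := hD.trans x hx e he
  exact ⟨cj g y, hD.conj y hy g, by simpa using h⟩

theorem eq_of_all_commute (h : ∀ x ∈ D, ∀ y ∈ D, Commute x y) {x y : G} (hx : x ∈ D)
    (hy : y ∈ D) : x = y := by
  obtain ⟨g, rfl⟩ := hD.trans x hx y hy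
  have hg : g ∈ Subgroup.closure D := by rw [hD.gen]; trivial
  have : Commute g x := by
    clear hy
    induction hg using Subgroup.closure_induction with
    | mem z hz => exact h z hz x hx
    | one => exact Commute.one_left x
    | mul a b _ _ ha hb => exact ha.mul_left hb
    | inv a _ ha => exact ha.inv_left
  exact (cj_of_commute this).symm

theorem exists_adj_of_ne {x y : G} (hx : x ∈ D) (hy : y ∈ D) (hxy : x ≠ y) :
    ∃ x ∈ D, ∃ y ∈ D, ¬ Commute x y := by
  by_contra h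
  push Not at h
  exact hxy (hD.eq_of_all_commute h hx hy)

end TT

/-- standing hypothesis: primitive class with a commuting pair -/
structure PTT (D : Set G) : Prop extends TT D where
  prim : Prim D
  comm : ∃ d ∈ D, (Dx D d).Nonempty

namespace PTT

variable {D : Set G} (hD : PTT D)
include hD

theorem Dx_ne {d : G} (hd : d ∈ D) : (Dx D d).Nonempty := by
  obtain ⟨e, he, h⟩ := hD.comm
  exact hD.toTT.Dx_nonempty he hd h

theorem adj_ne {d : G} (hd : d ∈ D) : ∃ y ∈ D, ¬ Commute d y := by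
  obtain ⟨y, hy, hne, -⟩ := hD.Dx_ne hd
  exact hD.toTT.exists_adj (hD.toTT.exists_adj_of_ne hy hd hne) hd

/-- a nonempty subset closed under commuting is everything -/
theorem comm_closed {U : Set G} (hU : ∀ x ∈ U, ∀ y ∈ D, Commute x y → y ∈ U) {u : G}
    (hu : u ∈ U) (huD : u ∈ D) : D ⊆ U := by
  let R : G → G → Prop := fun x y => x ∈ D ∧ y ∈ D ∧ Commute x y
  have hR : InvEq D (Relation.ReflTransGen R) :=
    invEq_rtg (fun x y h => ⟨h.2.1, h.1, h.2.2.symm⟩)
      (fun g x y h => ⟨hD.conj _ h.1 g, hD.conj _ h.2.1 g, commute_cj.2 h.2.2⟩)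
  rcases hD.prim _ hR with h | h
  · obtain ⟨y, hy, hne, hc⟩ := hD.Dx_ne huD
    exact absurd (h u huD y hy (Relation.ReflTransGen.single ⟨huD, hy, hc⟩)).symm hne
  · intro y hy
    exact rtg_closed (fun x hx z hz => hU x hx z hz.2.1 hz.2.2) (h u huD y hy) hu

/-- a nonempty subset closed under adjacency is everything -/
theorem adj_closed {U : Set G} (hU : ∀ x ∈ U, ∀ y ∈ D, ¬ Commute x y → y ∈ U) {u : G}
    (hu : u ∈ U) (huD : u ∈ D) : D ⊆ U := by
  let R : G → G → Prop := fun x y => x ∈ D ∧ y ∈ D ∧ ¬ Commute x y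
  have hR : InvEq D (Relation.ReflTransGen R) :=
    invEq_rtg (fun x y h => ⟨h.2.1, h.1, fun h' => h.2.2 h'.symm⟩)
      (fun g x y h => ⟨hD.conj _ h.1 g, hD.conj _ h.2.1 g, fun h' => h.2.2 (commute_cj.1 h')⟩)
  rcases hD.prim _ hR with h | h
  · obtain ⟨y, hy, hc⟩ := hD.adj_ne huD
    have := h u huD y hy (Relation.ReflTransGen.single ⟨huD, hy, hc⟩)
    exact absurd (this ▸ Commute.refl u) hc
  · intro y hy
    exact rtg_closed (fun x hx z hz => hU x hx z hz.2.1 hz.2.2) (h u huD y hy) hu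

/-- `W_d` and `V_d` are trivial: distinct points are separated. -/
theorem sep [Finite G] {x y : G} (hx : x ∈ D) (hy : y ∈ D) (hxy : x ≠ y) :
    ∃ f ∈ Dx D x, ¬ Commute f y := by
  by_cases hc : Commute x y
  · let P : G → Set G := fun x => {z | z ∈ D ∧ Commute x z}
    have hP : ∀ g x z, cj g z ∈ P (cj g x) ↔ z ∈ P x := by
      intro g x z; simp [P, hD.toTT.mem_cj]
    have hPi : ∀ g x, cj g '' P x = P (cj g x) := by
      intro g x; ext z
      constructor
      · rintro ⟨w, hw, rfl⟩; exact (hP _ _ _).2 hw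
      · intro hz
        refine ⟨cj g⁻¹ z, ?_, by simp⟩
        rw [← hP g]; simpa using hz
    have hR : InvEq D (fun x y => P x = P y) :=
      ⟨fun _ _ => rfl, fun _ _ h => h.symm, fun _ _ _ h1 h2 => h1.trans h2,
        fun g x y h => by rw [← hPi, ← hPi, h]⟩
    have hne : P x ≠ P y := by
      rcases hD.prim _ hR with h | h
      · exact fun h' => hxy (h x hx y hy h')
      · obtain ⟨z, hz, hc⟩ := hD.adj_ne hx
        have : z ∈ P x := by rw [h x hx z hz]; exact ⟨hz, Commute.refl z⟩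
        exact absurd this.2 hc
    have hcard : (P x).ncard = (P y).ncard := by
      obtain ⟨g, rfl⟩ := hD.trans x hx y hy
      rw [← hPi, Set.ncard_image_of_injective _ (cj_injective g)]
    by_contra hcon
    push Not at hcon
    apply hne
    apply Set.eq_of_subset_of_ncard_le _ hcard.ge
    intro z hz
    by_cases hzx : z = x
    · exact ⟨hz.1, hzx ▸ hc.symm⟩
    · exact ⟨hz.1, (hcon z ⟨hz.1, hzx, hz.2⟩).symm⟩
  · have hR : InvEq D (fun x y => Dx D x = Dx D y) :=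
      ⟨fun _ _ => rfl, fun _ _ h => h.symm, fun _ _ _ h1 h2 => h1.trans h2,
        fun g x y h => by rw [← hD.toTT.image_Dx, ← hD.toTT.image_Dx, h]⟩
    have hne : Dx D x ≠ Dx D y := by
      rcases hD.prim _ hR with h | h
      · exact fun h' => hxy (h x hx y hy h')
      · obtain ⟨z, hz⟩ := hD.Dx_ne hx
        rw [h x hx z hz.1] at hz
        exact absurd rfl hz.2.1
    by_contra hcon
    push Not at hcon
    apply hne
    apply Set.eq_of_subset_of_ncard_le _ (hD.toTT.ncard_Dx hx hy).ge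
    intro z hz
    refine ⟨hz.1, ?_, (hcon z hz).symm⟩
    rintro rfl
    exact hc hz.2.2

end PTT

/-- adjacency inside `D_d` -/
def AdjIn (D : Set G) (d x y : G) : Prop := x ∈ Dx D d ∧ y ∈ Dx D d ∧ ¬ Commute x y

/-- component of `x` in `D_d` -/
def Comp (D : Set G) (d x : G) : Set G := {y | Relation.ReflTransGen (AdjIn D d) x y}

theorem Comp_subset {D : Set G} {d x : G} (hx : x ∈ Dx D d) : Comp D d x ⊆ Dx D d :=
  fun _ hy => rtg_closed (fun _ _ _ h => h.2.1) hy hx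

theorem adjIn_symm {D : Set G} {d : G} : ∀ x y, AdjIn D d x y → AdjIn D d y x :=
  fun _ _ h => ⟨h.2.1, h.1, fun h' => h.2.2 h'.symm⟩

theorem Comp_eq {D : Set G} {d x y : G} (hy : y ∈ Comp D d x) : Comp D d y = Comp D d x := by
  ext z
  exact ⟨fun h => Relation.ReflTransGen.trans hy h,
    fun h => Relation.ReflTransGen.trans (rtg_symm adjIn_symm hy) h⟩

theorem Comp_mono {D : Set G} {d z x : G} (hx : x ∈ Dx D d) (h : Comp D d x ⊆ Dx D z) :
    Comp D d x ⊆ Comp D z x := by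
  intro y hy
  have : y ∈ Comp D d x ∧ y ∈ Comp D z x := by
    induction hy with
    | refl => exact ⟨Relation.ReflTransGen.refl, Relation.ReflTransGen.refl⟩
    | tail h1 h2 ih =>
      have h3 := Relation.ReflTransGen.tail h1 h2
      exact ⟨h3, Relation.ReflTransGen.tail ih.2 ⟨h ih.1, h h3, h2.2.2⟩⟩
  exact this.2

theorem TT.image_Comp {D : Set G} (hD : TT D) (g d x : G) :
    cj g '' Comp D d x = Comp D (cj g d) (cj g x) := by
  have key : ∀ g d x y, y ∈ Comp D d x → cj g y ∈ Comp D (cj g d) (cj g x) := by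
    intro g d x y hy
    exact rtg_lift (cj g)
      (fun a b h => ⟨hD.mem_Dx_cj.2 h.1, hD.mem_Dx_cj.2 h.2.1, by simpa using h.2.2⟩) hy
  ext y
  constructor
  · rintro ⟨z, hz, rfl⟩; exact key _ _ _ _ hz
  · intro hy
    exact ⟨cj g⁻¹ y, by simpa using key g⁻¹ _ _ _ hy, by simp⟩

namespace PTT

variable {D : Set G} (hD : PTT D)
include hD

/-- `D_d` is connected. -/
theorem Dx_connected [Finite G] {d x y : G} (hd : d ∈ D) (hx : x ∈ Dx D d) (hy : y ∈ Dx D d) :
    y ∈ Comp D d x := by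
  by_contra hxy
  -- a component of maximal size
  let C : Set (Set G) := {Δ | ∃ z ∈ D, ∃ w ∈ Dx D z, Δ = Comp D z w}
  obtain ⟨Δ0, hΔ0, hmax⟩ := Set.exists_max_image C Set.ncard (Set.toFinite C)
    ⟨_, d, hd, x, hx, rfl⟩
  let M : Set (Set G) := {Δ | Δ ∈ C ∧ Δ.ncard = Δ0.ncard}
  let S : Set G → Set G := fun Δ => {z | z ∈ D ∧ Δ ⊆ Dx D z}
  have hMne : ∀ Δ ∈ M, ∃ w ∈ Δ, w ∈ D := by
    rintro Δ ⟨⟨z, -, w, hw, rfl⟩, -⟩
    exact ⟨w, Relation.ReflTransGen.refl, hw.1⟩
  have L1 : ∀ Δ ∈ M, ∀ z ∈ S Δ, ∀ w ∈ Δ, Comp D z w = Δ := by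
    rintro Δ ⟨⟨z0, hz0, w0, hw0, rfl⟩, hc⟩ z hz w hw
    have h1 : Comp D z0 w0 ⊆ Comp D z w0 := Comp_mono hw0 hz.2
    have h2 : Comp D z0 w0 = Comp D z w0 :=
      Set.eq_of_subset_of_ncard_le h1
        (by rw [hc]; exact hmax _ ⟨z, hz.1, w0, hz.2 Relation.ReflTransGen.refl, rfl⟩)
    rw [h2] at hw ⊢
    exact Comp_eq hw
  have L2 : ∀ Δ ∈ M, ∀ z ∈ S Δ, ∀ u ∈ Dx D z, u ∈ Δ ∨ u ∈ S Δ := by
    intro Δ hΔ z hz u hu
    by_cases huΔ : u ∈ Δ
    · exact Or.inl huΔ
    · refine Or.inr ⟨hu.1, fun w hw => ⟨(hz.2 hw).1, fun h => huΔ (h ▸ hw), ?_⟩⟩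
      by_contra hc
      apply huΔ
      rw [← L1 Δ hΔ z hz w hw]
      exact Relation.ReflTransGen.single ⟨hz.2 hw, hu, fun h => hc h.symm⟩
  have hMinv : ∀ g, ∀ Δ ∈ M, cj g '' Δ ∈ M := by
    rintro g Δ ⟨⟨z0, hz0, w0, hw0, rfl⟩, hc⟩
    refine ⟨⟨cj g z0, hD.conj _ hz0 g, cj g w0, hD.toTT.mem_Dx_cj.2 hw0, hD.toTT.image_Comp _ _ _⟩,
      ?_⟩
    rw [Set.ncard_image_of_injective _ (cj_injective g), hc]
  have hSinv : ∀ g Δ z, z ∈ S Δ → cj g z ∈ S (cj g '' Δ) := by
    intro g Δ z hz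
    refine ⟨hD.conj _ hz.1 g, ?_⟩
    rw [← hD.toTT.image_Dx]; exact Set.image_mono hz.2
  have hex : ∀ z ∈ D, ∃ Δ ∈ M, z ∈ S Δ := by
    intro z hz
    obtain ⟨z0, hz0, w0, hw0, h0⟩ := id hΔ0
    obtain ⟨g, rfl⟩ := hD.trans z0 hz0 z hz
    exact ⟨_, hMinv g Δ0 ⟨hΔ0, rfl⟩, hSinv g _ _ ⟨hz0, h0 ▸ Comp_subset hw0⟩⟩
  by_cases huniq : ∀ z, ∀ Δ ∈ M, ∀ Δ' ∈ M, z ∈ S Δ → z ∈ S Δ' → Δ = Δ'
  · have hR : InvEq D (fun z z' => ∃ Δ ∈ M, z ∈ S Δ ∧ z' ∈ S Δ) := by
      refine ⟨fun z hz => ?_, ?_, ?_, ?_⟩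
      · obtain ⟨Δ, h1, h2⟩ := hex z hz; exact ⟨Δ, h1, h2, h2⟩
      · rintro _ _ ⟨Δ, h1, h2, h3⟩; exact ⟨Δ, h1, h3, h2⟩
      · rintro _ _ _ ⟨Δ, h1, h2, h3⟩ ⟨Δ', h4, h5, h6⟩
        obtain rfl := huniq _ _ h1 _ h4 h3 h5
        exact ⟨Δ, h1, h2, h6⟩
      · rintro g _ _ ⟨Δ, h1, h2, h3⟩
        exact ⟨_, hMinv g _ h1, hSinv g _ _ h2, hSinv g _ _ h3⟩
    obtain ⟨Δ, hΔ, hdS⟩ := hex d hd
    rcases hD.prim _ hR with h | h
    · have hxΔ : x ∈ Δ := by
        rcases L2 Δ hΔ d hdS x hx with h1 | h1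
        · exact h1
        · exact absurd (h x hx.1 d hd ⟨Δ, hΔ, h1, hdS⟩) hx.2.1
      have hyΔ : y ∈ Δ := by
        rcases L2 Δ hΔ d hdS y hy with h1 | h1
        · exact h1
        · exact absurd (h y hy.1 d hd ⟨Δ, hΔ, h1, hdS⟩) hy.2.1
      exact hxy (by rw [L1 Δ hΔ d hdS x hxΔ]; exact hyΔ)
    · obtain ⟨w, hw, hwD⟩ := hMne Δ hΔ
      obtain ⟨Δ', h1, h2, h3⟩ := h d hd w hwD
      obtain rfl := huniq _ _ hΔ _ h1 hdS h2
      exact (h3.2 hw).2.1 rfl
  · push Not at huniq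
    obtain ⟨z, Δ, hΔ, Δ', hΔ', hz, hz', hne⟩ := huniq
    have key : ∀ Δ ∈ M, ∀ Δ' ∈ M, z ∈ S Δ → z ∈ S Δ' → Δ ≠ Δ' → Δ' ⊆ S Δ := by
      intro Δ hΔ Δ' hΔ' hz hz' hne w hw
      rcases L2 Δ hΔ z hz w (hz'.2 hw) with h | h
      · exact absurd ((L1 Δ hΔ z hz w h).symm.trans (L1 Δ' hΔ' z hz' w hw)) hne
      · exact h
    have k1 := key Δ hΔ Δ' hΔ' hz hz' hne
    have k2 := key Δ' hΔ' Δ hΔ hz' hz hne.symm
    have hS : ∀ u ∈ S Δ, ∀ v ∈ D, Commute u v → v ∈ Δ ∪ S Δ := by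
      intro u hu v hv hc
      by_cases huv : v = u
      · exact Or.inr (huv ▸ hu)
      · exact L2 Δ hΔ u hu v ⟨hv, huv, hc⟩
    have hU : D ⊆ Δ ∪ S Δ := by
      refine hD.comm_closed ?_ (Or.inr hz) hz.1
      rintro u (hu | hu) v hv hc
      · by_cases huv : v = u
        · exact Or.inl (huv ▸ hu)
        rcases L2 Δ' hΔ' u (k2 hu) v ⟨hv, huv, hc⟩ with h | h
        · exact Or.inr (k1 h)
        · obtain ⟨f, hf, -⟩ := hMne Δ' hΔ'
          exact hS f (k1 hf) v hv (h.2 hf).2.2.symm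
      · exact hS u hu v hv hc
    have hU2 : D ⊆ S Δ := by
      refine hD.adj_closed ?_ hz hz.1
      intro u hu v hv hc
      rcases hU hv with h | h
      · exact absurd (hu.2 h).2.2 hc
      · exact h
    obtain ⟨w, hw, hwD⟩ := hMne Δ hΔ
    exact ((hU2 hwD).2 hw).2.1 rfl

/-- `⟨D_d⟩` is transitive on `D_d`. -/
theorem Dx_trans [Finite G] {d x y : G} (hd : d ∈ D) (hx : x ∈ Dx D d) (hy : y ∈ Dx D d) :
    ∃ g ∈ Subgroup.closure (Dx D d), cj g x = y := by
  have h := hD.Dx_connected hd hx hy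
  clear hy
  induction h with
  | refl => exact ⟨1, one_mem _, cj_one _⟩
  | @tail b c _ h2 ih =>
    obtain ⟨g, hg, rfl⟩ := ih
    refine ⟨cj g x * c * g, mul_mem (mul_mem (Subgroup.subset_closure h2.1)
      (Subgroup.subset_closure h2.2.1)) hg, ?_⟩
    rw [← cj_cj]
    exact hD.toTT.cj_mul_adj h2.1.1 h2.2.1.1 h2.2.2

omit hD in
theorem commute_of_mem_closure {d g : G} (hg : g ∈ Subgroup.closure (Dx D d)) : Commute g d := by
  induction hg using Subgroup.closure_induction with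
  | mem z hz => exact hz.2.2.symm
  | one => exact Commute.one_left d
  | mul a b _ _ ha hb => exact ha.mul_left hb
  | inv a _ ha => exact ha.inv_left

/-- transitivity on ordered pairs of distinct commuting points -/
theorem comm_pair_trans [Finite G] {a b c d : G} (ha : a ∈ D) (hc : c ∈ D) (hb : b ∈ Dx D a)
    (hd : d ∈ Dx D c) : ∃ g, cj g a = c ∧ cj g b = d := by
  obtain ⟨g, rfl⟩ := hD.trans a ha c hc
  obtain ⟨h, hh, h2⟩ := hD.Dx_trans hc (hD.toTT.mem_Dx_cj.2 hb) hd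
  refine ⟨h * g, ?_, by rw [← cj_cj, h2]⟩
  rw [← cj_cj, cj_of_commute (commute_of_mem_closure hh)]

end PTT

/-- the pair `(x, y)` is conjugate to `(d, a)` -/
def Ty (d a x y : G) : Prop := ∃ g, cj g d = x ∧ cj g a = y

theorem Ty.inv {d a x y : G} (h : Ty d a x y) (g : G) : Ty d a (cj g x) (cj g y) := by
  obtain ⟨k, rfl, rfl⟩ := h
  exact ⟨g * k, (cj_cj _ _ _).symm, (cj_cj _ _ _).symm⟩

namespace TT

variable {D : Set G} (hD : TT D) {d a : G} (hd : d ∈ D) (ha : a ∈ D) (hda : ¬ Commute d a)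
include hD hd ha hda

theorem ty_mem {x y : G} (h : Ty d a x y) : x ∈ D ∧ y ∈ D ∧ ¬ Commute x y := by
  obtain ⟨k, rfl, rfl⟩ := h
  exact ⟨hD.conj _ hd k, hD.conj _ ha k, by simpa using hda⟩

theorem ty_symm {x y : G} (h : Ty d a x y) : Ty d a y x := by
  obtain ⟨hx, hy, hxy⟩ := hD.ty_mem hd ha hda h
  have := h.inv (cj x y)
  have e1 : cj (cj x y) x = y := by
    have := cj_cj_conj x y x
    rw [cj_self, ← hD.braid hx hy hxy, hD.cj_cj_same hx] at this
    exact this.symm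
  have e2 : cj (cj x y) y = x := by
    have := cj_cj_conj y x y
    rw [cj_self, hD.braid hx hy hxy, hD.cj_cj_same hy] at this
    rw [hD.braid hx hy hxy]
    exact this.symm
  rwa [e1, e2] at this

/-- the `S₄` lemma -/
theorem ty_s4 {x y z : G} (h : Ty d a y x) (hz : z ∈ D) (hzx : Commute z x)
    (hzy : ¬ Commute z y) : Ty d a y z := by
  obtain ⟨hy, hx, hxy⟩ := hD.ty_mem hd ha hda h
  have h1 := ((h.inv z).inv y).inv x
  rw [cj_of_commute hzx, hD.braid hz hy hzy, hD.cj_cj_same hy, cj_of_commute hzx.symm,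
    hD.braid hy hx hxy, hD.cj_cj_same hx] at h1
  exact hD.ty_symm hd ha hda h1

end TT

namespace PTT

variable {D : Set G} (hD : PTT D)
include hD

theorem ty_disconnected [Finite G] {d a : G} (hd : d ∈ D) (ha : a ∈ D) (hda : ¬ Commute d a)
    {e : G} (he : e ∈ D) {x : G} (hx : x ∈ Dx D e) :
    ∃ c ∈ Dx D e, Ty d a x c ∧ ∀ u, Relation.ReflTransGen
      (fun v w => AdjIn D e v w ∧ ¬ Ty d a v w) x u → Ty d a u c := by
  set R : G → G → Prop := fun v w => AdjIn D e v w ∧ ¬ Ty d a v w with hR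
  have Rsymm : ∀ x y, R x y → R y x := fun v w h =>
    ⟨adjIn_symm _ _ h.1, fun h' => h.2 (hD.toTT.ty_symm hd ha hda h')⟩
  have hsub : ∀ u, Relation.ReflTransGen R x u → u ∈ Dx D e :=
    fun u hu => rtg_closed (fun _ _ _ h => h.1.2.1) hu hx
  -- a point of the right type with a common commuting point
  have h1 : ∃ b, Ty d a e b ∧ ∃ x0 ∈ Dx D e, Commute b x0 := by
    by_contra hcon
    push Not at hcon
    obtain ⟨g, hg⟩ := hD.trans d hd e he
    have hb : Ty d a e (cj g a) := ⟨g, hg, rfl⟩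
    have : D ⊆ {b | Ty d a e b} := by
      refine hD.comm_closed ?_ hb (hD.conj _ ha g)
      intro u hu v hv hc
      by_cases hev : Commute v e
      · by_cases hve : v = e
        · exact absurd (hve ▸ hc.symm) (hD.toTT.ty_mem hd ha hda hu).2.2
        · exact absurd hc (hcon u hu v ⟨hv, hve, hev.symm⟩)
      · exact hD.toTT.ty_s4 hd ha hda hu hv hc.symm hev
    exact (hD.toTT.ty_mem hd ha hda (this he)).2.2 (Commute.refl e)
  obtain ⟨b, hb, x0, hx0, hbx0⟩ := h1
  obtain ⟨-, hbD, heb⟩ := hD.toTT.ty_mem hd ha hda hb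
  obtain ⟨f, hf, hfb⟩ := hD.sep he hbD (fun h => heb (h ▸ Commute.refl e))
  have h2 : ¬ Relation.ReflTransGen R x0 f := by
    intro h
    have : f ∈ {w | Commute b w} := by
      refine rtg_closed ?_ h hbx0
      intro v hv w hvw
      by_contra hw
      apply hvw.2
      have t1 : Ty d a b w :=
        hD.toTT.ty_s4 hd ha hda (hD.toTT.ty_symm hd ha hda hb) hvw.1.2.1.1
          hvw.1.2.1.2.2.symm (fun h => hw h.symm)
      exact hD.toTT.ty_symm hd ha hda (hD.toTT.ty_s4 hd ha hda (hD.toTT.ty_symm hd ha hda t1)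
        hvw.1.1.1 (Commute.symm hv) hvw.1.2.2)
    exact hfb (Commute.symm this)
  have h3 : ∃ y ∈ Dx D e, ¬ Relation.ReflTransGen R x y := by
    by_contra hcon
    push Not at hcon
    exact h2 ((rtg_symm Rsymm (hcon x0 hx0)).trans (hcon f hf))
  obtain ⟨y, hy, hxy⟩ := h3
  have h4 : ∃ u c, Relation.ReflTransGen R x u ∧ ¬ Relation.ReflTransGen R x c ∧
      AdjIn D e u c := by
    by_contra hcon
    push Not at hcon
    apply hxy
    have := hD.Dx_connected he hx hy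
    refine rtg_closed (U := {u | Relation.ReflTransGen R x u}) ?_ this Relation.ReflTransGen.refl
    intro u hu c hc
    by_contra hn
    exact hcon u c hu hn hc
  obtain ⟨u, c, hu, hc, huc⟩ := h4
  have hinv : ∀ s ∈ Dx D e, ∀ v w, Relation.ReflTransGen R v w →
      Relation.ReflTransGen R (cj s v) (cj s w) := by
    intro s hs v w h
    refine rtg_lift (cj s) ?_ h
    intro p q hpq
    have hse : cj s e = e := cj_of_commute hs.2.2.symm
    refine ⟨⟨?_, ?_, by simpa using hpq.1.2.2⟩, fun h' => hpq.2 ?_⟩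
    · rw [← hse]; exact hD.toTT.mem_Dx_cj.2 hpq.1.1
    · rw [← hse]; exact hD.toTT.mem_Dx_cj.2 hpq.1.2.1
    · simpa using h'.inv s⁻¹
  have h5 : ∀ v, Relation.ReflTransGen R x v → Ty d a v c := by
    intro v hv
    have hvc : ¬ Commute v c := by
      intro hvc
      have := hD.toTT.block (r := Relation.ReflTransGen R)
        (fun _ _ h => rtg_symm Rsymm h) (fun _ _ _ h1 h2 => h1.trans h2)
        huc.1.1 huc.2.1.1 (hinv u huc.1) (hinv c huc.2.1)
        ((rtg_symm Rsymm hu).trans hv) hvc.symm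
        (fun h => huc.2.2 h.symm)
      exact hc (hu.trans (rtg_symm Rsymm this))
    by_contra hn
    exact hc (hv.tail ⟨⟨hsub v hv, huc.2.1, hvc⟩, hn⟩)
  exact ⟨c, huc.2.1, h5 x Relation.ReflTransGen.refl, h5⟩

/-- transitivity on ordered pairs of non-commuting points -/
theorem adj_pair_trans [Finite G] {a b c d : G} (ha : a ∈ D) (hb : b ∈ D) (hc : c ∈ D)
    (hd : d ∈ D) (hab : ¬ Commute a b) (hcd : ¬ Commute c d) : ∃ g, cj g a = c ∧ cj g b = d := by
  by_contra hcon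
  have hex : ∀ x y, Ty a b x y → ¬ Ty c d x y := by
    rintro x y ⟨g, rfl, rfl⟩ ⟨k, h1, h2⟩
    exact hcon ⟨k⁻¹ * g, by rw [← cj_cj, ← h1, cj_inv_cj], by rw [← cj_cj, ← h2, cj_inv_cj]⟩
  obtain ⟨x, hx⟩ := hD.Dx_ne ha
  obtain ⟨u, hu, t1, k1⟩ := hD.ty_disconnected ha hb hab ha hx
  obtain ⟨v, hv, t2, k2⟩ := hD.ty_disconnected hc hd hcd ha hx
  have s1 := k1 v (Relation.ReflTransGen.single
    ⟨⟨hx, hv, (hD.toTT.ty_mem hc hd hcd t2).2.2⟩, fun h => hex _ _ h t2⟩)
  have s2 := k2 u (Relation.ReflTransGen.single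
    ⟨⟨hx, hu, (hD.toTT.ty_mem ha hb hab t1).2.2⟩, hex _ _ t1⟩)
  exact hex _ _ s1 (hD.toTT.ty_symm hc hd hcd s2)

end PTT

end H0
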