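import Mathlib
import Cfsg.Agent.H0.TT
import Cfsg.Agent.H0.HTS
import Cfsg.Agent.H6.BaerSuzuki

/-! A class of involutions with all products of order dividing three: products generate a
3-group. -/

set_option autoImplicit false

namespace H0

variable {G : Type*} [Group G]

namespace HTS

abbrev W : Type := ZMod 3 × ZMod 3 × ZMod 3

def enc (x : W × ZMod 3) : ℕ := x.1.1.val + 3 * x.1.2.1.val + 9 * x.1.2.2.val + 27 * x.2.val

def sh (c : W) (f : W → ZMod 3) (x : W × ZMod 3) : W × ZMod 3 := (x.1 + c, x.2 + f x.1)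

theorem enc_lt : ∀ x, enc x < 81 := by decide +kernel

theorem sh_ab : ∀ x : W × ZMod 3, op (op (enc x) 1) 0 =
    enc (sh (1, 0, 0) (fun w => ((op (op (enc (w, 0)) 1) 0 / 27 : ℕ) : ZMod 3)) x) := by
  decide +kernel

theorem sh_cd : ∀ x : W × ZMod 3, op (op (enc x) 9) 3 =
    enc (sh (0, -1, 1) (fun w => ((op (op (enc (w, 0)) 9) 3 / 27 : ℕ) : ZMod 3)) x) := by
  decide +kernel

theorem three_W : ∀ c : W, c + c + c = 0 := by decide +kernel

theorem three_Z : ∀ c : ZMod 3, c + c + c = 0 := by decide +kernel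

end HTS

open HTS in
theorem moufang_pair [Finite G] {D : Set G} (sq : ∀ d ∈ D, d * d = 1)
    (conj : ∀ d ∈ D, ∀ g : G, cj g d ∈ D) (br : ∀ d ∈ D, ∀ e ∈ D, cj d e = cj e d)
    {a b c d : G} (ha : a ∈ D) (hb : b ∈ D) (hc : c ∈ D) (hd : d ∈ D) :
    IsPGroup 3 (Subgroup.closure ({a * b, c * d} : Set G)) := by
  let mul : D → D → D := fun x y => ⟨cj y x, conj _ x.2 _⟩
  let gen : ℕ → D := fun i => if i = 0 then ⟨a, ha⟩ else if i = 1 then ⟨b, hb⟩ else
    if i = 2 then ⟨c, hc⟩ else ⟨d, hd⟩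
  obtain ⟨v, v0, v1, v3, v9, hv⟩ := exists_val (mul := mul) gen
    (fun x y => Subtype.ext (br _ y.2 _ x.2)) (fun x => Subtype.ext (cj_self _))
    (fun x y => Subtype.ext (by simp only [mul]; rw [cj_cj, sq _ y.2, cj_one]))
    (fun x y z => Subtype.ext (by simp only [mul]; exact cj_cj_conj _ _ _))
  have hv' : ∀ x < 81, ∀ y < 81, cj (v y : G) (v x) = v (op x y) :=
    fun x hx y hy => congrArg Subtype.val (hv x hx y hy)
  have ea : (v 0 : G) = a := by rw [v0]; rfl
  have eb : (v 1 : G) = b := by rw [v1]; rfl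
  have ec : (v 3 : G) = c := by rw [v3]; rfl
  have ed : (v 9 : G) = d := by rw [v9]; rfl
  let u : W × ZMod 3 → G := fun x => v (enc x)
  let S : G → Prop := fun g => ∃ c f, ∀ x, cj g (u x) = u (sh c f x)
  have Smul : ∀ g h c f c' f', (∀ x, cj g (u x) = u (sh c f x)) →
      (∀ x, cj h (u x) = u (sh c' f' x)) →
      ∀ x, cj (g * h) (u x) = u (sh (c' + c) (fun w => f' w + f (w + c')) x) := by
    intro g h c f c' f' h1 h2 x
    rw [← cj_cj, h2, h1]
    simp only [sh, add_assoc]
  have hS : ∀ g ∈ Subgroup.closure ({a * b, c * d} : Set G), S g := by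
    intro g hg
    induction hg using Subgroup.closure_induction with
    | mem z hz =>
      rcases hz with rfl | rfl
      · refine ⟨(1, 0, 0), fun w => ((op (op (enc (w, 0)) 1) 0 / 27 : ℕ) : ZMod 3), fun x => ?_⟩
        · simp only [u]
          rw [← cj_cj, ← ea, ← eb, hv' _ (enc_lt x) 1 (by norm_num),
            hv' _ (op_facts _ (enc_lt x) 1 (by norm_num)).1 0 (by norm_num), sh_ab]
      · refine ⟨(0, -1, 1), fun w => ((op (op (enc (w, 0)) 9) 3 / 27 : ℕ) : ZMod 3), fun x => ?_⟩
        · simp only [u]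
          rw [← cj_cj, ← ec, ← ed, hv' _ (enc_lt x) 9 (by norm_num),
            hv' _ (op_facts _ (enc_lt x) 9 (by norm_num)).1 3 (by norm_num), sh_cd]
    | one => exact ⟨0, 0, fun x => by simp [sh]⟩
    | mul g h _ _ hg hh =>
      obtain ⟨c, f, h1⟩ := hg
      obtain ⟨c', f', h2⟩ := hh
      exact ⟨_, _, Smul g h c f c' f' h1 h2⟩
    | inv g _ hg =>
      obtain ⟨c, f, h1⟩ := hg
      refine ⟨-c, fun w => - f (w - c), fun x => ?_⟩
      have : x = sh c f (sh (-c) (fun w => - f (w - c)) x) := by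
        simp [sh, sub_eq_add_neg]
      conv_lhs => rw [this, ← h1, cj_inv_cj]
  have h9 : ∀ g, S g → ∀ x, cj (g ^ 9) (u x) = u x := by
    rintro g ⟨c, f, h1⟩ x
    have h3 := Smul _ _ _ _ _ _ h1 (Smul _ _ _ _ _ _ h1 h1)
    rw [three_W] at h3
    have h4 := Smul _ _ _ _ _ _ h3 (Smul _ _ _ _ _ _ h3 h3) x
    have e : g ^ 9 = g * (g * g) * (g * (g * g) * (g * (g * g))) := by
      simp only [pow_succ, pow_zero]; group
    rw [e, h4]
    simp only [sh, add_zero, three_Z]
  set R := Subgroup.closure ({a * b, c * d} : Set G) with hR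
  have hcen : ∀ g : R, g ^ 9 ∈ Subgroup.center R := by
    intro g
    have h := h9 g (hS g g.2)
    have ka : Commute ((g : G) ^ 9) a := cj_eq_self.1 (ea ▸ h ((0, 0, 0), 0))
    have kb : Commute ((g : G) ^ 9) b := cj_eq_self.1 (eb ▸ h ((1, 0, 0), 0))
    have kc : Commute ((g : G) ^ 9) c := cj_eq_self.1 (ec ▸ h ((0, 1, 0), 0))
    have kd : Commute ((g : G) ^ 9) d := cj_eq_self.1 (ed ▸ h ((0, 0, 1), 0))
    rw [Subgroup.mem_center_iff]
    rintro ⟨y, hy⟩
    apply Subtype.ext
    change y * (g : G) ^ 9 = (g : G) ^ 9 * y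
    have : Commute ((g : G) ^ 9) y := by
      induction hy using Subgroup.closure_induction with
      | mem z hz =>
        rcases hz with rfl | rfl
        · exact ka.mul_right kb
        · exact kc.mul_right kd
      | one => exact Commute.one_right _
      | mul p q _ _ hp hq => exact hp.mul_right hq
      | inv p _ hp => exact hp.inv_right
    exact this.symm.eq
  have hq : IsPGroup 3 (R ⧸ Subgroup.center R) := by
    intro q
    obtain ⟨g, rfl⟩ := QuotientGroup.mk_surjective q
    refine ⟨2, ?_⟩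
    rw [← QuotientGroup.mk_pow, QuotientGroup.eq_one_iff]
    exact hcen g
  have : Fact (Nat.Prime 3) := ⟨by norm_num⟩
  obtain ⟨n, hn⟩ := IsPGroup.iff_card.1 hq
  have hidx : (Subgroup.center R).index = 3 ^ n := hn
  have cube : ∀ x ∈ D, ∀ y ∈ D, (x * y) ^ 3 = 1 := by
    intro x hx y hy
    have h := br x hx y hy
    simp only [cj, inv_eq_of_sq (sq x hx), inv_eq_of_sq (sq y hy)] at h
    calc (x * y) ^ 3 = (x * y * x) * (y * x * y) := by simp only [pow_succ, pow_zero]; group
      _ = y * x * (y * y) * x * y := by rw [h]; group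
      _ = 1 := by rw [sq y hy, mul_one, mul_assoc y x x, sq x hx, mul_one, sq y hy]
  have key : ∀ y (hy : y ∈ R), (MonoidHom.transferCenterPow R ⟨y, hy⟩) ^ 3 = 1 := by
    intro y hy
    induction hy using Subgroup.closure_induction with
    | mem z hz =>
      rw [← map_pow]
      have : (⟨z, Subgroup.subset_closure hz⟩ : R) ^ 3 = 1 := by
        apply Subtype.ext
        rcases hz with rfl | rfl
        · exact cube _ ha _ hb
        · exact cube _ hc _ hd
      rw [this, map_one]
    | one => exact (congrArg (· ^ 3) (map_one _)).trans (one_pow 3)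
    | mul p q hp' hq' hp hq =>
      have : (⟨p * q, mul_mem hp' hq'⟩ : R) = ⟨p, hp'⟩ * ⟨q, hq'⟩ := rfl
      rw [this, map_mul, Commute.mul_pow, hp, hq, one_mul]
      exact Subtype.ext (Subgroup.mem_center_iff.1 (Subtype.property _) _)
    | inv p hp' hp =>
      have : (⟨p⁻¹, inv_mem hp'⟩ : R) = ⟨p, hp'⟩⁻¹ := rfl
      rw [this, map_inv, inv_pow, hp, inv_one]
  intro g
  refine ⟨n + 1, ?_⟩
  have := congrArg Subtype.val (key g.1 g.2)
  rw [SubmonoidClass.coe_pow, MonoidHom.transferCenterPow_apply, hidx, ← pow_mul] at this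
  rw [pow_succ]
  exact this

/-- The Moufang case: all products lie in a normal 3-subgroup. -/
theorem moufang [Finite G] {D : Set G} (sq : ∀ d ∈ D, d * d = 1)
    (conj : ∀ d ∈ D, ∀ g : G, cj g d ∈ D) (br : ∀ d ∈ D, ∀ e ∈ D, cj d e = cj e d) :
    ∃ N : Subgroup G, N.Normal ∧ IsPGroup 3 N ∧ ∀ a ∈ D, ∀ b ∈ D, a * b ∈ N := by
  have : Fact (Nat.Prime 3) := ⟨by norm_num⟩
  let K : Set G := {x | ∃ a ∈ D, ∃ b ∈ D, x = a * b}
  have hK : ∀ g : G, ∀ x ∈ K, g * x * g⁻¹ ∈ K := by
    rintro g _ ⟨a, ha, b, hb, rfl⟩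
    exact ⟨_, conj a ha g, _, conj b hb g, cj_mul g a b⟩
  refine ⟨Subgroup.closure K, H6.normal_closure_of_invariant hK,
    H6.isPGroup_closure_of_pairs hK ?_, fun a ha b hb => Subgroup.subset_closure ⟨a, ha, b, hb, rfl⟩⟩
  rintro _ ⟨a, ha, b, hb, rfl⟩ _ ⟨c, hc, d, hd, rfl⟩
  exact moufang_pair sq conj br ha hb hc hd

/-- If all products of generators lie in a normal subgroup, it contains the derived subgroup. -/
theorem commutator_le_of_products {D : Set G} (gen : Subgroup.closure D = ⊤)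
    (sq : ∀ d ∈ D, d * d = 1) {N : Subgroup G}
    [N.Normal] (h : ∀ a ∈ D, ∀ b ∈ D, a * b ∈ N) : commutator G ≤ N := by
  have key : ∀ x y : G, Commute (QuotientGroup.mk x : G ⧸ N) (QuotientGroup.mk y) := by
    have k1 : ∀ a ∈ D, ∀ b ∈ D, (QuotientGroup.mk a : G ⧸ N) = QuotientGroup.mk b := by
      intro a ha b hb
      rw [QuotientGroup.eq, inv_eq_of_sq (sq a ha)]
      exact h a ha b hb
    intro x y
    have hx : x ∈ Subgroup.closure D := by rw [gen]; trivial
    have hy : y ∈ Subgroup.closure D := by rw [gen]; trivial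
    induction hx using Subgroup.closure_induction with
    | mem a ha =>
      induction hy using Subgroup.closure_induction with
      | mem b hb => rw [k1 a ha b hb]
      | one => exact Commute.one_right _
      | mul p q _ _ hp hq => exact hp.mul_right hq
      | inv p _ hp => exact hp.inv_right
    | one => exact Commute.one_left _
    | mul p q _ _ hp hq => exact hp.mul_left hq
    | inv p _ hp => exact hp.inv_left
  rw [commutator_def, Subgroup.commutator_le]
  intro x _ y _
  rw [← QuotientGroup.eq_one_iff]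
  have := (key x y)
  rw [← commutatorElement_eq_one_iff_commute] at this
  exact this

theorem moufang_commutator [Finite G] {D : Set G} (gen : Subgroup.closure D = ⊤)
    (sq : ∀ d ∈ D, d * d = 1)
    (conj : ∀ d ∈ D, ∀ g : G, cj g d ∈ D) (br : ∀ d ∈ D, ∀ e ∈ D, cj d e = cj e d) :
    IsPGroup 3 (commutator G) := by
  obtain ⟨N, hN, h3, h⟩ := moufang sq conj br
  exact h3.to_le (commutator_le_of_products gen sq h)

end H0
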