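import Mathlib
import Cfsg.Agent.H0.TT

/-! Recognition lemma and further elementary facts on 3-transposition classes. -/

set_option autoImplicit false

namespace H0

variable {G : Type*} [Group G]

theorem TT.eq_one_of_commute {D : Set G} (hD : TT D) (hZ : Subgroup.center G = ⊥) {g : G}
    (h : ∀ x ∈ D, Commute g x) : g = 1 := by
  have hz : g ∈ Subgroup.center G := by
    rw [Subgroup.mem_center_iff]
    intro y
    have hg : y ∈ Subgroup.closure D := by rw [hD.gen]; trivial
    have : Commute g y := by
      induction hg using Subgroup.closure_induction with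
      | mem z hz => exact h z hz
      | one => exact Commute.one_right _
      | mul p q _ _ hp hq => exact hp.mul_right hq
      | inv p _ hp => exact hp.inv_right
    exact this.symm.eq
  rwa [hZ, Subgroup.mem_bot] at hz

/-- Recognition: a group `Γ` acting on a set of vectors `I` covering `D`. -/
theorem TT.recognize {D : Set G} (hD : TT D) (hZ : Subgroup.center G = ⊥) {Γ I : Type*} [Group Γ]
    [MulAction Γ I] (p : I → G) (hp : ∀ v, p v ∈ D) (hsurj : ∀ x ∈ D, ∃ v, p v = x)
    (T : I → Γ) (hgen : Subgroup.closure (Set.range T) = ⊤)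
    (hT : ∀ g v, g * T v * g⁻¹ = T (g • v))
    (hpT : ∀ v w, T v = T w ↔ p v = p w)
    (hact : ∀ v w, p (T v • w) = cj (p v) (p w)) :
    Nonempty (G ≃* Γ ⧸ Subgroup.center Γ) := by
  classical
  choose φ hφ using hsurj
  have hwd : ∀ (g : Γ) v w, p v = p w → p (g • v) = p (g • w) := by
    intro g v w h
    rw [← hpT, ← hT, ← hT, (hpT v w).2 h]
  let actΓ : MulAction Γ D :=
    { smul := fun g x => ⟨p (g • φ x.1 x.2), hp _⟩
      one_smul := fun x => Subtype.ext (by
        change p ((1 : Γ) • φ x.1 x.2) = x.1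
        rw [one_smul, hφ])
      mul_smul := fun g h x => Subtype.ext (by
        change p ((g * h) • φ x.1 x.2) = p (g • φ _ (hp (h • φ x.1 x.2)))
        rw [mul_smul]
        exact hwd _ _ _ (hφ _ _).symm) }
  let actG : MulAction G D :=
    { smul := fun g x => ⟨cj g x.1, hD.conj _ x.2 g⟩
      one_smul := fun x => Subtype.ext (cj_one _)
      mul_smul := fun g h x => Subtype.ext (cj_cj _ _ _).symm }
  let ψ : Γ →* Equiv.Perm D := @MulAction.toPermHom Γ D _ actΓ
  let ρ : G →* Equiv.Perm D := @MulAction.toPermHom G D _ actG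
  have hψ : ∀ g (x : D), (ψ g x : G) = p (g • φ x.1 x.2) := fun _ _ => rfl
  have hρ : ∀ g (x : D), (ρ g x : G) = cj g x := fun _ _ => rfl
  have hTρ : ∀ v, ψ (T v) = ρ (p v) := by
    intro v
    ext x
    rw [hψ, hρ, hact, hφ]
  have hρinj : Function.Injective ρ := by
    rw [injective_iff_map_eq_one]
    intro g hg
    refine hD.eq_one_of_commute hZ fun x hx => cj_eq_self.1 ?_
    rw [← hρ g ⟨x, hx⟩, hg]; rfl
  have hrange : ρ.range = ψ.range := by
    rw [MonoidHom.range_eq_map, MonoidHom.range_eq_map, ← hD.gen, ← hgen, MonoidHom.map_closure,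
      MonoidHom.map_closure]
    congr 1
    ext σ
    constructor
    · rintro ⟨x, hx, rfl⟩
      exact ⟨T (φ x hx), ⟨_, rfl⟩, by rw [hTρ, hφ]⟩
    · rintro ⟨_, ⟨v, rfl⟩, rfl⟩
      exact ⟨p v, hp v, (hTρ v).symm⟩
  have hker : ψ.ker = Subgroup.center Γ := by
    ext g
    rw [MonoidHom.mem_ker, Subgroup.mem_center_iff]
    constructor
    · intro hg y
      have hy : y ∈ Subgroup.closure (Set.range T) := by rw [hgen]; trivial
      have : Commute g y := by
        induction hy using Subgroup.closure_induction with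
        | mem z hz =>
          obtain ⟨v, rfl⟩ := hz
          have h1 : p (g • v) = p v := by
            rw [hwd g v (φ _ (hp v)) (hφ _ _).symm, ← hψ g ⟨p v, hp v⟩, hg]; rfl
          have h2 := hT g v
          rw [(hpT _ _).2 h1] at h2
          exact cj_eq_self.1 h2
        | one => exact Commute.one_right _
        | mul a b _ _ ha hb => exact ha.mul_right hb
        | inv a _ ha => exact ha.inv_right
      exact this.symm.eq
    · intro hg
      ext x
      rw [hψ, ← (hpT _ _).1 (show T (φ x.1 x.2) = T (g • φ x.1 x.2) by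
        rw [← hT, ← hg, mul_inv_cancel_right]), hφ]
      rfl
  exact ⟨(MonoidHom.ofInjective hρinj).trans ((MulEquiv.subgroupCongr hrange).trans
    ((QuotientGroup.quotientKerEquivRange ψ).symm.trans
      (QuotientGroup.quotientMulEquivOfEq hker)))⟩

namespace TT

variable {D : Set G} (hD : TT D)
include hD

theorem cj_cj_left {x y : G} (hx : x ∈ D) (hy : y ∈ D) (h : ¬ Commute x y) :
    cj (cj x y) x = y := by
  have := cj_cj_conj x y x
  rw [cj_self, ← hD.braid hx hy h, hD.cj_cj_same hx] at this
  exact this.symm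

theorem cj_cj_right {x y : G} (hx : x ∈ D) (hy : y ∈ D) (h : ¬ Commute x y) :
    cj (cj x y) y = x := by
  rw [hD.braid hx hy h]
  exact hD.cj_cj_left hy hx fun h' => h h'.symm

/-- a point commuting with `x` but not with `y` does not commute with `y^x` -/
theorem adj_cj {x y z : G} (hzx : Commute z x) (hzy : ¬ Commute z y) : ¬ Commute z (cj x y) := by
  rwa [commute_cj_right hzx.symm]

theorem adj_cj' {x y z : G} (hx : x ∈ D) (hy : y ∈ D) (hxy : ¬ Commute x y) (hzy : Commute z y)
    (hzx : ¬ Commute z x) : ¬ Commute z (cj x y) := by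
  rw [hD.braid hx hy hxy]; exact hD.adj_cj hzy hzx

omit hD in
theorem commute_cj_of {x y z : G} (hzx : Commute z x) (hzy : Commute z y) : Commute z (cj x y) :=
  (hzx.mul_right hzy).mul_right hzx.inv_right

theorem adj_cj_self {x y : G} (h : ¬ Commute x y) : ¬ Commute x (cj x y) :=
  hD.adj_cj (Commute.refl x) h

theorem adj_cj_self' {x y : G} (hx : x ∈ D) (hy : y ∈ D) (h : ¬ Commute x y) :
    ¬ Commute y (cj x y) :=
  hD.adj_cj' hx hy h (Commute.refl y) fun h' => h h'.symm

/-- centralising a product of two commuting points -/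
theorem commute_of_mul {a b e : G} (ha : a ∈ D) (hb : b ∈ D) (he : e ∈ D) (hab : a ≠ b)
    (h : Commute e (a * b)) : Commute a b → Commute e a ∧ Commute e b := by
  intro hc
  have key : Commute e a ↔ Commute e b := by
    constructor
    · intro h1
      have := h1.mul_right h
      rwa [← mul_assoc, hD.sq a ha, one_mul] at this
    · intro h1
      have := h.mul_right h1
      rwa [mul_assoc, hD.sq b hb, mul_one] at this
  by_cases h1 : Commute e a
  · exact ⟨h1, key.1 h1⟩
  exfalso
  have h2 : ¬ Commute e b := fun h => h1 (key.2 h)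
  have k3 : cj a e = cj b e := by
    have := cj_of_commute h.symm
    rw [← cj_cj] at this
    have h4 := congrArg (cj a) this
    rw [hD.cj_cj_same ha] at h4
    exact h4.symm
  rw [← hD.braid he ha h1, ← hD.braid he hb h2, cj_inj] at k3
  exact hab k3

theorem commute_of_mul3 {a b c e : G} (ha : a ∈ D) (hb : b ∈ D) (hc : c ∈ D) (he : e ∈ D)
    (hab : a ≠ b) (hac : a ≠ c) (hbc : b ≠ c) (h₁ : Commute a b) (h₂ : Commute a c)
    (h₃ : Commute b c) (h : Commute e (a * b * c)) : Commute e a := by
  by_contra h1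
  by_cases h2 : Commute e b
  · have := h2.mul_right h
    rw [h₁.eq, mul_assoc b a c, ← mul_assoc, hD.sq b hb, one_mul] at this
    exact h1 (hD.commute_of_mul ha hc he hac this h₂).1
  by_cases h3 : Commute e c
  · have := h.mul_right h3
    rw [mul_assoc, hD.sq c hc, mul_one] at this
    exact h1 (hD.commute_of_mul ha hb he hab this h₁).1
  have k4 : cj c e = cj a (cj b e) := by
    have h5 : cj (a * b * c) e = e := cj_of_commute h.symm
    have h6 := congrArg (cj c) h5
    rw [cj_cj, ← mul_assoc, ← ((h₂.mul_left h₃).eq), mul_assoc, mul_assoc, hD.sq c hc, mul_one,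
      ← cj_cj] at h6
    exact h6.symm
  have k5 : Commute (cj a (cj b e)) e := by
    rw [← commute_cj (g := a), hD.cj_cj_same ha, ← hD.braid he ha h1, ← hD.braid he hb h2,
      commute_cj]
    exact h₁.symm
  rw [← k4, ← hD.braid he hc h3, commute_cj_left (Commute.refl e)] at k5
  exact h3 k5.symm

/-- In the `S₄` generated by commuting `p, q` and `y` adjacent to both, the partner of `y`. -/
theorem partner_commute {p q y : G} (hp : p ∈ D) (hq : q ∈ D) (hy : y ∈ D) (hpq : Commute p q)
    (hyp : ¬ Commute y p) (hyq : ¬ Commute y q) : Commute y (cj (p * q) y) := by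
  rw [← cj_cj, ← commute_cj (g := p), hD.cj_cj_same hp, ← hD.braid hy hp hyp,
    ← hD.braid hy hq hyq, commute_cj]
  exact hpq

theorem partner_ne {p q y : G} (hp : p ∈ D) (hq : q ∈ D) (hy : y ∈ D) (hpq : Commute p q)
    (hne : p ≠ q) (hyp : ¬ Commute y p) : y ≠ cj (p * q) y := fun h =>
  hyp (hD.commute_of_mul hp hq hy hne (cj_eq_self.1 h.symm).symm hpq).1

theorem swap_left {p q y : G} (hp : p ∈ D) (hq : q ∈ D) (hy : y ∈ D) (hpq : Commute p q)
    (hyp : ¬ Commute y p) (hyq : ¬ Commute y q) : cj (y * cj (p * q) y) p = q := by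
  have hw : ¬ Commute (cj q y) p := by rwa [commute_cj_left hpq.symm]
  have h1 : cj (cj (p * q) y) p = cj q y := by
    have := cj_cj_conj p (cj q y) p
    rw [cj_self, hD.braid (hD.conj y hy q) hp hw, hD.cj_cj_same hp, cj_cj] at this
    exact this.symm
  rw [← cj_cj, h1, ← hD.braid hy hq hyq, hD.cj_cj_same hy]

theorem swap_right {p q y : G} (hp : p ∈ D) (hq : q ∈ D) (hy : y ∈ D) (hpq : Commute p q)
    (hyp : ¬ Commute y p) (hyq : ¬ Commute y q) : cj (y * cj (p * q) y) q = p := by
  rw [hpq.eq]; exact hD.swap_left hq hp hy hpq.symm hyq hyp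

theorem swap_sq {p q y : G} (hp : p ∈ D) (hq : q ∈ D) (hy : y ∈ D) (hpq : Commute p q)
    (hyp : ¬ Commute y p) (hyq : ¬ Commute y q) :
    (y * cj (p * q) y) * (y * cj (p * q) y) = 1 := by
  have := hD.partner_commute hp hq hy hpq hyp hyq
  rw [mul_assoc, ← mul_assoc (cj (p * q) y), ← this.eq, mul_assoc,
    hD.sq _ (hD.conj y hy _), mul_one, hD.sq y hy]

/-- a point adjacent to both factors of a product of commuting points commutes with its image -/
theorem commute_cj_mul {u v z : G} (hu : u ∈ D) (hv : v ∈ D) (hz : z ∈ D) (huv : Commute u v)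
    (hzu : ¬ Commute z u) (hzv : ¬ Commute z v) : Commute z (cj (u * v) z) :=
  hD.partner_commute hu hv hz huv hzu hzv

end TT

end H0
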