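import Mathlib

/-! Integrality condition for strongly regular graphs; recognition lemma for groups generated
by a conjugacy class. -/

set_option autoImplicit false

namespace H0

open Matrix

theorem trace_idem_nat {V : Type*} [Fintype V] [DecidableEq V] (E : Matrix V V ℝ)
    (h : E * E = E) : ∃ f : ℕ, E.trace = f := by
  have h1 : IsIdempotentElem (Matrix.toLin' E) := by
    unfold IsIdempotentElem
    rw [Module.End.mul_eq_comp, ← Matrix.toLin'_mul, h]
  have h2 := (LinearMap.IsIdempotentElem.isProj_range _ h1).trace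
  rw [Matrix.trace_toLin'_eq] at h2
  exact ⟨_, h2⟩

theorem srg_square {V : Type*} [Fintype V] [DecidableEq V] [Nonempty V] (Γ : SimpleGraph V)
    [DecidableRel Γ.Adj] {n k μ : ℕ} (h : Γ.IsSRGWith n k 0 μ) (hμ : μ < k) :
    μ * n = μ + 2 * k ∨ IsSquare (μ ^ 2 + 4 * (k - μ)) := by
  set A : Matrix V V ℝ := Γ.adjMatrix ℝ with hA
  set J : Matrix V V ℝ := Matrix.of fun _ _ => 1 with hJ
  have hn : (Fintype.card V : ℝ) = n := by rw [h.card]
  have hn0 : (n : ℝ) ≠ 0 := by rw [← hn]; exact_mod_cast Fintype.card_ne_zero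
  have hC : (Γᶜ).adjMatrix ℝ = J - 1 - A := by
    ext i j
    by_cases hij : i = j
    · subst hij; simp [hJ, hA]
    · by_cases ha : Γ.Adj i j <;> simp [hJ, hA, hij, ha, Matrix.one_apply]
  have h1 : A * A = (k : ℝ) • (1 : Matrix V V ℝ) + (μ : ℝ) • (J - 1 - A) := by
    have := h.matrix_eq (α := ℝ)
    rw [pow_two, hC] at this
    rw [this]; simp [Nat.cast_smul_eq_nsmul]
  have h2 : A * J = (k : ℝ) • J := by
    ext i j
    simp [hJ, hA, SimpleGraph.adjMatrix_mul_apply, h.regular.degree_eq]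
  have h3 : J * A = (k : ℝ) • J := by
    ext i j
    simp [hJ, hA, SimpleGraph.mul_adjMatrix_apply, h.regular.degree_eq]
  have h4 : J * J = (n : ℝ) • J := by
    ext i j
    simp [hJ, Matrix.mul_apply, hn]
  have hpar : (k : ℝ) * k = k + μ * (n - 1 - k) := by
    have e1 : A * A * J = ((k : ℝ) * k) • J := by
      rw [Matrix.mul_assoc, h2, Matrix.mul_smul, h2, smul_smul]
    rw [h1, Matrix.add_mul, Matrix.smul_mul, Matrix.smul_mul, Matrix.sub_mul, Matrix.sub_mul, h4,
      h2, Matrix.one_mul] at e1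
    obtain ⟨v⟩ := ‹Nonempty V›
    have := congrFun (congrFun e1 v) v
    simp [hJ] at this
    linarith
  set Δ : ℕ := μ ^ 2 + 4 * (k - μ) with hΔ
  have hΔr : (Δ : ℝ) = μ ^ 2 + 4 * (k - μ) := by rw [hΔ]; push_cast [Nat.cast_sub hμ.le]; ring
  have hΔ0 : (0 : ℝ) < Δ := by exact_mod_cast (by omega : 0 < Δ)
  set δ := Real.sqrt Δ with hδ
  have hδ2 : δ * δ = μ ^ 2 + 4 * (k - μ) := by rw [hδ, Real.mul_self_sqrt hΔ0.le, hΔr]
  have hδ0 : δ ≠ 0 := (Real.sqrt_pos.2 hΔ0).ne'
  set s : ℝ := (-μ - δ) / 2 with hs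
  set c : ℝ := (k - s) / n with hc
  have hcn : c * n = k - s := by rw [hc]; field_simp
  let B : Matrix V V ℝ := A - s • 1 - c • J
  have hB : B * B = δ • B := by
    simp only [B, Matrix.sub_mul, Matrix.mul_sub, Matrix.smul_mul, Matrix.mul_smul, h1, h2, h3, h4,
      Matrix.one_mul, Matrix.mul_one, smul_sub, smul_smul]
    have e1 : (k : ℝ) - μ + s * s = -(δ * s) := by rw [hs]; linear_combination (-1/4) * hδ2
    have e2 : -(μ : ℝ) - 2 * s = δ := by rw [hs]; ring
    have e3 : (μ : ℝ) - 2 * c * k + 2 * s * c + c * c * n = -(δ * c) := by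
      apply mul_right_cancel₀ hn0
      have : (μ : ℝ) * n = (k - s) * (k - s - δ) := by
        rw [hs]; linear_combination (-1 : ℝ) * hpar + (1/4) * hδ2
      linear_combination this + (-2 * k + 2 * s + c * n + (k - s) + δ) * hcn
    ext i j
    simp only [Matrix.sub_apply, Matrix.add_apply, Matrix.smul_apply, smul_eq_mul]
    linear_combination ((1 : Matrix V V ℝ) i j) * e1 + (A i j) * e2 + (J i j) * e3
  obtain ⟨f, hf⟩ := trace_idem_nat (δ⁻¹ • B) (by
    rw [Matrix.smul_mul, Matrix.mul_smul, hB, smul_smul δ⁻¹ δ, inv_mul_cancel₀ hδ0, one_smul])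
  have htr : B.trace = -(s * n) - (k - s) := by
    simp only [B, Matrix.trace_sub, Matrix.trace_smul, Matrix.trace_one, hA,
      SimpleGraph.trace_adjMatrix, smul_eq_mul, hn]
    have : J.trace = n := by simp [hJ, Matrix.trace, hn]
    rw [this, hcn]; ring
  rw [Matrix.trace_smul, htr, smul_eq_mul] at hf
  have key : δ * (2 * f - (n - 1)) = μ * (n - 1) - 2 * k := by
    have : -(s * n) - (k - s) = δ * f := by rw [← hf]; field_simp
    rw [hs] at this
    linear_combination (-2 : ℝ) * this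
  by_cases h0 : (2 * f - (n - 1) : ℝ) = 0
  · left
    rw [h0, mul_zero] at key
    have : (μ : ℝ) * n = μ + 2 * k := by linear_combination -key
    exact_mod_cast this
  · right
    by_contra hsq
    have hirr : Irrational δ := irrational_sqrt_natCast_iff.2 hsq
    apply hirr
    refine ⟨(μ * (n - 1) - 2 * k) / (2 * f - (n - 1)), ?_⟩
    push_cast
    rw [← key]; field_simp

theorem three_pow_params {m j : ℕ} (hj : j < m)
    (h : IsSquare ((3 ^ j) ^ 2 + 4 * (3 ^ m - 3 ^ j))) : m = 1 := by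
  obtain ⟨t, ht⟩ := h
  obtain ⟨i, rfl⟩ : ∃ i, m = j + 1 + i := ⟨m - (j + 1), by omega⟩
  have hle : 3 ^ j ≤ 3 ^ (j + 1 + i) := Nat.pow_le_pow_right (by norm_num) (by omega)
  have e : t * t + 4 * 3 ^ j = 3 ^ j * (3 ^ j + 12 * 3 ^ i) := by
    rw [← ht]
    have : 3 ^ (j + 1 + i) = 3 ^ j * 3 * 3 ^ i := by rw [pow_add, pow_succ]
    zify [hle]
    rw [show (3 : ℤ) ^ (j + 1 + i) = 3 ^ j * 3 * 3 ^ i by rw [pow_add, pow_succ]]
    ring
  rcases Nat.eq_zero_or_pos j with rfl | hj0
  · rcases Nat.eq_zero_or_pos i with rfl | hi0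
    · rfl
    · exfalso
      obtain ⟨i, rfl⟩ : ∃ i', i = i' + 1 := ⟨i - 1, by omega⟩
      rw [pow_succ] at e
      have h1 : t * t % 9 = 6 := by omega
      have h2 : ∀ r < 9, r * r % 9 ≠ 6 := by decide
      exact h2 (t % 9) (Nat.mod_lt _ (by norm_num)) (by rw [← Nat.mul_mod, h1])
  · exfalso
    have key : ∀ (j t u : ℕ), u % 3 = 2 → t * t ≠ 3 ^ j * u := by
      intro j
      induction j using Nat.strong_induction_on with
      | _ j ih =>
        intro t u hu h
        have h2 : ∀ r < 3, r * r % 3 ≠ 2 := by decide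
        match j, ih, h with
        | 0, _, h =>
          exact h2 (t % 3) (Nat.mod_lt _ (by norm_num)) (by rw [← Nat.mul_mod, h]; simpa using hu)
        | 1, _, h =>
          have : 3 ∣ t := (Nat.prime_three.dvd_mul.1 ⟨u, by rw [h]; ring⟩).elim id id
          obtain ⟨t, rfl⟩ := this
          have : u = 3 * (t * t) := by nlinarith
          omega
        | (j + 2), ih, h =>
          have : 3 ∣ t := (Nat.prime_three.dvd_mul.1 ⟨3 ^ (j + 1) * u, by rw [h]; ring⟩).elim id id
          obtain ⟨t, rfl⟩ := this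
          refine ih j (by omega) t u hu ?_
          have : 9 * (t * t) = 9 * (3 ^ j * u) := by rw [show 9 * (t * t) = 3 * t * (3 * t) by ring, h]; ring
          omega
    obtain ⟨j, rfl⟩ : ∃ j', j = j' + 1 := ⟨j - 1, by omega⟩
    have hp : 0 < 3 ^ i := by positivity
    refine key (j + 1) t (3 ^ (j + 1) + 12 * 3 ^ i - 4) ?_ ?_
    · rw [pow_succ]; omega
    · rw [Nat.mul_sub, ← e]; omega

end H0
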