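import Mathlib
import Cfsg.Agent.H0.Rec
import Cfsg.Agent.H0.Moufang
import Cfsg.Agent.H0.SRG

/-! Noncentral normal subgroups of `⟨D_d⟩`; the case without commuting triples. -/

set_option autoImplicit false

namespace H0

variable {G : Type*} [Group G]

theorem TT.block_of_noncentral {D : Set G} (hD : TT D) {d : G}
    (N : Subgroup (Subgroup.closure (Dx D d))) [hN : N.Normal] (h : ¬ N ≤ Subgroup.center _) :
    ∃ a ∈ Dx D d, ∃ b ∈ Dx D d, a ≠ b ∧ a * b ∈ N.map (Subgroup.subtype _) ∧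
      ∀ z ∈ Dx D d, Commute z a → ¬ Commute z b →
        z * a ∈ N.map (Subgroup.subtype _) ∧ z * b ∈ N.map (Subgroup.subtype _) := by
  let H := Subgroup.closure (Dx D d)
  let r : G → G → Prop := fun x y => ∃ n : H, n ∈ N ∧ cj (n : G) x = y
  have symm : ∀ x y, r x y → r y x := by
    rintro x _ ⟨n, hn, rfl⟩
    exact ⟨n⁻¹, inv_mem hn, by simp⟩
  have tr : ∀ x y z, r x y → r y z → r x z := by
    rintro x _ _ ⟨n, hn, rfl⟩ ⟨m, hm, rfl⟩
    exact ⟨m * n, mul_mem hm hn, by simp [cj_cj]⟩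
  have inv : ∀ a ∈ Dx D d, ∀ x y, r x y → r (cj a x) (cj a y) := by
    rintro a ha x _ ⟨n, hn, rfl⟩
    let a' : H := ⟨a, Subgroup.subset_closure ha⟩
    refine ⟨a' * n * a'⁻¹, hN.conj_mem n hn a', ?_⟩
    rw [cj_cj_conj a n x]; rfl
  have prod : ∀ x ∈ Dx D d, ∀ y, r x y → y * x ∈ N.map (Subgroup.subtype _) := by
    rintro x hx _ ⟨n, hn, rfl⟩
    let x' : H := ⟨x, Subgroup.subset_closure hx⟩
    refine ⟨n * (x' * n⁻¹ * x'⁻¹), mul_mem hn (hN.conj_mem _ (inv_mem hn) x'), ?_⟩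
    simp only [Subgroup.coe_subtype, Subgroup.coe_mul, Subgroup.coe_inv, x', cj, hD.inv hx.1]
    group
  have mem : ∀ x ∈ Dx D d, ∀ y, r x y → y ∈ Dx D d := by
    rintro x hx _ ⟨n, hn, rfl⟩
    have := (hD.mem_Dx_cj (g := (n : G))).2 hx
    rwa [cj_of_commute (PTT.commute_of_mem_closure n.2)] at this
  obtain ⟨n, hn, hnc⟩ := SetLike.not_le_iff_exists.1 h
  have : ∃ b ∈ Dx D d, cj (n : G) b ≠ b := by
    by_contra hcon
    push Not at hcon
    apply hnc
    rw [Subgroup.mem_center_iff]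
    rintro ⟨g, hg⟩
    apply Subtype.ext
    have : Commute (n : G) g := by
      induction hg using Subgroup.closure_induction with
      | mem z hz => exact cj_eq_self.1 (hcon z hz)
      | one => exact Commute.one_right _
      | mul p q _ _ hp hq => exact hp.mul_right hq
      | inv p _ hp => exact hp.inv_right
    exact this.symm.eq
  obtain ⟨b, hb, hne⟩ := this
  have hr : r b (cj (n : G) b) := ⟨n, hn, rfl⟩
  have ha := mem b hb _ hr
  refine ⟨_, ha, b, hb, hne, prod b hb _ hr, fun z hz hza hzb => ?_⟩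
  have h1 : r z b := hD.block symm tr hb.1 hz.1 (inv b hb) (inv z hz) hr hza hzb
  exact ⟨prod _ ha _ (symm _ _ (tr _ _ _ h1 hr)), prod _ hb _ (symm _ _ h1)⟩

/-- Moufang subspaces have order a power of three. -/
theorem TT.ncard_moufang [Finite G] {D : Set G} (hD : TT D) {E : Set G} (hE : E ⊆ D)
    (hne : E.Nonempty) (hcl : ∀ x ∈ E, ∀ y ∈ E, cj x y ∈ E)
    (hadj : ∀ x ∈ E, ∀ y ∈ E, Commute x y → x = y) : ∃ m, E.ncard = 3 ^ m := by
  have : Fact (Nat.Prime 3) := ⟨by norm_num⟩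
  set H := Subgroup.closure E with hH
  have hcl' : ∀ g ∈ H, ∀ y ∈ E, cj g y ∈ E ∧ cj g⁻¹ y ∈ E := by
    intro g hg
    induction hg using Subgroup.closure_induction with
    | mem z hz => intro y hy; rw [hD.inv (hE hz)]; exact ⟨hcl z hz y hy, hcl z hz y hy⟩
    | one => intro y hy; simpa using hy
    | mul p q _ _ hp hq =>
      intro y hy
      rw [mul_inv_rev, ← cj_cj, ← cj_cj]
      exact ⟨(hp _ (hq y hy).1).1, (hq _ (hp y hy).2).2⟩
    | inv p _ hp => intro y hy; rw [inv_inv]; exact ⟨(hp y hy).2, (hp y hy).1⟩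
  have br : ∀ x ∈ E, ∀ y ∈ E, cj x y = cj y x := by
    intro x hx y hy
    by_cases h : Commute x y
    · rw [hadj x hx y hy h]
    · exact hD.braid (hE hx) (hE hy) h
  let E' : Set H := {h | (h : G) ∈ E}
  obtain ⟨N, -, h3, hN⟩ := moufang (D := E') (fun a ha => Subtype.ext (hD.sq _ (hE ha)))
    (fun a ha g => (hcl' g g.2 a ha).1) (fun a ha b hb => Subtype.ext (br _ ha _ hb))
  obtain ⟨x, hx⟩ := hne
  let : MulAction N G := MulAction.compHom G
    ((MulAut.conj : G →* MulAut G).comp (H.subtype.comp N.subtype))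
  have hs : ∀ (n : N) (y : G), n • y = cj ((n : H) : G) y := fun _ _ => rfl
  obtain ⟨m, hm⟩ := h3.card_orbit x
  refine ⟨m, ?_⟩
  rw [← hm, ← Nat.card_coe_set_eq]
  congr 2
  ext y
  constructor
  · intro hy
    refine ⟨⟨⟨x, Subgroup.subset_closure hx⟩ * ⟨y, Subgroup.subset_closure hy⟩, hN _ hx _ hy⟩, ?_⟩
    change cj (x * y) x = y
    rw [← cj_cj, ← br x hx y hy, hD.cj_cj_same (hE hx)]
  · rintro ⟨n, rfl⟩
    exact (hcl' _ (n : H).2 x hx).1

/-- `b` is adjacent to `a`, but commutes with everything else in `{d, a}^⊥`. -/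
def Wodd (D : Set G) (d a b : G) : Prop :=
  b ∈ Dx D d ∧ ¬ Commute a b ∧ ∀ z ∈ D, Commute z d → Commute z a → z ≠ a → Commute z b

theorem Wodd.cj {D : Set G} (hD : TT D) {d a b : G} (h : Wodd D d a b) (g : G) :
    Wodd D (cj g d) (cj g a) (cj g b) := by
  refine ⟨hD.mem_Dx_cj.2 h.1, fun h' => h.2.1 (commute_cj.1 h'), fun z hz h1 h2 h3 => ?_⟩
  obtain ⟨z, rfl⟩ : ∃ w, H0.cj g w = z := ⟨_, cj_cj_inv g z⟩
  rw [commute_cj] at h1 h2 ⊢
  exact h.2.2 z (hD.mem_cj.1 hz) h1 h2 fun h' => h3 (by rw [h'])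

namespace PTT

variable {D : Set G} (hD : PTT D)
include hD

theorem ncard_inter_comm [Finite G] {a b c d : G} (ha : a ∈ D) (hc : c ∈ D) (hb : b ∈ Dx D a)
    (hd : d ∈ Dx D c) : (Dx D a ∩ Dx D b).ncard = (Dx D c ∩ Dx D d).ncard := by
  obtain ⟨g, rfl, rfl⟩ := hD.comm_pair_trans ha hc hb hd
  rw [← hD.toTT.image_Dx, ← hD.toTT.image_Dx, ← Set.image_inter (cj_injective g),
    Set.ncard_image_of_injective _ (cj_injective g)]

theorem ncard_inter_adj [Finite G] {a b c d : G} (ha : a ∈ D) (hb : b ∈ D) (hc : c ∈ D)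
    (hd : d ∈ D) (hab : ¬ Commute a b) (hcd : ¬ Commute c d) :
    (Dx D a ∩ Dx D b).ncard = (Dx D c ∩ Dx D d).ncard := by
  obtain ⟨g, rfl, rfl⟩ := hD.adj_pair_trans ha hb hc hd hab hcd
  rw [← hD.toTT.image_Dx, ← hD.toTT.image_Dx, ← Set.image_inter (cj_injective g),
    Set.ncard_image_of_injective _ (cj_injective g)]

theorem no_triple_of_wodd [Finite G] {d a b : G} (hd : d ∈ D) (ha : a ∈ Dx D d)
    (hW : Wodd D d a b) : Dx D d ∩ Dx D a = ∅ := by
  have T := hD.toTT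
  obtain ⟨hb, hab, hW'⟩ := id hW
  have hda : Commute d a := ha.2.2
  have hne : a ≠ b := fun h => hab (h ▸ Commute.refl a)
  obtain ⟨y, hy, hyb⟩ := hD.sep ha.1 hb.1 hne
  have hyd : ¬ Commute y d := fun h => hyb (hW' y hy.1 h hy.2.2.symm hy.2.1)
  -- the element swapping `d` and `a`
  have hu : cj y b ∈ D := T.conj _ hb.1 _
  have hud : ¬ Commute (cj y b) d := fun h =>
    T.adj_cj' hy.1 hb.1 hyb hb.2.2 (fun h' => hyd h'.symm) h.symm
  have hua : ¬ Commute (cj y b) a := fun h => T.adj_cj hy.2.2 hab h.symm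
  have hW2 : Wodd D a d y := by
    have := hW.cj T (cj y b * cj (d * a) (cj y b))
    rw [T.swap_left hd ha.1 hu hda hud hua, T.swap_right hd ha.1 hu hda hud hua] at this
    have e : cj (cj y b * cj (d * a) (cj y b)) b = y := by
      have k : Commute (cj (d * a) (cj y b)) b := by
        have e1 : cj (d * a) (cj y b) = cj d (cj y (cj a b)) := by
          rw [← cj_cj, cj_cj_conj a y b, cj_of_commute hy.2.2]
        rw [e1, commute_cj_left hb.2.2, T.braid ha.1 hb.1 hab, ← commute_cj (g := y),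
          T.cj_cj_same hy.1, T.braid hy.1 hb.1 hyb, commute_cj]
        exact hy.2.2
      rw [← cj_cj, cj_of_commute k, T.cj_cj_right hy.1 hb.1 hyb]
    rwa [e] at this
  have hsub : Dx D d ∩ Dx D a ⊆ Dx D a ∩ Dx D y := by
    rintro z ⟨h1, h2⟩
    refine ⟨h2, h1.1, fun h => hyd (h ▸ h1.2.2.symm), ?_⟩
    exact (hW2.2.2 z h1.1 h2.2.2.symm h1.2.2.symm h1.2.1).symm
  have heq : Dx D d ∩ Dx D a = Dx D a ∩ Dx D y :=
    Set.eq_of_subset_of_ncard_le hsub (hD.ncard_inter_comm ha.1 hd hy ha).le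
  by_contra hcon
  obtain ⟨x0, hx0⟩ := Set.nonempty_iff_ne_empty.2 hcon
  have : ∃ x ∈ Dx D d ∩ Dx D a, ∃ e, AdjIn D d x e ∧ e ∉ Dx D d ∩ Dx D a := by
    by_contra hc
    push Not at hc
    have := rtg_closed hc (hD.Dx_connected hd hx0.1 ha) hx0
    exact this.2.2.1 rfl
  obtain ⟨x, hx, e, ⟨-, he, hxe⟩, hen⟩ := this
  have hea : ¬ Commute e a := fun h => hen ⟨he, he.1, fun h' => hxe (h' ▸ hx.2.2.2.symm), h.symm⟩
  have hex : ¬ Commute e x := fun h => hxe h.symm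
  have hax : Commute a x := hx.2.2.2
  set e' := cj (a * x) e with he'
  have he'D : e' ∈ D := T.conj _ he.1 _
  have hsd : cj (e * e') d = d := by
    apply cj_of_commute
    refine he.2.2.symm.mul_left ?_
    exact (TT.commute_cj_of (hda.mul_right hx.1.2.2) he.2.2).symm
  have hW3 := hW2.cj T (e * e')
  rw [T.swap_left ha.1 hx.1.1 he.1 hax hea hex, hsd] at hW3
  have hxy : Commute x y := (hsub hx).2.2.2.symm
  have hfix : cj (e * e') y ≠ y := by
    intro h
    rw [h] at hW3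
    have hbx : Commute b x := (hW' x hx.1.1 hx.1.2.2.symm hax.symm hx.2.2.1).symm
    exact hyb (hW3.2.2 b hb.1 hbx hb.2.2.symm hb.2.1).symm
  have hyax : Commute (a * x) y := hy.2.2.mul_left hxy
  have hye : ¬ Commute y e := by
    intro h
    apply hfix
    apply cj_of_commute
    exact h.symm.mul_left (TT.commute_cj_of hyax.symm h).symm
  have hye' : ¬ Commute y e' := T.adj_cj hyax.symm hye
  have hc1 : Commute y (cj (e * e') y) :=
    T.commute_cj_mul he.1 he'D hy.1 (T.partner_commute ha.1 hx.1.1 he.1 hax hea hex) hye hye'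
  have hsx := T.swap_right ha.1 hx.1.1 he.1 hax hea hex
  have hmem : cj (e * e') y ∈ Dx D a ∩ Dx D y := by
    refine ⟨⟨T.conj _ hy.1 _, fun h => ?_, ?_⟩, T.conj _ hy.1 _, hfix, hc1⟩
    · rw [← hsx, cj_inj] at h
      exact hyd (h ▸ hx.1.2.2.symm)
    · rw [← hsx, commute_cj]; exact hxy
  rw [← heq] at hmem
  have := hmem.1.2.2
  rw [← hsd, commute_cj] at this
  exact hyd this.symm

theorem ncard_Dx_of_no_triple [Finite G] (h : ∀ d ∈ D, ∀ a ∈ Dx D d, Dx D d ∩ Dx D a = ∅)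
    {d y a : G} (hd : d ∈ D) (hy : y ∈ D) (hdy : ¬ Commute d y) (ha : a ∈ Dx D d ∩ Dx D y) :
    (Dx D d).ncard = 3 := by
  classical
  have T := hD.toTT
  have hadj : ∀ d ∈ D, ∀ x ∈ Dx D d, ∀ z ∈ Dx D d, Commute x z → x = z := by
    intro d hd x hx z hz hc
    by_contra hne
    have : z ∈ Dx D d ∩ Dx D x := ⟨hz, hz.1, fun h => hne h.symm, hc⟩
    rw [h d hd x hx] at this
    exact this
  have hcl : ∀ d, ∀ x ∈ Dx D d, ∀ z ∈ Dx D d, cj x z ∈ Dx D d := by
    intro d x hx z hz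
    have := (T.mem_Dx_cj (g := x)).2 hz
    rwa [cj_of_commute hx.2.2.symm] at this
  obtain ⟨m, hm⟩ := T.ncard_moufang (E := Dx D d) (fun _ h => h.1) ⟨a, ha.1⟩ (hcl d) (hadj d hd)
  obtain ⟨j, hj⟩ := T.ncard_moufang (E := Dx D d ∩ Dx D y) (fun _ h => h.1.1) ⟨a, ha⟩
    (fun x hx z hz => ⟨hcl d x hx.1 z hz.1, hcl y x hx.2 z hz.2⟩)
    (fun x hx z hz => hadj d hd x hx.1 z hz.1)
  have hlt : 3 ^ j < 3 ^ m := by
    rw [← hj, ← hm]
    refine Set.ncard_lt_ncard ⟨Set.inter_subset_left, fun hs => ?_⟩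
    obtain ⟨f, hf, hfy⟩ := hD.sep hd hy (fun h => hdy (h ▸ Commute.refl d))
    exact hfy (hs hf).2.2.2.symm
  have hjm : j < m := (Nat.pow_lt_pow_iff_right (by norm_num)).1 hlt
  let : Fintype D := Fintype.ofFinite D
  let Γ : SimpleGraph D :=
    { Adj := fun x z => x ≠ z ∧ Commute (x : G) z
      symm := ⟨fun x z h => ⟨h.1.symm, h.2.symm⟩⟩
      loopless := ⟨fun x h => h.1 rfl⟩ }
  have hN : ∀ x : D, Subtype.val '' Γ.neighborSet x = Dx D x := by
    intro x
    ext z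
    constructor
    · rintro ⟨z, hz, rfl⟩
      exact ⟨z.2, fun h => hz.1 (Subtype.ext h.symm), hz.2⟩
    · intro hz
      exact ⟨⟨z, hz.1⟩, ⟨fun h => hz.2.1 (congrArg Subtype.val h).symm, hz.2.2⟩, rfl⟩
  have hC : ∀ x z : D, Fintype.card (Γ.commonNeighbors x z) = (Dx D x ∩ Dx D z).ncard := by
    intro x z
    rw [← hN, ← hN, ← Set.image_inter Subtype.val_injective,
      Set.ncard_image_of_injective _ Subtype.val_injective, ← Nat.card_eq_fintype_card,
      Nat.card_coe_set_eq]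
    rfl
  have hS : Γ.IsSRGWith (Fintype.card D) (3 ^ m) 0 (3 ^ j) := by
    refine ⟨rfl, fun x => ?_, fun x z hxz => ?_, fun x z hne hxz => ?_⟩
    · rw [← SimpleGraph.card_neighborSet_eq_degree, ← Nat.card_eq_fintype_card,
        Nat.card_coe_set_eq, ← Set.ncard_image_of_injective _ Subtype.val_injective, hN,
        T.ncard_Dx x.2 hd, hm]
    · rw [hC, h x x.2 z ⟨z.2, fun h => hxz.1 (Subtype.ext h.symm), hxz.2⟩, Set.ncard_empty]
    · rw [hC, hD.ncard_inter_adj x.2 z.2 hd hy (fun h => hxz ⟨hne, h⟩) hdy, hj]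
  have : Nonempty D := ⟨⟨d, hd⟩⟩
  rcases srg_square Γ hS hlt with h1 | h1
  · exfalso
    have h2 := hS.param_eq Γ Fintype.card_pos
    have h3 : 3 ≤ 3 ^ m := by
      calc 3 = 3 ^ 1 := rfl
        _ ≤ 3 ^ m := Nat.pow_le_pow_right (by norm_num) (by omega)
    have h4 : 1 ≤ 3 ^ j := Nat.one_le_pow _ _ (by norm_num)
    generalize 3 ^ m = k at *
    generalize 3 ^ j = μ at *
    generalize Fintype.card D = n at *
    obtain ⟨k, rfl⟩ : ∃ t, k = t + 3 := ⟨k - 3, by omega⟩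
    have h5 : k + 3 - 0 - 1 = k + 2 := by omega
    rw [h5] at h2
    by_cases hn : n ≤ k + 4
    · have : n - (k + 3) - 1 = 0 := by omega
      rw [this] at h2
      simp at h2
    · obtain ⟨n, rfl⟩ : ∃ t, n = t + (k + 4) := ⟨n - (k + 4), by omega⟩
      have : n + (k + 4) - (k + 3) - 1 = n := by omega
      rw [this] at h2
      nlinarith
  · rw [hm, three_pow_params hjm h1]; rfl

end PTT

end H0
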