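import Mathlib
import Cfsg.Agent.H0.Odd

/-! The polar space of a 3-transposition class with thick lines. -/

set_option autoImplicit false
set_option linter.unusedSectionVars false

namespace H0

variable {G : Type*} [Group G]

/-- the double perp of two points -/
def Ln (D : Set G) (p q : G) : Set G :=
  {z | z ∈ D ∧ ∀ w ∈ D, Commute w p → Commute w q → Commute w z}

theorem Ln_symm (D : Set G) (p q : G) : Ln D p q = Ln D q p := by
  ext z
  exact ⟨fun h => ⟨h.1, fun w hw h1 h2 => h.2 w hw h2 h1⟩,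
    fun h => ⟨h.1, fun w hw h1 h2 => h.2 w hw h2 h1⟩⟩

theorem left_mem_Ln {D : Set G} {p q : G} (hp : p ∈ D) : p ∈ Ln D p q := ⟨hp, fun _ _ h _ => h⟩

theorem right_mem_Ln {D : Set G} {p q : G} (hq : q ∈ D) : q ∈ Ln D p q := ⟨hq, fun _ _ _ h => h⟩

theorem Ln_sub {D : Set G} {p q a b : G} (ha : a ∈ Ln D p q) (hb : b ∈ Ln D p q) :
    Ln D a b ⊆ Ln D p q :=
  fun _ hz => ⟨hz.1, fun w hw h1 h2 => hz.2 w hw (ha.2 w hw h1 h2) (hb.2 w hw h1 h2)⟩

theorem TT.mem_Ln_cj {D : Set G} (hD : TT D) {g p q z : G} :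
    cj g z ∈ Ln D (cj g p) (cj g q) ↔ z ∈ Ln D p q := by
  constructor
  · intro h
    refine ⟨hD.mem_cj.1 h.1, fun w hw h1 h2 => ?_⟩
    exact commute_cj.1 (h.2 _ (hD.conj w hw g) (commute_cj.2 h1) (commute_cj.2 h2))
  · intro h
    refine ⟨hD.conj _ h.1 g, fun w hw h1 h2 => ?_⟩
    obtain ⟨w, rfl⟩ : ∃ u, cj g u = w := ⟨_, cj_cj_inv g w⟩
    exact commute_cj.2 (h.2 w (hD.mem_cj.1 hw) (commute_cj.1 h1) (commute_cj.1 h2))

theorem TT.image_Ln {D : Set G} (hD : TT D) (g p q : G) :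
    cj g '' Ln D p q = Ln D (cj g p) (cj g q) := by
  ext z
  constructor
  · rintro ⟨w, hw, rfl⟩; exact hD.mem_Ln_cj.2 hw
  · intro hz
    obtain ⟨z, rfl⟩ : ∃ u, cj g u = z := ⟨_, cj_cj_inv g z⟩
    exact ⟨z, hD.mem_Ln_cj.1 hz, rfl⟩

theorem TT.cj_mem_Ln {D : Set G} (hD : TT D) {p q a b : G} (ha : a ∈ Ln D p q)
    (hb : b ∈ Ln D p q) : cj a b ∈ Ln D p q :=
  ⟨hD.conj _ hb.1 _, fun w hw h1 h2 => TT.commute_cj_of (ha.2 w hw h1 h2) (hb.2 w hw h1 h2)⟩

/-- a line of the polar space -/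
def IsLine (D L : Set G) : Prop := ∃ p ∈ D, ∃ q ∈ D, p ≠ q ∧ Commute p q ∧ L = Ln D p q

theorem isLine_Ln {D : Set G} {p q : G} (hp : p ∈ D) (hq : q ∈ D) (hne : p ≠ q)
    (hc : Commute p q) : IsLine D (Ln D p q) := ⟨p, hp, q, hq, hne, hc, rfl⟩

theorem IsLine.sub {D L : Set G} (h : IsLine D L) : L ⊆ D := by
  obtain ⟨p, -, q, -, -, -, rfl⟩ := h
  exact fun _ hz => hz.1

theorem IsLine.comm {D L : Set G} (h : IsLine D L) {a b : G} (ha : a ∈ L) (hb : b ∈ L) :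
    Commute a b := by
  obtain ⟨p, hp, q, hq, -, hc, rfl⟩ := h
  exact hb.2 a ha.1 (ha.2 p hp (Commute.refl p) hc).symm (ha.2 q hq hc.symm (Commute.refl q)).symm

theorem ncard_invol {α : Type*} {S : Set α} (hS : S.Finite) (f : α → α) (hf : ∀ x ∈ S, f x ∈ S)
    (h2 : ∀ x ∈ S, f (f x) = x) : S.ncard ≡ {x | x ∈ S ∧ f x = x}.ncard [MOD 2] := by
  classical
  have : Fact (Nat.Prime 2) := ⟨Nat.prime_two⟩
  have := hS.fintype
  let f' : Function.End S := fun x => ⟨f x, hf x x.2⟩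
  have h := Equiv.Perm.card_fixedPoints_modEq (f := f') (p := 2) (n := 1)
    (funext fun x => Subtype.ext (h2 x x.2))
  rw [← Nat.card_eq_fintype_card, ← Nat.card_eq_fintype_card, Nat.card_coe_set_eq,
    Nat.card_coe_set_eq, ← Set.ncard_image_of_injective _ Subtype.val_injective] at h
  convert h using 2
  ext x
  constructor
  · rintro ⟨h1, h2⟩; exact ⟨⟨x, h1⟩, Subtype.ext h2, rfl⟩
  · rintro ⟨x, hx, rfl⟩; exact ⟨x.2, congrArg Subtype.val hx⟩

/-- primitive class with thick lines -/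
structure Pol (D : Set G) : Prop extends PTT D where
  thick : ∃ d ∈ D, ∃ a ∈ Dx D d, ∃ b ∈ Ln D d a, b ≠ d ∧ b ≠ a

namespace PTT

variable [Finite G] {D : Set G} (hD : PTT D)
include hD

theorem ncard_line {L L' : Set G} (h : IsLine D L) (h' : IsLine D L') : L.ncard = L'.ncard := by
  obtain ⟨p, hp, q, hq, hne, hc, rfl⟩ := h
  obtain ⟨p', hp', q', hq', hne', hc', rfl⟩ := h'
  obtain ⟨g, rfl, rfl⟩ := hD.comm_pair_trans hp hp' ⟨hq, hne.symm, hc⟩ ⟨hq', hne'.symm, hc'⟩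
  rw [← hD.toTT.image_Ln, Set.ncard_image_of_injective _ (cj_injective g)]

theorem line_eq {L : Set G} (h : IsLine D L) {a b : G} (ha : a ∈ L) (hb : b ∈ L) (hne : a ≠ b) :
    Ln D a b = L := by
  have h' := isLine_Ln (h.sub ha) (h.sub hb) hne (h.comm ha hb)
  refine Set.eq_of_subset_of_ncard_le ?_ (hD.ncard_line h h').le
  obtain ⟨p, -, q, -, -, -, rfl⟩ := h
  exact Ln_sub ha hb

theorem all_of_two {L : Set G} (h : IsLine D L) {a b w z : G} (ha : a ∈ L) (hb : b ∈ L)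
    (hne : a ≠ b) (hw : w ∈ D) (h1 : Commute w a) (h2 : Commute w b) (hz : z ∈ L) :
    Commute w z := by
  rw [← hD.line_eq h ha hb hne] at hz
  exact hz.2 w hw h1 h2

/-- a point commuting with `m` but not with `a` is adjacent to the other points of the line -/
theorem adj_of_mu {L : Set G} (h : IsLine D L) {m a b w : G} (hm : m ∈ L) (ha : a ∈ L)
    (hb : b ∈ L) (hne : b ≠ m) (hw : w ∈ D) (h1 : Commute w m) (h2 : ¬ Commute w a) :
    ¬ Commute w b := fun h3 => h2 (hD.all_of_two h hb hm hne hw h3 h1 ha)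

theorem mu_unique {L : Set G} (h : IsLine D L) {m a b w : G} (hm : m ∈ L) (ha : a ∈ L)
    (hb : b ∈ L) (hw : w ∈ D) (h1 : Commute w m) (h2 : ¬ Commute w a) (h3 : Commute w b) :
    b = m := by
  by_contra hne
  exact hD.adj_of_mu h hm ha hb hne hw h1 h2 h3

theorem cj_mem_line {L : Set G} (h : IsLine D L) {a b g z : G} (ha : a ∈ L) (hb : b ∈ L)
    (hne : a ≠ b) (h1 : cj g a ∈ L) (h2 : cj g b ∈ L) (hz : z ∈ L) : cj g z ∈ L := by
  rw [← hD.line_eq h h1 h2 (fun h' => hne (cj_inj.1 h')), hD.toTT.mem_Ln_cj,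
    hD.line_eq h ha hb hne]
  exact hz

section swap

variable {L : Set G} (h : IsLine D L) {a b y : G} (ha : a ∈ L) (hb : b ∈ L) (hne : a ≠ b)
  (hy : y ∈ D) (hya : ¬ Commute y a) (hyb : ¬ Commute y b)
include h ha hb hne hy hya hyb

theorem swap_mem {z : G} (hz : z ∈ L) : cj (y * cj (a * b) y) z ∈ L := by
  refine hD.cj_mem_line h ha hb hne ?_ ?_ hz
  · rwa [hD.toTT.swap_left (h.sub ha) (h.sub hb) hy (h.comm ha hb) hya hyb]
  · rwa [hD.toTT.swap_right (h.sub ha) (h.sub hb) hy (h.comm ha hb) hya hyb]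

theorem swap_swap (z : G) : cj (y * cj (a * b) y) (cj (y * cj (a * b) y) z) = z := by
  rw [cj_cj, hD.toTT.swap_sq (h.sub ha) (h.sub hb) hy (h.comm ha hb) hya hyb, cj_one]

theorem swap_fix {z : G} (hz : z ∈ L) : cj (y * cj (a * b) y) z = z ↔ Commute y z := by
  have T := hD.toTT
  constructor
  · intro h1
    exact (T.commute_of_mul hy (T.conj _ hy _) (h.sub hz)
      (T.partner_ne (h.sub ha) (h.sub hb) hy (h.comm ha hb) hne hya) (cj_eq_self.1 h1).symm
      (T.partner_commute (h.sub ha) (h.sub hb) hy (h.comm ha hb) hya hyb)).1.symm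
  · intro h1
    exact cj_of_commute (h1.mul_left
      (TT.commute_cj_of ((h.comm hz ha).mul_right (h.comm hz hb)) h1.symm).symm)

theorem swap_parity : L.ncard ≡ {z | z ∈ L ∧ Commute y z}.ncard [MOD 2] := by
  have := ncard_invol (Set.toFinite L) (cj (y * cj (a * b) y))
    (fun z hz => hD.swap_mem h ha hb hne hy hya hyb hz)
    (fun z _ => hD.swap_swap h ha hb hne hy hya hyb z)
  convert this using 2
  ext z
  exact and_congr_right fun hz => (hD.swap_fix h ha hb hne hy hya hyb hz).symm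

/-- the partner can be computed from any pair swapped -/
theorem swap_partner {x : G} (hx : x ∈ L) (hyx : ¬ Commute y x) :
    cj (x * cj (y * cj (a * b) y) x) y = cj (a * b) y := by
  have T := hD.toTT
  set y1 := cj (a * b) y with hy1
  have hy1D : y1 ∈ D := T.conj _ hy _
  have h1 : ¬ Commute y1 x := by
    rwa [commute_cj_left ((h.comm ha hx).mul_left (h.comm hb hx))]
  have hc : Commute y y1 := T.partner_commute (h.sub ha) (h.sub hb) hy (h.comm ha hb) hya hyb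
  have h2 : ¬ Commute y (cj y1 x) := T.adj_cj hc hyx
  rw [← cj_cj, ← cj_cj y y1 x, T.cj_cj_left hy (T.conj _ (h.sub hx) _) h2,
    T.braid hy1D (h.sub hx) h1, T.cj_cj_same (h.sub hx)]

end swap

/-- partners lie on the line through `y` and its foot -/
theorem partner_mem_Ln {L : Set G} (h : IsLine D L) {m a b y : G} (hm : m ∈ L) (ha : a ∈ L)
    (hb : b ∈ L) (hy : y ∈ D) (hym : Commute y m) (hya : ¬ Commute y a) (hyb : ¬ Commute y b) :
    cj (a * b) y ∈ Ln D y m := by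
  have T := hD.toTT
  have hne : a ≠ m := fun h' => hya (h' ▸ hym)
  have hbD := h.sub hb
  rw [← hD.line_eq h ha hm hne, ← T.mem_Ln_cj (g := y), ← T.mem_Ln_cj (g := a),
    T.braid hy (h.sub ha) hya, T.cj_cj_same (h.sub ha), cj_of_commute hym,
    cj_of_commute (h.comm ha hm), T.braid hy hbD hyb, cj_cj] at hb
  exact hb

theorem exists_partner {L : Set G} (h : IsLine D L) {m a y z : G} (hm : m ∈ L) (ha : a ∈ L)
    (hy : y ∈ D) (hym : Commute y m) (hya : ¬ Commute y a) (hz : z ∈ Ln D y m) (hzm : z ≠ m) :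
    ∃ b ∈ L, b ≠ m ∧ z = cj (a * b) y := by
  have T := hD.toTT
  have hne : a ≠ m := fun h' => hya (h' ▸ hym)
  have h1 : cj y (cj a z) ∈ L := by
    rw [← hD.line_eq h ha hm hne, ← T.mem_Ln_cj (g := y), ← T.mem_Ln_cj (g := a),
      T.braid hy (h.sub ha) hya, T.cj_cj_same (h.sub ha), cj_of_commute hym,
      cj_of_commute (h.comm ha hm), T.cj_cj_same hy, T.cj_cj_same (h.sub ha)]
    exact hz
  have h2 : cj y (cj a z) ≠ m := by
    intro h'
    apply hzm
    rw [← T.cj_cj_same (h.sub ha) z, ← T.cj_cj_same hy (cj a z), h', cj_of_commute hym,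
      cj_of_commute (h.comm ha hm)]
  refine ⟨_, h1, h2, ?_⟩
  rw [← cj_cj, ← T.braid hy (h.sub h1) (hD.adj_of_mu h hm ha h1 h2 hy hym hya), T.cj_cj_same hy,
    T.cj_cj_same (h.sub ha)]

end PTT

namespace Pol

variable [Finite G] {D : Set G} (hD : Pol D)
include hD

theorem exists_third {L : Set G} (h : IsLine D L) (a b : G) : ∃ c ∈ L, c ≠ a ∧ c ≠ b := by
  obtain ⟨d, hd, e, he, f, hf, h1, h2⟩ := hD.thick
  have h3 : 3 ≤ L.ncard := by
    rw [hD.toPTT.ncard_line h (isLine_Ln hd he.1 he.2.1.symm he.2.2),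
      ← Set.ncard_eq_three.2 ⟨d, e, f, he.2.1.symm, h1.symm, h2.symm, rfl⟩]
    refine Set.ncard_le_ncard ?_
    rintro z (rfl | rfl | rfl)
    exacts [left_mem_Ln hd, right_mem_Ln he.1, hf]
  obtain ⟨c, hc, hn⟩ := Set.exists_mem_notMem_of_ncard_lt_ncard (s := {a, b}) (t := L)
    (lt_of_le_of_lt (Set.ncard_insert_le _ _) (by rw [Set.ncard_singleton]; omega))
  simp only [Set.mem_insert_iff, Set.mem_singleton_iff, not_or] at hn
  exact ⟨c, hc, hn⟩

theorem odd_line {L : Set G} (h : IsLine D L) : L.ncard ≡ 1 [MOD 2] := by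
  have P := hD.toPTT
  obtain ⟨p, hp, q, hq, hne, hc, hL⟩ := id h
  have hpL : p ∈ L := hL ▸ left_mem_Ln hp
  have hqL : q ∈ L := hL ▸ right_mem_Ln hq
  obtain ⟨y, hy, hyq⟩ := P.sep hp hq hne
  obtain ⟨c, hc, h1, h2⟩ := hD.exists_third h p q
  have hyc := P.adj_of_mu h hpL hqL hc h1 hy.1 hy.2.2.symm hyq
  have := P.swap_parity h hc hqL h2 hy.1 hyc hyq
  rwa [show {z | z ∈ L ∧ Commute y z} = {p} from ?_, Set.ncard_singleton] at this
  ext z
  exact ⟨fun hz => P.mu_unique h hpL hqL hz.1 hy.1 hy.2.2.symm hyq hz.2,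
    fun hz => hz ▸ ⟨hpL, hy.2.2.symm⟩⟩

/-- the one-or-all axiom -/
theorem exists_mu {L : Set G} (h : IsLine D L) {y : G} (hy : y ∈ D) : ∃ m ∈ L, Commute y m := by
  have P := hD.toPTT
  by_contra hcon
  push Not at hcon
  obtain ⟨p, hp, q, hq, hne, hc, hL⟩ := id h
  have hpL : p ∈ L := hL ▸ left_mem_Ln hp
  have hqL : q ∈ L := hL ▸ right_mem_Ln hq
  have := P.swap_parity h hpL hqL hne hy (hcon p hpL) (hcon q hqL)
  rw [show {z | z ∈ L ∧ Commute y z} = ∅ from Set.eq_empty_of_forall_notMem fun z hz =>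
    hcon z hz.1 hz.2, Set.ncard_empty] at this
  exact absurd ((hD.odd_line h).symm.trans this) (by decide)

theorem exists_M {x y : G} (hx : x ∈ D) (hy : y ∈ D) : ∃ m ∈ D, Commute m x ∧ Commute m y := by
  obtain ⟨e, he⟩ := hD.toPTT.Dx_ne hx
  have hL := isLine_Ln hx he.1 he.2.1.symm he.2.2
  obtain ⟨m, hm, h1⟩ := hD.exists_mu hL hy
  exact ⟨m, hm.1, hL.comm hm (left_mem_Ln hx), h1.symm⟩

theorem exists_adj_M {x y m : G} (hx : x ∈ D) (hy : y ∈ D) (hm : m ∈ D) (hxy : ¬ Commute x y)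
    (hmx : Commute m x) (hmy : Commute m y) :
    ∃ e ∈ D, Commute e x ∧ Commute e y ∧ ¬ Commute e m := by
  have P := hD.toPTT
  obtain ⟨e, he, hem⟩ := P.sep hy hm fun h => hxy (h ▸ hmx.symm)
  have hL := isLine_Ln hy he.1 he.2.1.symm he.2.2
  obtain ⟨e', he', h1⟩ := hD.exists_mu hL hx
  refine ⟨e', he'.1, h1.symm, hL.comm he' (left_mem_Ln hy), fun h => ?_⟩
  exact P.adj_of_mu hL (left_mem_Ln hy) (right_mem_Ln he.1) he' (fun h' => hxy (h' ▸ h1)) hm hmy
    (fun h' => hem h'.symm) h.symm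

theorem line_le_five {L : Set G} (h : IsLine D L) : L.ncard ≤ 5 := by
  have P := hD.toPTT
  have T := P.toTT
  by_contra hcon
  have pick : ∀ a b c d e : G, ∃ x ∈ L, x ≠ a ∧ x ≠ b ∧ x ≠ c ∧ x ≠ d ∧ x ≠ e := by
    intro a b c d e
    obtain ⟨x, hx, hn⟩ := Set.exists_mem_notMem_of_ncard_lt_ncard (s := {a, b, c, d, e}) (t := L)
      (by
        have h1 := Set.ncard_insert_le a ({b, c, d, e} : Set G)
        have h2 := Set.ncard_insert_le b ({c, d, e} : Set G)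
        have h3 := Set.ncard_insert_le c ({d, e} : Set G)
        have h4 := Set.ncard_insert_le d ({e} : Set G)
        rw [Set.ncard_singleton] at h4
        omega)
    simp only [Set.mem_insert_iff, Set.mem_singleton_iff, not_or] at hn
    exact ⟨x, hx, hn⟩
  obtain ⟨m, hm, p, hp, hne, -, hL⟩ := id h
  have hmL : m ∈ L := hL ▸ left_mem_Ln hm
  have hpL : p ∈ L := hL ▸ right_mem_Ln hp
  obtain ⟨y, ⟨hy, -, hmy⟩, hyp⟩ := P.sep hm hp hne
  obtain ⟨y', hy', hy'y, hy'p, hy'm⟩ := hD.exists_adj_M hy hp hm hyp hmy (h.comm hmL hpL)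
  have Ay : ∀ z ∈ L, z ≠ m → ¬ Commute y z := fun z hz hn =>
    P.adj_of_mu h hmL hpL hz hn hy hmy.symm hyp
  have Ay' : ∀ z ∈ L, z ≠ p → ¬ Commute y' z := fun z hz hn =>
    P.adj_of_mu h hpL hmL hz hn hy' hy'p hy'm
  obtain ⟨d, hd, hdm, hdp, -⟩ := pick m p m m m
  obtain ⟨c, hc, hcm, hcp, hcd, -⟩ := pick m p d m m
  have hyd := Ay d hd hdm
  have hyc := Ay c hc hcm
  have smem := fun z => P.swap_mem h hd hc hcd.symm hy hyd hyc (z := z)
  have sswap := P.swap_swap h hd hc hcd.symm hy hyd hyc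
  have sfix := fun z => P.swap_fix h hd hc hcd.symm hy hyd hyc (z := z)
  have spart := fun z => P.swap_partner h hd hc hcd.symm hy hyd hyc (x := z)
  have sd := T.swap_left (h.sub hd) (h.sub hc) hy (h.comm hd hc) hyd hyc
  set s := y * cj (d * c) y with hs
  obtain ⟨x, hx, hxm, hxp, hxd, hxc, hxr⟩ := pick m p d c (cj s p)
  have hx' := smem x hx
  have hx'p : cj s x ≠ p := fun h' => hxr (by rw [← h', sswap])
  have hx'x : cj s x ≠ x := fun h' => Ay x hx hxm ((sfix x hx).1 h')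
  have hx'c : cj s x ≠ c := fun h' => hxd (cj_inj.1 (h'.trans sd.symm))
  have e1 := spart x hx (Ay x hx hxm)
  set x' := cj s x with hx'def
  have hy1 : cj (d * c) y ∈ D := T.conj _ hy _
  have hyy' : y' ≠ p := fun h' => hy'm (h' ▸ h.comm hpL hmL)
  have hL' := isLine_Ln hy' hp hyy' hy'p
  have e2 : cj (x * x') y' = cj (d * c) y' := by
    refine P.mu_unique hL' (P.partner_mem_Ln h hpL hd hc hy' hy'p (Ay' d hd hdp) (Ay' c hc hcp))
      (right_mem_Ln hp) (P.partner_mem_Ln h hpL hx hx' hy' hy'p (Ay' x hx hxp) (Ay' x' hx' hx'p))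
      hy1 (commute_cj.2 hy'y.symm) ?_ ?_
    · rwa [commute_cj_left ((h.comm hd hpL).mul_left (h.comm hc hpL))]
    · rw [← e1]; exact commute_cj.2 hy'y.symm
  have hsq : ∀ z, cj (d * c) (cj (d * c) z) = z := by
    intro z
    rw [cj_cj, mul_assoc, ← mul_assoc c d c, ← (h.comm hd hc).eq, mul_assoc, T.sq c (h.sub hc),
      mul_one, T.sq d (h.sub hd), cj_one]
  have f1 : cj (d * c * (x * x')) y = y := by rw [← cj_cj, e1, hsq]
  have f2 : cj (d * c * (x * x')) y' = y' := by rw [← cj_cj, e2, hsq]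
  have hyne : y ≠ y' := fun h' => hyp (h' ▸ hy'p)
  have hL2 := isLine_Ln hy hy' hyne hy'y.symm
  obtain ⟨w, hw, hdw⟩ := hD.exists_mu hL2 (h.sub hd)
  have hzd : Commute (d * c * (x * x')) d :=
    ((Commute.refl d).mul_left (h.comm hc hd)).mul_left ((h.comm hx hd).mul_left (h.comm hx' hd))
  have f3 : cj (d * c * (x * x')) w = w := by
    refine P.mu_unique hL2 hw (left_mem_Ln hy) ?_ (h.sub hd) hdw (fun h' => hyd h'.symm) ?_
    · rw [← f1, ← f2] at hL2
      have := (T.mem_Ln_cj (g := d * c * (x * x'))).2 hw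
      rwa [f1, f2] at this
    · rwa [commute_cj_right hzd]
  have f4 : Commute w (c * x * x') := by
    have := hdw.symm.mul_right (cj_eq_self.1 f3).symm
    rwa [← mul_assoc, ← mul_assoc, ← mul_assoc, T.sq d (h.sub hd), one_mul] at this
  have f5 : Commute w c := T.commute_of_mul3 (h.sub hc) (h.sub hx) (h.sub hx') hw.1 hxc.symm
    hx'c.symm hx'x.symm (h.comm hc hx) (h.comm hc hx') (h.comm hx hx') f4
  have f6 : Commute w m := P.all_of_two h hd hc hcd.symm hw.1 hdw.symm f5 hmL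
  exact hy'm (P.all_of_two hL2 hw (left_mem_Ln hy) (fun h' => hyd (h' ▸ hdw.symm)) hm f6.symm hmy
    (right_mem_Ln hy')).symm

theorem line_card {L : Set G} (h : IsLine D L) : L.ncard = 3 ∨ L.ncard = 5 := by
  have h1 := hD.line_le_five h
  have h2 := hD.odd_line h
  obtain ⟨p, hp, q, hq, hne, hc, hL⟩ := id h
  have h3 : 2 ≤ L.ncard := by
    rw [← Set.ncard_pair hne]
    refine Set.ncard_le_ncard ?_
    rintro z (rfl | rfl)
    exacts [hL ▸ left_mem_Ln hp, hL ▸ right_mem_Ln hq]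
  unfold Nat.ModEq at h2
  omega

theorem hyp_adj {x y : G} (hx : x ∈ D) (hy : y ∈ D) (hxy : ¬ Commute x y) {z z' : G}
    (hz : z ∈ Ln D x y) (hz' : z' ∈ Ln D x y) (hc : Commute z z') : z = z' := by
  have key : ∀ x y : G, x ∈ D → y ∈ D → ¬ Commute x y → ∀ a ∈ Ln D x y, Commute x a → a = x := by
    intro x y hx hy hxy a ha hxa
    by_contra hne
    have hL := isLine_Ln hx ha.1 (Ne.symm hne) hxa
    obtain ⟨r, hr, hyr⟩ := hD.exists_mu hL hy
    obtain ⟨e, he, h1, h2, h3⟩ := hD.exists_adj_M hx hy hr.1 hxy (hL.comm hr (left_mem_Ln hx))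
      hyr.symm
    exact h3 ((Ln_sub (left_mem_Ln hx) ha hr).2 e he h1 h2)
  by_contra hne
  have hL := isLine_Ln hz.1 hz'.1 hne hc
  obtain ⟨a, ha, hxa⟩ := hD.exists_mu hL hx
  obtain ⟨b, hb, hyb⟩ := hD.exists_mu hL hy
  have h1 := key x y hx hy hxy a (Ln_sub hz hz' ha) hxa
  have h2 := key y x hy hx (fun h => hxy h.symm) b (Ln_symm D x y ▸ Ln_sub hz hz' hb) hyb
  exact hxy (h1 ▸ h2 ▸ hL.comm ha hb)

/-- hyperbolic lines have three points -/
theorem hyp_line {x y : G} (hx : x ∈ D) (hy : y ∈ D) (hxy : ¬ Commute x y) {z : G}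
    (hz : z ∈ Ln D x y) : z = x ∨ z = y ∨ z = cj x y := by
  have P := hD.toPTT
  have T := P.toTT
  have heq : ∀ a ∈ Ln D x y, ∀ b ∈ Ln D x y, a ≠ b → Ln D a b = Ln D x y := by
    intro a ha b hb hne
    refine Set.eq_of_subset_of_ncard_le (Ln_sub ha hb) ?_
    obtain ⟨g, rfl, rfl⟩ := P.adj_pair_trans hx hy ha.1 hb.1 hxy
      fun h => hne (hD.hyp_adj hx hy hxy ha hb h)
    rw [← T.image_Ln, Set.ncard_image_of_injective _ (cj_injective g)]
  obtain ⟨m, hm, hmx, hmy⟩ := hD.exists_M hx hy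
  obtain ⟨m', hm', hm'x, hm'y, hm'm⟩ := hD.exists_adj_M hx hy hm hxy hmx hmy
  have hL1 := isLine_Ln hx hm (fun h => hxy (h ▸ hmy)) hmx.symm
  have hL2 := isLine_Ln hy hm' (fun h => hxy (h ▸ hm'x.symm)) hm'y.symm
  obtain ⟨c, hc, hcx, hcm⟩ := hD.exists_third hL1 x m
  have hyc : ¬ Commute y c := P.adj_of_mu hL1 (right_mem_Ln hm) (left_mem_Ln hx) hc hcm hy
    hmy.symm fun h => hxy h.symm
  have hm'c : ¬ Commute m' c := P.adj_of_mu hL1 (left_mem_Ln hx) (right_mem_Ln hm) hc hcx hm'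
    hm'x hm'm
  obtain ⟨c2, hc2, hcc⟩ := hD.exists_mu hL2 hc.1
  have hxc2 : ¬ Commute x c2 := P.adj_of_mu hL2 (right_mem_Ln hm') (left_mem_Ln hy) hc2
    (fun h => hm'c (h ▸ hcc.symm)) hx hm'x.symm hxy
  have hxc : Commute x c := hL1.comm (left_mem_Ln hx) hc
  have hL := isLine_Ln hc.1 hc2.1 (fun h => hxc2 (h ▸ hxc)) hcc
  have hno : ∀ r ∈ Ln D c c2, Commute r x → ¬ Commute r y := by
    intro r hr h1 h2
    have := P.mu_unique hL (left_mem_Ln hc.1) (right_mem_Ln hc2.1) hr hx hxc hxc2 h1.symm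
    exact hyc (this ▸ h2.symm)
  choose! μ hμ using fun w (hw : w ∈ D) => hD.exists_mu hL hw
  have hle : (Ln D x y).ncard ≤ 5 := by
    refine le_trans (Set.ncard_le_ncard_of_injOn μ (fun w hw => (hμ w hw.1).1) ?_)
      (hD.line_le_five hL)
    intro a ha b hb hab
    by_contra hne
    have h1 : x ∈ Ln D a b := by rw [heq a ha b hb hne]; exact left_mem_Ln hx
    have h2 : y ∈ Ln D a b := by rw [heq a ha b hb hne]; exact right_mem_Ln hy
    have h3 := (hμ a ha.1).2.symm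
    have h4 := (hμ b hb.1).2.symm
    rw [← hab] at h4
    exact hno _ (hμ a ha.1).1 (h1.2 _ (hμ a ha.1).1.1 h3 h4) (h2.2 _ (hμ a ha.1).1.1 h3 h4)
  obtain ⟨j, hj⟩ := T.ncard_moufang (E := Ln D x y) (fun _ h => h.1) ⟨x, left_mem_Ln hx⟩
    (fun a ha b hb => T.cj_mem_Ln ha hb) (fun a ha b hb => hD.hyp_adj hx hy hxy ha hb)
  have hle3 : (Ln D x y).ncard ≤ 3 := by
    rw [hj] at hle ⊢
    rcases j with _ | _ | j
    · norm_num
    · norm_num
    · exfalso
      have := Nat.one_le_pow j 3 (by norm_num)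
      rw [pow_succ, pow_succ] at hle
      omega
  have hsub : ({x, y, cj x y} : Set G) ⊆ Ln D x y := by
    rintro w (rfl | rfl | rfl)
    exacts [left_mem_Ln hx, right_mem_Ln hy, T.cj_mem_Ln (left_mem_Ln hx) (right_mem_Ln hy)]
  have := Set.eq_of_subset_of_ncard_le hsub (by
    rwa [Set.ncard_eq_three.2 ⟨x, y, cj x y, fun h => hxy (h ▸ Commute.refl x),
      fun h => T.adj_cj_self hxy (h ▸ Commute.refl x),
      fun h => T.adj_cj_self' hx hy hxy (h ▸ Commute.refl y), rfl⟩])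
  rw [← this] at hz
  exact hz

end Pol

theorem PTT.pol_of_two [Finite G] {D : Set G} (hD : PTT D) {d : G}
    (hd : d ∈ D) (N : Subgroup (Subgroup.closure (Dx D d))) [N.Normal]
    (h2 : IsPGroup 2 N) (h : ¬ N ≤ Subgroup.center _) : Pol D := by
  have T := hD.toTT
  have key : ∀ x ∈ D, ∀ y ∈ D, x * y ∈ N.map (Subgroup.subtype _) → Commute x y := by
    rintro x hx y hy ⟨n, hn, hxy⟩
    by_contra hc
    have h3 : (⟨n, hn⟩ : N) ^ 3 = 1 := by
      apply Subtype.ext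
      apply Subtype.ext
      change (n : G) ^ 3 = 1
      rw [Subgroup.coe_subtype] at hxy
      rw [hxy, T.pow_three hx hy (T.braid hx hy hc)]
    obtain ⟨k, hk⟩ := h2 ⟨n, hn⟩
    have h1 : orderOf (⟨n, hn⟩ : N) = 1 :=
      Nat.eq_one_of_dvd_coprimes ((show Nat.Coprime 2 3 by norm_num).pow_left k)
        (orderOf_dvd_of_pow_eq_one hk) (orderOf_dvd_of_pow_eq_one h3)
    rw [orderOf_eq_one_iff] at h1
    have h3 : x * y = 1 := by
      rw [← hxy, show n = 1 from congrArg Subtype.val h1, map_one]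
    apply hc
    rw [← inv_eq_of_mul_eq_one_right h3]
    exact (Commute.refl x).inv_right
  obtain ⟨a, ha, b, hb, hab, h1, h2⟩ := T.block_of_noncentral N h
  refine ⟨hD, d, hd, a, ha, b, ⟨hb.1, fun z hz hzd hza => ?_⟩, hb.2.1, hab.symm⟩
  by_cases hz' : z = d
  · rw [hz']; exact hb.2.2
  by_contra hzb
  exact hzb (key z hz b hb.1 (h2 z ⟨hz, hz', hzd.symm⟩ hza hzb).2)

end H0
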