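import Mathlib
import Cfsg.Agent.H0.Polar
import Cfsg.Agent.H15.Transv
import Cfsg.Agent.H15.Orth
import Cfsg.Agent.H16.MatBasic

/-! Transvections over the fields with two and four elements. -/

set_option autoImplicit false
set_option linter.unusedSectionVars false

namespace H0

open H15 H15.Form

variable {F : Type*} [Field F] {σ : F →+* F} {V : Type*} [AddCommGroup V] [Module F V]

/-- forms over `F₂` and `F₄` -/
structure TF (Φ : Form σ V) : Prop where
  nd : Φ.Nondeg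
  two : (2 : F) = 0
  eps : Φ.ε = 1
  norm : ∀ a : F, a ≠ 0 → a * σ a = 1

/-- centres of transvections -/
def Pt (Φ : Form σ V) (p : V) : Prop := p ≠ 0 ∧ Φ.B p p = 0 ∧ Φ.Q p = Φ.τ

theorem Pt.map {Φ : Form σ V} {p : V} (hp : Pt Φ p) (g : Φ.Isom) : Pt Φ (g.1 p) :=
  ⟨fun h => hp.1 (g.1.injective (by rw [h, map_zero])), by rw [Isom.map_B, hp.2.1],
    by rw [Isom.map_Q, hp.2.2]⟩

namespace TF

variable [FiniteDimensional F V] {Φ : Form σ V} (h : TF Φ)
include h

theorem symm (x y : V) : Φ.B y x = σ (Φ.B x y) := by rw [Φ.symm x y, h.eps, one_mul]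

theorem dilOK {p : V} (hp : Pt Φ p) : Φ.DilOK p 1 :=
  ⟨by rw [h.eps, hp.2.1, map_one]; linear_combination h.two,
    by rw [hp.2.2]; linear_combination Φ.τ * h.two⟩

/-- the transvection with centre `p` -/
noncomputable def T (p : {p // Pt Φ p}) : Φ.Isom := Φ.dilIsom h.nd p 1 (h.dilOK p.2)

theorem T_apply (p : {p // Pt Φ p}) (v : V) : (h.T p).1 v = v + Φ.B p v • (p : V) := by
  rw [T, dilIsom_apply, one_mul]

theorem T_conj (g : Φ.Isom) (p : {p // Pt Φ p}) : g * h.T p * g⁻¹ = h.T ⟨g.1 p, p.2.map g⟩ := by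
  refine Isom.ext fun v => ?_
  rw [Isom.mul_apply, Isom.mul_apply, T_apply, T_apply, map_add, map_smul, Isom.apply_inv_apply,
    Isom.B_left]

theorem T_eq_iff (p q : {p // Pt Φ p}) : h.T p = h.T q ↔ ∃ c : F, c ≠ 0 ∧ (q : V) = c • (p : V) := by
  constructor
  · intro e
    obtain ⟨v, hv⟩ := h.nd.exists_B_eq_one q.2.1
    have := h.T_apply q v
    rw [← e, T_apply, hv, one_smul, add_right_inj] at this
    refine ⟨_, fun h0 => q.2.1 ?_, this.symm⟩
    rw [← this, h0, zero_smul]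
  · rintro ⟨c, hc, e⟩
    refine Isom.ext fun v => ?_
    rw [T_apply, T_apply, e, LinearMap.map_smulₛₗ, LinearMap.smul_apply, smul_smul, smul_eq_mul,
      mul_right_comm, mul_comm (σ c), h.norm c hc, one_mul]

theorem T_sq (p : {p // Pt Φ p}) : h.T p * h.T p = 1 := by
  refine Isom.ext fun v => ?_
  rw [Isom.mul_apply, T_apply, T_apply, map_add, map_smul, p.2.2.1, smul_zero, add_zero,
    add_assoc, ← add_smul, ← two_mul, h.two, zero_mul, zero_smul, add_zero, Isom.one_apply]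

theorem T_ne_one (p : {p // Pt Φ p}) : h.T p ≠ 1 := by
  intro e
  obtain ⟨v, hv⟩ := h.nd.exists_B_eq_one p.2.1
  have := h.T_apply p v
  rw [e, hv, one_smul, Isom.one_apply, left_eq_add] at this
  exact p.2.1 this

theorem T_dich (p q : {p // Pt Φ p}) :
    Commute (h.T p) (h.T q) ∨ cj (h.T p) (h.T q) = cj (h.T q) (h.T p) := by
  by_cases hb : Φ.B p q = 0
  · left
    rw [← cj_eq_self, cj, T_conj]
    congr 1
    apply Subtype.ext
    change (h.T p).1 q = q
    rw [T_apply, hb, zero_smul, add_zero]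
  · right
    rw [cj, cj, T_conj, T_conj, T_eq_iff]
    refine ⟨σ (Φ.B p q), (map_ne_zero σ).2 hb, ?_⟩
    change (h.T q).1 p = _ • (h.T p).1 q
    rw [T_apply, T_apply, smul_add, smul_smul, mul_comm, h.norm _ hb, one_smul, h.symm p q,
      add_comm]

theorem braid_T {p q : {p // Pt Φ p}} (hb : Φ.B p q ≠ 0) :
    h.T p * h.T q * h.T p * (h.T p * h.T q)⁻¹ = h.T q := by
  rw [T_conj, T_eq_iff]
  refine ⟨Φ.B p q, hb, ?_⟩
  change _ = _ • (h.T p).1 ((h.T q).1 p)
  simp only [T_apply, map_add, map_smul, p.2.2.1, smul_eq_mul, zero_add, h.symm p q]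
  have := h.norm _ hb
  have h2 := h.two
  match_scalars
  · linear_combination -this
  · linear_combination -Φ.B p q * this - Φ.B p q * h2

theorem eq_T_of_dil {g : Φ.Isom} {p : V} {c : F} (hp : p ≠ 0) (hc : c ≠ 0) (hpp : Φ.B p p = 0)
    (hg : ∀ v, g.1 v = v + (c * Φ.B p v) • p) : ∃ q, g = h.T q := by
  obtain ⟨v, hv⟩ := h.nd.exists_B_eq_one hp
  have h1 := Φ.dil_B p c v v
  have h2 := Φ.dil_Q p c v
  rw [dil_apply, ← hg] at h1 h2
  rw [Isom.map_B, hv, hpp, h.eps] at h1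
  rw [Isom.map_Q, hv] at h2
  have h3 : σ c = c := by
    rw [map_one] at h1
    linear_combination -h1 - c * h.two
  have h4 := h.norm c hc
  rw [h3] at h4
  have h5 : c = 1 := by
    have : (c - 1) ^ 2 = 0 := by linear_combination h4 - (c - 1) * h.two
    exact sub_eq_zero.1 (pow_eq_zero_iff two_ne_zero |>.1 this)
  subst h5
  refine ⟨⟨p, hp, hpp, by linear_combination -h2 - Φ.τ * h.two⟩, Isom.ext fun v => ?_⟩
  rw [T_apply, hg, one_mul]

theorem eq_T_of_rank_one {g : Φ.Isom} {p : V} {f : V →ₗ[F] F} (hp : p ≠ 0) (hf : f ≠ 0)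
    (hdet : Φ.det g = 1) (hg : ∀ v, g.1 v = v + f v • p) : ∃ q, g = h.T q := by
  obtain ⟨v1, hv1⟩ : ∃ v, f v ≠ 0 := by
    by_contra hcon
    push Not at hcon
    exact hf (LinearMap.ext hcon)
  obtain ⟨v0, hv0⟩ : ∃ v, f v = 1 := ⟨(f v1)⁻¹ • v1, by simp [hv1]⟩
  have key : ∀ w, f w * (Φ.B v0 p + Φ.B p p) + Φ.B p w = 0 := by
    intro w
    have := Isom.map_B g v0 w
    rw [hg, hg, hv0, one_smul] at this
    simp only [map_add, map_smul, LinearMap.add_apply, smul_eq_mul] at this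
    linear_combination this
  have hne : Φ.B v0 p + Φ.B p p ≠ 0 := fun h0 => hp (h.nd p fun w => by
    simpa [h0] using key w)
  have hg' : ∀ v, g.1 v = v + (-(Φ.B v0 p + Φ.B p p)⁻¹ * Φ.B p v) • p := by
    intro v
    rw [hg]
    congr 2
    have := key v
    field_simp
    linear_combination this
  have hc : -(Φ.B v0 p + Φ.B p p)⁻¹ ≠ 0 := neg_ne_zero.2 (inv_ne_zero hne)
  have hd := Φ.det_of_dil hg'
  rw [hdet, Units.val_one, left_eq_add] at hd
  exact h.eq_T_of_dil hp hc ((mul_eq_zero.1 hd).resolve_left hc) hg'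

theorem closure_transvSet : Subgroup.closure Φ.transvSet = Subgroup.closure (Set.range h.T) := by
  apply le_antisymm
  · rw [Subgroup.closure_le]
    rintro g ⟨p, c, hpp, hg⟩
    by_cases h0 : p = 0 ∨ c = 0
    · have : g = 1 := Isom.ext fun v => by
        rcases h0 with rfl | rfl <;> simp [hg]
      rw [this]; exact one_mem _
    · push Not at h0
      obtain ⟨q, rfl⟩ := h.eq_T_of_dil h0.1 h0.2 hpp hg
      exact Subgroup.subset_closure ⟨q, rfl⟩
  · apply Subgroup.closure_mono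
    rintro _ ⟨p, rfl⟩
    exact ⟨p, 1, p.2.2.1, fun v => by rw [T_apply, one_mul]⟩

/-- conjugacy of transvections in the group they generate -/
theorem conj_of_tau (hQ : ∀ x, Φ.Q x = 0) (p q : {p // Pt Φ p}) :
    ∃ g ∈ Subgroup.closure (Set.range h.T), g * h.T p * g⁻¹ = h.T q := by
  have key : ∀ p q : {p // Pt Φ p}, Φ.B p q ≠ 0 →
      ∃ g ∈ Subgroup.closure (Set.range h.T), g * h.T p * g⁻¹ = h.T q := fun p q hb =>
    ⟨h.T p * h.T q, mul_mem (Subgroup.subset_closure ⟨p, rfl⟩) (Subgroup.subset_closure ⟨q, rfl⟩),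
      h.braid_T hb⟩
  by_cases hb : Φ.B p q = 0
  · obtain ⟨w, -, h1, h2⟩ := h.nd.exists_perp_two (H := ⊥) (u := p) (u' := q)
      (by simpa using p.2.1) (by simpa using q.2.1)
    have h1' : Φ.B p w ≠ 0 := by rw [Ne, Φ.B_eq_zero_comm, h1]; exact one_ne_zero
    obtain ⟨t, h3, -⟩ := Φ.adj p w 0 (hQ _) p.2.2.1 h1'
    have h4 : Φ.B p (w + t • (p : V)) ≠ 0 := by simpa [p.2.2.1] using h1'
    have h5 : Φ.B (w + t • (p : V)) q ≠ 0 := by simpa [hb] using h2
    let r : {p // Pt Φ p} := ⟨w + t • (p : V), fun h0 => h4 (by rw [h0, map_zero]),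
      by simpa using h3, by rw [hQ, ← p.2.2.2, hQ]⟩
    obtain ⟨g1, hg1, e1⟩ := key p r h4
    obtain ⟨g2, hg2, e2⟩ := key r q h5
    exact ⟨g2 * g1, mul_mem hg2 hg1, by rw [← e2, ← e1]; group⟩
  · exact key p q hb

variable {Γ : Type*} [Group Γ] (ι : Γ →* Φ.Isom) (hι : Function.Injective ι)
  (hK : ι.range = Subgroup.closure (Set.range h.T))
include hι hK

theorem exists_T (p : {p // Pt Φ p}) : ∃ g, ι g = h.T p := by
  have : h.T p ∈ ι.range := hK ▸ Subgroup.subset_closure ⟨p, rfl⟩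
  exact this

theorem closure_eq_top : Subgroup.closure {g : Γ | ∃ p, ι g = h.T p} = ⊤ := by
  apply Subgroup.map_injective hι
  rw [← MonoidHom.range_eq_map, hK, MonoidHom.map_closure]
  congr 1
  ext g
  constructor
  · rintro ⟨g, ⟨p, hp⟩, rfl⟩; exact ⟨p, hp.symm⟩
  · rintro ⟨p, rfl⟩
    obtain ⟨g, hg⟩ := h.exists_T ι hι hK p
    exact ⟨g, ⟨p, hg⟩, hg⟩

theorem isClass (p0 : {p // Pt Φ p})
    (htr : ∀ p q, ∃ g ∈ ι.range, g * h.T p * g⁻¹ = h.T q) :
    Cfsg.IsThreeTranspositionClass {g : Γ | ∃ p, ι g = h.T p} := by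
  refine ⟨⟨?_, ?_⟩, ?_, h.closure_eq_top ι hι hK⟩
  · rintro g ⟨p, hp⟩
    have : Fact (Nat.Prime 2) := ⟨Nat.prime_two⟩
    refine orderOf_eq_prime (hι ?_) fun h1 => h.T_ne_one p (by rw [← hp, h1, map_one])
    rw [map_pow, hp, pow_two, T_sq, map_one]
  · rintro g ⟨p, hp⟩ g' ⟨q, hq⟩
    have hp2 := h.T_sq p
    have hq2 := h.T_sq q
    rcases h.T_dich p q with h1 | h1
    · left
      apply hι
      rw [map_pow, map_mul, hp, hq, h1.mul_pow, pow_two, pow_two, hp2, hq2, one_mul, map_one]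
    · right
      apply hι
      rw [map_pow, map_mul, hp, hq, map_one]
      simp only [cj, inv_eq_of_sq hp2, inv_eq_of_sq hq2] at h1
      generalize h.T p = d at *
      generalize h.T q = e at *
      calc (d * e) ^ 3 = (d * e * d) * (e * d * e) := by simp only [pow_succ, pow_zero]; group
        _ = e * d * (e * e) * d * e := by rw [h1]; group
        _ = 1 := by rw [hq2, mul_one, mul_assoc e d d, hp2, mul_one, hq2]
  · obtain ⟨d, hd⟩ := h.exists_T ι hι hK p0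
    refine ⟨d, ⟨p0, hd⟩, ?_⟩
    ext g
    rw [conjugatesOf, Set.mem_setOf_eq, Set.mem_setOf_eq, isConj_iff]
    constructor
    · rintro ⟨p, hp⟩
      obtain ⟨_, ⟨k, rfl⟩, e⟩ := htr p0 p
      exact ⟨k, hι (by rw [map_mul, map_mul, map_inv, hd, e, hp])⟩
    · rintro ⟨k, rfl⟩
      exact ⟨_, by rw [map_mul, map_mul, map_inv, hd, T_conj]⟩

theorem recog {G : Type*} [Group G] [Finite G] {D : Set G} (hD : Pol D)
    (hZ : Subgroup.center G = ⊥) (hQ : ∀ x, Φ.Q x = Φ.τ) (φ : G → V)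
    (hc : ∀ x ∈ D, ∀ y ∈ D, Commute x y ↔ Φ.B (φ x) (φ y) = 0)
    (hs : ∀ p, Pt Φ p → ∃ x ∈ D, ∃ c : F, c ≠ 0 ∧ p = c • φ x) :
    Nonempty (G ≃* Γ ⧸ Subgroup.center Γ) := by
  have P := hD.toPTT
  choose π hπ c hc0 hπc using fun p : {p // Pt Φ p} => hs p p.2
  choose T' hT' using h.exists_T ι hι hK
  have hc1 : ∀ x ∈ D, ∀ q, Commute x (π q) ↔ Φ.B (φ x) q = 0 := by
    intro x hx q
    rw [hc x hx _ (hπ q), hπc q]
    simp [hc0 q]
  have hc2 : ∀ p q, Commute (π p) (π q) ↔ Φ.B p q = 0 := by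
    intro p q
    rw [hc1 _ (hπ p), hπc p]
    simp [hc0 p]
  have hinj : ∀ x ∈ D, ∀ q : {p // Pt Φ p}, (∀ w, Φ.B w (φ x) = 0 → Φ.B w q = 0) → x = π q := by
    intro x hx q hw
    by_contra hne
    obtain ⟨f, hf, hfq⟩ := P.sep hx (hπ q) hne
    exact hfq ((hc1 f hf.1 q).2 (hw _ ((hc f hf.1 x hx).1 hf.2.2.symm)))
  have hpt : ∀ x ∈ D, ∃ q, π q = x := by
    intro x hx
    obtain ⟨y, hy, hxy⟩ := P.adj_ne hx
    refine ⟨⟨φ x, fun h0 => hxy ((hc x hx y hy).2 (by simp [h0])),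
      (hc x hx x hx).1 (Commute.refl x), hQ _⟩, (hinj x hx _ fun w hw => hw).symm⟩
  let act : MulAction Γ {p // Pt Φ p} :=
    { smul := fun g p => ⟨(ι g).1 p, p.2.map _⟩
      one_smul := fun p => Subtype.ext (by
        change (ι 1).1 p = p
        rw [map_one, Isom.one_apply])
      mul_smul := fun g k p => Subtype.ext (by
        change (ι (g * k)).1 p = (ι g).1 ((ι k).1 p)
        rw [map_mul, Isom.mul_apply]) }
  have hsm : ∀ (g : Γ) (p : {p // Pt Φ p}), ((g • p : {p // Pt Φ p}) : V) = (ι g).1 p :=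
    fun _ _ => rfl
  refine P.toTT.recognize hZ π hπ hpt T' ?_ ?_ ?_ ?_
  · rw [← h.closure_eq_top ι hι hK]
    congr 1
    ext g
    exact ⟨fun ⟨p, hp⟩ => ⟨p, hp ▸ hT' p⟩, fun ⟨p, hp⟩ => ⟨p, hι (by rw [hT', hp])⟩⟩
  · intro g p
    apply hι
    rw [map_mul, map_mul, map_inv, hT', hT', T_conj]
    rfl
  · intro p q
    rw [← hι.eq_iff, hT', hT', T_eq_iff]
    constructor
    · rintro ⟨a, -, e⟩
      refine hinj _ (hπ p) q fun w hw => ?_
      rw [e, hπc p]
      simp [hw]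
    · intro e
      refine ⟨c q / c p, div_ne_zero (hc0 q) (hc0 p), ?_⟩
      rw [hπc p, hπc q, e, smul_smul, div_mul_cancel₀ _ (hc0 p)]
  · intro p q
    have e : ((T' p • q : {p // Pt Φ p}) : V) = q + Φ.B p q • (p : V) := by
      rw [hsm, hT', T_apply]
    by_cases hb : Φ.B p q = 0
    · rw [cj_of_commute ((hc2 p q).2 hb)]
      congr 1
      apply Subtype.ext
      rw [e, hb, zero_smul, add_zero]
    · have hm : π (T' p • q) ∈ Ln D (π p) (π q) := by
        refine ⟨hπ _, fun w hw h1 h2 => ?_⟩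
        rw [hc1 w hw] at h1 h2 ⊢
        simp [e, h1, h2]
      rcases hD.hyp_line (hπ p) (hπ q) (fun h' => hb ((hc2 p q).1 h')) hm with h1 | h1 | h1
      · exfalso
        have := (hc2 p (T' p • q)).1 (h1 ▸ Commute.refl _)
        simp [e, p.2.2.1, hb] at this
      · exfalso
        have := (hc2 q (T' p • q)).1 (h1 ▸ Commute.refl _)
        simp [e, q.2.2.1, hb, h.symm p q] at this
      · exact h1

end TF

end H0
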