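import Mathlib
import Cfsg.Agent.H0.Forms
import Cfsg.Agent.H15.StdQuad

/-! The classical 3-transposition classes. -/

set_option autoImplicit false
set_option linter.unusedSectionVars false

namespace H0

open H15 H15.Form Matrix

theorem TF.rank_one_iff {F : Type*} [Field F] {σ : F →+* F} {n : Type*} [Fintype n] [DecidableEq n]
    {Φ : Form σ (n → F)} (h : TF Φ) {g : Φ.Isom} (hdet : Φ.det g = 1) {A : Matrix n n F}
    (hA : ∀ v, g.1 v = A *ᵥ v) : (A - 1).rank = 1 ↔ ∃ p, g = h.T p := by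
  constructor
  · intro h1
    obtain ⟨a, b, ha, hb, e⟩ := H16.exists_vecMulVec_of_rank_eq_one _ h1
    refine h.eq_T_of_rank_one (p := a) (f := dotProductBilin F F b) ha (fun h0 => hb ?_) hdet
      fun v => ?_
    · ext i
      have := LinearMap.congr_fun h0 (Pi.single i 1)
      simpa using this
    · rw [hA, ← sub_add_cancel A 1, e, add_mulVec, one_mulVec, vecMulVec_mulVec, add_comm]
      simp
  · rintro ⟨p, rfl⟩
    have e : ∀ v, (A - 1) *ᵥ v = Φ.B p v • (p : n → F) := fun v => by
      rw [sub_mulVec, one_mulVec, ← hA, h.T_apply, add_sub_cancel_left]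
    obtain ⟨v, hv⟩ := h.nd.exists_B_eq_one p.2.1
    rw [Matrix.rank, finrank_eq_one_iff']
    refine ⟨⟨p, v, by rw [mulVecLin_apply, e, hv, one_smul]⟩, fun h0 => p.2.1 (congrArg Subtype.val h0),
      ?_⟩
    rintro ⟨_, w, rfl⟩
    exact ⟨Φ.B p w, Subtype.ext (e w).symm⟩

theorem norm_two : ∀ a : ZMod 2, a ≠ 0 → a * (RingHom.id (ZMod 2)) a = 1 := by decide

theorem eq_one_two : ∀ a : ZMod 2, a ≠ 0 → a = 1 := by decide

theorem units_two (u : (ZMod 2)ˣ) : u = 1 := Units.ext (eq_one_two _ u.ne_zero)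

theorem tf_sp (m : ℕ) : TF (spForm m (ZMod 2)) :=
  ⟨spForm_nondeg m _, rfl, rfl, norm_two⟩

theorem tf_un {F : Type*} [Field F] [Fintype F] (hF : Fintype.card F = 2 ^ 2) (n : ℕ) :
    TF (unForm hF n) := by
  refine ⟨unForm_nondeg hF n, ?_, rfl, fun a ha => ?_⟩
  · have h1 := FiniteField.cast_card_eq_zero F
    rw [hF, Nat.cast_pow, pow_eq_zero_iff two_ne_zero] at h1
    exact_mod_cast h1
  · rw [mul_frob hF]
    have := FiniteField.pow_card_sub_one_eq_one a ha
    rwa [hF] at this

theorem range_sp (m : ℕ) : (spEquiv m (ZMod 2)).toMonoidHom.range =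
    Subgroup.closure (Set.range (tf_sp m).T) := by
  rw [← TF.closure_transvSet, (spForm_isAlt m).closure_transvSet (spForm_nondeg m _),
    MonoidHom.range_eq_top]
  exact (spEquiv m _).surjective

/-- the embedding of `SU` in the isometry group -/
noncomputable def suHom {F : Type*} [Field F] [Fintype F] (hF : Fintype.card F = 2 ^ 2) (n : ℕ) :
    Cfsg.SU n F 2 →* (unForm hF n).Isom :=
  (Subgroup.subtype _).comp (suEquiv hF n).toMonoidHom

theorem suHom_injective {F : Type*} [Field F] [Fintype F] (hF : Fintype.card F = 2 ^ 2) (n : ℕ) :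
    Function.Injective (suHom hF n) :=
  Subtype.val_injective.comp (suEquiv hF n).injective

theorem range_su {F : Type*} [Field F] [Fintype F] (hF : Fintype.card F = 2 ^ 2) {n : ℕ}
    (hn : 4 ≤ n) : (suHom hF n).range = Subgroup.closure (Set.range (tf_un hF n).T) := by
  rw [← TF.closure_transvSet, (unForm_isHerm hF n).closure_transvSet (unForm_nondeg hF n)
    (Or.inl (by simpa using hn)), suHom, MonoidHom.range_comp,
    MonoidHom.range_eq_top.2 (suEquiv hF n).surjective, ← MonoidHom.range_eq_map,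
    Subgroup.range_subtype]

theorem class_sp (n : ℕ) (hn : 1 ≤ n) : Cfsg.IsThreeTranspositionClass
    {g : Matrix.symplecticGroup (Fin n) (ZMod 2) |
      ((g : Matrix (Fin n ⊕ Fin n) (Fin n ⊕ Fin n) (ZMod 2)) - 1).rank = 1} := by
  have h := tf_sp n
  have := h.isClass (spEquiv n (ZMod 2)).toMonoidHom (spEquiv n _).injective (range_sp n)
    ⟨Pi.single (Sum.inl ⟨0, hn⟩) 1, by simp, (spForm_isAlt n).1 _, rfl⟩
    (fun p q => by rw [range_sp]; exact h.conj_of_tau (fun _ => rfl) p q)
  convert this using 2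
  ext g
  exact h.rank_one_iff (units_two _) (spEquiv_apply g)

theorem class_su {F : Type*} [Field F] [Fintype F] [DecidableEq F] (hF : Fintype.card F = 2 ^ 2)
    {n : ℕ} (hn : 4 ≤ n) : Cfsg.IsThreeTranspositionClass {g : Cfsg.SU n F 2 |
      (((g : Matrix.SpecialLinearGroup (Fin n) F) : Matrix (Fin n) (Fin n) F) - 1).rank = 1} := by
  have h := tf_un hF n
  have h0 : 0 < n := by omega
  have h1 : 1 < n := by omega
  have := h.isClass (suHom hF n) (suHom_injective hF n) (range_su hF hn)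
    ⟨Pi.single ⟨0, h0⟩ 1 + Pi.single ⟨1, h1⟩ 1,
      fun h2 => by simpa using congrFun h2 ⟨0, h0⟩, by
        simp only [map_add, LinearMap.add_apply, unForm_B']
        simp [Pi.single_apply, apply_ite (frob hF)]
        linear_combination h.two, rfl⟩
    (fun p q => by rw [range_su hF hn]; exact h.conj_of_tau (fun _ => rfl) p q)
  convert this using 2
  ext g
  exact h.rank_one_iff (suEquiv hF n g).2 (suEquiv_apply hF n g)

theorem class_orth {n : Type} [Fintype n] [DecidableEq n] (Q : QuadraticForm (ZMod 2) (n → ZMod 2))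
    (hQ : (ofQuad Q).Nondeg) (hn : Fintype.card n ≠ 4) (v : n → ZMod 2) (hv : Q v = 1) :
    Cfsg.IsThreeTranspositionClass {g : Cfsg.isometryGroup (ZMod 2) ⇑Q |
      (((g : GL n (ZMod 2)) : Matrix n n (ZMod 2)) - 1).rank = 1} := by
  have h : TF (ofQuad Q) := ⟨hQ, rfl, rfl, norm_two⟩
  have hpt : ∀ v, Q v ≠ 0 → Pt (ofQuad Q) v := fun v hv =>
    ⟨fun h0 => hv (by rw [h0, map_zero]), by
      rw [pol_self, h.two, zero_mul], eq_one_two _ hv⟩
  have hr : (orthEquiv Q).toMonoidHom.range = Subgroup.closure (Set.range h.T) := by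
    rw [MonoidHom.range_eq_top.2 (orthEquiv Q).surjective, eq_comm, eq_top_iff,
      ← closure_reflSet hQ (notTwoFour_of_card (Or.inr hn))]
    apply Subgroup.closure_mono
    rintro _ ⟨w, hw, rfl⟩
    refine ⟨⟨w, hpt w hw⟩, Isom.ext fun x => ?_⟩
    rw [h.T_apply, refl_apply, eq_one_two _ hw, inv_one, show (-1 : ZMod 2) = 1 from rfl, one_mul]
  have := h.isClass (orthEquiv Q).toMonoidHom (orthEquiv Q).injective hr
    ⟨v, hpt v (by rw [hv]; exact one_ne_zero)⟩
    (fun p q => by
      obtain ⟨g, hg⟩ := hQ.witt_one p.2.1 q.2.1 (by rw [p.2.2.1, q.2.2.1])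
        (by rw [p.2.2.2, q.2.2.2])
      refine ⟨g, by rw [MonoidHom.range_eq_top.2 (orthEquiv Q).surjective]; trivial, ?_⟩
      rw [h.T_conj]
      congr 1
      exact Subtype.ext hg)
  convert this using 2
  ext g
  exact h.rank_one_iff (units_two _) (orthEquiv_apply Q g)

end H0
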