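import Mathlib
import Cfsg.Agent.H0.Odd

/-! The `A₄` diagram and the recognition of `S₅`. -/

set_option autoImplicit false

namespace H0

variable {G : Type*} [Group G]

def s5tab : Fin 10 → Fin 10 → Fin 10 :=
  ![![0, 4, 2, 3, 1, 7, 6, 5, 9, 8], ![4, 1, 5, 3, 0, 2, 8, 7, 6, 9], ![0, 5, 2, 6, 7, 1, 3, 4, 8, 9], ![0, 1, 6, 3, 4, 8, 2, 9, 5, 7], ![1, 0, 7, 3, 4, 5, 9, 2, 8, 6], ![7, 2, 1, 8, 4, 5, 6, 0, 3, 9], ![0, 8, 3, 2, 9, 5, 6, 7, 1, 4], ![5, 1, 4, 9, 2, 0, 6, 7, 8, 3], ![9, 6, 2, 5, 4, 3, 1, 7, 8, 0], ![8, 1, 2, 7, 6, 5, 4, 3, 0, 9]]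

def s5idx : Fin 5 → Fin 5 → Fin 10 :=
  ![![0, 0, 4, 7, 9], ![0, 0, 1, 5, 8], ![4, 1, 0, 2, 6], ![7, 5, 2, 0, 3], ![9, 8, 6, 3, 0]]

theorem s5_step {x a b c a' b' c' : G} (h1 : cj x a = a') (h2 : cj x b = b') (h3 : cj x c = c')
    (h4 : cj a b = c) : cj a' b' = c' := by
  rw [← h1, ← h2, ← h3, ← h4, cj_cj_conj x a b]

theorem TT.s5_table {D : Set G} (hD : TT D) {q0 q1 q2 q3 : G} (m0 : q0 ∈ D) (m1 : q1 ∈ D)
    (m2 : q2 ∈ D) (m3 : q3 ∈ D) (n01 : ¬ Commute q0 q1) (n12 : ¬ Commute q1 q2)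
    (n23 : ¬ Commute q2 q3) (c02 : Commute q0 q2) (c03 : Commute q0 q3) (c13 : Commute q1 q3) :
    ∃ q : Fin 10 → G, q 0 = q0 ∧ q 1 = q1 ∧ q 2 = q2 ∧ q 3 = q3 ∧ (∀ i, q i ∈ D) ∧
      ∀ i j, cj (q i) (q j) = q (s5tab i j) := by
  obtain ⟨q4, e4⟩ : ∃ z, z = cj q0 q1 := ⟨_, rfl⟩
  obtain ⟨q5, e5⟩ : ∃ z, z = cj q1 q2 := ⟨_, rfl⟩
  obtain ⟨q6, e6⟩ : ∃ z, z = cj q2 q3 := ⟨_, rfl⟩
  obtain ⟨q7, e7⟩ : ∃ z, z = cj q0 q5 := ⟨_, rfl⟩
  obtain ⟨q8, e8⟩ : ∃ z, z = cj q1 q6 := ⟨_, rfl⟩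
  obtain ⟨q9, e9⟩ : ∃ z, z = cj q0 q8 := ⟨_, rfl⟩
  have m4 : q4 ∈ D := e4 ▸ hD.conj _ m1 _
  have m5 : q5 ∈ D := e5 ▸ hD.conj _ m2 _
  have m6 : q6 ∈ D := e6 ▸ hD.conj _ m3 _
  have m7 : q7 ∈ D := e7 ▸ hD.conj _ m5 _
  have m8 : q8 ∈ D := e8 ▸ hD.conj _ m6 _
  have m9 : q9 ∈ D := e9 ▸ hD.conj _ m8 _
  have t01 : cj q0 q1 = q4 := e4.symm
  have t12 : cj q1 q2 = q5 := e5.symm
  have t23 : cj q2 q3 = q6 := e6.symm
  have t05 : cj q0 q5 = q7 := e7.symm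
  have t16 : cj q1 q6 = q8 := e8.symm
  have t08 : cj q0 q8 = q9 := e9.symm
  have t00 : cj q0 q0 = q0 := cj_self _
  have t11 : cj q1 q1 = q1 := cj_self _
  have t22 : cj q2 q2 = q2 := cj_self _
  have t33 : cj q3 q3 = q3 := cj_self _
  have t44 : cj q4 q4 = q4 := cj_self _
  have t55 : cj q5 q5 = q5 := cj_self _
  have t66 : cj q6 q6 = q6 := cj_self _
  have t77 : cj q7 q7 = q7 := cj_self _
  have t88 : cj q8 q8 = q8 := cj_self _
  have t99 : cj q9 q9 = q9 := cj_self _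
  have t02 : cj q0 q2 = q2 := cj_of_commute c02
  have t20 : cj q2 q0 = q0 := cj_of_commute c02.symm
  have t03 : cj q0 q3 = q3 := cj_of_commute c03
  have t30 : cj q3 q0 = q0 := cj_of_commute c03.symm
  have t13 : cj q1 q3 = q3 := cj_of_commute c13
  have t31 : cj q3 q1 = q1 := cj_of_commute c13.symm
  have t10 : cj q1 q0 = q4 := (hD.braid m0 m1 n01).symm.trans t01
  have t21 : cj q2 q1 = q5 := (hD.braid m1 m2 n12).symm.trans t12
  have t32 : cj q3 q2 = q6 := (hD.braid m2 m3 n23).symm.trans t23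
  have t04 : cj q0 q4 = q1 := by rw [← t01]; exact hD.cj_cj_same m0 _
  have t15 : cj q1 q5 = q2 := by rw [← t12]; exact hD.cj_cj_same m1 _
  have t26 : cj q2 q6 = q3 := by rw [← t23]; exact hD.cj_cj_same m2 _
  have t07 : cj q0 q7 = q5 := by rw [← t05]; exact hD.cj_cj_same m0 _
  have t18 : cj q1 q8 = q6 := by rw [← t16]; exact hD.cj_cj_same m1 _
  have t09 : cj q0 q9 = q8 := by rw [← t08]; exact hD.cj_cj_same m0 _
  have t14 : cj q1 q4 = q0 := by rw [← t10]; exact hD.cj_cj_same m1 _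
  have t25 : cj q2 q5 = q1 := by rw [← t21]; exact hD.cj_cj_same m2 _
  have t36 : cj q3 q6 = q2 := by rw [← t32]; exact hD.cj_cj_same m3 _
  have t42 : cj q4 q2 = q7 := s5_step t01 t02 t05 t12
  have t43 : cj q4 q3 = q3 := s5_step t01 t03 t03 t13
  have t34 : cj q3 q4 = q4 := s5_step t03 t01 t01 t31
  have t40 : cj q4 q0 = q1 := s5_step t01 t00 t04 t10
  have t24 : cj q2 q4 = q7 := s5_step t02 t01 t05 t21
  have t47 : cj q4 q7 = q2 := s5_step t01 t05 t02 t15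
  have t41 : cj q4 q1 = q0 := s5_step t01 t04 t00 t14
  have t27 : cj q2 q7 = q4 := s5_step t02 t05 t01 t25
  have t53 : cj q5 q3 = q8 := s5_step t12 t13 t16 t23
  have t45 : cj q4 q5 = q5 := s5_step t10 t12 t12 t02
  have t54 : cj q5 q4 = q4 := s5_step t12 t10 t10 t20
  have t51 : cj q5 q1 = q2 := s5_step t12 t11 t15 t21
  have t35 : cj q3 q5 = q8 := s5_step t13 t12 t16 t32
  have t58 : cj q5 q8 = q3 := s5_step t12 t16 t13 t26
  have t52 : cj q5 q2 = q1 := s5_step t12 t15 t11 t25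
  have t38 : cj q3 q8 = q5 := s5_step t13 t16 t12 t36
  have t06 : cj q0 q6 = q6 := s5_step t20 t23 t23 t03
  have t60 : cj q6 q0 = q0 := s5_step t23 t20 t20 t30
  have t56 : cj q5 q6 = q6 := s5_step t21 t23 t23 t13
  have t65 : cj q6 q5 = q5 := s5_step t23 t21 t21 t31
  have t50 : cj q5 q0 = q7 := s5_step t21 t20 t24 t10
  have t62 : cj q6 q2 = q3 := s5_step t23 t22 t26 t32
  have t57 : cj q5 q7 = q0 := s5_step t21 t24 t20 t14
  have t63 : cj q6 q3 = q2 := s5_step t23 t26 t22 t36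
  have t72 : cj q7 q2 = q4 := s5_step t24 t22 t27 t42
  have t76 : cj q7 q6 = q6 := s5_step t24 t23 t23 t43
  have t67 : cj q6 q7 = q7 := s5_step t23 t24 t24 t34
  have t70 : cj q7 q0 = q5 := s5_step t24 t20 t21 t40
  have t74 : cj q7 q4 = q2 := s5_step t24 t27 t22 t47
  have t75 : cj q7 q5 = q0 := s5_step t24 t21 t20 t41
  have t71 : cj q7 q1 = q1 := s5_step t24 t25 t25 t45
  have t17 : cj q1 q7 = q7 := s5_step t25 t24 t24 t54
  have t61 : cj q6 q1 = q8 := s5_step t32 t31 t35 t21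
  have t68 : cj q6 q8 = q1 := s5_step t32 t35 t31 t25
  have t83 : cj q8 q3 = q5 := s5_step t35 t33 t38 t53
  have t48 : cj q4 q8 = q8 := s5_step t34 t35 t35 t45
  have t84 : cj q8 q4 = q4 := s5_step t35 t34 t34 t54
  have t81 : cj q8 q1 = q6 := s5_step t35 t31 t32 t51
  have t85 : cj q8 q5 = q3 := s5_step t35 t38 t33 t58
  have t86 : cj q8 q6 = q1 := s5_step t35 t32 t31 t52
  have t82 : cj q8 q2 = q2 := s5_step t35 t36 t36 t56
  have t28 : cj q2 q8 = q8 := s5_step t36 t35 t35 t65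
  have t87 : cj q8 q7 = q7 := s5_step t48 t42 t42 t82
  have t78 : cj q7 q8 = q8 := s5_step t42 t48 t48 t28
  have t46 : cj q4 q6 = q9 := s5_step t01 t06 t08 t16
  have t49 : cj q4 q9 = q6 := s5_step t01 t08 t06 t18
  have t73 : cj q7 q3 = q9 := s5_step t05 t03 t08 t53
  have t37 : cj q3 q7 = q9 := s5_step t03 t05 t08 t35
  have t79 : cj q7 q9 = q3 := s5_step t05 t08 t03 t58
  have t39 : cj q3 q9 = q7 := s5_step t03 t08 t05 t38
  have t64 : cj q6 q4 = q9 := s5_step t06 t01 t08 t61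
  have t69 : cj q6 q9 = q4 := s5_step t06 t08 t01 t68
  have t93 : cj q9 q3 = q7 := s5_step t08 t03 t05 t83
  have t19 : cj q1 q9 = q9 := s5_step t04 t08 t08 t48
  have t91 : cj q9 q1 = q1 := s5_step t08 t04 t04 t84
  have t94 : cj q9 q4 = q6 := s5_step t08 t01 t06 t81
  have t97 : cj q9 q7 = q3 := s5_step t08 t05 t03 t85
  have t96 : cj q9 q6 = q4 := s5_step t08 t06 t01 t86
  have t92 : cj q9 q2 = q2 := s5_step t08 t02 t02 t82
  have t29 : cj q2 q9 = q9 := s5_step t02 t08 t08 t28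
  have t95 : cj q9 q5 = q5 := s5_step t08 t07 t07 t87
  have t59 : cj q5 q9 = q9 := s5_step t07 t08 t08 t78
  have t80 : cj q8 q0 = q9 := s5_step t16 t14 t19 t64
  have t89 : cj q8 q9 = q0 := s5_step t16 t19 t14 t69
  have t90 : cj q9 q0 = q8 := s5_step t19 t14 t16 t94
  have t98 : cj q9 q8 = q0 := s5_step t19 t16 t14 t96
  refine ⟨![q0, q1, q2, q3, q4, q5, q6, q7, q8, q9], rfl, rfl, rfl, rfl, fun i => ?_,
    fun i j => ?_⟩
  · fin_cases i <;> assumption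
  · fin_cases i <;> fin_cases j
    exacts [t00, t01, t02, t03, t04, t05, t06, t07, t08, t09, t10, t11, t12, t13, t14, t15, t16, t17, t18, t19, t20, t21, t22, t23, t24, t25, t26, t27, t28, t29, t30, t31, t32, t33, t34, t35, t36, t37, t38, t39, t40, t41, t42, t43, t44, t45, t46, t47, t48, t49, t50, t51, t52, t53, t54, t55, t56, t57, t58, t59, t60, t61, t62, t63, t64, t65, t66, t67, t68, t69, t70, t71, t72, t73, t74, t75, t76, t77, t78, t79, t80, t81, t82, t83, t84, t85, t86, t87, t88, t89, t90, t91, t92, t93, t94, t95, t96, t97, t98, t99]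

theorem s5_adj_trans : ∀ k j : Fin 10, s5tab k j ≠ j → ∃ a b c : Fin 10,
    s5tab a (s5tab b (s5tab c k)) = 0 ∧ s5tab a (s5tab b (s5tab c j)) = 1 := by
  decide +kernel

theorem s5_sep : ∀ i j : Fin 10, i ≠ j → ∃ k, s5tab k i = i ∧ s5tab k j ≠ j := by
  decide +kernel

theorem s5_three : ∀ i : Fin 10,
    (Finset.univ.filter fun j => j ≠ i ∧ s5tab i j = j).card = 3 := by
  decide +kernel

theorem s5_swap : ∀ a b c e : Fin 5, a ≠ b → c ≠ e →
    s5idx (Equiv.swap a b c) (Equiv.swap a b e) = s5tab (s5idx a b) (s5idx c e) := by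
  decide +kernel

theorem s5_swap_eq : ∀ a b c e : Fin 5, a ≠ b → c ≠ e →
    (Equiv.swap a b = Equiv.swap c e ↔ s5idx a b = s5idx c e) := by
  decide +kernel

theorem s5_surj : ∀ i : Fin 10, ∃ a b : Fin 5, a ≠ b ∧ s5idx a b = i := by
  decide +kernel

theorem center_perm5 : Subgroup.center (Equiv.Perm (Fin 5)) = ⊥ := by
  rw [eq_bot_iff]
  intro g hg
  rw [Subgroup.mem_center_iff] at hg
  have h1 := hg (Equiv.swap 0 1)
  have h2 := hg (Equiv.swap 1 2)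
  have h3 := hg (Equiv.swap 2 3)
  rw [Subgroup.mem_bot]
  clear hg
  revert g
  decide +kernel

section
variable {D : Set G} {q : Fin 10 → G} (n01 : ¬ Commute (q 0) (q 1))
  (ht : ∀ i j, cj (q i) (q j) = q (s5tab i j))
include n01 ht

theorem s5_adj {k j : Fin 10} (h : s5tab k j ≠ j) : ¬ Commute (q k) (q j) := by
  obtain ⟨a, b, c, h1, h2⟩ := s5_adj_trans k j h
  intro hc
  apply n01
  rw [← h1, ← h2]
  simp only [← ht, commute_cj]
  exact hc

theorem s5_inj : Function.Injective q := by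
  intro i j hij
  by_contra hne
  obtain ⟨k, h1, h2⟩ := s5_sep i j hne
  apply s5_adj n01 ht h2
  rw [← hij, ← cj_eq_self, ht, h1]

theorem PTT.iso_s5 [Finite G] (hD : PTT D) (hZ : Subgroup.center G = ⊥) (hq : ∀ i, q i ∈ D)
    (h3 : (Dx D (q 0)).ncard = 3) : Nonempty (G ≃* Equiv.Perm (Fin 5)) := by
  classical
  have T := hD.toTT
  have hinj := s5_inj n01 ht
  have hsurj : D ⊆ Set.range q := by
    refine hD.comm_closed ?_ ⟨0, rfl⟩ (hq 0)
    rintro _ ⟨i, rfl⟩ y hy hc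
    by_cases hyi : y = q i
    · exact ⟨i, hyi.symm⟩
    have hsub : (((Finset.univ.filter fun j => j ≠ i ∧ s5tab i j = j).image q : Finset G) : Set G)
        ⊆ Dx D (q i) := by
      intro z hz
      simp only [Finset.coe_image, Finset.coe_filter, Finset.mem_univ, true_and, Set.mem_image,
        Set.mem_setOf_eq] at hz
      obtain ⟨j, ⟨h1, h2⟩, rfl⟩ := hz
      exact ⟨hq j, fun h => h1 (hinj h), by rw [← cj_eq_self, ht, h2]⟩
    have heq := Set.eq_of_subset_of_ncard_le hsub (by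
      rw [Set.ncard_coe_finset, Finset.card_image_of_injective _ hinj, s5_three,
        T.ncard_Dx (hq i) (hq 0), h3])
    have : y ∈ Dx D (q i) := ⟨hy, hyi, hc⟩
    rw [← heq] at this
    simp only [Finset.coe_image, Set.mem_image] at this
    obtain ⟨j, -, rfl⟩ := this
    exact ⟨j, rfl⟩
  let I := {v : Fin 5 × Fin 5 // v.1 ≠ v.2}
  let act : MulAction (Equiv.Perm (Fin 5)) I :=
    { smul := fun g v => ⟨(g v.1.1, g v.1.2), fun h => v.2 (g.injective h)⟩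
      one_smul := fun _ => rfl
      mul_smul := fun _ _ _ => rfl }
  obtain ⟨e⟩ := T.recognize hZ (Γ := Equiv.Perm (Fin 5)) (I := I)
    (fun v => q (s5idx v.1.1 v.1.2)) (fun v => hq _)
    (fun x hx => by
      obtain ⟨i, rfl⟩ := hsurj hx
      obtain ⟨a, b, hab, rfl⟩ := s5_surj i
      exact ⟨⟨(a, b), hab⟩, rfl⟩)
    (fun v => Equiv.swap v.1.1 v.1.2)
    (by
      rw [← Equiv.Perm.closure_isSwap]
      congr 1
      ext σ
      constructor
      · rintro ⟨v, rfl⟩; exact ⟨_, _, v.2, rfl⟩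
      · rintro ⟨a, b, hab, rfl⟩; exact ⟨⟨(a, b), hab⟩, rfl⟩)
    (fun g v => (Equiv.swap_apply_apply g _ _).symm)
    (fun v w => by rw [s5_swap_eq _ _ _ _ v.2 w.2, hinj.eq_iff])
    (fun v w => by rw [ht, ← s5_swap _ _ _ _ v.2 w.2]; rfl)
  exact ⟨e.trans ((QuotientGroup.quotientMulEquivOfEq center_perm5).trans
    QuotientGroup.quotientBot)⟩

end

theorem PTT.iso_s5_of_odd [Finite G] {D : Set G} (hD : PTT D) (hZ : Subgroup.center G = ⊥) {d : G}
    (hd : d ∈ D) (N : Subgroup (Subgroup.closure (Dx D d))) [N.Normal]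
    (hodd : (Nat.card N).Coprime 2) (h : ¬ N ≤ Subgroup.center _) :
    Nonempty (G ≃* Equiv.Perm (Fin 5)) := by
  have T := hD.toTT
  have key : ∀ x ∈ D, ∀ y ∈ D, x * y ∈ N.map (Subgroup.subtype _) → Commute x y → x = y := by
    rintro x hx y hy ⟨n, hn, hxy⟩ hc
    have h2 : (⟨n, hn⟩ : N) ^ 2 = 1 := by
      apply Subtype.ext
      apply Subtype.ext
      change (n : G) ^ 2 = 1
      rw [Subgroup.coe_subtype] at hxy
      rw [hxy, hc.mul_pow, pow_two, pow_two, T.sq x hx, T.sq y hy, one_mul]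
    have h1 : orderOf (⟨n, hn⟩ : N) = 1 :=
      Nat.eq_one_of_dvd_coprimes hodd (orderOf_dvd_natCard _) (orderOf_dvd_of_pow_eq_one h2)
    rw [orderOf_eq_one_iff] at h1
    have h3 : x * y = 1 := by
      rw [← hxy, show n = 1 from congrArg Subtype.val h1, map_one]
    rw [← T.inv hx]
    exact inv_eq_of_mul_eq_one_right h3
  obtain ⟨a, ha, b, hb, hab, h1, h2⟩ := T.block_of_noncentral N h
  have hW : Wodd D d a b := by
    refine ⟨hb, fun hc => hab (key a ha.1 b hb.1 h1 hc), fun z hz hzd hza hne => ?_⟩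
    by_cases hz' : z = d
    · rw [hz']; exact hb.2.2
    by_contra hzb
    exact hne (key z hz a ha.1 (h2 z ⟨hz, hz', hzd.symm⟩ hza hzb).1 hza)
  have hno : ∀ d' ∈ D, ∀ a' ∈ Dx D d', Dx D d' ∩ Dx D a' = ∅ := by
    intro d' hd' a' ha'
    obtain ⟨g, rfl, rfl⟩ := hD.comm_pair_trans hd hd' ha ha'
    exact hD.no_triple_of_wodd hd' ha' (hW.cj T g)
  obtain ⟨y, hy, hyb⟩ := hD.sep ha.1 hb.1 hab
  have hyd : ¬ Commute y d := fun h => hyb (hW.2.2 y hy.1 h hy.2.2.symm hy.2.1)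
  have h3 := hD.ncard_Dx_of_no_triple hno hd hy.1 (fun h => hyd h.symm)
    (a := a) ⟨ha, ha.1, fun h => hy.2.1 h.symm, hy.2.2.symm⟩
  obtain ⟨q, e0, e1, e2, e3, hq, ht⟩ := T.s5_table hd hy.1 hb.1 ha.1 (fun h => hyd h.symm) hyb
    (fun h => hW.2.1 h.symm) hb.2.2 ha.2.2 hy.2.2.symm
  exact hD.iso_s5 (by rw [e0, e1]; exact fun h => hyd h.symm) ht hZ hq (by rw [e0]; exact h3)

end H0
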