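import Mathlib

/-! A Heisenberg-type cocycle on an extension of a Hermitian space over `F₂` or `F₄`. -/

set_option autoImplicit false
set_option linter.unusedSectionVars false

namespace H0

/-- the fields with two and four elements -/
structure SF {F : Type*} [Field F] (σ : F →+* F) : Prop where
  two : (2 : F) = 0
  invol : ∀ a, σ (σ a) = a
  norm : ∀ a : F, a ≠ 0 → a * σ a = 1
  transl : ∀ f : F → F, (∀ a, f (f a) = a) → (∀ a, f a ≠ a) → ∀ a, f a = a + f 0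

theorem SF.fixed {F : Type*} [Field F] {σ : F →+* F} (h : SF σ) {a : F} (ha : a + σ a = 0) :
    a = 0 ∨ a = 1 := by
  by_cases h0 : a = 0
  · exact Or.inl h0
  right
  have h1 := h.norm a h0
  have : (a - 1) ^ 2 = 0 := by linear_combination a * ha - h1 - (a - 1) * h.two - h.two
  exact sub_eq_zero.1 (pow_eq_zero_iff two_ne_zero |>.1 this)

variable {G : Type*} [Group G] {F : Type*} [Field F] {σ : F →+* F} {W : Type*} [AddCommGroup W]
  [Module F W]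

structure Heis (σ : F →+* F) (B : W →ₛₗ[σ] W →ₗ[F] F) (Q : Subgroup G) (d : G) (τ : G → W)
    (Z : Set G) : Prop where
  sf : SF σ
  symm : ∀ x y, B y x = σ (B x y)
  dQ : d ∈ Q
  dc : ∀ q ∈ Q, Commute d q
  dd : d * d = 1
  τmul : ∀ q ∈ Q, ∀ q' ∈ Q, τ (q * q') = τ q + τ q'
  τd : τ d = 0
  ker : ∀ q ∈ Q, τ q = 0 → q = 1 ∨ q = d
  surj : ∀ w, ∃ q ∈ Q, τ q = w
  ZQ : ∀ z ∈ Z, z ∈ Q
  Z1 : (1 : G) ∈ Z
  Zd : ∀ z ∈ Z, d * z ∉ Z
  Zsq : ∀ z ∈ Z, z * z = 1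
  Ziso : ∀ z ∈ Z, B (τ z) (τ z) = 0
  R0 : ∀ s ∈ Z, ∀ t ∈ Z, B (τ s) (τ t) = 0 → s * t ∈ Z
  R1 : ∀ s ∈ Z, ∀ t ∈ Z, B (τ s) (τ t) = 1 → d * (s * t) ∈ Z
  R4 : ∀ s ∈ Z, ∀ t ∈ Z, B (τ s) (τ t) ≠ 0 → B (τ s) (τ t) ≠ 1 → s * t ≠ t * s
  nd : ∀ w, w ≠ 0 → ∃ s ∈ Z, B (τ s) w ≠ 0
  Z5 : ∀ q ∈ Q, ∀ s ∈ Z, B (τ s) (τ q) ≠ 0 → ∃ t ∈ Z, B (τ s) (τ t) = 0 ∧ t * q ∈ Z

namespace Heis

variable {B : W →ₛₗ[σ] W →ₗ[F] F} {Q : Subgroup G} {d : G} {τ : G → W} {Z : Set G}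

/-- the graph of the cocycle -/
def A (_h : Heis σ B Q d τ Z) (q : G) (a : F) : Prop :=
  ∃ s ∈ Z, ∃ t ∈ Z, (q = s * t ∧ a = B (τ s) (τ t)) ∨ (q = d * (s * t) ∧ a = 1 + B (τ s) (τ t))

variable (h : Heis σ B Q d τ Z)
include h

theorem add_self (w : W) : w + w = 0 := by rw [← two_smul F w, h.sf.two, zero_smul]

theorem τ1 : τ 1 = 0 := by
  have := h.τmul 1 (one_mem _) 1 (one_mem _)
  rw [one_mul, left_eq_add] at this
  exact this

theorem τdmul {q : G} (hq : q ∈ Q) : τ (d * q) = τ q := by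
  rw [h.τmul d h.dQ q hq, h.τd, zero_add]

theorem ddmul (q : G) : d * (d * q) = q := by rw [← mul_assoc, h.dd, one_mul]

theorem A_zero {q : G} (hA : h.A q 0) : q ∈ Z := by
  obtain ⟨s, hs, t, ht, ⟨rfl, e⟩ | ⟨rfl, e⟩⟩ := hA
  · exact h.R0 s hs t ht e.symm
  · exact h.R1 s hs t ht (by linear_combination -e - h.sf.two)

theorem A_d {q : G} {a : F} (hA : h.A q a) : h.A (d * q) (a + 1) := by
  obtain ⟨s, hs, t, ht, ⟨rfl, rfl⟩ | ⟨rfl, rfl⟩⟩ := hA
  · exact ⟨s, hs, t, ht, Or.inr ⟨rfl, add_comm _ _⟩⟩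
  · exact ⟨s, hs, t, ht, Or.inl ⟨h.ddmul _, by linear_combination h.sf.two⟩⟩

theorem A_one {q : G} (hA : h.A q 1) : d * q ∈ Z := by
  have := h.A_d hA
  rw [one_add_one_eq_two, h.sf.two] at this
  exact h.A_zero this

theorem A_tr {q : G} {a : F} (hA : h.A q a) : a + σ a = B (τ q) (τ q) := by
  have key : ∀ s ∈ Z, ∀ t ∈ Z, B (τ (s * t)) (τ (s * t)) = B (τ s) (τ t) + σ (B (τ s) (τ t)) := by
    intro s hs t ht
    rw [h.τmul s (h.ZQ s hs) t (h.ZQ t ht)]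
    simp only [map_add, LinearMap.add_apply, h.Ziso s hs, h.Ziso t ht, h.symm (τ s) (τ t)]
    ring
  obtain ⟨s, hs, t, ht, ⟨rfl, rfl⟩ | ⟨rfl, rfl⟩⟩ := hA
  · rw [key s hs t ht]
  · rw [h.τdmul (mul_mem (h.ZQ s hs) (h.ZQ t ht)), key s hs t ht, map_add, map_one]
    linear_combination h.sf.two

theorem A_total {q : G} (hq : q ∈ Q) : ∃ a, h.A q a := by
  by_cases h0 : τ q = 0
  · rcases h.ker q hq h0 with rfl | rfl
    · exact ⟨_, 1, h.Z1, 1, h.Z1, Or.inl ⟨by simp, rfl⟩⟩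
    · exact ⟨_, 1, h.Z1, 1, h.Z1, Or.inr ⟨by simp, rfl⟩⟩
  · obtain ⟨s, hs, h1⟩ := h.nd _ h0
    obtain ⟨t, ht, -, h2⟩ := h.Z5 q hq s hs h1
    exact ⟨_, t, ht, _, h2, Or.inl ⟨by rw [← mul_assoc, h.Zsq t ht, one_mul], rfl⟩⟩

theorem comm_of_sq {s t : G} (hs : s ∈ Z) (ht : t ∈ Z) (e : s * t * (s * t) = 1) :
    s * t = t * s := by
  rw [← inv_eq_of_mul_eq_one_right e, mul_inv_rev, inv_eq_of_mul_eq_one_right (h.Zsq s hs),
    inv_eq_of_mul_eq_one_right (h.Zsq t ht)]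

theorem comm_one {s t : G} (hs : s ∈ Z) (ht : t ∈ Z) (e : B (τ s) (τ t) = 1) : s * t = t * s := by
  refine h.comm_of_sq hs ht ?_
  have := h.Zsq _ (h.R1 s hs t ht e)
  rwa [mul_assoc, ← mul_assoc (s * t), ← (h.dc _ (mul_mem (h.ZQ s hs) (h.ZQ t ht))).eq, mul_assoc,
    h.ddmul] at this

theorem anti {s t : G} (hs : s ∈ Z) (ht : t ∈ Z) (e0 : B (τ s) (τ t) ≠ 0)
    (e1 : B (τ s) (τ t) ≠ 1) : t * s = d * (s * t) := by
  have hsQ := h.ZQ s hs
  have htQ := h.ZQ t ht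
  have e : τ (t * s * (t * s)) = 0 := by
    rw [h.τmul _ (mul_mem htQ hsQ) _ (mul_mem htQ hsQ), h.add_self]
  rcases h.ker _ (mul_mem (mul_mem htQ hsQ) (mul_mem htQ hsQ)) e with h1 | h1
  · exact absurd (h.comm_of_sq ht hs h1).symm (h.R4 s hs t ht e0 e1)
  · rw [← h1, mul_assoc (t * s), mul_assoc t s (s * t), ← mul_assoc s s t, h.Zsq s hs, one_mul,
      h.Zsq t ht, mul_one]

theorem not_A_iso {q : G} {a : F} (h1 : h.A q a) (h2 : h.A q (a + 1)) (hi : B (τ q) (τ q) = 0) :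
    False := by
  rcases h.sf.fixed ((h.A_tr h1).trans hi) with rfl | rfl
  · rw [zero_add] at h2
    exact h.Zd q (h.A_zero h1) (h.A_one h2)
  · rw [one_add_one_eq_two, h.sf.two] at h2
    exact h.Zd q (h.A_zero h2) (h.A_one h1)

theorem A_norm {q : G} {a : F} (h1 : h.A q a) (hi : a + σ a = 1) :
    ∃ s ∈ Z, ∃ t ∈ Z, q = s * t ∧ a = B (τ s) (τ t) := by
  obtain ⟨s, hs, t, ht, h2 | ⟨rfl, rfl⟩⟩ := h1
  · exact ⟨s, hs, t, ht, h2⟩
  · rw [map_add, map_one] at hi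
    refine ⟨t, ht, s, hs, (h.anti hs ht (fun e => ?_) (fun e => ?_)).symm, ?_⟩
    · rw [e, map_zero] at hi
      exact one_ne_zero (by linear_combination -hi + h.sf.two : (1 : F) = 0)
    · rw [e, map_one] at hi
      exact one_ne_zero (by linear_combination -hi + 2 * h.sf.two : (1 : F) = 0)
    · rw [h.symm (τ s) (τ t)]
      linear_combination hi - σ (B (τ s) (τ t)) * h.sf.two

theorem A_unique {q : G} {a b : F} (h1 : h.A q a) (h2 : h.A q b) : a = b := by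
  have two := h.sf.two
  have e1 := h.A_tr h1
  have e2 := h.A_tr h2
  rcases h.sf.fixed (a := a + b) (by
    rw [map_add]; linear_combination e1 + e2 + B (τ q) (τ q) * two) with e | e
  · linear_combination e - b * two
  exfalso
  obtain rfl : b = a + 1 := by linear_combination e - a * two
  rcases h.sf.fixed (a := a + σ a) (by
    rw [map_add, h.sf.invol]; linear_combination (a + σ a) * two) with e3 | e3
  · exact h.not_A_iso h1 h2 (e1 ▸ e3)
  obtain ⟨s, hs, s', hs', rfl, ha⟩ := h.A_norm h1 e3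
  obtain ⟨t, ht, t', ht', hq, hb⟩ := h.A_norm h2 (e2.trans (e1.symm.trans e3))
  have hτ : τ t' = τ s + τ s' + τ t := by
    rw [← h.τmul s (h.ZQ s hs) s' (h.ZQ s' hs'), hq, h.τmul t (h.ZQ t ht) t' (h.ZQ t' ht'),
      add_comm (τ t), add_assoc, h.add_self, add_zero]
  have g1 : t * s = t' * s' := by
    rw [← one_mul (t' * s'), ← h.Zsq t ht, mul_assoc, ← mul_assoc t t', ← hq, mul_assoc s,
      h.Zsq s' hs', mul_one]
  have hb0 : B (τ t) (τ t') ≠ 0 := by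
    rw [← hb]; intro e4
    have : a = 1 := by linear_combination e4 - two
    rw [this, map_one] at e3
    exact one_ne_zero (by linear_combination -e3 + two : (1 : F) = 0)
  have hb1 : B (τ t) (τ t') ≠ 1 := by
    rw [← hb]; intro e4
    have : a = 0 := by linear_combination e4
    rw [this, map_zero] at e3
    exact one_ne_zero (by linear_combination -e3 : (1 : F) = 0)
  have g2 : t' * s = d * (t * s') := by
    have : s = t * t' * s' := by rw [← hq, mul_assoc, h.Zsq s' hs', mul_one]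
    rw [this, ← mul_assoc, ← mul_assoc, h.anti ht ht' hb0 hb1, mul_assoc d, mul_assoc t t' t',
      h.Zsq t' ht', mul_one, mul_assoc]
  have i1 := h.Ziso s hs
  have i2 := h.Ziso s' hs'
  have i3 := h.Ziso t ht
  have y1 := h.symm (τ s) (τ s')
  have y2 := h.symm (τ t) (τ s)
  rw [hτ] at hb
  simp only [map_add, i3] at hb
  rw [← ha] at y1
  rcases h.sf.fixed (a := B (τ t) (τ s) + σ (B (τ t) (τ s))) (by
    rw [map_add, h.sf.invol]; linear_combination (B (τ t) (τ s) + σ (B (τ t) (τ s))) * two)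
    with e4 | e4
  · refine h.not_A_iso (q := t * s) (a := B (τ t) (τ s)) ⟨t, ht, s, hs, Or.inl ⟨rfl, rfl⟩⟩
      ⟨t', ht', s', hs', Or.inl ⟨g1, ?_⟩⟩ ?_
    · rw [hτ]
      simp only [map_add, LinearMap.add_apply, i2, ← ha]
      linear_combination hb + (B (τ t) (τ s) - a) * two
    · rw [h.τmul t (h.ZQ t ht) s (h.ZQ s hs)]
      simp only [map_add, LinearMap.add_apply, i1, i3, y2]
      linear_combination e4
  · refine h.not_A_iso (q := t' * s) (a := B (τ t') (τ s)) ⟨t', ht', s, hs, Or.inl ⟨rfl, rfl⟩⟩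
      ⟨t, ht, s', hs', Or.inr ⟨g2, ?_⟩⟩ ?_
    · rw [hτ]
      simp only [map_add, LinearMap.add_apply, i1, y1]
      linear_combination hb + e3 + (B (τ t) (τ s) - a) * two
    · rw [← h.A_tr (q := t' * s) ⟨t', ht', s, hs, Or.inl ⟨rfl, rfl⟩⟩, hτ]
      simp only [map_add, LinearMap.add_apply, i1, y1, h.sf.invol, map_zero]
      linear_combination e3 + e4 + two

theorem exists_cocycle : ∃ α : G → F, (∀ q ∈ Q, ∀ q' ∈ Q,
    α (q * q') = α q + α q' + B (τ q) (τ q')) ∧ α d = 1 ∧ (∀ q ∈ Q, α q = 0 ↔ q ∈ Z) ∧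
    (∀ q ∈ Q, α q + σ (α q) = B (τ q) (τ q)) := by
  have two := h.sf.two
  choose! α hα using fun q (hq : q ∈ Q) => h.A_total hq
  have hu : ∀ q ∈ Q, ∀ a, h.A q a → α q = a := fun q hq a ha => h.A_unique (hα q hq) ha
  have hd : ∀ q ∈ Q, α (d * q) = α q + 1 := fun q hq =>
    hu _ (mul_mem h.dQ hq) _ (h.A_d (hα q hq))
  have hst : ∀ s ∈ Z, ∀ t ∈ Z, α (s * t) = B (τ s) (τ t) := fun s hs t ht =>
    hu _ (mul_mem (h.ZQ s hs) (h.ZQ t ht)) _ ⟨s, hs, t, ht, Or.inl ⟨rfl, rfl⟩⟩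
  have hZ : ∀ s ∈ Z, α s = 0 := fun s hs => by
    have := hst 1 h.Z1 s hs
    rwa [one_mul, h.τ1, map_zero, LinearMap.zero_apply] at this
  have hiso : ∀ q ∈ Q, B (τ q) (τ q) = 0 → q ∈ Z ∨ d * q ∈ Z := by
    intro q hq hi
    have := hα q hq
    rcases h.sf.fixed ((h.A_tr this).trans hi) with e | e <;> rw [e] at this
    exacts [Or.inl (h.A_zero this), Or.inr (h.A_one this)]
  have co1 : ∀ s ∈ Z, ∀ x ∈ Q, B (τ s) (τ x) ≠ 0 → α (s * x) = α x + B (τ s) (τ x) := by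
    intro s hs x hx hb
    obtain ⟨t, ht, h1, h2⟩ := h.Z5 x hx s hs hb
    obtain ⟨z, hz⟩ : ∃ z, z = t * x := ⟨_, rfl⟩
    rw [← hz] at h2
    obtain rfl : x = t * z := by rw [hz, ← mul_assoc, h.Zsq t ht, one_mul]
    rw [← mul_assoc, hst _ (h.R0 s hs t ht h1) z h2, hst t ht z h2,
      h.τmul s (h.ZQ s hs) t (h.ZQ t ht), h.τmul t (h.ZQ t ht) z (h.ZQ z h2)]
    simp only [map_add, LinearMap.add_apply, h1]
    ring
  have co : ∀ s ∈ Z, ∀ x ∈ Q, α (s * x) = α x + B (τ s) (τ x) := by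
    intro s hs x hx
    by_cases hb : B (τ s) (τ x) = 0
    swap
    · exact co1 s hs x hx hb
    have e1 := h.A_tr (hα x hx)
    rcases h.sf.fixed (a := α x + σ (α x)) (by
      rw [map_add, h.sf.invol]; linear_combination (α x + σ (α x)) * two) with e3 | e3
    · rcases hiso x hx (e1 ▸ e3) with h1 | h1
      · rw [hst s hs x h1, hZ x h1, zero_add]
      · have h2 := hd _ (mul_mem h.dQ hx)
        have h3 := hd _ (mul_mem (h.ZQ s hs) (mul_mem h.dQ hx))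
        rw [h.ddmul, hZ _ h1] at h2
        rw [hst s hs _ h1, ← mul_assoc, (h.dc s (h.ZQ s hs)).eq, mul_assoc, h.ddmul,
          h.τdmul hx] at h3
        rw [h2, h3]; ring
    by_cases hu0 : τ s = 0
    · rcases h.ker s (h.ZQ s hs) hu0 with rfl | rfl
      · rw [one_mul, hb, add_zero]
      · exact absurd (by rwa [mul_one]) (h.Zd 1 h.Z1)
    obtain ⟨r, hr, hr0⟩ := h.nd _ hu0
    have hr1 : B (τ s) (τ r) ≠ 0 := by rw [h.symm]; exact (map_ne_zero σ).2 hr0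
    obtain ⟨v0, hv0⟩ : ∃ v, B (τ s) v = 1 := ⟨(B (τ s) (τ r))⁻¹ • τ r, by simp [hr1]⟩
    have hww : B (τ x) (τ x) = 1 := e1 ▸ e3
    have hwu : B (τ x) (τ s) = 0 := by rw [h.symm, hb, map_zero]
    obtain ⟨v1, hv1, hv2⟩ : ∃ v, B (τ s) v = 1 ∧ B (τ x) v = α x :=
      ⟨v0 + (α x - B (τ x) v0) • τ x, by simp [hv0, hb], by simp [hww]⟩
    have hv1' : B v1 (τ s) = 1 := by rw [h.symm, hv1, map_one]
    have hn : σ (B v1 v1) = B v1 v1 := (h.symm v1 v1).symm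
    obtain ⟨v, hv3, hv4, hv5⟩ : ∃ v, B (τ s) v = 1 ∧ B (τ x) v = α x ∧ B v v = 0 := by
      refine ⟨v1 + (B v1 v1 * α x) • τ s, by simp [hv1, h.Ziso s hs], by simp [hv2, hwu], ?_⟩
      simp only [map_add, LinearMap.map_smulₛₗ, LinearMap.add_apply, LinearMap.smul_apply,
        smul_eq_mul, hv1, hv1', h.Ziso s hs, map_mul, hn, RingHom.id_apply]
      linear_combination B v1 v1 * e3 + B v1 v1 * two
    obtain ⟨t, ht, rfl⟩ : ∃ t ∈ Z, τ t = v := by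
      obtain ⟨q, hq, rfl⟩ := h.surj v
      rcases hiso q hq hv5 with h1 | h1
      exacts [⟨q, h1, rfl⟩, ⟨_, h1, h.τdmul hq⟩]
    have hsQ := h.ZQ s hs
    have htQ := h.ZQ t ht
    have k1 : B (τ t) (τ x) = σ (α x) := by rw [h.symm, hv4]
    have k2 : B (τ t) (τ s) = 1 := by rw [h.symm, hv3, map_one]
    have k3 : σ (α x) ≠ 0 := fun e => by
      rw [(map_eq_zero σ).1 e, map_zero] at e3
      exact one_ne_zero (by linear_combination -e3 : (1 : F) = 0)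
    have k4 : 1 + σ (α x) ≠ 0 := fun e => k3 ((map_eq_zero σ).2 (by linear_combination e3 - e + two))
    have c1 := co1 t ht _ (mul_mem hsQ hx) (by rwa [h.τmul s hsQ x hx, map_add, k1, k2])
    have c2 := co1 t ht x hx (by rwa [k1])
    have c3 := co1 s hs _ (mul_mem htQ hx) (by
      rw [h.τmul t htQ x hx, map_add, hv3, hb, add_zero]; exact one_ne_zero)
    rw [← mul_assoc, ← h.comm_one hs ht hv3, mul_assoc, c3, c2, h.τmul s hsQ x hx,
      h.τmul t htQ x hx, map_add, map_add, k1, k2, hv3, hb] at c1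
    rw [hb]
    linear_combination -c1
  refine ⟨α, fun q hq q' hq' => ?_, ?_, fun q hq => ⟨fun e => h.A_zero (e ▸ hα q hq), hZ q⟩,
    fun q hq => h.A_tr (hα q hq)⟩
  · have key : ∀ s ∈ Z, ∀ t ∈ Z, α (s * t * q') = α (s * t) + α q' + B (τ (s * t)) (τ q') := by
      intro s hs t ht
      rw [mul_assoc, co s hs _ (mul_mem (h.ZQ t ht) hq'), co t ht _ hq', hst s hs t ht,
        h.τmul t (h.ZQ t ht) q' hq', h.τmul s (h.ZQ s hs) t (h.ZQ t ht)]
      simp only [map_add, LinearMap.add_apply]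
      ring
    obtain ⟨s, hs, t, ht, ⟨rfl, -⟩ | ⟨rfl, -⟩⟩ := hα q hq
    · exact key s hs t ht
    · have hst' := mul_mem (h.ZQ s hs) (h.ZQ t ht)
      rw [mul_assoc, hd _ (mul_mem hst' hq'), key s hs t ht, hd _ hst', h.τdmul hst']
      ring
  · have := hd 1 (one_mem _)
    rwa [mul_one, hZ 1 h.Z1, zero_add] at this

end Heis

end H0
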