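import Mathlib
import Cfsg.Agent.H0.Polar
import Cfsg.Agent.H0.Heis

/-! Coordinates on the polar space of a 3-transposition class. -/

set_option autoImplicit false
set_option linter.unusedSectionVars false

namespace H0

variable {G : Type*} [Group G] {F : Type*} [Field F]

/-- the common perp of `d` and `y` -/
def MM (D : Set G) (d y : G) : Set G := {m | m ∈ D ∧ Commute m d ∧ Commute m y}

structure Coord (D : Set G) (d y : G) (β : G → F → G) : Prop where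
  pol : Pol D
  hd : d ∈ D
  hy : y ∈ D
  adj : ¬ Commute d y
  inj : ∀ m ∈ MM D d y, Function.Injective (β m)
  mem : ∀ m ∈ MM D d y, ∀ a, β m a ∈ Ln D d m
  ne : ∀ m ∈ MM D d y, ∀ a, β m a ≠ d
  surj : ∀ m ∈ MM D d y, ∀ c ∈ Ln D d m, c ≠ d → ∃ a, β m a = c
  zero : ∀ m ∈ MM D d y, β m 0 = m

/-- elements acting as translations on all lines through `d` -/
def QQ (D : Set G) (d y : G) (β : G → F → G) : Subgroup G where
  carrier := {g | Commute g d ∧ ∀ m ∈ MM D d y, ∃ t, ∀ a, cj g (β m a) = β m (a + t)}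
  one_mem' := ⟨Commute.one_left d, fun _ _ => ⟨0, fun a => by rw [cj_one, add_zero]⟩⟩
  mul_mem' := by
    rintro g k ⟨h1, h2⟩ ⟨h3, h4⟩
    refine ⟨h1.mul_left h3, fun m hm => ?_⟩
    obtain ⟨t, ht⟩ := h2 m hm
    obtain ⟨u, hu⟩ := h4 m hm
    exact ⟨u + t, fun a => by rw [← cj_cj, hu, ht, add_assoc]⟩
  inv_mem' := by
    rintro g ⟨h1, h2⟩
    refine ⟨h1.inv_left, fun m hm => ?_⟩
    obtain ⟨t, ht⟩ := h2 m hm
    refine ⟨-t, fun a => ?_⟩
    have := ht (a + -t)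
    rw [neg_add_cancel_right] at this
    rw [← this, cj_inv_cj]

/-- the translation vector -/
noncomputable def tau (β : G → F → G) (g m : G) : F := Function.invFun (β m) (cj g m)

open Classical in
/-- the canonical lifts -/
noncomputable def sl (d : G) (β : G → F → G) (m : G) (a : F) : G :=
  if a = 0 then 1 else d * (m * β m a)

/-- the elements moving `y` to a commuting point -/
def ZZ (D : Set G) (d y : G) (β : G → F → G) : Set G :=
  {q | q ∈ QQ D d y β ∧ Commute y (cj q y)}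

namespace Coord

variable [Finite G] {D : Set G} {d y : G} {β : G → F → G} (h : Coord D d y β)
include h

theorem P : PTT D := h.pol.toPTT

theorem T : TT D := h.pol.toPTT.toTT

theorem ne_d {m : G} (hm : m ∈ MM D d y) : d ≠ m := fun e => h.adj (e ▸ hm.2.2)

theorem line {m : G} (hm : m ∈ MM D d y) : IsLine D (Ln D d m) :=
  isLine_Ln h.hd hm.1 (h.ne_d hm) hm.2.1.symm

theorem βD {m : G} (hm : m ∈ MM D d y) (a : F) : β m a ∈ D := (h.mem m hm a).1

theorem βd {m : G} (hm : m ∈ MM D d y) (a : F) : Commute d (β m a) :=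
  (h.line hm).comm (left_mem_Ln h.hd) (h.mem m hm a)

theorem βm {m : G} (hm : m ∈ MM D d y) (a : F) : Commute m (β m a) :=
  (h.line hm).comm (right_mem_Ln hm.1) (h.mem m hm a)

theorem βne {m : G} (hm : m ∈ MM D d y) {a : F} (ha : a ≠ 0) : m ≠ β m a := fun e =>
  ha (h.inj m hm (by rw [h.zero m hm, ← e]))

theorem βy {m : G} (hm : m ∈ MM D d y) {a : F} : Commute y (β m a) ↔ a = 0 := by
  constructor
  · intro e
    by_contra ha
    exact h.βne hm ha (h.P.mu_unique (h.line hm) (right_mem_Ln hm.1) (left_mem_Ln h.hd)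
      (h.mem m hm a) h.hy hm.2.2.symm (fun e => h.adj e.symm) e).symm
  · rintro rfl
    rw [h.zero m hm]; exact hm.2.2.symm

theorem comm_β {w m : G} (hw : w ∈ D) (hwd : Commute w d) (hm : m ∈ MM D d y) (a : F) :
    Commute w (β m a) ↔ Commute w m :=
  ⟨fun e => h.P.all_of_two (h.line hm) (left_mem_Ln h.hd) (h.mem m hm a) (h.ne m hm a).symm hw hwd
    e (right_mem_Ln hm.1), fun e => (h.mem m hm a).2 w hw hwd e⟩

theorem comm_ββ {m m' : G} (hm : m ∈ MM D d y) (hm' : m' ∈ MM D d y) (a b : F) :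
    Commute (β m a) (β m' b) ↔ Commute m m' := by
  rw [h.comm_β (h.βD hm a) (h.βd hm a).symm hm', Commute.symm_iff, h.comm_β hm'.1 hm'.2.1 hm,
    Commute.symm_iff]

theorem cover {c : G} (hc : c ∈ D) (hcd : Commute c d) (hne : c ≠ d) :
    ∃ m ∈ MM D d y, ∃ a, β m a = c := by
  have hL := isLine_Ln h.hd hc hne.symm hcd.symm
  obtain ⟨m, hm, hym⟩ := h.pol.exists_mu hL h.hy
  have hM : m ∈ MM D d y := ⟨hm.1, hL.comm hm (left_mem_Ln h.hd), hym.symm⟩
  refine ⟨m, hM, h.surj m hM c ?_ hne⟩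
  rw [h.P.line_eq hL (left_mem_Ln h.hd) hm (h.ne_d hM)]
  exact right_mem_Ln hc

theorem β_eq {m m' : G} (hm : m ∈ MM D d y) (hm' : m' ∈ MM D d y) {a b : F}
    (e : β m a = β m' b) : m = m' ∧ a = b := by
  have h1 := h.P.line_eq (h.line hm) (left_mem_Ln h.hd) (h.mem m hm a) (h.ne m hm a).symm
  have h2 := h.P.line_eq (h.line hm') (left_mem_Ln h.hd) (h.mem m' hm' b) (h.ne m' hm' b).symm
  rw [e, h2] at h1
  obtain rfl : m = m' := h.P.mu_unique (h.line hm') (right_mem_Ln hm'.1) (left_mem_Ln h.hd)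
    (h1 ▸ right_mem_Ln hm.1) h.hy hm'.2.2.symm (fun e => h.adj e.symm) hm.2.2.symm
  exact ⟨rfl, h.inj m hm e⟩

theorem tau_spec {g m : G} (hg : g ∈ QQ D d y β) (hm : m ∈ MM D d y) (a : F) :
    cj g (β m a) = β m (a + tau β g m) := by
  obtain ⟨t, ht⟩ := hg.2 m hm
  have := ht 0
  rw [h.zero m hm, zero_add] at this
  rw [tau, this, Function.leftInverse_invFun (h.inj m hm), ht]

theorem tau_spec0 {g m : G} (hg : g ∈ QQ D d y β) (hm : m ∈ MM D d y) :
    cj g m = β m (tau β g m) := by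
  have := h.tau_spec hg hm 0
  rwa [h.zero m hm, zero_add] at this

theorem tau_eq {g m : G} (hm : m ∈ MM D d y) {t : F} (e : cj g m = β m t) : tau β g m = t := by
  rw [tau, e, Function.leftInverse_invFun (h.inj m hm)]

theorem tau_mul {g k m : G} (hg : g ∈ QQ D d y β) (hk : k ∈ QQ D d y β) (hm : m ∈ MM D d y) :
    tau β (g * k) m = tau β g m + tau β k m :=
  h.tau_eq hm (by rw [← cj_cj, h.tau_spec0 hk hm, h.tau_spec hg hm, add_comm])

theorem tau_eq_zero {g m : G} (hg : g ∈ QQ D d y β) (hm : m ∈ MM D d y) :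
    tau β g m = 0 ↔ Commute g m := by
  rw [← cj_eq_self, h.tau_spec0 hg hm]
  exact ⟨fun e => by rw [e, h.zero m hm], fun e => h.inj m hm (by rw [e, h.zero m hm])⟩

theorem dQ : d ∈ QQ D d y β :=
  ⟨Commute.refl d, fun m hm => ⟨0, fun a => by rw [add_zero, cj_of_commute (h.βd hm a)]⟩⟩

theorem tau_d {m : G} (hm : m ∈ MM D d y) : tau β d m = 0 :=
  (h.tau_eq_zero h.dQ hm).2 hm.2.1.symm

theorem g_sq {m : G} (hm : m ∈ MM D d y) (a : F) : m * β m a * (m * β m a) = 1 := by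
  rw [mul_assoc, ← mul_assoc (β m a), ← (h.βm hm a).eq, mul_assoc, h.T.sq _ (h.βD hm a), mul_one,
    h.T.sq _ hm.1]

theorem g_d {m : G} (hm : m ∈ MM D d y) (a : F) : Commute (m * β m a) d :=
  hm.2.1.mul_left (h.βd hm a).symm

theorem g_comm {m w : G} (hm : m ∈ MM D d y) {a : F} (ha : a ≠ 0) (hw : w ∈ D)
    (e : Commute w (m * β m a)) : Commute w m :=
  (h.T.commute_of_mul hm.1 (h.βD hm a) hw (h.βne hm ha) e (h.βm hm a)).1

variable {σ : F →+* F} (hσ : SF σ)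
include hσ

theorem gQ {m : G} (hm : m ∈ MM D d y) (a : F) : m * β m a ∈ QQ D d y β := by
  by_cases ha : a = 0
  · rw [ha, h.zero m hm, h.T.sq m hm.1]; exact one_mem _
  refine ⟨h.g_d hm a, fun m' hm' => ?_⟩
  by_cases hc : Commute m m'
  · refine ⟨0, fun b => ?_⟩
    rw [add_zero]
    refine cj_of_commute (Commute.mul_left ?_ ((h.comm_ββ hm hm' a b).2 hc))
    exact (h.comm_β hm.1 hm.2.1 hm' b).2 hc
  have h1 : ∀ b, ¬ Commute (β m' b) m := fun b e => hc ((h.comm_β hm.1 hm.2.1 hm' b).1 e.symm)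
  have : ∀ b, ∃ b', β m' b' = cj (m * β m a) (β m' b) := by
    intro b
    refine h.surj m' hm' _ ?_ fun e => ?_
    · have := h.P.partner_mem_Ln (h.line hm) (left_mem_Ln h.hd) (right_mem_Ln hm.1) (h.mem m hm a)
        (h.βD hm' b) (h.βd hm' b).symm (h1 b) fun e => hc ((h.comm_ββ hm hm' a b).1 e.symm)
      rwa [h.P.line_eq (h.line hm') (h.mem m' hm' b) (left_mem_Ln h.hd) (h.ne m' hm' b)] at this
    · rw [← cj_of_commute (h.g_d hm a), cj_inj] at e
      exact h.ne m' hm' b e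
  choose f hf using this
  have := hσ.transl f (fun b => h.inj m' hm' (by rw [hf, hf, cj_cj, h.g_sq hm, cj_one]))
    (fun b e => by
      have := hf b
      rw [e] at this
      exact h1 b (h.g_comm hm ha (h.βD hm' b) (cj_eq_self.1 this.symm).symm))
  exact ⟨f 0, fun b => by rw [← hf, this]⟩

theorem gam_eq_zero {m m' : G} (hm : m ∈ MM D d y) (hm' : m' ∈ MM D d y) {a : F} (ha : a ≠ 0) :
    tau β (m * β m a) m' = 0 ↔ Commute m m' := by
  rw [h.tau_eq_zero (h.gQ hσ hm a) hm']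
  exact ⟨fun e => (h.g_comm hm ha hm'.1 e.symm).symm,
    fun e => e.mul_left ((h.comm_β hm'.1 hm'.2.1 hm a).2 e.symm).symm⟩

omit hσ in
theorem gam_zero {m m' : G} (hm : m ∈ MM D d y) (hm' : m' ∈ MM D d y) :
    tau β (m * β m 0) m' = 0 := by
  rw [h.zero m hm, h.T.sq m hm.1, h.tau_eq_zero (one_mem _) hm']
  exact Commute.one_left _

theorem gam_inv {m m' : G} (hm : m ∈ MM D d y) (hm' : m' ∈ MM D d y) (hc : ¬ Commute m m')
    (a : F) : tau β (m' * β m' (tau β (m * β m a) m')) m = a := by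
  refine h.tau_eq hm ?_
  rw [← h.tau_spec0 (h.gQ hσ hm a) hm']
  exact h.T.swap_left hm.1 (h.βD hm a) hm'.1 (h.βm hm a) (fun e => hc e.symm)
    fun e => hc ((h.comm_β hm'.1 hm'.2.1 hm a).1 e).symm

theorem gam_tri {m1 m2 m3 : G} (h1 : m1 ∈ MM D d y) (h2 : m2 ∈ MM D d y) (h3 : m3 ∈ MM D d y)
    {a : F} (ha : a ≠ 0) :
    tau β (m2 * β m2 (tau β (m1 * β m1 a) m2)) m3 = tau β (m1 * β m1 a) m3 ↔
      Commute m1 (cj m2 m3) := by
  have hu : cj m2 m3 ∈ MM D d y := ⟨h.T.conj _ h3.1 _,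
    (TT.commute_cj_of h2.2.1.symm h3.2.1.symm).symm, (TT.commute_cj_of h2.2.2.symm h3.2.2.symm).symm⟩
  rw [← h.gam_eq_zero hσ h1 hu ha, h.tau_eq_zero (h.gQ hσ h1 a) hu, ← cj_eq_self, cj_cj_conj,
    ← (h.inj m3 h3).eq_iff, ← h.tau_spec0 (h.gQ hσ h2 _) h3, ← h.tau_spec0 (h.gQ hσ h1 _) h3,
    h.tau_spec0 (h.gQ hσ h1 a) h2, (h.βm h2 _).eq, ← cj_cj]
  constructor
  · intro e; rw [← e, h.T.cj_cj_same (h.βD h2 _)]
  · intro e; rw [← e, h.T.cj_cj_same (h.βD h2 _)]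

theorem slQ {m : G} (hm : m ∈ MM D d y) (a : F) : sl d β m a ∈ QQ D d y β := by
  unfold sl
  split_ifs
  exacts [one_mem _, mul_mem h.dQ (h.gQ hσ hm a)]

theorem tau_sl {m m' : G} (hm : m ∈ MM D d y) (hm' : m' ∈ MM D d y) (a : F) :
    tau β (sl d β m a) m' = tau β (m * β m a) m' := by
  unfold sl
  split_ifs with ha
  · rw [ha, h.zero m hm, h.T.sq m hm.1]
  · rw [h.tau_mul h.dQ (h.gQ hσ hm a) hm', h.tau_d hm', zero_add]

omit hσ in
theorem sl_sq {m : G} (hm : m ∈ MM D d y) (a : F) : sl d β m a * sl d β m a = 1 := by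
  unfold sl
  split_ifs
  · exact one_mul _
  · rw [mul_assoc, ← mul_assoc (m * β m a), (h.g_d hm a).eq, mul_assoc, h.g_sq hm, mul_one,
      h.T.sq d h.hd]

omit hσ in
theorem sl_y {m : G} (hm : m ∈ MM D d y) {a : F} (ha : a ≠ 0) :
    cj (sl d β m a) y = cj (d * β m a) y := by
  rw [sl, if_neg ha, (h.βm hm a).eq, ← mul_assoc, ← cj_cj, cj_of_commute hm.2.2]

omit hσ in
theorem sl_mem_Ln {m : G} (hm : m ∈ MM D d y) (a : F) : cj (sl d β m a) y ∈ Ln D y m := by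
  by_cases ha : a = 0
  · rw [sl, if_pos ha, cj_one]; exact left_mem_Ln h.hy
  · rw [h.sl_y hm ha]
    exact h.P.partner_mem_Ln (h.line hm) (right_mem_Ln hm.1) (left_mem_Ln h.hd) (h.mem m hm a)
      h.hy hm.2.2.symm (fun e => h.adj e.symm) fun e => ha ((h.βy hm).1 e)

omit hσ in
theorem liney {m : G} (hm : m ∈ MM D d y) : IsLine D (Ln D y m) :=
  isLine_Ln h.hy hm.1 (fun e => h.adj (e ▸ hm.2.1.symm)) hm.2.2.symm

omit hσ in
theorem exists_sl {m z : G} (hm : m ∈ MM D d y) (hz : z ∈ Ln D y m) (hne : z ≠ m) :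
    ∃ a, z = cj (sl d β m a) y := by
  obtain ⟨b, hb, hbm, rfl⟩ := h.P.exists_partner (h.line hm) (right_mem_Ln hm.1)
    (left_mem_Ln h.hd) h.hy hm.2.2.symm (fun e => h.adj e.symm) hz hne
  by_cases hbd : b = d
  · exact ⟨0, by rw [hbd, h.T.sq d h.hd, sl, if_pos rfl]⟩
  · obtain ⟨a, rfl⟩ := h.surj m hm b hb hbd
    exact ⟨a, (h.sl_y hm fun e => hbm (by rw [e, h.zero m hm])).symm⟩

theorem slZ {m : G} (hm : m ∈ MM D d y) (a : F) : sl d β m a ∈ ZZ D d y β :=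
  ⟨h.slQ hσ hm a, (h.liney hm).comm (left_mem_Ln h.hy) (h.sl_mem_Ln hm a)⟩

omit hσ in
theorem exists_sl_of_comm {z : G} (hz : z ∈ D) (hzd : ¬ Commute z d) (hzy : Commute y z) :
    ∃ m ∈ MM D d y, ∃ a, z = cj (sl d β m a) y := by
  by_cases e : y = z
  · obtain ⟨m, hm⟩ := h.pol.exists_M h.hd h.hy
    exact ⟨m, hm, 0, by rw [sl, if_pos rfl, cj_one, e]⟩
  have hL := isLine_Ln h.hy hz e hzy
  obtain ⟨m, hm, hdm⟩ := h.pol.exists_mu hL h.hd
  have hM : m ∈ MM D d y := ⟨hm.1, hdm.symm, hL.comm hm (left_mem_Ln h.hy)⟩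
  refine ⟨m, hM, h.exists_sl hM ?_ fun e => hzd (e ▸ hdm.symm)⟩
  rw [h.P.line_eq hL (left_mem_Ln h.hy) hm fun e => h.adj (e ▸ hdm)]
  exact right_mem_Ln hz

omit hσ in
theorem exists_sl_of_adj {z m : G} (hz : z ∈ D) (hm : m ∈ MM D d y) (hzm : ¬ Commute z m) :
    ∃ a, Commute y (cj (sl d β m a) z) := by
  obtain ⟨w, hw, hzw⟩ := h.pol.exists_mu (h.liney hm) hz
  obtain ⟨a, rfl⟩ := h.exists_sl hm hw fun e => hzm (e ▸ hzw)
  refine ⟨a, ?_⟩
  rw [← commute_cj (g := sl d β m a), cj_cj, h.sl_sq hm, cj_one]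
  exact hzw.symm

/-- the subgroup generated by the points commuting with `d` meets `Q` transitively -/
theorem exists_Q {z : G} (hz : z ∈ D) (hzd : ¬ Commute z d) : ∃ q ∈ QQ D d y β,
    (∀ g, (∀ c ∈ D, Commute c d → Commute g c) → Commute g q) ∧ z = cj q y := by
  have hs : ∀ m ∈ MM D d y, ∀ a, ∀ g, (∀ c ∈ D, Commute c d → Commute g c) →
      Commute g (sl d β m a) := by
    intro m hm a g hg
    unfold sl
    split_ifs
    · exact Commute.one_right _
    · exact (hg d h.hd (Commute.refl d)).mul_right ((hg m hm.1 hm.2.1).mul_right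
        (hg _ (h.βD hm a) (h.βd hm a).symm))
  by_cases hall : ∀ m ∈ MM D d y, Commute z m
  · rcases h.pol.hyp_line h.hd h.hy h.adj (z := z)
      ⟨hz, fun w hw h1 h2 => (hall w ⟨hw, h1, h2⟩).symm⟩ with e | e | e
    · exact absurd (e ▸ Commute.refl z) hzd
    · exact ⟨1, one_mem _, fun g _ => Commute.one_right g, by rw [cj_one, e]⟩
    · exact ⟨d, h.dQ, fun g hg => hg d h.hd (Commute.refl d), e⟩
  push Not at hall
  obtain ⟨m, hm, hzm⟩ := hall
  obtain ⟨a, ha⟩ := h.exists_sl_of_adj hz hm hzm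
  obtain ⟨m', hm', a', e⟩ := h.exists_sl_of_comm (h.T.conj _ hz _)
    (by rwa [commute_cj_left (h.slQ hσ hm a).1]) ha
  refine ⟨_, mul_mem (h.slQ hσ hm a) (h.slQ hσ hm' a'), fun g hg =>
    (hs m hm a g hg).mul_right (hs m' hm' a' g hg), ?_⟩
  rw [← cj_cj, ← e, cj_cj, h.sl_sq hm, cj_one]

variable (hZ : Subgroup.center G = ⊥)
include hZ

theorem eq_one_of_fix {q : G} (hq : q ∈ QQ D d y β) (e : cj q y = y) : q = 1 := by
  have h1 : ∀ c ∈ D, Commute c d → Commute q c := by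
    intro c hc hcd
    by_cases hne : c = d
    · rw [hne]; exact hq.1
    obtain ⟨m, hm, a, rfl⟩ := h.cover hc hcd hne
    have : tau β q m = 0 := by
      rw [← h.βy hm, ← h.tau_spec0 hq hm, commute_cj_right (cj_eq_self.1 e)]
      exact hm.2.2.symm
    rw [← cj_eq_self, h.tau_spec hq hm, this, add_zero]
  refine h.T.eq_one_of_commute hZ fun x hx => ?_
  by_cases hxd : Commute x d
  · exact h1 x hx hxd
  · obtain ⟨k, -, hk, rfl⟩ := h.exists_Q hσ hx hxd
    exact TT.commute_cj_of (hk q h1) (cj_eq_self.1 e)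

theorem regular {q q' : G} (hq : q ∈ QQ D d y β) (hq' : q' ∈ QQ D d y β)
    (e : cj q y = cj q' y) : q = q' := by
  have := h.eq_one_of_fix hσ hZ (mul_mem (inv_mem hq) hq') (by rw [← cj_cj, ← e, cj_inv_cj])
  exact inv_mul_eq_one.1 this

theorem tau_ker {q : G} (hq : q ∈ QQ D d y β) (e : ∀ m ∈ MM D d y, tau β q m = 0) :
    q = 1 ∨ q = d := by
  rcases h.pol.hyp_line h.hd h.hy h.adj (z := cj q y) ⟨h.T.conj _ h.hy _, fun w hw h1 h2 =>
    TT.commute_cj_of ((h.tau_eq_zero hq ⟨hw, h1, h2⟩).1 (e w ⟨hw, h1, h2⟩)).symm h2⟩ with e | e | e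
  · rw [← cj_of_commute hq.1, cj_inj] at e
    exact absurd (e ▸ Commute.refl y) h.adj
  · exact Or.inl (h.eq_one_of_fix hσ hZ hq e)
  · exact Or.inr (h.regular hσ hZ hq h.dQ e)

theorem Z_form {q : G} (hq : q ∈ ZZ D d y β) : ∃ m ∈ MM D d y, ∃ a, q = sl d β m a := by
  obtain ⟨m, hm, a, e⟩ := h.exists_sl_of_comm (h.T.conj _ h.hy q)
    (by rw [commute_cj_left hq.1.1]; exact fun e => h.adj e.symm) hq.2
  exact ⟨m, hm, a, h.regular hσ hZ hq.1 (h.slQ hσ hm a) e⟩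

omit hZ hσ in
theorem Zd {q : G} (hq : q ∈ ZZ D d y β) : d * q ∉ ZZ D d y β := by
  rintro ⟨-, e⟩
  have h1 : ¬ Commute d (cj q y) := by rw [commute_cj_right hq.1.1]; exact h.adj
  rw [← cj_cj, h.T.braid h.hd (h.T.conj _ h.hy _) h1, commute_cj_right hq.2.symm] at e
  exact h.adj e.symm

omit hZ in
theorem R0 {m m' : G} (hm : m ∈ MM D d y) (hm' : m' ∈ MM D d y) (hc : Commute m m') (a a' : F) :
    sl d β m a * sl d β m' a' ∈ ZZ D d y β := by
  refine ⟨mul_mem (h.slQ hσ hm a) (h.slQ hσ hm' a'), ?_⟩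
  rw [← commute_cj (g := sl d β m a), cj_cj, ← mul_assoc, h.sl_sq hm, one_mul]
  have h1 := h.sl_mem_Ln hm' a'
  exact ((h.sl_mem_Ln hm a).2 _ h1.1 ((h.liney hm').comm h1 (left_mem_Ln h.hy))
    (h1.2 m hm.1 hm.2.2 hc).symm).symm

omit hZ in
theorem R1 {m m' : G} (hm : m ∈ MM D d y) (hm' : m' ∈ MM D d y) {a a' : F} (ha : a ≠ 0)
    (ha' : a' ≠ 0) (e : cj (m * β m a) m' = β m' a') :
    d * (sl d β m a * sl d β m' a') ∈ ZZ D d y β := by
  refine ⟨mul_mem h.dQ (mul_mem (h.slQ hσ hm a) (h.slQ hσ hm' a')), ?_⟩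
  have T := h.T
  have hc := h.βD hm a
  have k1 : Commute (β m' a') (cj (d * β m a) y) := by
    rw [← commute_cj (g := d), ← commute_cj (g := β m a), cj_cj d, ← mul_assoc, T.sq d h.hd,
      one_mul, T.cj_cj_same hc, cj_of_commute (h.βd hm' a'), ← e, (h.βm hm a).eq, ← cj_cj,
      T.cj_cj_same hc]
    exact (TT.commute_cj_of hm.2.2.symm hm'.2.2.symm).symm
  have k2 : Commute y (cj (d * β m a) y) := h.sl_y hm ha ▸ (h.slZ hσ hm a).2
  rw [← mul_assoc, ← cj_cj, h.sl_y hm' ha', sl, if_neg ha, ← mul_assoc, T.sq d h.hd, one_mul,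
    ← cj_cj, commute_cj_right hm.2.2, ← commute_cj (g := β m a), T.cj_cj_same hc,
    ← commute_cj (g := d), ← cj_cj d (β m' a'), T.cj_cj_same h.hd, cj_cj d,
    commute_cj_right k1]
  exact k2.symm

omit hZ in
theorem R4 {m m' : G} (hm : m ∈ MM D d y) (hm' : m' ∈ MM D d y) {a a' : F} (ha' : a' ≠ 0)
    (e0 : tau β (m * β m a) m' ≠ 0) (e1 : tau β (m * β m a) m' ≠ a') :
    sl d β m a * sl d β m' a' ≠ sl d β m' a' * sl d β m a := by
  intro e
  have T := h.T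
  have hs := h.slQ hσ hm a
  rw [← h.tau_sl hσ hm hm'] at e0 e1
  set b := tau β (sl d β m a) m' with hb
  have k1 : Commute (sl d β m a) (m' * β m' a') := by
    have := hs.1.mul_right (show Commute _ _ from e)
    rwa [sl.eq_1 d β m', if_neg ha', ← mul_assoc, T.sq d h.hd, one_mul] at this
  have k2 : m' * β m' a' = β m' b * β m' (a' + b) := by
    rw [← cj_of_commute k1, cj_mul, h.tau_spec0 hs hm', h.tau_spec hs hm']
  apply h.Zd (h.slZ hσ hm' a')
  rw [sl, if_neg ha', ← mul_assoc, T.sq d h.hd, one_mul]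
  refine ⟨h.gQ hσ hm' a', ?_⟩
  rw [k2]
  refine T.partner_commute (h.βD hm' _) (h.βD hm' _) h.hy
    ((h.comm_ββ hm' hm' _ _).2 (Commute.refl _)) (fun e => e0 ((h.βy hm').1 e)) fun e => e1 ?_
  linear_combination (h.βy hm').1 e - a' * hσ.two

end Coord

end H0
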