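import Mathlib
import Cfsg.Agent.H0.Heis
import Cfsg.Agent.H15.Finite

/-! A computable field with four elements. -/

set_option autoImplicit false

namespace H0

/-- the field with four elements -/
def F4 : Type := Fin 4

namespace F4

instance instDecEq : DecidableEq F4 := inferInstanceAs (DecidableEq (Fin 4))
instance instFintype : Fintype F4 := inferInstanceAs (Fintype (Fin 4))

def addT : Fin 4 → Fin 4 → Fin 4 := ![![0, 1, 2, 3], ![1, 0, 3, 2], ![2, 3, 0, 1], ![3, 2, 1, 0]]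
def mulT : Fin 4 → Fin 4 → Fin 4 := ![![0, 0, 0, 0], ![0, 1, 2, 3], ![0, 2, 3, 1], ![0, 3, 1, 2]]
def invT : Fin 4 → Fin 4 := ![0, 1, 3, 2]

instance instAdd : Add F4 := ⟨addT⟩
instance instMul : Mul F4 := ⟨mulT⟩
instance instNeg : Neg F4 := ⟨id⟩
instance instInv : Inv F4 := ⟨invT⟩
instance instZero : Zero F4 := ⟨(0 : Fin 4)⟩
instance instOne : One F4 := ⟨(1 : Fin 4)⟩

instance instField : Field F4 :=
  Field.ofMinimalAxioms F4 (by decide) (by decide) (by decide) (by decide) (by decide) (by decide)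
    (by decide) rfl (by decide) ⟨0, 1, by decide⟩

theorem card : Fintype.card F4 = 2 ^ 2 := rfl

theorem frob_eq (a : F4) : H15.frob card a = a * a := by rw [H15.frob_apply, pow_two]

theorem sf : SF (H15.frob card) := by
  refine ⟨by decide, H15.frob_frob card, fun a => ?_, by decide +kernel⟩
  rw [frob_eq]; revert a; decide

/-- the two field automorphisms -/
def rho (e : ZMod 2) (a : F4) : F4 := if e = 0 then a else a * a

theorem rho_rho : ∀ e a, rho e (rho e a) = a := by decide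

theorem rho_zero : ∀ e, rho e 0 = 0 := by decide

theorem classify : ∀ f : F4 → F4, f 0 = 0 → Function.Injective f →
    ∃ e : ZMod 2, ∃ c : F4, c ≠ 0 ∧ ∀ a, f a = rho e a * c := by decide +kernel

theorem pair : ∀ (e e' : ZMod 2) (c c' : F4), (∀ a, rho e' (rho e a * c) * c' = a) → e = e' := by
  decide +kernel

theorem tri : ∀ (e1 e2 e3 : ZMod 2) (c1 c2 c3 : F4), c1 ≠ 0 → c2 ≠ 0 → c3 ≠ 0 →
    ((∀ a, a ≠ 0 → rho e2 (rho e1 a * c1) * c2 = rho e3 a * c3) ∨
      ∀ a, a ≠ 0 → rho e2 (rho e1 a * c1) * c2 ≠ rho e3 a * c3) → e1 + e2 = e3 := by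
  decide +kernel

theorem relin : ∀ (e1 e2 : ZMod 2) (c a : F4),
    rho e2 (rho (e1 + e2) (rho e1 a) * c) = a * rho e2 c := by decide +kernel

end F4

theorem sf_two : SF (RingHom.id (ZMod 2)) := ⟨rfl, fun _ => rfl, by decide, by decide⟩

theorem exists_cobdry {α : Type*} {S : Set α} {R : α → α → Prop} (hR : ∀ a b, R a b → R b a)
    {ε : α → α → ZMod 2} (hs : ∀ a ∈ S, ∀ b ∈ S, R a b → ε a b = ε b a)
    (ht : ∀ a ∈ S, ∀ b ∈ S, ∀ c ∈ S, R a b → R b c → R a c → ε a b + ε b c = ε a c)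
    (hirr : ∀ a, ¬ R a a)
    (hN : (∀ a ∈ S, ∀ b ∈ S, a ≠ b → R a b) ∨
      ∀ a ∈ S, ∀ b ∈ S, ∀ c ∈ S, ∀ e ∈ S, ∃ w ∈ S, R w a ∧ R w b ∧ R w c ∧ R w e) :
    ∃ δ : α → ZMod 2, ∀ a ∈ S, ∀ b ∈ S, R a b → ε a b = δ a + δ b := by
  classical
  have two : ∀ x : ZMod 2, x + x = 0 := by decide
  rcases S.eq_empty_or_nonempty with rfl | ⟨p, hp⟩
  · exact ⟨0, fun _ h => h.elim⟩
  rcases hN with hN | hN
  · refine ⟨fun a => if a = p then 0 else ε p a, fun a ha b hb hab => ?_⟩
    by_cases h1 : a = p <;> by_cases h2 : b = p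
    · rw [h1, h2] at hab; exact absurd hab (hirr p)
    · simp [h1, h2]
    · rw [hs a ha b hb hab]; simp [h1, h2]
    · simp only [h1, h2, if_false]
      rw [← ht p hp a ha b hb (hN p hp a ha (Ne.symm h1)) hab (hN p hp b hb (Ne.symm h2)),
        ← add_assoc, two, zero_add]
  · choose! u hu hu1 hu2 using fun a (ha : a ∈ S) => (hN p hp a ha a ha a ha).imp
      fun w hw => And.intro hw.1 (And.intro hw.2.1 hw.2.2.1)
    have key : ∀ a ∈ S, ∀ w ∈ S, R w p → R w a → ε (u a) p + ε (u a) a = ε w p + ε w a := by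
      intro a ha w hw h1 h2
      obtain ⟨x, hx, k1, k2, k3, k4⟩ := hN p hp a ha w hw _ (hu a ha)
      have e1 := ht x hx _ hw p hp k3 h1 k1
      have e2 := ht x hx _ hw a ha k3 h2 k2
      have e3 := ht x hx _ (hu a ha) p hp k4 (hu1 a ha) k1
      have e4 := ht x hx _ (hu a ha) a ha k4 (hu2 a ha) k2
      linear_combination e3 + e4 - e1 - e2 - two (ε x (u a)) + two (ε x w)
    refine ⟨fun a => ε (u a) p + ε (u a) a, fun a ha b hb hab => ?_⟩
    obtain ⟨x, hx, k1, k2, k3, -⟩ := hN p hp a ha b hb b hb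
    simp only
    rw [key a ha x hx k1 k2, key b hb x hx k1 k3]
    linear_combination ht x hx a ha b hb k2 hab k3 - two (ε x p) - two (ε x a)

end H0
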