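import Mathlib
import Cfsg.Agent.H0.Coord
import Cfsg.Agent.H0.F4

/-! Existence of linear coordinates. -/

set_option autoImplicit false
set_option linter.unusedSectionVars false

namespace H0

variable {G : Type*} [Group G]

theorem Pol.exists_coord [Finite G] {D : Set G} (hD : Pol D) {d y : G} (hd : d ∈ D) (hy : y ∈ D)
    (hdy : ¬ Commute d y) (F : Type*) [Field F] [Fintype F]
    (hk : ∀ L, IsLine D L → L.ncard = Fintype.card F + 1) : ∃ β : G → F → G, Coord D d y β := by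
  classical
  have : ∀ m ∈ MM D d y, ∃ b : F → G, Function.Injective b ∧ (∀ a, b a ∈ Ln D d m) ∧
      (∀ a, b a ≠ d) ∧ (∀ c ∈ Ln D d m, c ≠ d → ∃ a, b a = c) ∧ b 0 = m := by
    intro m hm
    have hne : d ≠ m := fun e => hdy (e ▸ hm.2.2)
    have hc : Nat.card F = Nat.card (Ln D d m \ {d} : Set G) := by
      rw [Nat.card_coe_set_eq, Set.ncard_diff_singleton_of_mem (left_mem_Ln hd),
        hk _ (isLine_Ln hd hm.1 hne hm.2.1.symm), Nat.card_eq_fintype_card, Nat.add_sub_cancel]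
    obtain ⟨e⟩ := Finite.card_eq.1 hc
    let e' := (Equiv.swap 0 (e.symm ⟨m, right_mem_Ln hm.1, hne.symm⟩)).trans e
    refine ⟨fun a => e' a, Subtype.val_injective.comp e'.injective, fun a => (e' a).2.1,
      fun a => (e' a).2.2, fun c hc hcd => ⟨e'.symm ⟨c, hc, hcd⟩, by simp⟩, by simp [e']⟩
  choose! β h1 h2 h3 h4 h5 using this
  exact ⟨β, hD, hd, hy, hdy, h1, h2, h3, h4, h5⟩

/-- linear coordinates -/
def Lin {F : Type*} [Field F] (D : Set G) (d y : G) (β : G → F → G) : Prop :=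
  ∀ m ∈ MM D d y, ∀ m' ∈ MM D d y, ∀ a, tau β (m * β m a) m' = a * tau β (m * β m 1) m'

namespace Coord

variable [Finite G] {D : Set G} {d y : G}

theorem lin_two {β : G → ZMod 2 → G} (h : Coord D d y β) : Lin D d y β := by
  intro m hm m' hm' a
  have : ∀ a : ZMod 2, a = 0 ∨ a = 1 := by decide
  rcases this a with rfl | rfl
  · rw [h.gam_zero hm hm', zero_mul]
  · rw [one_mul]

theorem reparam {F : Type*} [Field F] {β : G → F → G} (h : Coord D d y β) (ρ : G → F → F)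
    (h1 : ∀ m a, ρ m (ρ m a) = a) (h0 : ∀ m, ρ m 0 = 0) : Coord D d y fun m a => β m (ρ m a) :=
  ⟨h.pol, h.hd, h.hy, h.adj, fun m hm => (h.inj m hm).comp (Function.Involutive.injective (h1 m)),
    fun m hm _ => h.mem m hm _, fun m hm _ => h.ne m hm _, fun m hm c hc hcd => by
      obtain ⟨a, rfl⟩ := h.surj m hm c hc hcd
      exact ⟨ρ m a, by rw [h1]⟩, fun m hm => by rw [h0, h.zero m hm]⟩

theorem common_nbr {F : Type*} [Field F] {β : G → F → G} (h : Coord D d y β)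
    (hk : ∀ L, IsLine D L → L.ncard = 5) :
    (∀ a ∈ MM D d y, ∀ b ∈ MM D d y, a ≠ b → ¬ Commute a b) ∨
      ∀ a ∈ MM D d y, ∀ b ∈ MM D d y, ∀ c ∈ MM D d y, ∀ e ∈ MM D d y, ∃ w ∈ MM D d y,
        ¬ Commute w a ∧ ¬ Commute w b ∧ ¬ Commute w c ∧ ¬ Commute w e := by
  have P := h.P
  have T := h.T
  rw [or_iff_not_imp_left]
  intro hcon
  push Not at hcon
  obtain ⟨p, hp, q, hq, hpq, hc⟩ := hcon
  have Msub : ∀ a ∈ MM D d y, ∀ b ∈ MM D d y, Ln D a b ⊆ MM D d y := fun a ha b hb z hz =>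
    ⟨hz.1, (hz.2 d h.hd ha.2.1.symm hb.2.1.symm).symm, (hz.2 y h.hy ha.2.2.symm hb.2.2.symm).symm⟩
  have Madj : ∀ a ∈ MM D d y, ∃ e ∈ MM D d y, ¬ Commute e a := fun a ha => by
    obtain ⟨e, he, h1, h2, h3⟩ := h.pol.exists_adj_M h.hd h.hy ha.1 h.adj ha.2.1 ha.2.2
    exact ⟨e, ⟨he, h1, h2⟩, h3⟩
  have Mline : ∀ w ∈ MM D d y, ∃ r ∈ MM D d y, w ≠ r ∧ Commute w r := by
    intro w hw
    have hL := isLine_Ln hp.1 hq.1 hpq hc
    obtain ⟨r, hr, hwr⟩ := h.pol.exists_mu hL hw.1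
    by_cases e : w = r
    · obtain ⟨r', hr', h1, -⟩ := h.pol.exists_third hL w w
      exact ⟨r', Msub p hp q hq hr', h1.symm, hL.comm (e ▸ hr) hr'⟩
    · exact ⟨r, Msub p hp q hq hr, e, hwr⟩
  have Msep : ∀ w ∈ MM D d y, ∀ a ∈ MM D d y, w ≠ a → Commute w a →
      ∃ f ∈ MM D d y, Commute f w ∧ ¬ Commute f a := by
    intro w hw a ha hne hwa
    have hL := isLine_Ln hw.1 ha.1 hne hwa
    obtain ⟨e, he, hea⟩ := Madj a ha
    obtain ⟨r, hr, her⟩ := h.pol.exists_mu hL he.1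
    by_cases hrw : r = w
    · exact ⟨e, he, hrw ▸ her, hea⟩
    have hrM := Msub w hw a ha hr
    obtain ⟨x, hx, hxr⟩ := Madj r hrM
    by_cases hxw : Commute x w
    · exact ⟨x, hx, hxw, P.adj_of_mu hL (left_mem_Ln hw.1) hr (right_mem_Ln ha.1) hne.symm hx.1
        hxw hxr⟩
    have hcw := hL.comm hr (left_mem_Ln hw.1)
    have s1 := T.swap_left hr.1 hw.1 hx.1 hcw hxr hxw
    have s2 := T.swap_right hr.1 hw.1 hx.1 hcw hxr hxw
    have hs : ∀ z, Commute x z → Commute r z → Commute w z → Commute (x * cj (r * w) x) z :=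
      fun z h1 h2 h3 => h1.mul_left (TT.commute_cj_of (h2.mul_left h3).symm h1.symm).symm
    have hew : ¬ Commute e w := P.adj_of_mu hL hr (right_mem_Ln ha.1) (left_mem_Ln hw.1)
      (Ne.symm hrw) he.1 her hea
    have k1 : Commute (cj (x * cj (r * w) x) e) w := by
      have := (commute_cj (g := x * cj (r * w) x)).2 her
      rwa [s1] at this
    have k2 : ¬ Commute (cj (x * cj (r * w) x) e) r := by
      have := (commute_cj (g := x * cj (r * w) x)).not.2 hew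
      rwa [s2] at this
    refine ⟨cj (x * cj (r * w) x) e, ⟨T.conj _ he.1 _, ?_, ?_⟩, k1,
      P.adj_of_mu hL (left_mem_Ln hw.1) hr (right_mem_Ln ha.1) hne.symm (T.conj _ he.1 _) k1 k2⟩
    · rw [commute_cj_left (hs d hx.2.1 hrM.2.1 hw.2.1)]; exact he.2.1
    · rw [commute_cj_left (hs y hx.2.2 hrM.2.2 hw.2.2)]; exact he.2.2
  have pick : ∀ L, IsLine D L → ∀ a b c e : G, ∃ x ∈ L, x ≠ a ∧ x ≠ b ∧ x ≠ c ∧ x ≠ e := by
    intro L hL a b c e
    obtain ⟨x, hx, hn⟩ := Set.exists_mem_notMem_of_ncard_lt_ncard (s := {a, b, c, e}) (t := L)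
      (by
        have h1 := Set.ncard_insert_le a ({b, c, e} : Set G)
        have h2 := Set.ncard_insert_le b ({c, e} : Set G)
        have h3 := Set.ncard_insert_le c ({e} : Set G)
        rw [Set.ncard_singleton] at h3
        rw [hk L hL]
        omega)
    simp only [Set.mem_insert_iff, Set.mem_singleton_iff, not_or] at hn
    exact ⟨x, hx, hn⟩
  have foot : ∀ L, IsLine D L → ∀ a ∈ D, ∀ w ∈ L, ¬ Commute w a →
      ∃ μ, ∀ x ∈ L, x ≠ μ → ¬ Commute x a := by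
    intro L hL a ha w hw hwa
    obtain ⟨μ, hμ, h1⟩ := h.pol.exists_mu hL ha
    exact ⟨μ, fun x hx hne e => P.adj_of_mu hL hμ hw hx hne ha h1 (fun e => hwa e.symm) e.symm⟩
  have step : ∀ a ∈ MM D d y, ∀ b ∈ MM D d y, ∀ c ∈ MM D d y, ∀ e ∈ MM D d y, ∀ w ∈ MM D d y,
      ¬ Commute w a → ¬ Commute w b → ¬ Commute w c → ∃ w ∈ MM D d y,
        ¬ Commute w a ∧ ¬ Commute w b ∧ ¬ Commute w c ∧ ¬ Commute w e := by
    have step1 : ∀ a ∈ MM D d y, ∀ b ∈ MM D d y, ∀ c ∈ MM D d y, ∀ e ∈ MM D d y, ∀ w ∈ MM D d y,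
        ¬ Commute w a → ¬ Commute w b → ¬ Commute w c → w ≠ e → ∃ w ∈ MM D d y,
          ¬ Commute w a ∧ ¬ Commute w b ∧ ¬ Commute w c ∧ ¬ Commute w e := by
      intro a ha b hb c hc e he w hw h1 h2 h3 h4
      by_cases hwe : Commute w e
      swap
      · exact ⟨w, hw, h1, h2, h3, hwe⟩
      obtain ⟨f, hf, hfw, hfe⟩ := Msep w hw e he h4 hwe
      have hL := isLine_Ln hw.1 hf.1 (fun e => hfe (e ▸ hwe)) hfw.symm
      obtain ⟨μ1, k1⟩ := foot _ hL a ha.1 w (left_mem_Ln hw.1) h1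
      obtain ⟨μ2, k2⟩ := foot _ hL b hb.1 w (left_mem_Ln hw.1) h2
      obtain ⟨μ3, k3⟩ := foot _ hL c hc.1 w (left_mem_Ln hw.1) h3
      obtain ⟨μ4, k4⟩ := foot _ hL e he.1 f (right_mem_Ln hf.1) hfe
      obtain ⟨x, hx, n1, n2, n3, n4⟩ := pick _ hL μ1 μ2 μ3 μ4
      exact ⟨x, Msub w hw f hf hx, k1 x hx n1, k2 x hx n2, k3 x hx n3, k4 x hx n4⟩
    intro a ha b hb c hc e he w hw h1 h2 h3
    obtain ⟨r, hr, hwr, hc'⟩ := Mline w hw
    have hL := isLine_Ln hw.1 hr.1 hwr hc'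
    obtain ⟨μ1, k1⟩ := foot _ hL a ha.1 w (left_mem_Ln hw.1) h1
    obtain ⟨μ2, k2⟩ := foot _ hL b hb.1 w (left_mem_Ln hw.1) h2
    obtain ⟨μ3, k3⟩ := foot _ hL c hc.1 w (left_mem_Ln hw.1) h3
    obtain ⟨x, hx, n1, n2, n3, n4⟩ := pick _ hL μ1 μ2 μ3 e
    exact step1 a ha b hb c hc e he x (Msub w hw r hr hx) (k1 x hx n1) (k2 x hx n2) (k3 x hx n3) n4
  intro a ha b hb c hc e he
  obtain ⟨w, hw, h1⟩ := Madj a ha
  obtain ⟨w, hw, h1, -, -, h2⟩ := step a ha a ha a ha b hb w hw h1 h1 h1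
  obtain ⟨w, hw, h1, h2, -, h3⟩ := step a ha b hb b hb c hc w hw h1 h2 h2
  exact step a ha b hb c hc e he w hw h1 h2 h3

theorem lin_four {β : G → F4 → G} (h : Coord D d y β) (hk : ∀ L, IsLine D L → L.ncard = 5) :
    ∃ β' : G → F4 → G, Coord D d y β' ∧ Lin D d y β' := by
  have hσ := F4.sf
  have : ∀ m ∈ MM D d y, ∀ m' ∈ MM D d y, ¬ Commute m m' → ∃ e : ZMod 2, ∃ c : F4, c ≠ 0 ∧
      ∀ a, tau β (m * β m a) m' = F4.rho e a * c := fun m hm m' hm' hc =>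
    F4.classify _ (h.gam_zero hm hm') (Function.LeftInverse.injective
      (g := fun b => tau β (m' * β m' b) m) (h.gam_inv hσ hm hm' hc))
  choose! ε γ hγ hε using this
  obtain ⟨δ, hδ⟩ := exists_cobdry (S := MM D d y) (R := fun a b => ¬ Commute a b) (ε := ε)
    (fun a b h e => h e.symm)
    (fun a ha b hb hab => F4.pair _ _ (γ a b) (γ b a) fun x => by
      rw [← hε a ha b hb hab, ← hε b hb a ha fun e => hab e.symm, h.gam_inv hσ ha hb hab])
    (fun a ha b hb c hc hab hbc hac => F4.tri _ _ _ (γ a b) (γ b c) (γ a c) (hγ a ha b hb hab)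
      (hγ b hb c hc hbc) (hγ a ha c hc hac) (by
        simp only [← hε a ha b hb hab, ← hε b hb c hc hbc, ← hε a ha c hc hac]
        by_cases e : Commute a (cj b c)
        · exact Or.inl fun x hx => (h.gam_tri hσ ha hb hc hx).2 e
        · exact Or.inr fun x hx e' => e ((h.gam_tri hσ ha hb hc hx).1 e')))
    (fun a h => h (Commute.refl a)) (h.common_nbr hk)
  have h' := h.reparam (fun m => F4.rho (δ m)) (fun m => F4.rho_rho _) fun m => F4.rho_zero _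
  refine ⟨_, h', fun m hm m' hm' => ?_⟩
  have key : ∀ a, tau (fun m a => β m (F4.rho (δ m) a)) (m * β m (F4.rho (δ m) a)) m' =
      F4.rho (δ m') (tau β (m * β m (F4.rho (δ m) a)) m') := fun a =>
    h'.tau_eq hm' (by rw [F4.rho_rho, h.tau_spec0 (h.gQ hσ hm _) hm'])
  intro a
  by_cases hc : Commute m m'
  · by_cases ha : a = 0
    · rw [ha, h'.gam_zero hm hm', zero_mul]
    · rw [(h'.gam_eq_zero hσ hm hm' ha).2 hc, (h'.gam_eq_zero hσ hm hm' one_ne_zero).2 hc, mul_zero]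
  · rw [key, key, hε m hm m' hm' hc, hε m hm m' hm' hc, hδ m hm m' hm' hc, F4.relin, F4.relin,
      one_mul]

end Coord

end H0
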