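import Mathlib
import Cfsg.Agent.H0.Coord2

/-! The vector space attached to a 3-transposition class with thick lines. -/

set_option autoImplicit false
set_option linter.unusedSectionVars false
set_option maxHeartbeats 200000

namespace H0

universe u

variable {G : Type u} [Group G] {F : Type} [Field F]

namespace Coord

variable [Finite G] {D : Set G} {d y : G} {β : G → F → G} (h : Coord D d y β)
  {σ : F →+* F} (hσ : SF σ) (hl : Lin D d y β) (hZ : Subgroup.center G = ⊥)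
include h hσ hl

theorem gam_symm {m m' : G} (hm : m ∈ MM D d y) (hm' : m' ∈ MM D d y) :
    σ (tau β (m * β m 1) m') = tau β (m' * β m' 1) m := by
  by_cases hc : Commute m m'
  · rw [(h.gam_eq_zero hσ hm hm' one_ne_zero).2 hc, (h.gam_eq_zero hσ hm' hm one_ne_zero).2 hc.symm,
      map_zero]
  · have h1 := h.gam_inv hσ hm hm' hc 1
    rw [hl m' hm' m hm] at h1
    have h0 : tau β (m * β m 1) m' ≠ 0 := fun e => hc ((h.gam_eq_zero hσ hm hm' one_ne_zero).1 e)
    exact mul_left_cancel₀ h0 ((hσ.norm _ h0).trans h1.symm)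

include hZ

theorem exists_space : ∃ (W : Type u) (_ : AddCommGroup W) (_ : Module F W)
    (_ : FiniteDimensional F W) (B : W →ₛₗ[σ] W →ₗ[F] F) (u τ : G → W),
    Heis σ B (QQ D d y β) d τ (ZZ D d y β) ∧
      (∀ m ∈ MM D d y, ∀ q ∈ QQ D d y β, B (u m) (τ q) = tau β q m) ∧
      ∀ m ∈ MM D d y, ∀ a, τ (sl d β m a) = a • u m := by
  classical
  let M := MM D d y
  have : Fintype M := Fintype.ofFinite M
  let γ : M → M → F := fun m m' => tau β (m * β m 1) m'
  have hγ : ∀ m m', σ (γ m m') = γ m' m := fun m m' => h.gam_symm hσ hl m.2 m'.2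
  let E : (M → F) →ₗ[F] (M → F) :=
    { toFun := fun x m' => ∑ m, x m * γ m m'
      map_add' := fun x z => by ext m'; simp [add_mul, Finset.sum_add_distrib]
      map_smul' := fun c x => by ext m'; simp [Finset.mul_sum, mul_assoc] }
  have hE : ∀ x m', E x m' = ∑ m, x m * γ m m' := fun _ _ => rfl
  let W := LinearMap.range E
  obtain ⟨ρ, hρ⟩ := E.rangeRestrict.exists_rightInverse_of_surjective E.range_rangeRestrict
  have hρ' : ∀ w : W, E (ρ w) = w := fun w => congrArg Subtype.val (LinearMap.congr_fun hρ w)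
  obtain ⟨π, hπ⟩ := W.subtype.exists_leftInverse_of_injective W.ker_subtype
  have hπ' : ∀ w : W, π w = w := fun w => LinearMap.congr_fun hπ w
  have hP : ∀ x z : M → F, ∑ m, σ (x m) * E z m = σ (∑ m, σ (z m) * E x m) := by
    intro x z
    simp only [hE, map_sum, map_mul, hσ.invol, Finset.mul_sum, hγ]
    rw [Finset.sum_comm]
    refine Finset.sum_congr rfl fun m _ => Finset.sum_congr rfl fun m' _ => ?_
    ring
  let B : W →ₛₗ[σ] W →ₗ[F] F := LinearMap.mk₂'ₛₗ σ (RingHom.id F)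
    (fun w w' => ∑ m, σ (ρ w m) * w'.1 m)
    (by intros; simp [add_mul, Finset.sum_add_distrib])
    (by intros; simp [Finset.mul_sum, mul_assoc])
    (by intros; simp [mul_add, Finset.sum_add_distrib])
    (by
      intros
      simp only [Submodule.coe_smul, Pi.smul_apply, smul_eq_mul, RingHom.id_apply, Finset.mul_sum]
      exact Finset.sum_congr rfl fun _ _ => mul_left_comm _ _ _)
  have hB : ∀ w w', B w w' = ∑ m, σ (ρ w m) * w'.1 m := fun _ _ => rfl
  have hsymm : ∀ w w', B w' w = σ (B w w') := by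
    intro w w'
    rw [hB, hB, ← hρ' w, ← hρ' w', hP]
  let u0 : M → W := fun m => ⟨E (Pi.single m 1), _, rfl⟩
  have hu0 : ∀ m m', (u0 m).1 m' = γ m m' := by
    intro m m'
    change E _ _ = _
    simp [hE, Pi.single_apply]
  have hBu : ∀ m w, B (u0 m) w = w.1 m := by
    intro m w
    rw [hsymm, hB, ← hP, hρ']
    simp [Pi.single_apply, apply_ite σ]
  let τ0 : G → M → F := fun g m => tau β g m
  have τ0mul : ∀ q ∈ QQ D d y β, ∀ q' ∈ QQ D d y β, τ0 (q * q') = τ0 q + τ0 q' :=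
    fun q hq q' hq' => funext fun m => h.tau_mul hq hq' m.2
  have τ0d : τ0 d = 0 := funext fun m => h.tau_d m.2
  have τ0s : ∀ (m : M) a, τ0 (sl d β m a) = a • (u0 m).1 := fun m a => funext fun m' => by
    change tau β _ _ = a * (u0 m).1 m'
    rw [h.tau_sl hσ m.2 m'.2, hl m m.2 m' m'.2, hu0]
  have τ0Z : ∀ q ∈ ZZ D d y β, τ0 q ∈ W := by
    intro q hq
    obtain ⟨m, hm, a, rfl⟩ := h.Z_form hσ hZ hq
    rw [τ0s ⟨m, hm⟩]
    exact W.smul_mem _ (u0 _).2
  have hadj : ∀ q ∈ QQ D d y β, ∀ m ∈ MM D d y, Commute (cj q y) m ↔ tau β q m = 0 := by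
    intro q hq m hm
    rw [← neg_eq_zero, ← h.βy hm, ← commute_cj (g := q) (x := y), h.tau_spec hq hm, neg_add_cancel,
      h.zero m hm]
  have Z5 : ∀ q ∈ QQ D d y β, ∀ m ∈ MM D d y, tau β q m ≠ 0 →
      ∃ a, sl d β m a * q ∈ ZZ D d y β := by
    intro q hq m hm h0
    obtain ⟨a, ha⟩ := h.exists_sl_of_adj (h.T.conj _ h.hy q) hm fun e => h0 ((hadj q hq m hm).1 e)
    exact ⟨a, mul_mem (h.slQ hσ hm a) hq, by rwa [← cj_cj]⟩
  have τ0W : ∀ q ∈ QQ D d y β, τ0 q ∈ W := by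
    intro q hq
    by_cases h0 : ∀ m ∈ MM D d y, tau β q m = 0
    · rw [show τ0 q = 0 from funext fun m => h0 m m.2]; exact W.zero_mem
    push Not at h0
    obtain ⟨m, hm, h0⟩ := h0
    obtain ⟨a, ha⟩ := Z5 q hq m hm h0
    have := τ0Z _ ha
    rw [τ0mul _ (h.slQ hσ hm a) q hq] at this
    exact (W.add_mem_iff_right (τ0Z _ (h.slZ hσ hm a))).1 this
  let τ : G → W := fun g => π (τ0 g)
  have hτ : ∀ q ∈ QQ D d y β, (τ q).1 = τ0 q := fun q hq =>
    congrArg Subtype.val (hπ' ⟨_, τ0W q hq⟩)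
  have τs : ∀ (m : M) a, τ (sl d β m a) = a • u0 m := fun m a =>
    Subtype.ext (by rw [hτ _ (h.slQ hσ m.2 a), τ0s]; rfl)
  have τmul : ∀ q ∈ QQ D d y β, ∀ q' ∈ QQ D d y β, τ (q * q') = τ q + τ q' := fun q hq q' hq' => by
    simp only [τ, τ0mul q hq q' hq', map_add]
  have Bss : ∀ (m m' : M) a a', B (τ (sl d β m a)) (τ (sl d β m' a')) = σ a * (a' * γ m' m) := by
    intro m m' a a'
    rw [τs, τs, B.map_smulₛₗ, LinearMap.smul_apply, map_smul, hBu, hu0]
    rfl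
  have γ0 : ∀ m m' : M, γ m m' = 0 ↔ Commute (m : G) m' := fun m m' =>
    h.gam_eq_zero hσ m.2 m'.2 one_ne_zero
  have s0 : ∀ m, sl d β m 0 = 1 := fun m => if_pos rfl
  refine ⟨W, inferInstance, inferInstance, inferInstance, B,
    fun g => if hg : g ∈ M then u0 ⟨g, hg⟩ else 0, τ, ⟨hσ, hsymm, h.dQ, fun q hq => hq.1.symm,
      h.T.sq d h.hd, τmul, by simp only [τ, τ0d, map_zero], fun q hq e => ?_, ?_,
      fun z hz => hz.1, ⟨one_mem _, by rw [cj_one]⟩, fun z hz => h.Zd hz, fun z hz => ?_,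
      fun z hz => ?_, fun s hs t ht => ?_, fun s hs t ht => ?_, fun s hs t ht => ?_,
      fun w hw => ?_, fun q hq s hs e => ?_⟩, fun m hm q hq => ?_, fun m hm a => ?_⟩
  · refine h.tau_ker hσ hZ hq fun m hm => ?_
    have := hτ q hq
    rw [e] at this
    exact (congrFun this ⟨m, hm⟩).symm
  · rintro ⟨_, x, rfl⟩
    have key : ∀ S : Finset M, ∃ q ∈ QQ D d y β, τ q = ∑ m ∈ S, x m • u0 m := by
      intro S
      induction S using Finset.induction_on with
      | empty => exact ⟨d, h.dQ, by simp only [τ, τ0d, map_zero, Finset.sum_empty]⟩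
      | insert m S hm ih =>
        obtain ⟨q, hq, e⟩ := ih
        exact ⟨_, mul_mem (h.slQ hσ m.2 (x m)) hq, by
          rw [τmul _ (h.slQ hσ m.2 _) q hq, τs, e, Finset.sum_insert hm]⟩
    obtain ⟨q, hq, e⟩ := key Finset.univ
    refine ⟨q, hq, e.trans (Subtype.ext (funext fun m' => ?_))⟩
    simp [hE, hu0]
  · obtain ⟨m, hm, a, rfl⟩ := h.Z_form hσ hZ hz
    exact h.sl_sq hm a
  · obtain ⟨m, hm, a, rfl⟩ := h.Z_form hσ hZ hz
    rw [Bss ⟨m, hm⟩ ⟨m, hm⟩, (γ0 _ _).2 (Commute.refl _), mul_zero, mul_zero]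
  · obtain ⟨m, hm, a, rfl⟩ := h.Z_form hσ hZ hs
    obtain ⟨m', hm', a', rfl⟩ := h.Z_form hσ hZ ht
    intro e
    rw [Bss ⟨m, hm⟩ ⟨m', hm'⟩, mul_eq_zero, mul_eq_zero, map_eq_zero, γ0] at e
    rcases e with rfl | rfl | e
    · rwa [s0, one_mul]
    · rwa [s0, mul_one]
    · exact h.R0 hσ hm hm' e.symm a a'
  · obtain ⟨m, hm, a, rfl⟩ := h.Z_form hσ hZ hs
    obtain ⟨m', hm', a', rfl⟩ := h.Z_form hσ hZ ht
    intro e
    rw [Bss ⟨m, hm⟩ ⟨m', hm'⟩] at e
    have ha : a ≠ 0 := by rintro rfl; simp at e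
    have ha' : a' ≠ 0 := by rintro rfl; simp at e
    have hg : γ ⟨m', hm'⟩ ⟨m, hm⟩ ≠ 0 := fun e' => by simp [e'] at e
    refine h.R1 hσ hm hm' ha ha' ?_
    rw [h.tau_spec0 (h.gQ hσ hm a) hm', hl m hm m' hm']
    congr 1
    have h1 := hσ.norm _ hg
    have h2 := hσ.norm _ ha
    rw [hγ] at h1
    change a * γ ⟨m, hm⟩ ⟨m', hm'⟩ = a'
    linear_combination -(a * γ ⟨m, hm⟩ ⟨m', hm'⟩) * e + a' * γ ⟨m', hm'⟩ ⟨m, hm⟩ *
      γ ⟨m, hm⟩ ⟨m', hm'⟩ * h2 + a' * h1
  · obtain ⟨m, hm, a, rfl⟩ := h.Z_form hσ hZ hs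
    obtain ⟨m', hm', a', rfl⟩ := h.Z_form hσ hZ ht
    intro e0 e1
    rw [Bss ⟨m, hm⟩ ⟨m', hm'⟩] at e0 e1
    have ha : a ≠ 0 := by rintro rfl; simp at e0
    have ha' : a' ≠ 0 := by rintro rfl; simp at e0
    have hg : γ ⟨m', hm'⟩ ⟨m, hm⟩ ≠ 0 := fun e' => by simp [e'] at e0
    have h1 := hσ.norm _ hg
    have h2 := hσ.norm _ ha
    rw [hγ] at h1
    refine h.R4 hσ hm hm' ha' ?_ ?_ <;> rw [hl m hm m' hm']
    · exact mul_ne_zero ha (right_ne_zero_of_mul_eq_one h1)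
    · intro e
      apply e1
      change a * γ ⟨m, hm⟩ ⟨m', hm'⟩ = a' at e
      rw [← e]
      linear_combination γ ⟨m', hm'⟩ ⟨m, hm⟩ * γ ⟨m, hm⟩ ⟨m', hm'⟩ * h2 + h1
  · obtain ⟨m, hm⟩ : ∃ m, w.1 m ≠ 0 := by
      by_contra hcon
      push Not at hcon
      exact hw (Subtype.ext (funext hcon))
    exact ⟨_, h.slZ hσ m.2 1, by rwa [τs, one_smul, hBu]⟩
  · obtain ⟨m, hm, a, rfl⟩ := h.Z_form hσ hZ hs
    rw [τs ⟨m, hm⟩, LinearMap.map_smulₛₗ, LinearMap.smul_apply, hBu, hτ q hq] at e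
    obtain ⟨b, hb⟩ := Z5 q hq m hm (right_ne_zero_of_smul e)
    refine ⟨_, h.slZ hσ hm b, ?_, hb⟩
    rw [Bss ⟨m, hm⟩ ⟨m, hm⟩, (γ0 _ _).2 (Commute.refl _), mul_zero, mul_zero]
  · simp only [M, hm, dif_pos]
    rw [hBu, hτ q hq]
  · simp only [M, hm, dif_pos]
    exact τs ⟨m, hm⟩ a

theorem exists_model : ∃ (V : Type u) (_ : AddCommGroup V) (_ : Module F V)
    (_ : FiniteDimensional F V) (B : V →ₛₗ[σ] V →ₗ[F] F) (φ : G → V),
    (∀ v w, B w v = σ (B v w)) ∧ (∀ v, (∀ w, B v w = 0) → v = 0) ∧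
    (∀ v, ∃ a, B v v = a + σ a) ∧ (∀ x ∈ D, ∀ z ∈ D, Commute x z ↔ B (φ x) (φ z) = 0) ∧
    ∀ p, p ≠ 0 → B p p = 0 → ∃ x ∈ D, ∃ c : F, c ≠ 0 ∧ p = c • φ x := by
  classical
  obtain ⟨W, _, _, _, B, u, τ, H, hu, hs⟩ := h.exists_space hσ hl hZ
  obtain ⟨α, hα, hαd, hα0, hαt⟩ := H.exists_cocycle
  have two := hσ.two
  let BV : (F × W × F) →ₛₗ[σ] (F × W × F) →ₗ[F] F := LinearMap.mk₂'ₛₗ σ (RingHom.id F)
    (fun v w => σ v.1 * w.2.2 + B v.2.1 w.2.1 + σ v.2.2 * w.1)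
    (by intros; simp; ring) (by intros; simp; ring) (by intros; simp; ring) (by intros; simp; ring)
  have hBV : ∀ v w, BV v w = σ v.1 * w.2.2 + B v.2.1 w.2.1 + σ v.2.2 * w.1 := fun _ _ => rfl
  let φ : G → F × W × F := fun x =>
    if x = d then (1, 0, 0)
    else if hx : ∃ p : G × F, p.1 ∈ MM D d y ∧ β p.1 p.2 = x then (σ hx.choose.2, u hx.choose.1, 0)
    else if hx : ∃ q ∈ QQ D d y β, cj q y = x then (α hx.choose, τ hx.choose, 1) else 0
  have φ1 : φ d = (1, 0, 0) := if_pos rfl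
  have φ2 : ∀ m ∈ MM D d y, ∀ a, φ (β m a) = (σ a, u m, 0) := by
    intro m hm a
    have hx : ∃ p : G × F, p.1 ∈ MM D d y ∧ β p.1 p.2 = β m a := ⟨(m, a), hm, rfl⟩
    obtain ⟨e1, e2⟩ := h.β_eq hx.choose_spec.1 hm hx.choose_spec.2
    simp only [φ, if_neg (h.ne m hm a), dif_pos hx, e1, e2]
  have hA : ∀ q ∈ QQ D d y β, ¬ Commute d (cj q y) := fun q hq => by
    rw [commute_cj_right hq.1]; exact h.adj
  have φ3 : ∀ q ∈ QQ D d y β, φ (cj q y) = (α q, τ q, 1) := by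
    intro q hq
    have h1 : cj q y ≠ d := fun e => hA q hq (e ▸ Commute.refl d)
    have h2 : ¬ ∃ p : G × F, p.1 ∈ MM D d y ∧ β p.1 p.2 = cj q y := by
      rintro ⟨p, hp, e⟩
      exact hA q hq (e ▸ h.βd hp p.2)
    have hx : ∃ q' ∈ QQ D d y β, cj q' y = cj q y := ⟨q, hq, rfl⟩
    have e := h.regular hσ hZ hx.choose_spec.1 hq hx.choose_spec.2
    simp only [φ, if_neg h1, dif_neg h2, dif_pos hx, e]
  have cases : ∀ x ∈ D, x = d ∨ (∃ m ∈ MM D d y, ∃ a, β m a = x) ∨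
      ∃ q ∈ QQ D d y β, x = cj q y := by
    intro x hx
    by_cases h1 : x = d
    · exact Or.inl h1
    by_cases h2 : Commute x d
    · exact Or.inr (Or.inl (h.cover hx h2 h1))
    · obtain ⟨q, hq, -, e⟩ := h.exists_Q hσ hx h2
      exact Or.inr (Or.inr ⟨q, hq, e⟩)
  have hsymm : ∀ v w, BV w v = σ (BV v w) := by
    intro v w
    simp only [hBV, map_add, map_mul, hσ.invol, H.symm v.2.1 w.2.1]
    ring
  have hu1 : ∀ m ∈ MM D d y, u m = τ (sl d β m 1) := fun m hm => by rw [hs m hm, one_smul]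
  have c23 : ∀ m ∈ MM D d y, ∀ a, ∀ q ∈ QQ D d y β,
      Commute (β m a) (cj q y) ↔ BV (φ (β m a)) (φ (cj q y)) = 0 := by
    intro m hm a q hq
    have e : β m a = cj q (β m (a + tau β q m)) := by
      rw [h.tau_spec hq hm, add_assoc, ← two_mul, two, zero_mul, add_zero]
    rw [φ2 m hm, φ3 q hq, hBV, e, commute_cj, Commute.symm_iff, h.βy hm]
    simp [hσ.invol, hu m hm q hq]
  refine ⟨F × W × F, inferInstance, inferInstance, inferInstance, BV, φ, hsymm, ?_, ?_, ?_, ?_⟩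
  · rintro ⟨a, w, b⟩ hv
    have h1 := hv (0, 0, 1)
    have h2 := hv (1, 0, 0)
    simp only [hBV, mul_one, map_zero, mul_zero, add_zero, zero_add, map_eq_zero] at h1 h2
    subst h1 h2
    by_contra hne
    obtain ⟨s, -, hs⟩ := H.nd w fun e => hne (by rw [e]; rfl)
    apply hs
    have := hv (0, τ s, 0)
    simp only [hBV, mul_zero, add_zero, zero_add] at this
    rw [H.symm, this, map_zero]
  · rintro ⟨a, w, b⟩
    obtain ⟨q, hq, rfl⟩ := H.surj w
    refine ⟨α q + σ a * b, ?_⟩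
    simp only [hBV, ← hαt q hq, map_add, map_mul, hσ.invol]
    ring
  · have key : ∀ x z, (Commute x z ↔ BV (φ x) (φ z) = 0) → (Commute z x ↔ BV (φ z) (φ x) = 0) :=
      fun x z e => by rw [Commute.symm_iff, e, hsymm (φ x) (φ z), map_eq_zero σ]
    have c1 : ∀ z ∈ D, Commute d z ↔ BV (φ d) (φ z) = 0 := by
      intro z hz
      rcases cases z hz with rfl | ⟨m, hm, a, rfl⟩ | ⟨q, hq, rfl⟩
      · simp [φ1, hBV]
      · simp [φ1, φ2 m hm, hBV, h.βd hm a]
      · simp [φ1, φ3 q hq, hBV, hA q hq]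
    intro x hx z hz
    rcases cases x hx with rfl | ⟨m, hm, a, rfl⟩ | ⟨q, hq, rfl⟩
    · exact c1 z hz
    · rcases cases z hz with rfl | ⟨m', hm', a', rfl⟩ | ⟨q', hq', rfl⟩
      · exact key _ _ (c1 _ hx)
      · rw [h.comm_ββ hm hm', φ2 m hm, φ2 m' hm', hBV, hu1 m' hm', hu m hm _ (h.slQ hσ hm' 1),
          h.tau_sl hσ hm' hm, Commute.symm_iff, ← h.gam_eq_zero hσ hm' hm one_ne_zero]
        simp
      · exact c23 m hm a q' hq'
    · rcases cases z hz with rfl | ⟨m', hm', a', rfl⟩ | ⟨q', hq', rfl⟩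
      · exact key _ _ (c1 _ hx)
      · exact key _ _ (c23 m' hm' a' q hq)
      · have hk := mul_mem (inv_mem hq) hq'
        obtain ⟨k, rfl⟩ : ∃ k, q' = q * k := ⟨q⁻¹ * q', by simp⟩
        rw [inv_mul_cancel_left] at hk
        have e : Commute (cj q y) (cj (q * k) y) ↔ k ∈ ZZ D d y β := by
          rw [← cj_cj, commute_cj]
          exact ⟨fun e => ⟨hk, e⟩, fun e => e.2⟩
        rw [e, ← hα0 k hk, φ3 q hq, φ3 _ hq', hBV, hα q hq k hk, H.τmul q hq k hk]
        simp only [mul_one, map_add, map_one, one_mul, ← hαt q hq]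
        constructor <;> intro e
        · linear_combination e + (α q + σ (α q) + B (τ q) (τ k)) * two
        · linear_combination e - (α q + σ (α q) + B (τ q) (τ k)) * two
  · rintro ⟨a, w, b⟩ hp hpp
    simp only [hBV] at hpp
    by_cases hb : b = 0
    · subst hb
      simp only [mul_zero, map_zero, zero_mul, add_zero, zero_add] at hpp
      by_cases hw : w = 0
      · refine ⟨d, h.hd, a, fun e => hp (by rw [e, hw]; rfl), ?_⟩
        simp [φ1, hw]
      obtain ⟨q, hq, rfl⟩ := H.surj w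
      obtain ⟨z, hz, e⟩ : ∃ z ∈ ZZ D d y β, τ q = τ z := by
        rcases hσ.fixed ((hαt q hq).trans hpp) with e | e
        · exact ⟨q, (hα0 q hq).1 e, rfl⟩
        · refine ⟨d * q, (hα0 _ (mul_mem h.dQ hq)).1 ?_, (H.τdmul hq).symm⟩
          rw [hα d h.dQ q hq, hαd, e, H.τd, map_zero, LinearMap.zero_apply]
          linear_combination two
      obtain ⟨m, hm, c, rfl⟩ := h.Z_form hσ hZ hz
      rw [hs m hm] at e
      have hc : c ≠ 0 := fun e' => hw (by rw [e, e', zero_smul])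
      refine ⟨_, h.βD hm (σ (a / c)), c, hc, ?_⟩
      rw [φ2 m hm, hσ.invol, e]
      simp [mul_div_cancel₀, hc]
    · obtain ⟨q, hq, e⟩ := H.surj (b⁻¹ • w)
      have h1 := hαt q hq
      have h2 := hσ.norm b hb
      have h3 : (a / b + α q) + σ (a / b + α q) = 0 := by
        rw [e] at h1
        simp only [LinearMap.map_smulₛₗ, LinearMap.smul_apply, smul_eq_mul, RingHom.id_apply,
          map_inv₀] at h1
        have h4 : σ b ≠ 0 := (map_ne_zero σ).2 hb
        rw [map_add, map_div₀, add_add_add_comm, h1]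
        field_simp
        linear_combination hpp
      have hw : w = b • τ q := by rw [e, smul_smul, mul_inv_cancel₀ hb, one_smul]
      rcases hσ.fixed h3 with e' | e'
      · refine ⟨_, h.T.conj _ h.hy q, b, hb, ?_⟩
        have : α q = a / b := by linear_combination e' - a / b * two
        rw [φ3 q hq, this, hw]
        simp [mul_div_cancel₀, hb]
      · refine ⟨_, h.T.conj _ h.hy (d * q), b, hb, ?_⟩
        have : α (d * q) = a / b := by
          rw [hα d h.dQ q hq, hαd, H.τd, map_zero, LinearMap.zero_apply]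
          linear_combination e' - (a / b - 1) * two
        rw [φ3 _ (mul_mem h.dQ hq), this, hw, H.τdmul hq]
        simp [mul_div_cancel₀, hb]

end Coord

end H0
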