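import Mathlib
import Cfsg.Agent.H0.Space
import Cfsg.Agent.H0.FormsMat
import Cfsg.Agent.H0.S5

/-! Fischer spaces with thick lines are symplectic or unitary. -/

set_option autoImplicit false
set_option linter.unusedSectionVars false

namespace H0

open H15 H15.Form Module

variable {G : Type*} [Group G]

/-- `φ` identifies the commuting graph of `D` with the polar space of `Φ` -/
def Model {F : Type*} [Field F] {σ : F →+* F} {V : Type*} [AddCommGroup V] [Module F V]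
    (D : Set G) (Φ : Form σ V) (φ : G → V) : Prop :=
  (∀ x ∈ D, ∀ z ∈ D, Commute x z ↔ Φ.B (φ x) (φ z) = 0) ∧
    ∀ p, Pt Φ p → ∃ x ∈ D, ∃ c : F, c ≠ 0 ∧ p = c • φ x

section
variable {F : Type*} [Field F] {σ : F →+* F} {V : Type*} [AddCommGroup V] [Module F V]

theorem PTT.four_le [Finite G] [FiniteDimensional F V] {D : Set G} (hD : PTT D) {Φ : Form σ V}
    (hΦ : Φ.Nondeg) (hQ : ∀ v, Φ.Q v = 0) {φ : G → V}
    (hc : ∀ x ∈ D, ∀ z ∈ D, Commute x z ↔ Φ.B (φ x) (φ z) = 0) : 4 ≤ finrank F V := by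
  obtain ⟨d, hd, a, ha⟩ := hD.comm
  obtain ⟨f, hf, hfa⟩ := hD.sep hd ha.1 ha.2.1.symm
  obtain ⟨g, hg, hgd⟩ := hD.sep ha.1 hd ha.2.1
  have hli := Φ.linearIndependent_of_dual ![φ d, φ a] ![φ g, φ f]
    (fun i => by
      fin_cases i
      · exact fun e => hgd ((hc g hg.1 d hd).2 e)
      · exact fun e => hfa ((hc f hf.1 a ha.1).2 e))
    (fun i j hij => by
      fin_cases i <;> fin_cases j
      · exact absurd rfl hij
      · exact (hc g hg.1 a ha.1).1 hg.2.2.symm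
      · exact (hc f hf.1 d hd).1 hf.2.2.symm
      · exact absurd rfl hij)
  have h1 := (Φ.totSing_span ![φ d, φ a] (fun i j => by
    fin_cases i <;> fin_cases j
    · exact (hc d hd d hd).1 (Commute.refl d)
    · exact (hc d hd a ha.1).1 ha.2.2
    · exact (hc a ha.1 d hd).1 ha.2.2.symm
    · exact (hc a ha.1 a ha.1).1 (Commute.refl a)) fun _ => hQ _).two_mul_finrank_le hΦ
  rw [finrank_span_eq_card hli] at h1
  simpa using h1

theorem model_congr {W : Type*} [AddCommGroup W] [Module F W] {D : Set G} (Φ : Form σ V)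
    (Ψ : Form σ W) (g : V ≃ₗ[F] W) (hg : ∀ x y, Ψ.B (g x) (g y) = Φ.B x y) {φ : G → V}
    (hc : ∀ x ∈ D, ∀ z ∈ D, Commute x z ↔ Φ.B (φ x) (φ z) = 0)
    (hs : ∀ p, p ≠ 0 → Φ.B p p = 0 → ∃ x ∈ D, ∃ c : F, c ≠ 0 ∧ p = c • φ x) :
    Model D Ψ fun x => g (φ x) := by
  refine ⟨fun x hx z hz => by rw [hc x hx z hz, hg], fun p hp => ?_⟩
  obtain ⟨p, rfl⟩ := g.surjective p
  obtain ⟨x, hx, c, hc0, rfl⟩ := hs p (fun e => hp.1 (by rw [e, map_zero])) (hg p p ▸ hp.2.1)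
  exact ⟨x, hx, c, hc0, map_smul _ _ _⟩

end

theorem Pol.model [Finite G] {D : Set G} (hD : Pol D) (hZ : Subgroup.center G = ⊥) :
    (∃ m, 2 ≤ m ∧ ∃ φ, Model D (spForm m (ZMod 2)) φ) ∨
      ∃ n, 4 ≤ n ∧ ∃ φ, Model D (unForm F4.card n) φ := by
  have P := hD.toPTT
  obtain ⟨d, hd, a, ha⟩ := P.comm
  obtain ⟨y, hy, hdy⟩ := P.adj_ne hd
  have hL := isLine_Ln hd ha.1 ha.2.1.symm ha.2.2
  rcases hD.line_card hL with hk | hk
  · left
    obtain ⟨β, h⟩ := hD.exists_coord hd hy hdy (ZMod 2) fun L h => (P.ncard_line h hL).trans hk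
    obtain ⟨V, _, _, _, B, φ, h1, h2, h3, h4, h5⟩ := h.exists_model sf_two h.lin_two hZ
    have hA : LinearMap.IsAlt B := fun v => by
      obtain ⟨a, ha⟩ := h3 v
      rw [ha]; exact CharTwo.add_self_eq_zero a
    have hA' := ofAlt_isAlt B hA
    obtain ⟨m, -, -, -, hm⟩ := hA'.exists_hyp h2
    have h4' := P.four_le (Φ := ofAlt B hA) h2 (fun _ => rfl) h4
    obtain ⟨g, hg⟩ := hA'.exists_equiv_sp rfl h2 hm
    exact ⟨m, by omega, _, model_congr _ _ g hg h4 h5⟩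
  · right
    have hk' : ∀ L, IsLine D L → L.ncard = 5 := fun L h => (P.ncard_line h hL).trans hk
    obtain ⟨β0, h0⟩ := hD.exists_coord hd hy hdy F4 hk'
    obtain ⟨β, h, hl⟩ := h0.lin_four hk'
    obtain ⟨V, _, _, _, B, φ, h1, h2, -, h4, h5⟩ := h.exists_model F4.sf hl hZ
    let Φ := ofHerm _ (frob_ne_id F4.card) (frob_frob F4.card) B ⟨fun x y => (h1 x y).symm⟩
    have hH : Φ.IsHerm := ofHerm_isHerm _ _ _ _ _
    obtain ⟨g, hg⟩ := hH.exists_equiv_un F4.card h2 rfl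
    exact ⟨_, P.four_le (Φ := Φ) h2 (fun _ => rfl) h4, _, model_congr _ _ g hg h4 h5⟩

theorem center_sp (m : ℕ) : Subgroup.center (Matrix.symplecticGroup (Fin m) (ZMod 2)) = ⊥ := by
  rw [eq_bot_iff]
  intro g hg
  rw [Subgroup.mem_bot]
  apply (spEquiv m (ZMod 2)).injective
  rw [map_one]
  refine Isom.ext fun v => ?_
  by_cases hv : v = 0
  · rw [hv, map_zero, map_zero]
  have h := tf_sp m
  let p : {p // Pt (spForm m (ZMod 2)) p} := ⟨v, hv, (spForm_isAlt m).1 _, rfl⟩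
  obtain ⟨k, hk⟩ := (spEquiv m (ZMod 2)).surjective (h.T p)
  have e := h.T_conj (spEquiv m (ZMod 2) g) p
  rw [← hk, ← map_mul, ← Subgroup.mem_center_iff.1 hg k, map_mul, mul_inv_cancel_right, hk,
    h.T_eq_iff] at e
  obtain ⟨c, hc, e⟩ := e
  rw [eq_one_two c hc, one_smul] at e
  exact e

theorem Model.iso_sp [Finite G] {D : Set G} (hD : Pol D) (hZ : Subgroup.center G = ⊥) {m : ℕ}
    {φ : G → (Fin m ⊕ Fin m → ZMod 2)} (h : Model D (spForm m (ZMod 2)) φ) :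
    Nonempty (G ≃* Matrix.symplecticGroup (Fin m) (ZMod 2)) := by
  obtain ⟨e⟩ := (tf_sp m).recog (spEquiv m (ZMod 2)).toMonoidHom (spEquiv m _).injective
    (range_sp m) hD hZ (fun _ => rfl) φ h.1 h.2
  exact ⟨e.trans ((QuotientGroup.quotientMulEquivOfEq (center_sp m)).trans
    QuotientGroup.quotientBot)⟩

theorem Model.iso_su [Finite G] {D : Set G} (hD : Pol D) (hZ : Subgroup.center G = ⊥) {n : ℕ}
    (hn : 4 ≤ n) {φ : G → (Fin n → F4)} (h : Model D (unForm F4.card n) φ) :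
    Nonempty (G ≃* Cfsg.PSU n F4 2) :=
  (tf_un F4.card n).recog (suHom F4.card n) (suHom_injective _ n) (range_su _ hn) hD hZ
    (fun _ => rfl) φ h.1 h.2

theorem s5_comm : ∀ i j : Fin 10, s5tab i j ≠ j → ∃ a b w, s5tab a b ≠ b ∧ s5tab j w ≠ w ∧
    s5tab w a = a ∧ s5tab w b = b ∧ s5tab a (s5tab b j) = i := by decide +kernel

/-- a subgroup containing an `A₄` diagram is not solvable -/
theorem TT.not_solvable {D : Set G} (hD : TT D) {H : Subgroup G} {q0 q1 q2 q3 : G} (m0 : q0 ∈ D)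
    (m1 : q1 ∈ D) (m2 : q2 ∈ D) (m3 : q3 ∈ D) (n01 : ¬ Commute q0 q1) (n12 : ¬ Commute q1 q2)
    (n23 : ¬ Commute q2 q3) (c02 : Commute q0 q2) (c03 : Commute q0 q3) (c13 : Commute q1 q3)
    (h0 : q0 ∈ H) (h1 : q1 ∈ H) (h2 : q2 ∈ H) (h3 : q3 ∈ H) : ¬ Group.IsSolvable H := by
  obtain ⟨q, rfl, rfl, rfl, rfl, hq, ht⟩ := hD.s5_table m0 m1 m2 m3 n01 n12 n23 c02 c03 c13
  have hcj : ∀ i j, q i ∈ H → q j ∈ H → q (s5tab i j) ∈ H := fun i j hi hj =>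
    ht i j ▸ mul_mem (mul_mem hi hj) (inv_mem hi)
  have h5 : q 5 ∈ H := hcj 1 2 h1 h2
  have h6 : q 6 ∈ H := hcj 2 3 h2 h3
  have h8 : q 8 ∈ H := hcj 1 6 h1 h6
  have hH : ∀ i, q i ∈ H := by
    intro i
    fin_cases i
    exacts [h0, h1, h2, h3, hcj 0 1 h0 h1, h5, h6, hcj 0 5 h0 h5, h8, hcj 0 8 h0 h8]
  rintro ⟨n, hn⟩
  have key : ∀ n, ∀ i j, s5tab i j ≠ j →
      (⟨q i, hH i⟩ * ⟨q j, hH j⟩ : H) ∈ derivedSeries H n := by
    intro n
    induction n with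
    | zero => intro i j _; trivial
    | succ n ih =>
      intro i j hij
      obtain ⟨a, b, w, k1, k2, k3, k4, k5⟩ := s5_comm i j hij
      have := Subgroup.commutator_mem_commutator (ih a b k1) (ih j w k2)
      rw [derivedSeries_succ]
      convert this using 1
      apply Subtype.ext
      have e : cj (q a * q b) (q w) = q w := by
        refine cj_of_commute (Commute.mul_left ?_ ?_) <;> symm <;> rw [← cj_eq_self, ht]
        · rw [k3]
        · rw [k4]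
      change q i * q j = cj (q a * q b) (q j * q w) * (q j * q w)⁻¹
      rw [cj_mul, e, ← cj_cj, ht, ht, k5, mul_inv_rev, hD.inv (hq j)]
      group
  have := key n 0 1 (by decide)
  rw [hn, Subgroup.mem_bot] at this
  apply n01
  have e : q 0 * q 1 = 1 := congrArg Subtype.val this
  rw [← inv_eq_of_mul_eq_one_right e]
  exact (Commute.refl _).inv_right

theorem TT.solvable_Dx {D : Set G} (hD : TT D) {x z : G} (hx : x ∈ D) (hz : z ∈ D)
    (h : Group.IsSolvable (Subgroup.closure (Dx D x))) :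
    Group.IsSolvable (Subgroup.closure (Dx D z)) := by
  obtain ⟨g, rfl⟩ := hD.trans x hx z hz
  rw [← hD.image_Dx, show cj g = ⇑(MulAut.conj g).toMonoidHom from rfl, ← MonoidHom.map_closure]
  exact Group.isSolvable_of_surjective (MonoidHom.subgroupMap_surjective _ _)

theorem Model.not_solvable {F : Type*} [Field F] {σ : F →+* F} {V : Type*} [AddCommGroup V]
    [Module F V] {D : Set G} (hD : TT D) {Φ : Form σ V} {φ : G → V} (h : Model D Φ φ)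
    {p p0 p1 p2 p3 : V} (hp : Pt Φ p) (h0 : Pt Φ p0) (h1 : Pt Φ p1) (h2 : Pt Φ p2) (h3 : Pt Φ p3)
    (n01 : Φ.B p0 p1 ≠ 0) (n12 : Φ.B p1 p2 ≠ 0) (n23 : Φ.B p2 p3 ≠ 0) (c02 : Φ.B p0 p2 = 0)
    (c03 : Φ.B p0 p3 = 0) (c13 : Φ.B p1 p3 = 0) (e0 : Φ.B p p0 = 0) (e1 : Φ.B p p1 = 0)
    (e2 : Φ.B p p2 = 0) (e3 : Φ.B p p3 = 0) {x : G} (hx : x ∈ D) :
    ¬ Group.IsSolvable (Subgroup.closure (Dx D x)) := by
  obtain ⟨z, hz, c, hc, rfl⟩ := h.2 p hp
  obtain ⟨z0, hz0, c0, hc0, rfl⟩ := h.2 p0 h0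
  obtain ⟨z1, hz1, c1, hc1, rfl⟩ := h.2 p1 h1
  obtain ⟨z2, hz2, c2, hc2, rfl⟩ := h.2 p2 h2
  obtain ⟨z3, hz3, c3, hc3, rfl⟩ := h.2 p3 h3
  simp only [LinearMap.map_smulₛₗ, LinearMap.smul_apply, smul_eq_mul, RingHom.id_apply, ne_eq,
    mul_eq_zero, map_eq_zero σ, hc, hc0, hc1, hc2, hc3, false_or] at n01 n12 n23 c02 c03 c13 e0 e1 e2 e3
  rw [← h.1 _ ‹_› _ ‹_›] at n01 n12 n23 c02 c03 c13 e0 e1 e2 e3
  intro hs
  exact hD.not_solvable hz0 hz1 hz2 hz3 n01 n12 n23 c02 c03 c13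
    (Subgroup.subset_closure (k := Dx D z) ⟨hz0, fun e => n01 (e ▸ e1), e0⟩)
    (Subgroup.subset_closure (k := Dx D z) ⟨hz1, fun e => n12 (e ▸ e2), e1⟩)
    (Subgroup.subset_closure (k := Dx D z) ⟨hz2, fun e => n23 (e ▸ e3), e2⟩)
    (Subgroup.subset_closure (k := Dx D z) ⟨hz3, fun e => n23 (e ▸ e2.symm), e3⟩) (hD.solvable_Dx hx hz hs)

theorem Model.sp_not_solvable {D : Set G} (hD : TT D) {m : ℕ} (hm : 3 ≤ m)
    {φ : G → (Fin m ⊕ Fin m → ZMod 2)} (h : Model D (spForm m (ZMod 2)) φ) {x : G} (hx : x ∈ D) :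
    ¬ Group.IsSolvable (Subgroup.closure (Dx D x)) := by
  have h0 : 0 < m := by omega
  have h1 : 1 < m := by omega
  have h2 : 2 < m := by omega
  have pt : ∀ v (i : Fin m ⊕ Fin m), v i ≠ 0 → Pt (spForm m (ZMod 2)) v := fun v i hi =>
    ⟨fun e => hi (by rw [e]; rfl), (spForm_isAlt m).1 _, rfl⟩
  refine h.not_solvable hD (p := Pi.single (.inl ⟨0, h0⟩) 1) (p0 := Pi.single (.inl ⟨1, h1⟩) 1)
    (p1 := Pi.single (.inr ⟨1, h1⟩) 1)
    (p2 := Pi.single (.inl ⟨1, h1⟩) 1 + Pi.single (.inl ⟨2, h2⟩) 1)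
    (p3 := Pi.single (.inr ⟨2, h2⟩) 1) (pt _ (.inl ⟨0, h0⟩) (by simp))
    (pt _ (.inl ⟨1, h1⟩) (by simp)) (pt _ (.inr ⟨1, h1⟩) (by simp))
    (pt _ (.inl ⟨1, h1⟩) (by simp)) (pt _ (.inr ⟨2, h2⟩) (by simp)) ?_ ?_ ?_ ?_ ?_ ?_ ?_ ?_ ?_ ?_ hx
  all_goals
    rw [spForm_B, sympForm_eq]
    simp [Pi.single_apply]

theorem Model.su_not_solvable {D : Set G} (hD : TT D) {n : ℕ} (hn : 6 ≤ n)
    {φ : G → (Fin n → F4)} (h : Model D (unForm F4.card n) φ) {x : G} (hx : x ∈ D) :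
    ¬ Group.IsSolvable (Subgroup.closure (Dx D x)) := by
  let ι : (Fin 6 → F4) → Fin n → F4 := fun v i => if h : i.1 < 6 then v ⟨i, h⟩ else 0
  have hι : ∀ v w, (unForm F4.card n).B (ι v) (ι w) = ∑ i, w i * (v i * v i) := by
    intro v w
    rw [unForm_B']
    symm
    refine Finset.sum_of_injOn (Fin.castLE hn) (Fin.castLE_injective hn).injOn
      (fun _ _ => Finset.mem_univ _) (fun i _ hi => ?_) fun i _ => ?_
    · have : ¬ i.1 < 6 := fun h => hi ⟨⟨i, h⟩, Finset.mem_univ _, rfl⟩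
      simp [ι, this]
    · simp [ι, F4.frob_eq]
  have pt : ∀ v : Fin 6 → F4, v ≠ 0 → ∑ i, v i * (v i * v i) = 0 → Pt (unForm F4.card n) (ι v) :=
    fun v hv h0 => ⟨fun e => hv (funext fun i => by
      simpa [ι] using congrFun e (Fin.castLE hn i)), by rw [hι, h0], rfl⟩
  let w : F4 := (2 : Fin 4)
  refine h.not_solvable hD (p := ι ![0, 0, 0, 0, 1, 1]) (p0 := ι ![1, 1, 0, 0, 0, 0])
    (p1 := ι ![0, 1, 1, 0, 0, 0]) (p2 := ι ![0, 0, 1, 1, 0, 0]) (p3 := ι ![1, 1, 1, w, 0, 0])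
    (pt _ ?_ ?_) (pt _ ?_ ?_) (pt _ ?_ ?_) (pt _ ?_ ?_) (pt _ ?_ ?_)
    ?_ ?_ ?_ ?_ ?_ ?_ ?_ ?_ ?_ ?_ hx
  all_goals
    try rw [hι]
    decide +kernel

end H0
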