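import Mathlib
import Cfsg.Agent.H0.U6

/-! Hyperovals of `U₆(2)`: normal form. -/

set_option autoImplicit false
set_option linter.unusedSectionVars false
set_option maxRecDepth 100000

namespace H0

open H29

variable {G : Type*} [Group G]

/-- the points of `H` commuting with `b` meet each line in `0` or `2` points -/
def HO (H : Set G) (b : G) : Prop :=
  (∃ y ∈ H, Commute y b) ∧
    ∀ y ∈ H, Commute y b → ∀ z ∈ Dx H y, ∃! m, m ∈ Ln H y z ∧ m ≠ y ∧ Commute m b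

theorem HO.cj {D H : Set G} (hL : LP D H) {b : G} (h : HO H b) {g : G}
    (hg : g ∈ Subgroup.closure H) : HO H (cj g b) := by
  obtain ⟨⟨y, hy, h1⟩, h2⟩ := h
  refine ⟨⟨_, hL.conj hy hg, commute_cj.2 h1⟩, fun y hy hyb z hz => ?_⟩
  obtain ⟨y, rfl⟩ : ∃ w, H0.cj g w = y := ⟨_, cj_cj_inv g y⟩
  obtain ⟨z, rfl⟩ : ∃ w, H0.cj g w = z := ⟨_, cj_cj_inv g z⟩
  obtain ⟨m, ⟨k1, k2, k3⟩, k4⟩ := h2 y ((hL.mem_cj hg).1 hy) (commute_cj.1 hyb) z
    ((hL.mem_Dx_cj hg).1 hz)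
  refine ⟨H0.cj g m, ⟨(hL.mem_Ln_cj hg).2 k1, fun e => k2 (cj_inj.1 e), commute_cj.2 k3⟩,
    fun m' hm' => ?_⟩
  obtain ⟨m', rfl⟩ : ∃ w, H0.cj g w = m' := ⟨_, cj_cj_inv g m'⟩
  rw [k4 m' ⟨(hL.mem_Ln_cj hg).1 hm'.1, fun e => hm'.2.1 (by rw [e]), commute_cj.1 hm'.2.2⟩]

theorem LP.ho [Finite G] {D E : Set G} (h : LP D E) (hr : F22 D E) {x b : G} (hx : x ∈ E)
    (hb : b ∈ E) (hxb : ¬ Commute x b) : HO (Dx E x) b := by
  obtain ⟨y, hy⟩ := h.mu_pos hx hb hxb
  exact ⟨⟨y, hy.1, hy.2.2.2.symm⟩, fun y hy hyb z hz =>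
    h.sect (fun d hd => ⟨(hr d hd).1, (hr d hd).1.thick_of_MU (hr d hd).2⟩) hx hb hxb hy hyb hz⟩

/-- independence test -/
def Ind (y z : V6) : Prop := Iso y ∧ Iso z ∧ hb y z = 0 ∧ ∀ c : F4, z ≠ c • y

instance instDecInd (y z : V6) : Decidable (Ind y z) := inferInstanceAs (Decidable (_ ∧ _ ∧ _ ∧ _))

theorem Ind.iso {y z : V6} (h : Ind y z) (c : F4) : Iso (z + c • y) :=
  h.1.add_smul h.2.1 h.2.2.1 h.2.2.2 c

theorem Ind.shift {y z : V6} (h : Ind y z) (c : F4) : Ind y (z + c • y) := by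
  refine ⟨h.1, h.iso c, by rw [hb_add_right, hb_smul_right, h.1.2, h.2.2.1]; simp, fun k e => ?_⟩
  refine h.2.2.2 (k + c) ?_
  rw [add_smul, ← e, add_assoc, vtwo, add_zero]

namespace UM

variable {H : Set G} {π : V6 → G} (h : UM H π)
include h

theorem ne {y z : V6} (hi : Ind y z) : π z ≠ π y := fun e =>
  let ⟨c, e⟩ := h.inj hi.2.1 hi.1 e; hi.2.2.2 c e

theorem mem_Dx {y z : V6} (hi : Ind y z) : π z ∈ Dx H (π y) :=
  ⟨h.mem hi.2.1, h.ne hi, (h.comm hi.1 hi.2.1).2 hi.2.2.1⟩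

theorem ln_pt {y z : V6} (hi : Ind y z) {m : G} (hm : m ∈ Ln H (π y) (π z)) (hne : m ≠ π y) :
    ∃ c : F4, m = π (z + c • y) := by
  obtain ⟨v, hv, rfl⟩ := h.surj hm.1
  obtain ⟨a, c, rfl⟩ := (h.ln hi.1 hi.2.1 hv hi.2.2.1).1 hm
  have hc : c ≠ 0 := by
    rintro rfl
    rw [zero_smul, add_zero] at hne hv
    exact hne (h.smul hi.1 (by rintro rfl; exact hv.1 (zero_smul _ _)))
  refine ⟨c⁻¹ * a, ?_⟩
  rw [← h.smul (hi.iso (c⁻¹ * a)) hc, smul_add, smul_smul, mul_inv_cancel_left₀ hc, add_comm]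

theorem pt_ln {y z : V6} (hi : Ind y z) (c : F4) : π (z + c • y) ∈ Ln H (π y) (π z) :=
  (h.ln hi.1 hi.2.1 (hi.iso c) hi.2.2.1).2 ⟨c, 1, by rw [one_smul, add_comm]⟩

theorem s1 {b : G} (hb : HO H b) {y z : V6} (hi : Ind y z) (hy : Commute b (π y)) :
    ∃ c : F4, Commute b (π (z + c • y)) := by
  obtain ⟨m, ⟨k1, k2, k3⟩, -⟩ := hb.2 _ (h.mem hi.1) hy.symm _ (h.mem_Dx hi)
  obtain ⟨c, rfl⟩ := h.ln_pt hi k1 k2
  exact ⟨c, k3.symm⟩

theorem s2 {b : G} (hb : HO H b) {y z : V6} (hi : Ind y z) (hy : Commute b (π y))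
    (hz : Commute b (π z)) {c : F4} (hc : Commute b (π (z + c • y))) : c = 0 := by
  obtain ⟨m, -, k⟩ := hb.2 _ (h.mem hi.1) hy.symm _ (h.mem_Dx hi)
  have e := (k _ ⟨h.pt_ln hi c, h.ne (hi.shift c), hc.symm⟩).trans
    (k _ ⟨right_mem_Ln (h.mem hi.2.1), h.ne hi, hz.symm⟩).symm
  obtain ⟨k, e⟩ := h.inj (hi.iso c) hi.2.1 e
  by_contra hc0
  by_cases hk : k = 1
  · rw [hk, one_smul, add_eq_left, smul_eq_zero] at e
    exact e.elim hc0 hi.1.1
  · refine hi.2.2.2 ((k - 1)⁻¹ * c) ?_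
    rw [mul_smul, eq_sub_of_add_eq' e, eq_comm, inv_smul_eq_iff₀ (sub_ne_zero.2 hk), sub_smul,
      one_smul]

theorem shift_step {b : G} (hb' : HO H b) {p u v : V6} (hp : Commute b (π p)) (hu : Ind p u)
    (hv : Ind p v) (hvu : hb v u ≠ 0) : ∃ g ∈ Subgroup.closure H, Commute (H0.cj g b) (π u) ∧
      ∀ w, Iso w → hb p w = 0 → hb v w = 0 → Commute b (π w) → Commute (H0.cj g b) (π w) := by
  obtain ⟨c, hc⟩ := h.s1 hb' hu hp
  have key : ∀ l : F4, ∀ w, Iso w → hb p w = 0 →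
      H0.cj (π (v + l • p) * π v) (π w) = π (w + (l * hb v w) • p) := by
    intro l w hw hpw
    rw [← cj_cj, h.cj hv.2.1 hw, h.cj (hv.iso l) (hv.2.1.tv hw)]
    congr 1
    simp only [tv, hb_add_left, hb_add_right, hb_smul_left, hb_smul_right, hv.2.1.2, hpw,
      hv.2.2.1, mul_zero, add_zero, smul_add, smul_smul]
    rw [add_assoc, ← add_assoc (hb v w • v), vtwo, zero_add, mul_comm]
  refine ⟨π (v + (c * (hb v u)⁻¹) • p) * π v, mul_mem (Subgroup.subset_closure (h.mem (hv.iso _)))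
    (Subgroup.subset_closure (h.mem hv.2.1)), ?_, fun w hw h1 h2 h3 => ?_⟩
  · have := key (c * (hb v u)⁻¹) _ (hu.iso c) (hu.shift c).2.2.1
    rw [hb_add_right, hb_smul_right, hb_comm0 hv.2.2.1, mul_zero, add_zero,
      inv_mul_cancel_right₀ hvu, add_assoc, vtwo, add_zero] at this
    rw [← this]
    exact commute_cj.2 hc
  · have := key (c * (hb v u)⁻¹) w hw h1
    rw [h2, mul_zero, zero_smul, add_zero] at this
    rw [← this]
    exact commute_cj.2 h3

end UM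

def gens7 : List ℕ := [1280, 3584, 5, 20, 80, 9, 1365]

/-- standard position -/
def Std (π : V6 → G) (b : G) : Prop := ∀ c ∈ gens7, Commute b (π (dec c))

theorem UM.no_om {H : Set G} {π : V6 → G} (h : UM H π) {b : G} (hb : HO H b)
    (h0 : Commute b (π (dec 1280))) (h1 : Commute b (π (dec 1365))) :
    ¬ Commute b (π (dec 2645)) := fun e =>
  absurd (h.s2 hb (y := dec 1280) (z := dec 1365) (by decide) h0 h1 (c := ob)
    (by rwa [show dec 1365 + ob • dec 1280 = dec 2645 by decide])) (by decide)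

theorem UM.std_z {H : Set G} {π : V6 → G} (h : UM H π) {b : G} (hb : HO H b)
    (h0 : Commute b (π (dec 1280))) (h1 : Commute b (π (dec 5))) (h2 : Commute b (π (dec 20)))
    (h3 : Commute b (π (dec 80))) (h4 : Commute b (π (dec 9))) (h5 : Commute b (π (dec 1365))) :
    Std π b := by
  obtain ⟨c, hc⟩ := h.s1 hb (y := dec 5) (z := dec 3584) (by decide) h1
  have hz : Commute b (π (dec 3584)) := by
    by_contra hz
    apply h.no_om hb h0 h5
    rcases F4.cases c with rfl | rfl | rfl | rfl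
    · exact absurd (by simpa using hc) hz
    · rw [show dec 3584 + (1 : F4) • dec 5 = dec 3589 by decide] at hc
      exact h.comm_ev (gs := [1280, 5, 20, 80, 9, 1365, 3589]) (by decide)
        (by simp [h0, h1, h2, h3, h4, h5, hc]) (by decide) [4, 6, 1, 4, 5, 2, 1, 4, 2, 6] 0
        (k := om) (by decide +kernel) (by decide)
    · rw [show dec 3584 + om • dec 5 = dec 3594 by decide] at hc
      exact h.comm_ev (gs := [1280, 5, 20, 80, 9, 1365, 3594]) (by decide)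
        (by simp [h0, h1, h2, h3, h4, h5, hc]) (by decide) [6, 5, 2, 6, 3, 2] 1
        (k := om) (by decide +kernel) (by decide)
    · rw [show dec 3584 + ob • dec 5 = dec 3599 by decide] at hc
      exact h.comm_ev (gs := [1280, 5, 20, 80, 9, 1365, 3599]) (by decide)
        (by simp [h0, h1, h2, h3, h4, h5, hc]) (by decide) [6, 2, 3, 1, 2, 6] 0
        (k := ob) (by decide +kernel) (by decide)
  simp [Std, gens7, h0, h1, h2, h3, h4, h5, hz]

theorem UM.norm [Finite G] {D H : Set G} (hL : LP D H) {π : V6 → G} (h : UM H π) {b : G}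
    (hb : HO H b) : ∃ g ∈ Subgroup.closure H, ∃ k : F4, k ≠ 0 ∧
      Std (fun v => π (H0.sc k v)) (H0.cj g b) := by
  obtain ⟨y, hy, hyb⟩ := hb.1
  obtain ⟨g0, hg0, e0⟩ := hL.trans hy (h.mem (v := dec 1280) (by decide))
  have a0 : Commute (H0.cj g0 b) (π (dec 1280)) := e0 ▸ commute_cj.2 hyb.symm
  have b0 := hb.cj hL hg0
  obtain ⟨g1, hg1, a1, t⟩ := h.shift_step b0 a0 (u := dec 5) (v := dec 20) (by decide) (by decide)
    (by decide)
  have a0 := t _ (by decide) (by decide) (by decide) a0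
  have b0 := b0.cj hL hg1
  obtain ⟨g2, hg2, a2, t⟩ := h.shift_step b0 a0 (u := dec 20) (v := dec 80) (by decide) (by decide)
    (by decide)
  have a0 := t _ (by decide) (by decide) (by decide) a0
  have a1 := t _ (by decide) (by decide) (by decide) a1
  have b0 := b0.cj hL hg2
  obtain ⟨g3, hg3, a3, t⟩ := h.shift_step b0 a0 (u := dec 80) (v := dec 149) (by decide) (by decide)
    (by decide)
  have a0 := t _ (by decide) (by decide) (by decide) a0
  have a1 := t _ (by decide) (by decide) (by decide) a1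
  have a2 := t _ (by decide) (by decide) (by decide) a2
  have b0 := b0.cj hL hg3
  obtain ⟨g4, hg4, a4, t⟩ := h.shift_step b0 a0 (u := dec 9) (v := dec 85) (by decide) (by decide)
    (by decide)
  have a0 := t _ (by decide) (by decide) (by decide) a0
  have a1 := t _ (by decide) (by decide) (by decide) a1
  have a2 := t _ (by decide) (by decide) (by decide) a2
  have a3 := t _ (by decide) (by decide) (by decide) a3
  have b0 := b0.cj hL hg4
  obtain ⟨k, hk⟩ := h.s1 b0 (y := dec 1280) (z := dec 85) (by decide) a0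
  have hk0 : k ≠ 0 := by
    rintro rfl
    refine absurd (h.s2 b0 (y := dec 5) (z := dec 80) (by decide) a1 a3 (c := 1) ?_) one_ne_zero
    rwa [show dec 80 + (1 : F4) • dec 5 = dec 85 + (0 : F4) • dec 1280 by decide]
  refine ⟨g4 * (g3 * (g2 * (g1 * g0))), mul_mem hg4 (mul_mem hg3 (mul_mem hg2 (mul_mem hg1 hg0))),
    k, hk0, ?_⟩
  simp only [← cj_cj]
  have e : ∀ k : F4, H0.sc k (dec 1280) = k • dec 1280 ∧ H0.sc k (dec 5) = dec 5 ∧
      H0.sc k (dec 20) = dec 20 ∧ H0.sc k (dec 80) = dec 80 ∧ H0.sc k (dec 9) = dec 9 ∧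
      H0.sc k (dec 1365) = dec 85 + k • dec 1280 := by decide
  obtain ⟨e0, e1, e2, e3, e4, e5⟩ := e k
  refine (h.sc hk0).std_z b0 ?_ ?_ ?_ ?_ ?_ ?_
  · rwa [e0, h.smul (by decide) hk0]
  · rwa [e1]
  · rwa [e2]
  · rwa [e3]
  · rwa [e4]
  · rwa [e5]

end H0
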