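import Mathlib
import Cfsg.Agent.H0.U6b

/-! The affine `E₆` diagram collapses in `U₆(2)`. -/

set_option autoImplicit false
set_option linter.unusedSectionVars false
set_option maxRecDepth 100000

namespace H0

variable {G : Type*} [Group G]

theorem eq_zero_of_perp (b : Fin 6 → V6) (hb1 : ∀ g : Fin 6 → F4,
    (∀ j, ∑ i, g i * hb (b j) (b i) = 0) → g = 0) {v : V6} (hv : ∀ j, hb (b j) v = 0) : v = 0 := by
  have hli : LinearIndependent F4 b := by
    rw [Fintype.linearIndependent_iff]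
    intro g hg
    have := hb1 g fun j => by
      have := congrArg ((H15.unForm F4.card 6).B (b j)) hg
      simpa only [map_sum, map_smul, smul_eq_mul, hb_eq, map_zero] using this
    exact fun i => congrFun this i
  have hsp := hli.span_eq_top_of_card_eq_finrank' (by simp)
  apply H15.unForm_nondeg F4.card 6
  intro w
  have hw : w ∈ Submodule.span F4 (Set.range b) := by rw [hsp]; trivial
  rw [hb_eq]
  apply hb_comm0
  induction hw using Submodule.span_induction with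
  | mem x hx => obtain ⟨j, rfl⟩ := hx; exact hv j
  | zero => exact hb_zero_left v
  | add x y _ _ h1 h2 => rw [hb_add_left, h1, h2, add_zero]
  | smul c x _ h1 => rw [hb_smul_left, h1, mul_zero]

theorem UM.scale {H : Set G} {π : V6 → G} (h : UM H π) {v : V6} (hv : Iso v) {x : G} (hx : x ∈ H)
    (hc : ¬ Commute (π v) x) : ∃ w, Iso w ∧ π w = x ∧ hb v w = 1 := by
  obtain ⟨w, hw, rfl⟩ := h.surj hx
  rw [h.comm hv hw] at hc
  exact ⟨(hb v w)⁻¹ • w, hw.smul (inv_ne_zero hc), h.smul hw (inv_ne_zero hc), by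
    rw [hb_smul_right, inv_mul_cancel₀ hc]⟩

theorem e6_lin : ∀ g0 g1 g2 g3 g4 g5 : F4, g1 = 0 → g0 + g4 = 0 → g3 = 0 → g2 + g4 = 0 →
    g1 + g3 + g5 = 0 → g4 = 0 → ![g0, g1, g2, g3, g4, g5] = 0 := by
  intro g0 g1 g2 g3 g4 g5 h1 h2 h3 h4 h5 h6
  rw [h6, add_zero] at h2 h4
  rw [h1, h3, add_zero, zero_add] at h5
  rw [h1, h2, h3, h4, h5, h6]
  decide

theorem UM.e6t {H : Set G} {π : V6 → G} (h : UM H π) {e0 e1 e2 e5 e7 e8 e9 : G} (m0 : e0 ∈ H)
    (m1 : e1 ∈ H) (m2 : e2 ∈ H) (m5 : e5 ∈ H) (m7 : e7 ∈ H) (m8 : e8 ∈ H) (m9 : e9 ∈ H)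
    (n71 : ¬ Commute e7 e1) (n10 : ¬ Commute e1 e0) (n75 : ¬ Commute e7 e5)
    (n52 : ¬ Commute e5 e2) (n79 : ¬ Commute e7 e9) (n98 : ¬ Commute e9 e8)
    (c02 : Commute e0 e2) (c05 : Commute e0 e5) (c07 : Commute e0 e7) (c08 : Commute e0 e8)
    (c09 : Commute e0 e9) (c12 : Commute e1 e2) (c15 : Commute e1 e5) (c18 : Commute e1 e8)
    (c19 : Commute e1 e9) (c27 : Commute e2 e7) (c28 : Commute e2 e8) (c29 : Commute e2 e9)
    (c58 : Commute e5 e8) (c59 : Commute e5 e9) (c78 : Commute e7 e8) :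
    H0.cj e1 (H0.cj e7 (H0.cj e9 (H0.cj e5 (H0.cj e7 (H0.cj e1 e0))))) =
      H0.cj e8 (H0.cj e9 (H0.cj e7 (H0.cj e5 e2))) := by
  obtain ⟨a7, i7, rfl⟩ := h.surj m7
  obtain ⟨a1, i1, rfl, p71⟩ := h.scale i7 m1 n71
  obtain ⟨a5, i5, rfl, p75⟩ := h.scale i7 m5 n75
  obtain ⟨a9, i9, rfl, p79⟩ := h.scale i7 m9 n79
  obtain ⟨a0, i0, rfl, p10⟩ := h.scale i1 m0 n10
  obtain ⟨a2, i2, rfl, p52⟩ := h.scale i5 m2 n52
  obtain ⟨a8, i8, rfl, p98⟩ := h.scale i9 m8 n98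
  rw [h.comm ‹_› ‹_›] at c02 c05 c07 c08 c09 c12 c15 c18 c19 c27 c28 c29 c58 c59 c78
  clear n71 n75 n79 n10 n52 n98
  have n17 := hb_comm1 p71
  have n57 := hb_comm1 p75
  have n97 := hb_comm1 p79
  have n01 := hb_comm1 p10
  have n25 := hb_comm1 p52
  have n89 := hb_comm1 p98
  have c20 := hb_comm0 c02
  have c50 := hb_comm0 c05
  have c70 := hb_comm0 c07
  have c90 := hb_comm0 c09
  have c21 := hb_comm0 c12
  have c51 := hb_comm0 c15
  have c91 := hb_comm0 c19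
  have c72 := hb_comm0 c27
  have c82 := hb_comm0 c28
  have c92 := hb_comm0 c29
  have c85 := hb_comm0 c58
  have c95 := hb_comm0 c59
  have c87 := hb_comm0 c78
  have d0 := i0.2
  have d1 := i1.2
  have d2 := i2.2
  have d5 := i5.2
  have d7 := i7.2
  have d9 := i9.2
  have two : (1 : F4) + 1 = 0 := by decide
  have hn : a0 + a2 + a7 + a8 = 0 := by
    refine eq_zero_of_perp ![a0, a1, a2, a5, a7, a9] (fun g hg => ?_) fun j => ?_
    · have k0 := hg 0
      have k1 := hg 1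
      have k2 := hg 2
      have k3 := hg 3
      have k4 := hg 4
      have k5 := hg 5
      simp only [Fin.sum_univ_six, Matrix.cons_val, *, mul_zero, mul_one, add_zero, zero_add]
        at k0 k1 k2 k3 k4 k5
      have := e6_lin _ _ _ _ _ _ k0 k1 k2 k3 k4 k5
      rw [← this]
      ext i; fin_cases i <;> rfl
    · fin_cases j <;> simp [hb_add_right, *]
  rw [h.cj i1 i0, h.cj i7 (i1.tv i0), h.cj i5 (i7.tv (i1.tv i0)), h.cj i9 (i5.tv (i7.tv (i1.tv i0))),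
    h.cj i7 (i9.tv (i5.tv (i7.tv (i1.tv i0)))), h.cj i1 (i7.tv (i9.tv (i5.tv (i7.tv (i1.tv i0))))),
    h.cj i5 i2, h.cj i7 (i5.tv i2), h.cj i9 (i7.tv (i5.tv i2)), h.cj i8 (i9.tv (i7.tv (i5.tv i2)))]
  congr 1
  simp only [tv, hb_add_right, *, one_smul, add_zero, zero_add]
  have e8 : a8 = a0 + a2 + a7 := by
    rw [← add_zero a8, ← hn, add_comm, add_assoc, vtwo, add_zero]
  rw [e8]
  ext i
  simp only [Pi.add_apply]
  linear_combination F4.two (a1 i) - F4.two (a2 i)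

end H0
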