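import Mathlib
import Cfsg.Agent.H0.E6t
import Cfsg.Agent.H0.P22T

/-! Spaces that are locally `U₆(2)`: the table of the 3510 points. -/

set_option autoImplicit false
set_option linter.unusedSectionVars false
set_option maxRecDepth 100000

namespace H0

open H29

variable {G : Type*} [Group G]

/-- diagram relations -/
def Dg (e : ℕ → G) (n : ℕ) (A : List (ℕ × ℕ)) : Prop :=
  ∀ s < n, ∀ t < n, ((s, t) ∈ A → cj (e s) (e t) = cj (e t) (e s)) ∧
    ((s, t) ∉ A → (t, s) ∉ A → Commute (e s) (e t))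

def coxW (n : ℕ) (A : List (ℕ × ℕ)) : List (List ℕ) :=
  (List.range n).flatMap fun s => (List.range n).map fun t =>
    if (s, t) ∈ A ∨ (t, s) ∈ A then [s, t, s, t, s, t] else [s, t, s, t]

theorem sq_of_iv {e : ℕ → G} (hiv : IvOK e (ivOf [])) (c : ℕ) : e c * e c = 1 :=
  mul_eq_one_iff_eq_inv.2 (hiv c)

theorem inv_of_iv {e : ℕ → G} (hiv : IvOK e (ivOf [])) (c : ℕ) : (e c)⁻¹ = e c := (hiv c).symm

theorem braid_pow {s t : G} (hs : s * s = 1) (ht : t * t = 1) (h : cj s t = cj t s) :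
    s * (t * (s * (t * (s * t)))) = 1 := by
  rw [cj, cj, inv_eq_of_sq hs, inv_eq_of_sq ht] at h
  calc s * (t * (s * (t * (s * t)))) = (s * t * s) * (t * s * t) := by group
    _ = t * (s * (t * t) * s) * t := by rw [h]; group
    _ = 1 := by rw [ht, mul_one, hs, mul_one, ht]

theorem cox_ok {e : ℕ → G} (hiv : IvOK e (ivOf [])) {n : ℕ} {A : List (ℕ × ℕ)} (h : Dg e n A) :
    ∀ r ∈ coxW n A, ev e r = 1 := by
  intro r hr
  simp only [coxW, List.mem_flatMap, List.mem_map, List.mem_range] at hr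
  obtain ⟨s, hs, t, ht, rfl⟩ := hr
  split_ifs with hA
  · simp only [ev_cons, ev_nil, mul_one]
    refine braid_pow (sq_of_iv hiv s) (sq_of_iv hiv t) ?_
    rcases hA with hA | hA
    · exact (h s hs t ht).1 hA
    · exact ((h t ht s hs).1 hA).symm
  · push Not at hA
    have := (h s hs t ht).2 hA.1 hA.2
    simp only [ev_cons, ev_nil, mul_one]
    rw [← mul_assoc (e t), ← this.eq, mul_assoc, sq_of_iv hiv, mul_one, sq_of_iv hiv]

theorem ev_reverse {e : ℕ → G} (hiv : IvOK e (ivOf [])) (w : List ℕ) :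
    ev e w.reverse = (ev e w)⁻¹ := by
  induction w with
  | nil => simp
  | cons c w ih => simp [ih, inv_of_iv hiv]

/-- the word of a conjugate of a letter -/
def cw (w : List ℕ) (c : ℕ) : List ℕ := w ++ c :: w.reverse

theorem ev_cw {e : ℕ → G} (hiv : IvOK e (ivOf [])) (w : List ℕ) (c : ℕ) :
    ev e (cw w c) = cj (ev e w) (e c) := by
  rw [cw, ev_append, ev_cons, ev_reverse hiv, cj, mul_assoc]

theorem rel_of_eq {e : ℕ → G} (hiv : IvOK e (ivOf [])) {w w' : List ℕ} {c c' : ℕ}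
    (h : cj (ev e w) (e c) = cj (ev e w') (e c')) : ev e (cw w c ++ cw w' c') = 1 := by
  rw [ev_append, ev_cw hiv, ev_cw hiv, h, ← cj_mul, sq_of_iv hiv, cj, mul_one, mul_inv_cancel]

theorem ev_flatMap {e y : ℕ → G} {X : ℕ → List ℕ} : ∀ {r : List ℕ}, (∀ c ∈ r, y c = ev e (X c)) →
    ev y r = ev e (r.flatMap X)
  | [], _ => rfl
  | c :: r, h => by
    rw [ev_cons, List.flatMap_cons, ev_append, h c (by simp),
      ev_flatMap fun c hc => h c (by simp [hc])]

theorem commute_ev {e : ℕ → G} {b : G} {w : List ℕ} (h : ∀ c ∈ w, Commute b (e c)) :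
    Commute b (ev e w) := by
  induction w with
  | nil => simp
  | cons c w ih =>
    rw [ev_cons]
    exact (h c (by simp)).mul_right (ih fun c hc => h c (by simp [hc]))

theorem commute_cj_ev {e : ℕ → G} {b x : G} {w : List ℕ} (h : ∀ c ∈ w, Commute b (e c))
    (hx : Commute b x) : Commute b (cj (ev e w) x) :=
  (commute_cj_right (commute_ev h).symm).2 hx

theorem commute_closure {S : Set G} {b g : G} (h : ∀ x ∈ S, Commute b x)
    (hg : g ∈ Subgroup.closure S) : Commute b g := by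
  induction hg using Subgroup.closure_induction with
  | mem z hz => exact h z hz
  | one => exact Commute.one_right _
  | mul p q _ _ hp hq => exact hp.mul_right hq
  | inv p _ hp => exact hp.inv_right

theorem commute_gen {e : ℕ → G} {l : List ℕ} {b g : G} (h : ∀ c ∈ l, Commute b (e c))
    (hg : g ∈ gen e l) : Commute b g :=
  commute_closure (by rintro _ ⟨c, hc, rfl⟩; exact h c hc) hg

theorem Dx_comm (E : Set G) (x y : G) : Dx (Dx E x) y = Dx (Dx E y) x := by
  ext z; simp only [Dx, Set.mem_setOf_eq]; tauto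

theorem Dx_symm {E : Set G} {x y : G} (hx : x ∈ E) (h : y ∈ Dx E x) : x ∈ Dx E y :=
  ⟨hx, h.2.1.symm, h.2.2.symm⟩

/-- a space is generated by a residue, its base point and one adjacent point -/
theorem LP.gen_res [Finite G] {D E : Set G} (h : LP D E) {p j : G} (hp : p ∈ E) (hj : j ∈ E)
    (hpj : ¬ Commute p j) {K : Subgroup G} (h1 : Dx E p ⊆ K) (h2 : p ∈ K) (h3 : j ∈ K) :
    E ⊆ K := by
  let K' := Subgroup.closure (Dx E p ∪ {p, j})
  have hK' : K' ≤ K := by
    rw [Subgroup.closure_le]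
    rintro x (hx | rfl | rfl)
    exacts [h1 hx, h2, h3]
  have hE : K' ≤ Subgroup.closure E := Subgroup.closure_mono (by
    rintro x (hx | rfl | rfl)
    exacts [hx.1, hp, hj])
  have hD : Subgroup.closure (Dx E p) ≤ K' := Subgroup.closure_mono Set.subset_union_left
  have hpK : p ∈ K' := Subgroup.subset_closure (Or.inr (Or.inl rfl))
  have hjK : j ∈ K' := Subgroup.subset_closure (Or.inr (Or.inr rfl))
  have horb : ∀ y ∈ Dx E p, ∃ g ∈ K', cj g p = y := by
    intro y hy
    obtain ⟨f, hf, hfj⟩ := h.sep hp hj (fun e => hpj (e ▸ Commute.refl p))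
    obtain ⟨g, hg, rfl⟩ := h.Dx_trans hp hf hy
    refine ⟨g * (j * f * (p * j)), mul_mem (hD hg) (mul_mem (mul_mem hjK
      (hD (Subgroup.subset_closure hf))) (mul_mem hpK hjK)), ?_⟩
    rw [← cj_cj, ← cj_cj, h.tt.cj_mul_adj (h.le hp) (h.le hj) hpj,
      h.tt.cj_mul_adj (h.le hj) (h.le hf.1) (fun e => hfj e.symm)]
  have := h.comm_closed (U := {y | ∃ g ∈ K', cj g p = y}) (by
    rintro _ ⟨g, hg, rfl⟩ - y hy hc
    obtain ⟨y, rfl⟩ : ∃ w, cj g w = y := ⟨_, cj_cj_inv g y⟩
    by_cases hyp : y = p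
    · exact ⟨g, hg, by rw [hyp]⟩
    obtain ⟨k, hk, rfl⟩ := horb y ⟨(h.mem_cj (hE hg)).1 hy, hyp, commute_cj.1 hc⟩
    exact ⟨g * k, mul_mem hg hk, (cj_cj _ _ _).symm⟩) ⟨1, one_mem _, cj_one p⟩ hp
  intro x hx
  obtain ⟨g, hg, rfl⟩ := this hx
  exact hK' (mul_mem (mul_mem hg hpK) (inv_mem hg))

theorem LP.cen_res [Finite G] {D E : Set G} (h : LP D E) {p j : G} (hp : p ∈ E) (hj : j ∈ E)
    (hpj : ¬ Commute p j) {z : G} (h1 : ∀ x ∈ Dx E p, Commute z x) (h2 : Commute z p)
    (h3 : Commute z j) : ∀ x ∈ E, Commute z x := fun x hx =>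
  (Subgroup.mem_centralizer_singleton_iff.1 (h.gen_res hp hj hpj (K := Subgroup.centralizer {z})
    (fun x hx => Subgroup.mem_centralizer_singleton_iff.2 (h1 x hx).symm.eq)
    (Subgroup.mem_centralizer_singleton_iff.2 h2.symm.eq)
    (Subgroup.mem_centralizer_singleton_iff.2 h3.symm.eq) hx)).symm

/-- standard configuration -/
structure Cfg (D E : Set G) (π : V6 → G) (x b : G) : Prop where
  lp : LP D E
  f22 : F22 D E
  hx : x ∈ E
  hb : b ∈ E
  adj : ¬ Commute x b
  um : UM (Dx E x) π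
  std : Std π b

noncomputable def let22 (π : V6 → G) (x b : G) (c : ℕ) : G :=
  if c < 8 then π (dec (nth 5 gens8 c)) else if c = 8 then x else if c = 9 then b else 1

def A22 : List (ℕ × ℕ) := [(0, 1), (1, 6), (1, 7), (2, 3), (2, 5), (3, 4), (3, 5), (5, 6), (5, 7),
  (7, 9), (8, 9)]

noncomputable def nt : ℕ → Net := nth Net.nil P22T.nl

structure Tab (e T : ℕ → G) : Prop where
  act : ∀ {w : List ℕ}, (∀ c ∈ w, c < 10) → ∀ {i}, i < 3510 → cj (ev e w) (T i) = T (ev (sg nt) w i)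
  zero : T 0 = e 8

noncomputable def chkM (w : List ℕ) (i j : ℕ) : Bool :=
  and2 (and2 (allL w fun c => Nat.ble c 9) (Nat.ble i 3509)) (H29.sub (bit i) (pullW nt w (bit j)))

theorem Tab.map {e T : ℕ → G} (h : Tab e T) {w : List ℕ} {i j : ℕ} (hc : chkM w i j = true) :
    cj (ev e w) (T i) = T j := by
  simp only [chkM, and2_true, allL_true, ble_true] at hc
  have := sub_true hc.2 (i := i) (by simp [testBit_bit])
  rw [testBit_pullW (nets := nt) P22T.hn, testBit_bit, decide_eq_true_eq] at this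
  rw [h.act (fun c hc' => Nat.lt_succ_of_le (hc.1.1 c hc')) (Nat.lt_succ_of_le hc.1.2), this]

namespace Cfg

variable [Finite G] {D E : Set G} {π : V6 → G} {x b : G} (h : Cfg D E π x b)
include h

omit h in
theorem let_lt {c : ℕ} (hc : c < 8) : let22 π x b c = π (dec (nth 5 gens8 c)) := if_pos hc

theorem mem_lt {c : ℕ} (hc : c < 8) : let22 π x b c ∈ Dx E x := by
  rw [let_lt hc]; exact h.um.mem (isoL.nth (by decide) c)

theorem mem {c : ℕ} (hc : c < 10) : let22 π x b c ∈ E := by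
  by_cases h8 : c < 8
  · exact (h.mem_lt h8).1
  · obtain rfl | rfl : c = 8 ∨ c = 9 := by omega
    exacts [h.hx, h.hb]

theorem iv : IvOK (let22 π x b) (ivOf []) := by
  intro c
  by_cases hc : c < 10
  · exact (h.lp.tt.inv (h.lp.le (h.mem hc))).symm
  · have : let22 π x b c = 1 := by
      rw [let22, if_neg (by omega), if_neg (by omega), if_neg (by omega)]
    change let22 π x b c = _
    rw [this, inv_one]

theorem ho : HO (Dx E x) b := h.lp.ho h.f22 h.hx h.hb h.adj

theorem comm_iff : ∀ s < 10, ∀ t < 10,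
    Commute (let22 π x b s) (let22 π x b t) ↔ (s, t) ∉ A22 ∧ (t, s) ∉ A22 := by
  have k1 : ∀ s < 8, ∀ t < 8, H0.hb (dec (nth 5 gens8 s)) (dec (nth 5 gens8 t)) = 0 ↔
      (s, t) ∉ A22 ∧ (t, s) ∉ A22 := by decide +kernel
  have k2 : ∀ s < 7, nth 5 gens8 s ∈ gens7 := by decide +kernel
  have k7 : ¬ Commute b (π (dec 2645)) :=
    h.um.no_om h.ho (h.std _ (by decide)) (h.std _ (by decide))
  have k3 : ∀ s < 10, ∀ t < 10, t ≤ s → (Commute (let22 π x b s) (let22 π x b t) ↔
      (s, t) ∉ A22 ∧ (t, s) ∉ A22) := by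
    intro s hs t ht hts
    by_cases h8 : s < 8
    · rw [let_lt h8, let_lt (hts.trans_lt h8), h.um.comm (isoL.nth (by decide) _)
        (isoL.nth (by decide) _), k1 s h8 t (hts.trans_lt h8)]
    obtain rfl | rfl : s = 8 ∨ s = 9 := by omega
    · by_cases h9 : t < 8
      · refine iff_of_true (h.mem_lt h9).2.2 ?_
        clear ht hts; revert t; decide
      · obtain rfl : t = 8 := by omega
        exact iff_of_true (Commute.refl _) (by decide)
    · by_cases h9 : t < 7
      · refine iff_of_true (by rw [let_lt (c := t) (by omega)]; exact h.std _ (k2 t h9)) ?_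
        clear ht hts; revert t; decide
      obtain rfl | rfl | rfl : t = 7 ∨ t = 8 ∨ t = 9 := by omega
      · exact iff_of_false k7 (by decide)
      · exact iff_of_false (fun e => h.adj e.symm) (by decide)
      · exact iff_of_true (Commute.refl _) (by decide)
  intro s hs t ht
  rcases le_total t s with h1 | h1
  · exact k3 s hs t ht h1
  · rw [Commute.symm_iff, k3 t ht s hs h1, and_comm]

theorem dg : Dg (let22 π x b) 10 A22 := fun s hs t ht =>
  ⟨fun hA => h.lp.tt.braid (h.lp.le (h.mem hs)) (h.lp.le (h.mem ht))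
    fun e => ((h.comm_iff s hs t ht).1 e).1 hA, fun h1 h2 => (h.comm_iff s hs t ht).2 ⟨h1, h2⟩⟩

/-- words in the first eight letters are computed in the model -/
theorem word {w : List ℕ} (hw : ∀ c ∈ w, c < 8) {c : ℕ} (hc : c < 8) {k : F4} {z : V6}
    (e : dec (evN gens8 w (nth 5 gens8 c)) = k • z) (hz : Iso z) :
    cj (ev (let22 π x b) w) (let22 π x b c) = π z := by
  obtain ⟨h1, h2⟩ := h.um.ev (gs := gens8) (by decide) (isoL.nth (gs := gens8) (by decide) c) w
  rw [let_lt hc, ev_congr (e' := fun c => π (dec (nth 5 gens8 c))) fun c hc => let_lt (hw c hc), h2,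
    e, h.um.smul hz]
  rintro rfl
  exact h1.1 (by rw [e, zero_smul])

theorem r3 : cj (ev (let22 π x b) [1, 7, 9, 5, 7, 1]) (let22 π x b 0) =
    cj (ev (let22 π x b) [8, 9, 7, 5]) (let22 π x b 2) := by
  obtain ⟨hL, hU⟩ := h.f22 _ (h.mem (c := 4) (by decide))
  obtain ⟨ρ, hρ⟩ := hL.exists_um hU
  have m : ∀ c ∈ [0, 1, 2, 5, 7, 8, 9], let22 π x b c ∈ Dx E (let22 π x b 4) := by
    have k : ∀ c ∈ [0, 1, 2, 5, 7, 8, 9], c < 10 ∧ ((4, c) ∉ A22 ∧ (c, 4) ∉ A22) ∧
      ∃ d < 10, ((c, d) ∈ A22 ∨ (d, c) ∈ A22) ≠ ((4, d) ∈ A22 ∨ (d, 4) ∈ A22) := by decide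
    intro c hc
    obtain ⟨k1, k2, d, hd, k3⟩ := k c hc
    refine ⟨h.mem k1, fun e => k3 ?_, (h.comm_iff 4 (by decide) c k1).2 k2⟩
    have := h.comm_iff c k1 d hd
    rw [e, h.comm_iff 4 (by decide) d hd] at this
    simp only [eq_iff_iff]
    tauto
  simp only [ev_cons, ev_nil, mul_one, ← cj_cj]
  refine hρ.e6t (m 0 (by decide)) (m 1 (by decide)) (m 2 (by decide)) (m 5 (by decide))
    (m 7 (by decide)) (m 8 (by decide)) (m 9 (by decide)) ?_ ?_ ?_ ?_ ?_ ?_ ?_ ?_ ?_ ?_ ?_ ?_ ?_ ?_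
    ?_ ?_ ?_ ?_ ?_ ?_ ?_ <;> rw [h.comm_iff _ (by decide) _ (by decide)] <;> decide

theorem rels : ∀ r ∈ P22T.R0, ev (let22 π x b) r = 1 := by
  refine rels_sub (R := coxW 10 A22 ++ [cw [0, 1, 6, 5, 4, 3] 2 ++ cw [7, 5, 6, 3, 5, 7] 1,
    cw [1, 7, 9, 5, 7, 1] 0 ++ cw [8, 9, 7, 5] 2,
    cw [0, 1, 6, 5, 7, 2, 5] 3 ++ cw [5, 3, 2, 5, 7, 6] 1]) (rels_append (cox_ok h.iv h.dg) ?_)
    (by decide +kernel)
  simp only [List.forall_mem_cons]
  refine ⟨rel_of_eq h.iv ?_, rel_of_eq h.iv h.r3, rel_of_eq h.iv ?_, by simp⟩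
  · rw [h.word (by decide) (by decide) (k := ob) (z := dec 3801) (by decide +kernel) (by decide),
      h.word (by decide) (by decide) (k := 1) (z := dec 3801) (by decide +kernel) (by decide)]
  · rw [h.word (by decide) (by decide) (k := om) (z := dec 3733) (by decide +kernel) (by decide),
      h.word (by decide) (by decide) (k := 1) (z := dec 3733) (by decide +kernel) (by decide)]

theorem exists_tab : ∃ T, Tab (let22 π x b) T := by
  let C := Subgroup.centralizer ({x} : Set G)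
  have hC : ∀ c ∈ P22T.T.hcols, let22 π x b c ∈ C := by
    intro c hc
    have : c < 10 ∧ (c, 8) ∉ A22 ∧ (8, c) ∉ A22 := by
      revert c; decide +kernel
    exact Subgroup.mem_centralizer_singleton_iff.2 ((h.comm_iff c this.1 8 (by decide)).2 this.2)
  let f : G ⧸ C → G := Quotient.lift (fun g => cj g x) fun a b hab => by
    have := Subgroup.mem_centralizer_singleton_iff.1 (QuotientGroup.leftRel_apply.1 hab)
    rw [← mul_inv_cancel_left a b, ← cj_cj, cj_of_commute this]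
  have hf : ∀ (g : G) q, f (g • q) = cj g (f q) := by
    intro g q
    induction q using QuotientGroup.induction_on with
    | H a => exact (cj_cj g a x).symm
  refine ⟨fun i => f (TCData.coset (let22 π x b) C P22T.T i), fun {w} hw {i} hi => ?_, ?_⟩
  · have hc : ∀ c < 10, c ∈ P22T.T.cols := by decide +kernel
    rw [← hf, P22T.ok.ev_smul h.iv h.rels hC (fun c h1 => hc c (hw c h1)) hi]
    rfl
  · simp only [TCData.coset_zero]
    exact cj_one x

theorem gen_all {K : Subgroup G} (hK : ∀ c < 10, let22 π x b c ∈ K) : E ⊆ K := by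
  refine h.lp.gen_res h.hx h.hb h.adj (h.um.gen693 fun g hg => ?_) (hK 8 (by decide))
    (hK 9 (by decide))
  have : ∀ g ∈ gens8, ∃ c < 8, nth 5 gens8 c = g := by decide +kernel
  obtain ⟨c, hc, rfl⟩ := this g hg
  rw [← let_lt (π := π) (x := x) (b := b) hc]
  exact hK c (by omega)

end Cfg

end H0
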