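import Mathlib
import Cfsg.Agent.H0.F22a
import Cfsg.Agent.H29.Fi22

/-! Spaces that are locally `U₆(2)`: the `Y₃₃₂` generators. -/

set_option autoImplicit false
set_option linter.unusedSectionVars false
set_option maxRecDepth 100000

namespace H0

open H29

variable {G : Type*} [Group G]

def ix (c : ℕ) : ℕ := [463, 98, 451, 449, 3509, 90, 448, 11, 0, 3].getD c 0

def A332 : List (ℕ × ℕ) := [(0, 1), (1, 2), (2, 3), (3, 4), (3, 7), (4, 5), (5, 6), (7, 8)]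

noncomputable def rS : List ℕ := powW 10 [3, 2, 1, 3, 4, 5, 3, 7, 8]
noncomputable def rA : List ℕ := powW 9 [0, 1, 2, 3, 4, 5, 7]
noncomputable def rG : List ℕ := powW 9 [1, 2, 3, 4, 5, 6, 7]

/-- `Y₃₃₂` generators satisfying the relations of `Fi₂₂` modulo the centre -/
structure Y22 (E : Set G) (y : ℕ → G) : Prop where
  mem : ∀ c < 9, y c ∈ E
  one : ∀ c, 9 ≤ c → y c = 1
  dg : Dg y 9 A332
  gen : ∀ K : Subgroup G, (∀ c < 9, y c ∈ K) → E ⊆ K
  cen : ∀ r ∈ [rS, rA, rG], ∀ z ∈ E, Commute (ev y r) z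

noncomputable def Yf (T : ℕ → G) (iy : List ℕ) (c : ℕ) : G := if c < 9 then T (iy.getD c 0) else 1

noncomputable def XW (yw : List (List ℕ × ℕ)) (c : ℕ) : List ℕ :=
  cw (yw.getD c ([], 0)).1 (yw.getD c ([], 0)).2

noncomputable def chkY (iy : List ℕ) (yw gw : List (List ℕ × ℕ)) : Bool :=
  and2 (allN 9 fun c => and2 (Nat.ble (yw.getD c ([], 0)).2 9) (and2
      (allL (yw.getD c ([], 0)).1 fun a => Nat.ble a 9)
      (chkM (yw.getD c ([], 0)).1 (ix (yw.getD c ([], 0)).2) (iy.getD c 0))))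
    (and2 (allN 9 fun s => allN 9 fun t =>
      if (s, t) ∈ A332 then chkM (XW yw t ++ XW yw s) (iy.getD t 0) (iy.getD s 0)
      else if (t, s) ∈ A332 then true else chkM (XW yw s) (iy.getD t 0) (iy.getD t 0))
    (and2 (allN 10 fun c => and2 (Nat.ble (gw.getD c ([], 0)).2 8) (and2
      (allL (gw.getD c ([], 0)).1 fun a => Nat.ble a 8)
      (chkM ((gw.getD c ([], 0)).1.flatMap (XW yw)) (iy.getD (gw.getD c ([], 0)).2 0) (ix c))))
    (allL [rS, rA, rG] fun r => and2 (allL r fun a => Nat.ble a 8)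
      (allN 10 fun c => chkM (r.flatMap (XW yw)) (ix c) (ix c)))))

def iy1 : List ℕ := [15, 163, 451, 449, 729, 98, 773, 789, 3]
def yw1 : List (List ℕ × ℕ) := [([8, 0, 1, 7], 9), ([4, 3], 5), ([], 2), ([], 3), ([7, 5, 4, 3, 2, 5, 1], 7), ([], 1), ([8, 6, 5, 2, 3, 5, 7], 9), ([7, 5, 4, 2, 3, 5, 7], 9), ([], 9)]
def gw1 : List (List ℕ × ℕ) := [([4, 3, 7, 2, 3, 4, 1, 2, 3, 7], 8), ([], 5), ([], 2), ([], 3), ([7, 4, 5, 3, 4, 2, 3, 7], 8), ([3, 7, 4, 5, 3, 4, 1, 2, 3, 7], 8), ([6, 5, 4, 0, 1, 2, 3, 7, 4, 5, 2, 3, 4, 1, 2, 3, 7], 8), ([7, 5, 3, 4, 2, 3, 7, 2, 3, 4, 5, 1, 2, 3, 4, 0, 1, 2, 3, 7], 8), ([8, 7, 3, 4, 5, 2, 3, 4, 1, 2, 3], 7), ([], 8)]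
def iy2 : List ℕ := [773, 98, 729, 449, 451, 163, 15, 789, 3]
def yw2 : List (List ℕ × ℕ) := [([8, 6, 5, 2, 3, 5, 7], 9), ([], 1), ([7, 5, 4, 3, 2, 5, 1], 7), ([], 3), ([], 2), ([4, 3], 5), ([8, 0, 1, 7], 9), ([7, 5, 4, 2, 3, 5, 7], 9), ([], 9)]
def gw2 : List (List ℕ × ℕ) := [([2, 3, 7, 4, 3, 2, 5, 4, 3, 7], 8), ([], 1), ([], 4), ([], 3), ([7, 2, 1, 3, 2, 4, 3, 7], 8), ([3, 7, 2, 1, 3, 2, 5, 4, 3, 7], 8), ([0, 1, 2, 6, 5, 4, 3, 7, 2, 1, 4, 3, 2, 5, 4, 3, 7], 8), ([7, 1, 3, 2, 4, 3, 7, 4, 3, 2, 1, 5, 4, 3, 2, 6, 5, 4, 3, 7], 8), ([8, 7, 3, 2, 1, 4, 3, 2, 5, 4, 3], 7), ([], 8)]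

theorem chk1 : chkY iy1 yw1 gw1 = true := by decide +kernel
theorem chk2 : chkY iy2 yw2 gw2 = true := by decide +kernel

namespace Cfg

variable [Finite G] {D E : Set G} {π : V6 → G} {x b : G} (h : Cfg D E π x b) {T : ℕ → G}
  (hT : Tab (let22 π x b) T)
include h hT

theorem ix_step {s t : ℕ} (hs : s < 10) (ht : t < 10) (hA : (s, t) ∈ A22 ∨ (t, s) ∈ A22)
    (e : T (ix s) = let22 π x b s) (hc : chkM [s, t] (ix s) (ix t) = true) :
    T (ix t) = let22 π x b t := by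
  rw [← hT.map hc, e, ev_cons, ev_cons, ev_nil, mul_one]
  refine h.lp.tt.cj_mul_adj (h.lp.le (h.mem hs)) (h.lp.le (h.mem ht)) fun e => ?_
  have := (h.comm_iff s hs t ht).1 e
  tauto

theorem ix_eq : ∀ c < 10, T (ix c) = let22 π x b c := by
  have e8 : T (ix 8) = let22 π x b 8 := hT.zero
  have e9 := h.ix_step hT (t := 9) (by decide) (by decide) (by decide) e8 (by decide +kernel)
  have e7 := h.ix_step hT (t := 7) (by decide) (by decide) (by decide) e9 (by decide +kernel)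
  have e1 := h.ix_step hT (t := 1) (by decide) (by decide) (by decide) e7 (by decide +kernel)
  have e5 := h.ix_step hT (t := 5) (by decide) (by decide) (by decide) e7 (by decide +kernel)
  have e0 := h.ix_step hT (t := 0) (by decide) (by decide) (by decide) e1 (by decide +kernel)
  have e6 := h.ix_step hT (t := 6) (by decide) (by decide) (by decide) e1 (by decide +kernel)
  have e2 := h.ix_step hT (t := 2) (by decide) (by decide) (by decide) e5 (by decide +kernel)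
  have e3 := h.ix_step hT (t := 3) (by decide) (by decide) (by decide) e5 (by decide +kernel)
  have e4 := h.ix_step hT (t := 4) (by decide) (by decide) (by decide) e3 (by decide +kernel)
  intro c hc
  interval_cases c <;> assumption

theorem pt {w : List ℕ} {c i : ℕ} (hc : c < 10) (e : chkM w (ix c) i = true) :
    T i = cj (ev (let22 π x b) w) (let22 π x b c) := by
  rw [← hT.map e, h.ix_eq hT c hc]

theorem y22 {iy : List ℕ} {yw gw : List (List ℕ × ℕ)} (hc : chkY iy yw gw = true) :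
    Y22 E (Yf T iy) ∧ ∀ c < 9, Yf T iy c = ev (let22 π x b) (XW yw c) := by
  simp only [chkY, and2_true, allN_true, allL_true, ble_true] at hc
  obtain ⟨k1, k2, k3, k4⟩ := hc
  have hy : ∀ c < 9, Yf T iy c = T (iy.getD c 0) := fun c hc => if_pos hc
  have hX : ∀ c < 9, Yf T iy c = ev (let22 π x b) (XW yw c) := fun c hc => by
    rw [hy c hc, XW, ev_cw h.iv, h.pt hT (Nat.lt_succ_of_le (k1 c hc).1) (k1 c hc).2.2]
  have hm : ∀ c < 9, Yf T iy c ∈ E := fun c hc => by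
    rw [hX c hc, XW, ev_cw h.iv]
    exact h.lp.conj (h.mem (Nat.lt_succ_of_le (k1 c hc).1)) (ev_mem fun a ha =>
      Subgroup.subset_closure (h.mem (Nat.lt_succ_of_le ((k1 c hc).2.1 a ha))))
  refine ⟨⟨hm, fun c hc => if_neg (by omega), fun s hs t ht => ⟨fun hA => ?_, fun h1 h2 => ?_⟩,
    fun K hK => h.gen_all fun c hc => ?_, fun r hr z hz => ?_⟩, hX⟩
  · have := k2 s hs t ht
    rw [if_pos hA] at this
    have := hT.map this
    rw [ev_append, ← hX s hs, ← hX t ht, ← hy s hs, ← hy t ht, ← cj_cj] at this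
    rw [← this, h.lp.tt.cj_cj_same (h.lp.le (hm t ht)), this]
  · have := k2 s hs t ht
    rw [if_neg h1, if_neg h2] at this
    have := hT.map this
    rwa [← hX s hs, ← hy t ht, cj_eq_self] at this
  · obtain ⟨l1, l2, l3⟩ := k3 c hc
    have := hT.map l3
    rw [← ev_flatMap fun a ha => hX a (Nat.lt_succ_of_le (l2 a ha)), h.ix_eq hT c hc,
      ← hy _ (Nat.lt_succ_of_le l1)] at this
    rw [← this]
    have h1 := ev_mem (e := Yf T iy) (H := K) fun a ha => hK a (Nat.lt_succ_of_le (l2 a ha))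
    exact mul_mem (mul_mem h1 (hK _ (Nat.lt_succ_of_le l1))) (inv_mem h1)
  · obtain ⟨l1, l2⟩ := k4 r hr
    refine (Subgroup.mem_centralizer_singleton_iff.1 (h.gen_all
      (K := Subgroup.centralizer {ev (Yf T iy) r}) (fun c hc => ?_) hz)).symm
    have := hT.map (l2 c hc)
    rw [← ev_flatMap fun a ha => hX a (Nat.lt_succ_of_le (l1 a ha)), h.ix_eq hT c hc,
      cj_eq_self] at this
    exact Subgroup.mem_centralizer_singleton_iff.2 this.symm.eq

omit hT in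
theorem vbar : π (dec 3925) = cj (ev (let22 π x b) [1, 7, 6, 1]) (let22 π x b 0) :=
  (h.word (by decide) (by decide) (k := om) (by decide +kernel) (by decide)).symm

/-- the letters with the seventh replaced -/
noncomputable def lb (π : V6 → G) (x b v : G) (c : ℕ) : G := if c = 6 then v else let22 π x b c

def lbW (W : List ℕ) (c : ℕ) : List ℕ := if c = 6 then W else [c]

omit hT in
theorem lb_eq {v : G} {W : List ℕ} (hv : v = ev (let22 π x b) W) (w : List ℕ) :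
    ev (lb π x b v) w = ev (let22 π x b) (w.flatMap (lbW W)) :=
  ev_flatMap fun c _ => by
    simp only [lb, lbW]
    split_ifs
    · exact hv
    · simp

/-- the subspace `N_ω` -/
theorem nom {j : G} (hj : ∀ c ∈ [0, 1, 2, 3, 4, 5, 7, 8, 9], Commute j (let22 π x b c)) :
    ∀ c ∈ [0, 1, 2, 3, 4, 5, 7, 8], Commute j (Yf T iy1 c) := by
  intro c hc
  have : ∀ c ∈ [0, 1, 2, 3, 4, 5, 7, 8], c < 9 ∧ ∀ a ∈ XW yw1 c, a ∈ [0, 1, 2, 3, 4, 5, 7, 8, 9] := by
    decide +kernel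
  rw [(h.y22 hT chk1).2 c (this c hc).1]
  exact commute_ev fun a ha => hj a ((this c hc).2 a ha)

/-- the subspace `N_ω²` -/
theorem nob {j : G} (hj : ∀ c ∈ [0, 1, 2, 3, 4, 5, 8, 9], Commute j (let22 π x b c))
    (hv : Commute j (π (dec 3925))) : ∀ c ∈ [1, 2, 3, 4, 5, 6, 7, 8], Commute j (Yf T iy1 c) := by
  have hl : ∀ c ∈ [0, 1, 2, 3, 4, 5, 6, 8, 9], Commute j (lb π x b (π (dec 3925)) c) := by
    simp only [List.forall_mem_cons] at hj ⊢
    obtain ⟨h0, h1, h2, h3, h4, h5, h8, h9, -⟩ := hj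
    exact ⟨h0, h1, h2, h3, h4, h5, hv, h8, h9, by simp⟩
  have hv' : π (dec 3925) = ev (let22 π x b) (cw [1, 7, 6, 1] 0) := by rw [ev_cw h.iv, h.vbar]
  have key : ∀ (w : List ℕ) (c i : ℕ), (∀ a ∈ w, a ∈ [0, 1, 2, 3, 4, 5, 6, 8, 9]) →
      c ∈ [0, 1, 2, 3, 4, 5, 8, 9] → c < 10 →
      chkM (w.flatMap (lbW (cw [1, 7, 6, 1] 0))) (ix c) i = true → Commute j (T i) := by
    intro w c i h1 h2 h3 h4
    rw [h.pt hT h3 h4, ← h.lb_eq hv']
    exact commute_cj_ev (fun a ha => hl a (h1 a ha)) (hj c h2)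
  simp only [List.forall_mem_cons]
  refine ⟨key [4, 3] 5 _ ?_ ?_ ?_ ?_, key [] 2 _ ?_ ?_ ?_ ?_, key [] 3 _ ?_ ?_ ?_ ?_,
    key [6, 5, 4, 2, 3, 5, 0, 6] 1 _ ?_ ?_ ?_ ?_, key [] 1 _ ?_ ?_ ?_ ?_, key [8, 5, 3, 2, 5, 6] 9 _ ?_ ?_ ?_ ?_,
    key [8, 6, 5, 4, 3, 2, 5, 6] 9 _ ?_ ?_ ?_ ?_, key [] 9 _ ?_ ?_ ?_ ?_, by simp⟩ <;>
    decide +kernel

end Cfg

end H0
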