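import Mathlib
import Cfsg.Agent.H0.F22b
import Cfsg.Agent.H29.Fi23

/-! Spaces that are locally of type `Fi₂₂`. -/

set_option autoImplicit false
set_option linter.unusedSectionVars false
set_option maxRecDepth 100000

namespace H0

open H29

variable {G : Type*} [Group G]

theorem LP.cfg [Finite G] {D E : Set G} (h : LP D E) (hr : F22 D E) {x b : G} (hx : x ∈ E)
    (hb : b ∈ E) (hxb : ¬ Commute x b) {π : V6 → G} (hπ : UM (Dx E x) π) :
    ∃ g ∈ Subgroup.closure (Dx E x), ∃ k : F4, k ≠ 0 ∧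
      Cfg D E (fun v => π (sc k v)) x (cj g b) := by
  obtain ⟨g, hg, k, hk, hs⟩ := hπ.norm (hr x hx).1 (h.ho hr hx hb hxb)
  refine ⟨g, hg, k, hk, h, hr, hx, h.conj hb (Subgroup.closure_mono (Dx_subset E x) hg), ?_,
    hπ.sc hk, hs⟩
  rwa [commute_cj_right (PTT.commute_of_mem_closure hg)]

theorem LP.y22 [Finite G] {D E : Set G} (h : LP D E) (hr : F22 D E) : ∃ y, Y22 E y := by
  obtain ⟨x, hx⟩ := h.nonempty
  obtain ⟨b, hb, hxb⟩ := h.adj_ne hx
  obtain ⟨π, hπ⟩ := (hr x hx).1.exists_um (hr x hx).2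
  obtain ⟨g, -, k, -, C⟩ := h.cfg hr hx hb hxb hπ
  obtain ⟨T, hT⟩ := C.exists_tab
  exact ⟨_, (C.y22 hT chk1).1⟩

theorem mem_center_closure {E : Set G} {g : Subgroup.closure E} :
    g ∈ Subgroup.center (Subgroup.closure E) ↔ ∀ z ∈ E, Commute (g : G) z := by
  rw [Subgroup.mem_center_iff]
  exact ⟨fun h z hz => (commute_coe.2 (h ⟨z, Subgroup.subset_closure hz⟩)).symm,
    fun h k => (commute_coe.1 (commute_closure h k.2)).symm⟩

theorem LP.quot_hom {α : Type} [DecidableEq α] {P : PData α} (coh : P.Coh) (hg : ∀ x, x ∈ P.gens)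
    [IsSimpleGroup P.G] (hivl : P.ivl = []) {D E : Set G} (h : LP D E) {y : ℕ → G}
    (hn : 0 < P.lets.length) (mem : ∀ c < P.lets.length, y c ∈ E)
    (one : ∀ c, P.lets.length ≤ c → y c = 1) (rel : ∀ r ∈ P.relL, ∀ z ∈ E, Commute (ev y r) z) :
    ∃ ψ : P.G →* Subgroup.closure E ⧸ Subgroup.center (Subgroup.closure E), Function.Injective ψ ∧
      ∀ w, ∃ hw : ev y w ∈ Subgroup.closure E, ψ (ev P.e w) = QuotientGroup.mk ⟨ev y w, hw⟩ := by
  have hy : ∀ c, y c ∈ Subgroup.closure E := fun c => by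
    by_cases hc : c < P.lets.length
    · exact Subgroup.subset_closure (mem c hc)
    · rw [one c (not_lt.1 hc)]; exact one_mem _
  let y' : ℕ → Subgroup.closure E := fun c => ⟨y c, hy c⟩
  let π := QuotientGroup.mk' (Subgroup.center (Subgroup.closure E))
  have hev : ∀ w, ((ev y' w : Subgroup.closure E) : G) = ev y w := fun w =>
    map_ev (Subgroup.closure E).subtype y' w
  obtain ⟨ψ, hψ⟩ := PData.exists_hom coh hg (σ := fun c => π (y' c)) (fun c => by
    rw [hivl, ← map_inv]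
    refine congrArg π (Subtype.ext ?_)
    by_cases hc : c < P.lets.length
    · exact (h.tt.inv (h.le (mem c hc))).symm
    · change y c = (y c)⁻¹
      rw [one c (not_lt.1 hc), inv_one]) (fun r hr => by
    rw [← map_ev]
    exact (QuotientGroup.eq_one_iff _).2 (mem_center_closure.2 (hev r ▸ rel r hr)))
  have hψ' : ∀ c, ψ (P.e c) = π (y' c) := fun c => by
    by_cases hc : c < P.lets.length
    · exact hψ c hc
    · rw [PData.e_eq_one (not_lt.1 hc), map_one, show y' c = 1 from Subtype.ext (one c (not_lt.1 hc)),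
        map_one]
  refine ⟨ψ, ?_, fun w => ⟨hev w ▸ (ev y' w).2, ?_⟩⟩
  · rw [← MonoidHom.ker_eq_bot_iff]
    refine (ψ.normal_ker.eq_bot_or_eq_top).resolve_right fun ht => ?_
    have : ψ (P.e 0) = 1 := by rw [← MonoidHom.mem_ker, ht]; trivial
    rw [hψ'] at this
    obtain ⟨z, hz, h1⟩ := h.adj_ne (mem 0 hn)
    exact h1 (mem_center_closure.1 ((QuotientGroup.eq_one_iff _).1 this) z hz)
  · rw [map_ev, ev_congr (e' := fun c => π (y' c)) fun c _ => hψ' c, ← map_ev]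
    exact congrArg π (Subtype.ext (hev w))

theorem quot_iso {Γ : Type*} [Group Γ] {E : Set G} {y : ℕ → G} {e : ℕ → Γ}
    {ψ : Γ →* Subgroup.closure E ⧸ Subgroup.center (Subgroup.closure E)}
    (hi : Function.Injective ψ)
    (hψ : ∀ w, ∃ hw : ev y w ∈ Subgroup.closure E, ψ (ev e w) = QuotientGroup.mk ⟨ev y w, hw⟩)
    (hs : ∀ K : Subgroup G, (∀ c, y c ∈ K) →
      (∀ g ∈ Subgroup.closure E, (∀ z ∈ E, Commute g z) → g ∈ K) → E ⊆ K) :
    Nonempty (Subgroup.closure E ⧸ Subgroup.center (Subgroup.closure E) ≃* Γ) := by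
  let π := QuotientGroup.mk' (Subgroup.center (Subgroup.closure E))
  have := hs ((ψ.range.comap π).map (Subgroup.closure E).subtype) (fun c => by
    obtain ⟨hw, e1⟩ := hψ [c]
    exact ⟨⟨_, hw⟩, ⟨_, e1⟩, by simp⟩) fun g hg hc =>
    ⟨⟨g, hg⟩, ⟨1, by
      rw [map_one, eq_comm]
      exact (QuotientGroup.eq_one_iff _).2 (mem_center_closure.2 hc)⟩, rfl⟩
  refine ⟨(MulEquiv.ofBijective ψ ⟨hi, fun q => ?_⟩).symm⟩
  obtain ⟨k, rfl⟩ := QuotientGroup.mk'_surjective _ q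
  obtain ⟨k', h1, h2⟩ := (Subgroup.closure_le _).2 this k.2
  rw [← show k' = k from Subtype.ext h2]
  exact h1

theorem Y22.iv {D E : Set G} (h : LP D E) {y : ℕ → G} (hy : Y22 E y) : IvOK y (ivOf []) := by
  intro c
  by_cases hc : c < 9
  · exact (h.tt.inv (h.le (hy.mem c hc))).symm
  · change y c = _
    rw [hy.one c (not_lt.1 hc), inv_one]

theorem rels_cen {E : Set G} {y : ℕ → G} {R R' R'' : List (List ℕ)} (h1 : ∀ r ∈ R, ev y r = 1)
    (h2 : ∀ r ∈ R', ∀ z ∈ E, Commute (ev y r) z)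
    (h : (allL R'' fun w => memLL w (R ++ R')) = true) : ∀ r ∈ R'', ∀ z ∈ E, Commute (ev y r) z := by
  intro r hr z hz
  rcases List.mem_append.1 (memLL_true (allL_true.1 h r hr)) with h3 | h3
  · rw [h1 r h3]; exact Commute.one_left z
  · exact h2 r h3 z hz

theorem LP.f22_iso [Finite G] {D E : Set G} (h : LP D E) (hr : F22 D E) :
    Nonempty (Subgroup.closure E ⧸ Subgroup.center (Subgroup.closure E) ≃* Cfsg.Spor.Fi22) := by
  obtain ⟨y, hy⟩ := h.y22 hr
  have := Fi22.simple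
  obtain ⟨ψ, h1, h2⟩ := h.quot_hom Fi22.coh Fi22.hg rfl (y := y) (by decide) hy.mem hy.one
    (rels_cen (cox_ok (hy.iv h) hy.dg) hy.cen (by decide +kernel))
  exact quot_iso h1 h2 fun K hK _ => hy.gen K fun c _ => hK c

/-- hyperbolic lines have three points -/
def HLp (E : Set G) : Prop :=
  ∀ x ∈ E, ∀ y ∈ E, ¬ Commute x y → ∀ z ∈ Ln E x y, z = x ∨ z = y ∨ z = cj x y

theorem LP.hl_of_res [Finite G] {D E : Set G} (h : LP D E)
    (hr : ∀ d ∈ E, LP D (Dx E d) ∧ HLp (Dx E d)) : HLp E := by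
  intro x hx y hy hxy z hz
  have key : ∀ m ∈ Dx E x ∩ Dx E y, z ≠ m → z = x ∨ z = y ∨ z = cj x y := fun m hm hne =>
    (hr m hm.1.1).2 x (Dx_symm hx hm.1) y (Dx_symm hy hm.2) hxy z
      ⟨⟨hz.1, hne, hz.2 m hm.1.1 hm.1.2.2.symm hm.2.2.2.symm⟩, fun w hw => hz.2 w hw.1⟩
  obtain ⟨m, hm⟩ := h.mu_pos hx hy hxy
  by_cases hzm : z = m
  · obtain ⟨m', hm'⟩ := (hr m hm.1.1).1.mu_pos (Dx_symm hx hm.1) (Dx_symm hy hm.2) hxy
    exact key m' ⟨⟨hm'.1.1.1, hm'.1.2⟩, hm'.1.1.1, hm'.2.2⟩ (hzm ▸ hm'.1.1.2.1.symm)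
  · exact key m hm hzm

theorem LP.hl22 [Finite G] {D E : Set G} (h : LP D E) (hr : F22 D E) : HLp E :=
  h.hl_of_res fun d hd => ⟨(hr d hd).1, fun _ hx _ hy hxy _ hz =>
    (hr d hd).1.hyp_line ((hr d hd).1.thick_of_MU (hr d hd).2) hx hy hxy hz⟩

theorem LP.hl23 [Finite G] {D E : Set G} (h : LP D E) (hr : F23 D E) : HLp E :=
  h.hl_of_res fun d hd => ⟨(hr d hd).1, (hr d hd).1.hl22 (hr d hd).2⟩

/-- add a tenth letter -/
noncomputable def ext9 (y : ℕ → G) (j : G) (c : ℕ) : G := if c = 9 then j else y c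

def A342 : List (ℕ × ℕ) := A332 ++ [(6, 9)]

theorem ev_ext9 {y : ℕ → G} {j : G} {w : List ℕ} (hw : ∀ c ∈ w, c < 9) :
    ev (ext9 y j) w = ev y w :=
  ev_congr fun c hc => if_neg (hw c hc).ne

/-- `Y₃₄₂` generators -/
structure Y23 (E : Set G) (p : G) (y : ℕ → G) (j : G) : Prop where
  hp : p ∈ E
  y22 : Y22 (Dx E p) y
  hj : j ∈ E
  adj : ¬ Commute p j
  comm : ∀ c ∈ [0, 1, 2, 3, 4, 5, 7, 8], Commute j (y c)

namespace Y23

variable [Finite G] {D E : Set G} (h : LP D E) {p j : G} {y : ℕ → G} (hy : Y23 E p y j)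
include h hy

theorem mem : ∀ c < 10, ext9 y j c ∈ E := fun c hc => by
  unfold ext9
  split_ifs with h9
  · exact hy.hj
  · exact (hy.y22.mem c (by omega)).1

theorem one : ∀ c, 10 ≤ c → ext9 y j c = 1 := fun c hc => by
  rw [ext9, if_neg (by omega), hy.y22.one c (by omega)]

theorem iv : IvOK (ext9 y j) (ivOf []) := by
  intro c
  by_cases hc : c < 10
  · exact (h.tt.inv (h.le (hy.mem h c hc))).symm
  · change ext9 y j c = _
    rw [hy.one h c (not_lt.1 hc), inv_one]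

theorem adj6 : ¬ Commute j (y 6) := by
  intro h6
  obtain ⟨f, hf, h1⟩ := h.sep hy.hp hy.hj fun e => hy.adj (e ▸ Commute.refl p)
  refine h1 (Subgroup.mem_centralizer_singleton_iff.1 (hy.y22.gen (Subgroup.centralizer {j})
    (fun c hc => Subgroup.mem_centralizer_singleton_iff.2 (Commute.symm ?_).eq) hf))
  by_cases h7 : c = 6
  · rwa [h7]
  · exact hy.comm c (by revert c; decide)

theorem dg : Dg (ext9 y j) 10 A342 := by
  intro s hs t ht
  by_cases h1 : s = 9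
  · subst h1
    refine ⟨fun hA => absurd hA (by revert t; decide), fun _ h2 => ?_⟩
    by_cases h3 : t = 9
    · rw [h3]
    · rw [show ext9 y j t = y t from if_neg h3]
      exact hy.comm t ((by decide : ∀ t < 10, (t, 9) ∉ A342 → t ≠ 9 → t ∈ [0, 1, 2, 3, 4, 5, 7, 8])
        t ht h2 h3)
  by_cases h3 : t = 9
  · subst h3
    rw [show ext9 y j s = y s from if_neg h1]
    refine ⟨fun hA => ?_, fun h2 _ => (hy.comm s ((by decide : ∀ t < 10, (t, 9) ∉ A342 → t ≠ 9 →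
      t ∈ [0, 1, 2, 3, 4, 5, 7, 8]) s hs h2 h1)).symm⟩
    obtain rfl : s = 6 := by revert s; decide
    exact h.tt.braid (h.le (hy.y22.mem 6 (by decide)).1) (h.le hy.hj) fun e => hy.adj6 h e.symm
  rw [show ext9 y j s = y s from if_neg h1, show ext9 y j t = y t from if_neg h3]
  have := hy.y22.dg s (by omega) t (by omega)
  simp only [A342, List.mem_append, List.mem_singleton, Prod.mk.injEq, h1, h3, and_false, or_false]
  exact this

theorem comm_p {w : List ℕ} (hw : ∀ c ∈ w, c < 9) : Commute (ev y w) p :=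
  (commute_ev fun c hc => (hy.y22.mem c (hw c hc)).2.2).symm

theorem cen : ∀ r ∈ [rS, rA], ∀ z ∈ E, Commute (ev (ext9 y j) r) z := by
  have k : ∀ r ∈ [rS, rA], r ∈ [rS, rA, rG] ∧ (∀ c ∈ r, c < 9) ∧
      ∀ c ∈ r, c ∈ [0, 1, 2, 3, 4, 5, 7, 8] := by decide +kernel
  intro r hr
  obtain ⟨k1, k2, k3⟩ := k r hr
  rw [ev_ext9 k2]
  exact h.cen_res hy.hp hy.hj hy.adj (hy.y22.cen r k1) (hy.comm_p h k2)
    (commute_ev fun c hc => hy.comm c (k3 c hc)).symm

theorem hom : ∃ ψ : Fi23.P.G →* Subgroup.closure E ⧸ Subgroup.center (Subgroup.closure E),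
    Function.Injective ψ ∧ ∀ w, ∃ hw : ev (ext9 y j) w ∈ Subgroup.closure E,
      ψ (ev Fi23.P.e w) = QuotientGroup.mk ⟨ev (ext9 y j) w, hw⟩ := by
  have := Fi23.simple
  exact h.quot_hom Fi23.coh Fi23.hg rfl (by decide) (hy.mem h) (hy.one h)
    (rels_cen (cox_ok (hy.iv h) (hy.dg h)) (hy.cen h) (by decide +kernel))

omit h hy in
theorem rG_ne : ev Fi23.P.e rG ≠ 1 := by
  intro h1
  have := disj_true (a := bit 1) (b := pullW (nth Net.nil Fi23T.nl) rG (bit 1)) (by decide +kernel)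
    (i := 1) (by simp [testBit_bit])
  rw [testBit_pullW Fi23T.hn, ← map_ev_sg fun c _ => Fi23.hρ c, h1, map_one Fi23.ρ] at this
  simp [testBit_bit] at this

theorem zeta (hl : HLp E) : ∀ z ∈ E, Commute (p * ev y rG) z := by
  have k : ∀ c ∈ rG, c < 9 := by decide +kernel
  have h1 := hy.y22.cen rG (by simp)
  have h2 := hy.comm_p h k
  have hg : ev y rG ∈ Subgroup.closure E :=
    ev_mem fun c hc => Subgroup.subset_closure (hy.y22.mem c (k c hc)).1
  have hm : cj (ev y rG) j ∈ Ln E p j := by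
    refine ⟨h.conj hy.hj hg, fun w hw e1 e2 => ?_⟩
    rwa [commute_cj_right (h1 w ⟨hw, fun e => hy.adj (e ▸ e2), e1.symm⟩)]
  rcases hl p hy.hp j hy.hj hy.adj _ hm with e | e | e
  · rw [← cj_of_commute h2, cj_inj] at e
    exact absurd (e ▸ Commute.refl j) hy.adj
  · exfalso
    obtain ⟨ψ, k1, k2⟩ := hy.hom h
    obtain ⟨hw, k3⟩ := k2 rG
    refine rG_ne (k1 ?_)
    rw [k3, map_one]
    refine (QuotientGroup.eq_one_iff _).2 (mem_center_closure.2 ?_)
    simp only [ev_ext9 k]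
    exact h.cen_res hy.hp hy.hj hy.adj h1 h2 (cj_eq_self.1 e)
  · refine h.cen_res hy.hp hy.hj hy.adj (fun x hx => hx.2.2.mul_left (h1 x hx))
      ((Commute.refl p).mul_left h2) ?_
    rw [← cj_eq_self, ← cj_cj, e, h.tt.cj_cj_same (h.le hy.hp)]

theorem iso (hl : HLp E) :
    Nonempty (Subgroup.closure E ⧸ Subgroup.center (Subgroup.closure E) ≃* Cfsg.Spor.Fi23) := by
  obtain ⟨ψ, k1, k2⟩ := hy.hom h
  refine quot_iso k1 k2 fun K hK hZ => ?_
  have k : ∀ c ∈ rG, c < 9 := by decide +kernel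
  have h1 : ∀ c < 9, y c ∈ K := fun c hc => by
    have := hK c
    rwa [ext9, if_neg hc.ne] at this
  have h2 : ev y rG ∈ K := ev_mem fun c hc => h1 c (k c hc)
  have h3 := hZ _ (mul_mem (Subgroup.subset_closure hy.hp) (ev_mem fun c hc =>
    Subgroup.subset_closure (hy.y22.mem c (k c hc)).1)) (hy.zeta h hl)
  exact h.gen_res hy.hp hy.hj hy.adj (hy.y22.gen K h1) ((mul_mem_cancel_right h2).1 h3) (hK 9)

end Y23

end H0
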