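import Mathlib
import Cfsg.Agent.H0.F23a

/-! Two base points over `U₆(2)`. -/

set_option autoImplicit false
set_option linter.unusedSectionVars false
set_option maxRecDepth 100000

namespace H0

open H29

variable {G : Type*} [Group G]

theorem plane_pts (v : V6) (hv : Iso v) (h0 : hb (dec 1280) v = 0) (h1 : hb (dec 5) v = 0)
    (h2 : hb (dec 80) v = 0) : (∃ c : F4, c ≠ 0 ∧ v = c • dec 1280) ∨
      ∃ z ∈ [5, 80, 1365, 4005, 2805], ∃ c g : F4, c ≠ 0 ∧ v = c • (dec z + g • dec 1280) := by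
  have e : v = ![v 0, v 0, v 2, v 2, v 4, v 4] := by
    have k : ∀ a b : F4, a + b = 0 → b = a := by decide
    have d0 : dec 1280 = ![0, 0, 0, 0, 1, 1] := by decide
    have d1 : dec 5 = ![1, 1, 0, 0, 0, 0] := by decide
    have d2 : dec 80 = ![0, 0, 1, 1, 0, 0] := by decide
    simp [hb, d0, d1, d2] at h0 h1 h2
    ext i
    fin_cases i
    exacts [rfl, k _ _ h1, rfl, k _ _ h2, rfl, k _ _ h0]
  rw [e] at hv ⊢
  generalize v 0 = a at hv ⊢
  generalize v 2 = b at hv ⊢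
  generalize v 4 = c at hv ⊢
  revert a b c
  decide +kernel

theorem Std.more {H : Set G} {π : V6 → G} (h : UM H π) {b : G} (hb : Std π b) :
    ∀ z ∈ [5, 80, 1365, 4005, 2805], Commute b (π (dec z)) := by
  simp only [List.forall_mem_cons]
  refine ⟨hb _ (by decide), hb _ (by decide), hb _ (by decide), ?_, ?_, by simp⟩
  · exact h.comm_ev (gs := [5, 20, 80, 9, 1365]) (by decide)
      (fun g hg => hb g (by revert g; decide)) (by decide) [1, 0, 3, 4, 1, 3, 2, 1] 0 (k := 1)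
      (by decide +kernel) (by decide)
  · exact h.comm_ev (gs := [5, 20, 80, 9, 1365]) (by decide)
      (fun g hg => hb g (by revert g; decide)) (by decide) [1, 3, 4, 1, 0, 3, 2] 1 (k := 1)
      (by decide +kernel) (by decide)

theorem LP.distinct [Finite G] {D E : Set G} (h : LP D E) (hr : F23 D E) {p x b j : G} (hp : p ∈ E)
    (hx : x ∈ Dx E p) {π : V6 → G} (hπ : UM (Dx (Dx E p) x) π) (hb : b ∈ Dx E p)
    (hxb : ¬ Commute x b) (hj : j ∈ E) (hpj : ¬ Commute p j) (sb : Std π b) (sj : Std π j) :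
    False := by
  obtain ⟨hL, hF⟩ := hr p hp
  have m0 := hπ.mem (v := dec 1280) (by decide)
  have m1 := hπ.mem_Dx (y := dec 1280) (z := dec 5) (by decide)
  have m3 := hπ.mem_Dx (y := dec 1280) (z := dec 80) (by decide)
  have m13 := hπ.mem_Dx (y := dec 5) (z := dec 80) (by decide)
  obtain ⟨L1, U1⟩ := hF _ m0.1
  obtain ⟨o, ho, o1, o3⟩ := L1.exists_third (L1.thick_of_MU U1) (p := π (dec 5)) (q := π (dec 80))
    ⟨m1.1.1, m1.2⟩ ⟨⟨m3.1.1, m3.2⟩, m13.2⟩
  have ox : Commute x o := ho.2 x (Dx_symm hx m0) m1.1.2.2 m3.1.2.2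
  have ob : Commute b o := ho.2 b ⟨hb, fun e => hxb (e ▸ m0.2.2), (sb 1280 (by decide)).symm⟩
    (sb _ (by decide)) (sb _ (by decide))
  have o1c : Commute (π (dec 5)) o := ho.2 _ ⟨m1.1.1, m1.2⟩ (Commute.refl _) m13.2.2
  have o3c : Commute (π (dec 80)) o := ho.2 _ ⟨m3.1.1, m3.2⟩ m13.2.2.symm (Commute.refl _)
  obtain ⟨v, hv, rfl⟩ := hπ.surj (x := o) ⟨ho.1.1, fun e => hxb (e ▸ ob.symm), ox⟩
  have oj : Commute j (π v) := by
    rcases plane_pts v hv ((hπ.comm (by decide) hv).1 ho.1.2.2) ((hπ.comm (by decide) hv).1 o1c)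
      ((hπ.comm (by decide) hv).1 o3c) with ⟨c, hc, rfl⟩ | ⟨z, hz, c, g, hc, rfl⟩
    · exact absurd (hπ.smul (by decide) hc) ho.1.2.1
    · have hi : Ind (dec 1280) (dec z) :=
        (by decide : ∀ z ∈ [5, 80, 1365, 4005, 2805], Ind (dec 1280) (dec z)) z hz
      rw [hπ.smul (hi.iso g) hc] at ob ⊢
      rw [hπ.s2 (hL.ho hF hx hb hxb) hi (sb _ (by decide)) (sb.more hπ z hz) ob, zero_smul, add_zero]
      exact sj.more hπ z hz
  have a3 : π (dec 80) ∈ Dx E (π (dec 5)) := ⟨m3.1.1.1, m13.2⟩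
  obtain ⟨L2, U2⟩ := (hr _ m1.1.1.1).2 _ a3
  have mem : ∀ w ∈ E, w ≠ π (dec 5) → w ≠ π (dec 80) → Commute (π (dec 5)) w →
      Commute (π (dec 80)) w → w ∈ Dx (Dx E (π (dec 5))) (π (dec 80)) :=
    fun w h1 h2 h3 h4 h5 => ⟨⟨h1, h2, h4⟩, h3, h5⟩
  have mp := mem p hp m1.1.1.2.1.symm m3.1.1.2.1.symm m1.1.1.2.2.symm m3.1.1.2.2.symm
  have mq := mem _ m0.1.1 m1.2.1.symm m3.2.1.symm m1.2.2.symm m3.2.2.symm
  have mo := mem _ ho.1.1.1 o1 o3 o1c o3c
  have mj := mem j hj (fun e => hpj (e ▸ m1.1.1.2.2)) (fun e => hpj (e ▸ m3.1.1.2.2))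
    (sj _ (by decide)).symm (sj _ (by decide)).symm
  refine hpj (L2.all_of_two (isLine_Ln mp mq m0.1.2.1.symm m0.1.2.2) (right_mem_Ln mq)
    ⟨mo, fun w hw e1 e2 => ?_⟩ ho.1.2.1.symm mj (sj _ (by decide)) oj (left_mem_Ln mp)).symm
  by_cases h1 : w = p
  · rw [h1]; exact ho.1.1.2.2
  by_cases h2 : w = π (dec 1280)
  · rw [h2]; exact ho.1.2.2
  exact ho.2 w ⟨⟨hw.1.1, h1, e1.symm⟩, h2, e2.symm⟩ hw.1.2.2.symm hw.2.2.symm

namespace Cfg

variable [Finite G] {D E : Set G} {π : V6 → G} {x b : G} (h : Cfg D E π x b)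
include h

theorem wrong1 {T : ℕ → G} (hT : Tab (let22 π x b) T) {j : G} {X : List (List ℕ)} {w wc : List ℕ}
    {kc : ℕ} (hk : kc < 10)
    (hj : ∀ W ∈ X, Commute j (ev (let22 π x b) W))
    (hc : Commute j (cj (ev (let22 π x b) wc) (let22 π x b kc)))
    (e : chkM (w.flatMap (fun c => (X ++ [cw wc kc]).getD c []) ++ wc) (ix kc) (ix 6) = true) :
    Commute j (let22 π x b 6) := by
  rw [← h.ix_eq hT 6 (by decide), h.pt hT hk e, ev_append, ← cj_cj,
    ← ev_flatMap (y := fun c => ev (let22 π x b) ((X ++ [cw wc kc]).getD c [])) fun _ _ => rfl]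
  refine commute_cj_ev (fun c _ => ?_) hc
  rw [List.getD_eq_getElem?_getD]
  cases e : (X ++ [cw wc kc])[c]? with
  | none => exact Commute.one_right j
  | some W =>
    rcases List.mem_append.1 (List.mem_of_getElem? e) with h1 | h1
    · exact hj W h1
    · rw [List.mem_singleton.1 h1, Option.getD_some, ev_cw h.iv]; exact hc

theorem wrong {j : G} (hj : ∀ c ∈ [0, 1, 2, 3, 4, 5, 8], Commute j (let22 π x b c))
    (hv : Commute j (π (dec 2645)) ∨ Commute j (π (dec 3925))) {c : F4} (hc0 : c ≠ 0)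
    (hc : Commute j (cj b (π (dec 5 + c • dec 1280)))) : Commute j (π (dec 1365)) := by
  obtain ⟨T, hT⟩ := h.exists_tab
  have hX : ∀ W, Commute j (ev (let22 π x b) W) →
      ∀ W' ∈ [[0], [1], [2], [3], [4], [5], W, [8]], Commute j (ev (let22 π x b) W') := by
    intro W hW
    simp only [List.forall_mem_cons, ev_cons, ev_nil, mul_one] at hj ⊢
    obtain ⟨h0, h1, h2, h3, h4, h5, h8, -⟩ := hj
    exact ⟨h0, h1, h2, h3, h4, h5, hW, h8, by simp⟩
  have e9 : ∀ (w : List ℕ) (k : ℕ), cj (ev (let22 π x b) (9 :: w)) (let22 π x b k) =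
      cj b (cj (ev (let22 π x b) w) (let22 π x b k)) := fun w k => by rw [ev_cons, cj_cj]; rfl
  have w1 : cj (ev (let22 π x b) [3, 2, 5, 7, 6, 5]) (let22 π x b 3) = π (dec 5 + (1 : F4) • dec 1280) :=
    h.word (by decide) (by decide) (k := 1) (by decide +kernel) (by decide)
  have w2 : cj (ev (let22 π x b) [3, 5, 7, 6, 5, 3]) (let22 π x b 2) = π (dec 5 + om • dec 1280) :=
    h.word (by decide) (by decide) (k := 1) (by decide +kernel) (by decide)
  have w3 : cj (ev (let22 π x b) [5, 7, 6, 5]) (let22 π x b 2) = π (dec 5 + ob • dec 1280) :=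
    h.word (by decide) (by decide) (k := 1) (by decide +kernel) (by decide)
  rcases hv with hv | hv
  · have hX := hX [7] (by rw [ev_cons, ev_nil, mul_one]; exact hv)
    rcases F4.cases c with rfl | rfl | rfl | rfl
    · exact absurd rfl hc0
    · exact h.wrong1 hT (wc := 9 :: [3, 2, 5, 7, 6, 5]) (kc := 3) (by decide) hX
        (by rwa [e9, w1]) (w := [1, 8, 3, 4, 2, 3, 0, 1])
        (by decide +kernel)
    · exact h.wrong1 hT (wc := 9 :: [3, 5, 7, 6, 5, 3]) (kc := 2) (by decide) hX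
        (by rwa [e9, w2]) (w := [5, 1, 6, 8, 2, 5, 6, 0, 1])
        (by decide +kernel)
    · exact h.wrong1 hT (wc := 9 :: [5, 7, 6, 5]) (kc := 2) (by decide) hX
        (by rwa [e9, w3]) (w := [5, 6, 1, 8, 7, 5, 0, 1])
        (by decide +kernel)
  · have hX := hX (cw [1, 7, 6, 1] 0) (by rwa [ev_cw h.iv, ← h.vbar])
    rcases F4.cases c with rfl | rfl | rfl | rfl
    · exact absurd rfl hc0
    · exact h.wrong1 hT (wc := 9 :: [3, 2, 5, 7, 6, 5]) (kc := 3) (by decide) hX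
        (by rwa [e9, w1]) (w := [1, 8, 3, 4, 2, 3, 0, 1])
        (by decide +kernel)
    · exact h.wrong1 hT (wc := 9 :: [3, 5, 7, 6, 5, 3]) (kc := 2) (by decide) hX
        (by rwa [e9, w2]) (w := [5, 6, 1, 8, 7, 5, 0, 1])
        (by decide +kernel)
    · exact h.wrong1 hT (wc := 9 :: [5, 7, 6, 5]) (kc := 2) (by decide) hX
        (by rwa [e9, w3]) (w := [5, 1, 6, 8, 2, 5, 6, 0, 1])
        (by decide +kernel)

end Cfg

theorem std_sc {H : Set G} {π : V6 → G} (hπ : UM H π) {k : F4} (hk : k ≠ 0) {j : G}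
    (hj : Std (fun v => π (sc k v)) j) :
    (∀ c ∈ [1280, 3584, 5, 20, 80, 9], Commute j (π (dec c))) ∧
      Commute j (π (dec 85 + k • dec 1280)) := by
  have e : ∀ k : F4, (∀ c ∈ [1280, 3584], sc k (dec c) = k • dec c) ∧
      (∀ c ∈ [5, 20, 80, 9], sc k (dec c) = dec c) ∧ sc k (dec 1365) = dec 85 + k • dec 1280 := by
    decide
  obtain ⟨e1, e2, e3⟩ := e k
  have k1 : ∀ c ∈ [1280, 3584], Commute j (π (dec c)) := fun c hc => by
    have : Commute j (π (sc k (dec c))) := hj c (by revert c; decide)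
    rwa [e1 c hc, hπ.smul ((by decide : ∀ c ∈ [1280, 3584], Iso (dec c)) c hc) hk] at this
  have k2 : ∀ c ∈ [5, 20, 80, 9], Commute j (π (dec c)) := fun c hc => by
    have : Commute j (π (sc k (dec c))) := hj c (by revert c; decide)
    rwa [e2 c hc] at this
  exact ⟨fun c hc => (List.mem_append.1 (show c ∈ [1280, 3584] ++ [5, 20, 80, 9] from hc)).elim
    (k1 c) (k2 c), e3 ▸ (hj 1365 (by decide) : Commute j (π (sc k (dec 1365))))⟩

theorem LP.jb [Finite G] {D E : Set G} (h : LP D E) (hr : F23 D E) {p x b j : G} (hp : p ∈ E)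
    {π : V6 → G} (C : Cfg D (Dx E p) π x b) (hj : j ∈ Dx E x) (hpj : ¬ Commute p j) {k : F4}
    (hk : k = om ∨ k = ob) (sj : Std (fun v => π (sc k v)) j) :
    ∀ c ∈ [0, 1, 2, 3, 4, 5, 8, 9], Commute j (let22 π x b c) := by
  have hk0 : k ≠ 0 := by rcases hk with rfl | rfl <;> decide
  obtain ⟨s1, s2⟩ := std_sc C.um hk0 sj
  have l1 : ∀ c ∈ [0, 1, 2, 3, 4, 5, 8], Commute j (let22 π x b c) := by
    simp only [List.forall_mem_cons] at s1 ⊢
    obtain ⟨h0, h1, h2, h3, h4, h5, -⟩ := s1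
    exact ⟨h0, h1, h2, h3, h4, h5, hj.2.2.symm, by simp⟩
  suffices Commute j b by
    simp only [List.forall_mem_cons] at l1 ⊢
    obtain ⟨h0, h1, h2, h3, h4, h5, h8, -⟩ := l1
    exact ⟨h0, h1, h2, h3, h4, h5, h8, this, by simp⟩
  have hx := C.hx
  have hb := C.hb
  have m0 := C.um.mem (v := dec 1280) (by decide)
  have m1 := C.um.mem_Dx (y := dec 1280) (z := dec 5) (by decide)
  have b0 := C.std 1280 (by decide)
  have b1 := C.std 5 (by decide)
  obtain ⟨L1, F1⟩ := hr _ m1.1.1.1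
  have hp1 : p ∈ Dx E (π (dec 5)) := Dx_symm hp m1.1.1
  have ho := L1.ho F1 hp1 (b := j) ⟨hj.1, fun e => hpj (e ▸ m1.1.1.2.2), (s1 _ (by decide)).symm⟩ hpj
  obtain ⟨L2, -⟩ := F1 p hp1
  rw [Dx_comm] at ho L2
  have n0 : π (dec 1280) ∈ Dx (Dx E p) (π (dec 5)) := ⟨m0.1, m1.2.1.symm, m1.2.2.symm⟩
  have nx : x ∈ Dx (Dx E p) (π (dec 5)) := Dx_symm hx m1.1
  have nb : b ∈ Dx (Dx E p) (π (dec 5)) := ⟨hb, fun e => C.adj (e ▸ m1.1.2.2), b1.symm⟩
  have hg := Subgroup.subset_closure nb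
  have nz : cj b x ∈ Dx (Dx (Dx E p) (π (dec 5))) (π (dec 1280)) := by
    rw [← cj_of_commute b0]
    exact (L2.mem_Dx_cj hg).2 ⟨nx, m0.2.1.symm, m0.2.2.symm⟩
  obtain ⟨m, ⟨k1, k2, k3⟩, -⟩ := ho.2 _ n0 (s1 _ (by decide)).symm _ nz
  obtain ⟨m, rfl⟩ : ∃ w, cj b w = m := ⟨_, cj_cj_inv b m⟩
  rw [← cj_of_commute b0, L2.mem_Ln_cj hg] at k1
  by_cases hm : m = x
  · rw [hm, ← h.tt.braid (h.le hx.1) (h.le hb.1) C.adj, commute_cj_left hj.2.2] at k3
    exact k3.symm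
  exfalso
  have k4 := LP.Ln_swap hx m1.1 (z := π (dec 1280)) ⟨m0, m1.2.1.symm, m1.2.2.symm⟩
    (by rw [Ln_symm]; exact k1) hm
  obtain ⟨c, rfl⟩ := C.um.ln_pt (y := dec 1280) (z := dec 5) (by decide) (by rw [Ln_symm]; exact k4)
    (fun e => k2 (by rw [e, cj_of_commute b0]))
  have hc0 : c ≠ 0 := by
    rintro rfl
    exact k1.1.2.1 (by rw [zero_smul, add_zero])
  have hv : Commute j (π (dec 2645)) ∨ Commute j (π (dec 3925)) := by
    rcases hk with rfl | rfl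
    · exact Or.inl (by rwa [show dec 85 + om • dec 1280 = dec 2645 by decide] at s2)
    · exact Or.inr (by rwa [show dec 85 + ob • dec 1280 = dec 3925 by decide] at s2)
  have k5 := C.wrong l1 hv hc0 k3.symm
  obtain ⟨L3, F3⟩ := hr x hx.1
  have ho := L3.ho F3 (Dx_symm hp hx) hj hpj
  rw [Dx_comm] at ho
  have := C.um.s2 ho (y := dec 1280) (z := dec 1365) (by decide) (s1 _ (by decide)) k5 (c := k + 1)
    (by rwa [show dec 1365 + (k + 1) • dec 1280 = dec 85 + k • dec 1280 by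
      rcases hk with rfl | rfl <;> decide])
  rcases hk with rfl | rfl <;> exact absurd this (by decide)

theorem LP.y23 [Finite G] {D E : Set G} (h : LP D E) (hr : F23 D E) {p x b j : G} (hp : p ∈ E)
    {π : V6 → G} (C : Cfg D (Dx E p) π x b) (hj : j ∈ Dx E x) (hpj : ¬ Commute p j)
    (sj : Std (fun v => π (sc om v)) j) {T : ℕ → G} (hT : Tab (let22 π x b) T) :
    Y23 E p (Yf T iy1) j := by
  refine ⟨hp, (C.y22 hT chk1).1, hj.1, hpj, C.nom hT ?_⟩
  have := h.jb hr hp C hj hpj (Or.inl rfl) sj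
  have s2 := (std_sc C.um (by decide) sj).2
  rw [show dec 85 + om • dec 1280 = dec 2645 by decide] at s2
  simp only [List.forall_mem_cons] at this ⊢
  obtain ⟨h0, h1, h2, h3, h4, h5, h8, h9, -⟩ := this
  exact ⟨h0, h1, h2, h3, h4, h5, s2, h8, h9, by simp⟩

theorem LP.y23' [Finite G] {D E : Set G} (h : LP D E) (hr : F23 D E) {p x b j : G} (hp : p ∈ E)
    {π : V6 → G} (C : Cfg D (Dx E p) π x b) (hj : j ∈ Dx E x) (hpj : ¬ Commute p j)
    (sj : Std (fun v => π (sc ob v)) j) {T : ℕ → G} (hT : Tab (let22 π x b) T) :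
    Y23 E p (Yf T iy2) j ∧ ∀ c ∈ [1, 2, 3, 4, 5, 6, 7, 8], Commute j (Yf T iy1 c) := by
  have s2 := (std_sc C.um (by decide) sj).2
  rw [show dec 85 + ob • dec 1280 = dec 3925 by decide] at s2
  have := C.nob hT (h.jb hr hp C hj hpj (Or.inr rfl) sj) s2
  refine ⟨⟨hp, (C.y22 hT chk2).1, hj.1, hpj, ?_⟩, this⟩
  simp only [List.forall_mem_cons] at this ⊢
  obtain ⟨h1, h2, h3, h4, h5, h6, h7, h8, -⟩ := this
  exact ⟨h6, h5, h4, h3, h2, h1, h7, h8, by simp⟩

/-- a standard external point for the base point `x` of the residue `E` -/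
theorem LP.exists_std [Finite G] {D E : Set G} (h : LP D E) (hr : F22 D E) {x : G} (hx : x ∈ E)
    {π : V6 → G} (hπ : UM (Dx E x) π) :
    ∃ b ∈ E, ¬ Commute x b ∧ ∃ k : F4, k ≠ 0 ∧ Std (fun v => π (sc k v)) b := by
  obtain ⟨b, hb, hxb⟩ := h.adj_ne hx
  obtain ⟨g, -, k, hk, C⟩ := h.cfg hr hx hb hxb hπ
  exact ⟨_, C.hb, C.adj, k, hk, C.std⟩

theorem std_congr {π : V6 → G} {k l m : F4} (e : k * l = m) {j : G}
    (hj : Std (fun v => π (sc m v)) j) : Std (fun v => (fun v => π (sc k v)) (sc l v)) j := by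
  simpa only [sc_sc, e] using hj

theorem LP.exists_y23 [Finite G] {D E : Set G} (h : LP D E) (hr : F23 D E) :
    ∃ p y j, Y23 E p y j := by
  obtain ⟨p, hp⟩ := h.nonempty
  obtain ⟨x, hx⟩ := h.Dx_ne hp
  obtain ⟨L1, F1⟩ := hr p hp
  obtain ⟨L2, F2⟩ := hr x hx.1
  obtain ⟨π, hπ⟩ := (F1 x hx).1.exists_um (F1 x hx).2
  obtain ⟨b, hb, hxb, k, hk, sb⟩ := L1.exists_std F1 hx hπ
  obtain ⟨j, hj, hpj, l, hl, sj⟩ := L2.exists_std F2 (Dx_symm hp hx) (Dx_comm E p x ▸ hπ)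
  have C : Cfg D (Dx E p) _ x b := ⟨L1, F1, hx, hb, hxb, hπ.sc hk, sb⟩
  obtain ⟨T, hT⟩ := C.exists_tab
  have : ∀ k l : F4, k ≠ 0 → l ≠ 0 → k = l ∨ k * om = l ∨ k * ob = l := by decide
  rcases this k l hk hl with rfl | e | e
  · exact (h.distinct hr hp hx (hπ.sc hk) hb hxb hj.1 hpj sb sj).elim
  · exact ⟨_, _, _, h.y23 hr hp C hj hpj (std_congr e sj) hT⟩
  · exact ⟨_, _, _, (h.y23' hr hp C hj hpj (std_congr e sj) hT).1⟩

theorem LP.f23_iso [Finite G] {D E : Set G} (h : LP D E) (hr : F23 D E) :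
    Nonempty (Subgroup.closure E ⧸ Subgroup.center (Subgroup.closure E) ≃* Cfsg.Spor.Fi23) :=
  let ⟨_, _, _, hy⟩ := h.exists_y23 hr; hy.iso h (h.hl23 hr)

end H0
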