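import Mathlib
import Cfsg.Agent.H0.F23b
import Cfsg.Agent.H29.Fi23Z
import Cfsg.Agent.H29.Tau
import Cfsg.Agent.H9.TT

/-! Facts read off the action of `Fi₂₃` on its 31671 transpositions. -/

set_option autoImplicit false
set_option maxRecDepth 100000

namespace H0

open H29 H29.Fi23

noncomputable def t23 : P.G := ev P.e rG

theorem ext10 : extE P.e 10 Fi23Z.defs 10 = t23 := by
  have := (isExt_extE P.e (chkExt_wf Fi23Z.hext)).even 0
  rw [show 10 + 2 * 0 = 10 from rfl, show nth [] Fi23Z.defs 0 = rG by decide +kernel] at this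
  rw [this, t23]
  exact ev_congr fun c hc => extE_lt _ _ _ (by revert c; decide +kernel)

theorem cent23 : Subgroup.centralizer {t23} = gen P.e Fi23T.hcols := by
  have := simple
  have h0 : gen (extE P.e 10 Fi23Z.defs) Fi23T.hcols = gen P.e Fi23T.hcols := gen_extE _ _ (by decide)
  have hR := rels_of_faithful card.2 (Fi23Z.map hρ) Fi23Z.hz
  rw [← h0, ← ext10]
  refine H9.centralizer_eq_of_prim Fi23Z.hn Fi23Z.prim (h0 ▸ cm) (Fi23Z.map hρ) (by norm_num) ?_
    fun c hc => ?_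
  · rw [center_eq_bot_of_simple (by rw [card.1]; norm_num), ext10]
    exact Y23.rG_ne
  · have h1 := hR [c, 10, c, 10] (memLL_true (by revert c; decide +kernel))
    have h2 := hR [10, 10] (memLL_true (by decide +kernel))
    have h3 : extE P.e 10 Fi23Z.defs c * extE P.e 10 Fi23Z.defs c = 1 := by
      rw [extE_lt _ _ _ (by clear h1; revert c; decide)]; exact sq_of_iv hiv0 c
    simp only [ev_cons, ev_nil, mul_one] at h1 h2
    rw [← mul_assoc, mul_eq_one_iff_eq_inv, mul_inv_rev, inv_eq_of_sq h2, inv_eq_of_sq h3] at h1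
    exact h1

theorem pt23 {g k : P.G} (h : ρ g 0 = ρ k 0) : cj g t23 = cj k t23 := by
  have : k⁻¹ * g ∈ Subgroup.centralizer {t23} := by
    rw [cent23, ← cm.mem, map_mul, Equiv.Perm.mul_apply, h, map_inv]; simp
  rw [← mul_inv_cancel_left k g, ← cj_cj,
    cj_of_commute (Subgroup.mem_centralizer_singleton_iff.1 this)]

noncomputable def wu : List ℕ := powW 6 [8, 2, 7, 3, 5, 2, 6, 5, 4, 6, 3, 9]
def w1 : List ℕ := [1, 2, 3, 4, 0, 1, 2, 3, 7, 8, 5, 3, 4, 2, 3, 7, 5, 6, 4, 5, 2, 3, 4, 1, 2, 3, 7,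
  8, 6, 5, 2, 3, 4, 1, 2, 3, 7, 0, 1, 2, 3, 4, 5, 6, 9]
def w2 : List ℕ := [1, 2, 3, 4, 5, 6, 9, 0, 1, 2, 3, 7, 8, 4, 2, 3, 7, 5, 6, 4, 5, 2, 3, 4, 1, 2, 3,
  7, 8, 5, 2, 3, 4, 1, 2, 3, 7, 0, 1, 2, 3, 4, 5, 6, 9]

theorem rel23 : ev P.e wu * (cj (ev P.e w1) t23 * cj (ev P.e w2) t23) = 1 := by
  have := rels_of_faithful card.2 (Fi23Z.map hρ) (rels_of_chk (k := 15) Fi23Z.hn (by decide) Fi23Z.hiv
    (ws := [wu ++ (cw w1 10 ++ cw w2 10)]) (allN_true.1 (by decide +kernel))) _ (List.mem_singleton_self _)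
  have e : ∀ w : List ℕ, (∀ c ∈ w, c < 10) → ev (extE P.e 10 Fi23Z.defs) w = ev P.e w :=
    fun w hw => ev_congr fun c hc => extE_lt _ _ _ (hw c hc)
  simp only [cw, ev_append, ev_cons, ext10] at this
  rw [e wu (by decide +kernel), e w1 (by decide), e w2 (by decide), e _ (by decide), e _ (by decide),
    ev_reverse hiv0, ev_reverse hiv0] at this
  simpa only [cj, mul_assoc] using this

theorem ne23 : cj (ev P.e w1) t23 ≠ cj (ev P.e w2) t23 := by
  intro h
  have : (ev P.e w2)⁻¹ * ev P.e w1 ∈ Subgroup.centralizer {t23} := by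
    rw [Subgroup.mem_centralizer_singleton_iff, ← commute_iff_eq, ← cj_eq_self, ← cj_cj, h, cj_inv_cj]
  rw [cent23, ← cm.mem, map_mul, Equiv.Perm.mul_apply, map_inv, map_ev_sg fun c _ => hρ c,
    map_ev_sg fun c _ => hρ c, pt_of_chk Fi23T.hn (w := w1) (q := 31444) (by decide +kernel),
    Equiv.Perm.inv_eq_iff_eq, pt_of_chk Fi23T.hn (w := w2) (q := 31585) (by decide +kernel)] at this
  exact absurd this (by decide)

/-- the points moved by a network -/
noncomputable def movM (n : Net) : ℕ :=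
  (List.range 15).foldr (fun j a => Nat.lor a (Nat.xor (n.pull (idK 31671 15 j)) (idK 31671 15 j))) 0

theorem fix_of_movM {n : Net} (hn : n.valid 31671 = true) {i : ℕ} (hi : i < 31671)
    (h : (movM n).testBit i = false) : n.perm i = i := by
  have k : ∀ l : List ℕ, (l.foldr (fun j a => Nat.lor a (Nat.xor (n.pull (idK 31671 15 j))
      (idK 31671 15 j))) 0).testBit i = false → ∀ j ∈ l,
      (idK 31671 15 j).testBit (n.perm i) = (idK 31671 15 j).testBit i := by
    intro l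
    induction l with
    | nil => simp
    | cons a l ih =>
      intro h1
      rw [List.foldr_cons, lor_eq, Nat.testBit_or, Bool.or_eq_false_iff, xor_eq, Nat.testBit_xor,
        Net.testBit_pull hn] at h1
      exact List.forall_mem_cons.2 ⟨by simpa using h1.2, ih h1.1⟩
  have h2 : n.perm i < 31671 := lt_of_fix (fun _ => Net.perm_fix hn) hi
  refine Nat.eq_of_testBit_eq fun j => ?_
  by_cases hj : j < 15
  · have := k _ h j (List.mem_range.2 hj)
    rw [testBit_idK (by decide), testBit_idK (by decide)] at this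
    simpa [hi, h2] using this
  · have : 2 ^ 15 ≤ 2 ^ j := Nat.pow_le_pow_right (by decide) (by omega)
    rw [Nat.testBit_lt_two_pow (by omega), Nat.testBit_lt_two_pow (by omega)]

theorem nu23 (g : P.G) : ∃ k ∈ gen P.e [1, 2, 3, 4, 5, 6, 7, 8, 9],
    Commute (cj k (P.e 1)) (cj g t23) ∨ cj g t23 = cj k (cj (ev P.e w1) t23) := by
  have hR : Reach (nth Net.nil Fi23T.nl) [1, 2, 3, 4, 5, 6, 7, 8, 9] (Nat.lor (bit 31444)
      (Nat.land (ones 31671) (Nat.xor (ones 31671) (movM (nth Net.nil Fi23T.nl 1))))) (ones 31671) :=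
    reach_of_chk (r := 12) Fi23T.hn (by decide +kernel)
  obtain ⟨k, hk, s, h1, h2⟩ := hR.exists_mem (e := P.e) (fun c _ => hρ c) (i := ρ g 0)
    (by rw [testBit_ones, decide_eq_true_eq]; exact cm.lt _ 0 cm.pos)
  refine ⟨k, hk, ?_⟩
  have h3 : ρ (k⁻¹ * g) 0 = s := by rw [map_mul, Equiv.Perm.mul_apply, ← h2, map_inv]; simp
  rw [lor_eq, Nat.testBit_or, Bool.or_eq_true, testBit_bit, land_eq, Nat.testBit_and, xor_eq,
    Nat.testBit_xor, testBit_ones] at h1
  rw [← mul_inv_cancel_left k g, ← cj_cj, commute_cj, cj_inj]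
  refine h1.symm.imp (fun h4 => ?_) fun h4 => pt23 ?_
  · simp only [Bool.and_eq_true, decide_eq_true_eq] at h4
    have h5 : ρ (P.e 1) s = s := by
      rw [hρ]
      exact fix_of_movM (Fi23T.hn 1) h4.1 (by simpa [h4.1] using h4.2)
    rw [← cj_eq_self, cj_cj]
    exact pt23 (by rw [map_mul, Equiv.Perm.mul_apply, h3, h5])
  · rw [h3, map_ev_sg fun c _ => hρ c, pt_of_chk Fi23T.hn (w := w1) (q := 31444) (by decide +kernel)]
    exact (of_decide_eq_true h4).symm

end H0
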