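import Mathlib
import Cfsg.Agent.H0.F22a

/-! Gluing local sign characters. -/

set_option autoImplicit false
set_option linter.unusedSectionVars false

namespace H0

variable {G : Type*} [Group G]

/-- the even part of the group generated by `S` -/
def Ev (S : Set G) : Subgroup G := Subgroup.closure {g | ∃ a ∈ S, ∃ b ∈ S, g = a * b}

/-- the points commuting with `y` -/
def St (D : Set G) (y : G) : Set G := {d | d ∈ D ∧ Commute y d}

theorem mul_mem_Ev {S : Set G} {a b : G} (ha : a ∈ S) (hb : b ∈ S) : a * b ∈ Ev S :=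
  Subgroup.subset_closure ⟨a, ha, b, hb, rfl⟩

theorem Ev_le {S : Set G} {K : Subgroup G} (h : ∀ a ∈ S, ∀ b ∈ S, a * b ∈ K) : Ev S ≤ K :=
  (Subgroup.closure_le _).2 (by rintro _ ⟨a, ha, b, hb, rfl⟩; exact h a ha b hb)

theorem Ev_mono {S T : Set G} (h : S ⊆ T) : Ev S ≤ Ev T :=
  Ev_le fun _ ha _ hb => mul_mem_Ev (h ha) (h hb)

theorem cj_mem_Ev {S T : Set G} {g k : G} (h : ∀ a ∈ S, cj g a ∈ T) (hk : k ∈ Ev S) :
    cj g k ∈ Ev T :=
  Ev_le (K := (Ev T).comap (MulAut.conj g).toMonoidHom) (fun a ha b hb => by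
    change cj g (a * b) ∈ Ev T
    rw [cj_mul]; exact mul_mem_Ev (h a ha) (h b hb)) hk

theorem Ev_dich {S : Set G} {c g : G} (hc : c ∈ S) (h2 : c * c = 1)
    (hg : g ∈ Subgroup.closure S) : g ∈ Ev S ∨ g * c ∈ Ev S := by
  have k : ∀ x ∈ Ev S, c * x * c ∈ Ev S := fun x hx => by
    have := Ev_le (K := (Ev S).comap (MulAut.conj c).toMonoidHom) (fun a ha b hb => by
      change c * (a * b) * c⁻¹ ∈ Ev S
      rw [inv_eq_of_sq h2, ← mul_assoc, mul_assoc]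
      exact mul_mem (mul_mem_Ev hc ha) (mul_mem_Ev hb hc)) hx
    change c * x * c⁻¹ ∈ Ev S at this
    rwa [inv_eq_of_sq h2] at this
  have c1 : ∀ x, c * (c * x) = x := fun x => by rw [← mul_assoc, h2, one_mul]
  induction hg using Subgroup.closure_induction with
  | mem a ha => exact Or.inr (mul_mem_Ev ha hc)
  | one => exact Or.inl (one_mem _)
  | mul a b _ _ ha hb =>
    rcases ha with ha | ha <;> rcases hb with hb | hb
    · exact Or.inl (mul_mem ha hb)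
    · exact Or.inr (mul_assoc a b c ▸ mul_mem ha hb)
    · exact Or.inr (by simpa only [mul_assoc, c1] using mul_mem ha (k b hb))
    · exact Or.inl (by simpa only [mul_assoc, c1, h2, mul_one] using mul_mem ha (k _ hb))
  | inv a _ ha =>
    refine ha.imp inv_mem fun ha => ?_
    simpa only [mul_inv_rev, inv_eq_of_sq h2, mul_assoc, c1] using k _ (inv_mem ha)

theorem comm_of_Ev {D : Set G} {y k : G} (hk : k ∈ Ev (St D y)) : Commute k y :=
  Subgroup.mem_centralizer_singleton_iff.1 (Ev_le (fun _ ha _ hb =>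
    Subgroup.mem_centralizer_singleton_iff.2 (ha.2.mul_right hb.2).symm.eq) hk)

theorem TT.cj_Ev {D : Set G} (T : TT D) {y k : G} (g : G) (hk : k ∈ Ev (St D y)) :
    cj g k ∈ Ev (St D (cj g y)) :=
  cj_mem_Ev (fun _ ha => ⟨T.mem_cj.2 ha.1, commute_cj.2 ha.2⟩) hk

theorem LP.ev_trans [Finite G] {D E : Set G} (h : LP D E) {x y : G} (hx : x ∈ E) (hy : y ∈ E) :
    ∃ g ∈ Ev E, cj g x = y := by
  obtain ⟨g, hg, rfl⟩ := h.trans hx hy
  rcases Ev_dich hx (h.tt.sq x (h.le hx)) hg with h1 | h1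
  · exact ⟨g, h1, rfl⟩
  · exact ⟨_, h1, by rw [← cj_cj, cj_self]⟩

theorem LP.pair [Finite G] {D E : Set G} (h : LP D E) (hr : ∀ d ∈ E, LP D (Dx E d)) {a b : G}
    (ha : a ∈ E) (hb : b ∈ E) : ∃ w ∈ E, a ∈ Dx E w ∧ b ∈ Dx E w := by
  by_cases e : b = a
  · obtain ⟨w, hw⟩ := h.Dx_ne ha
    exact ⟨w, hw.1, Dx_symm ha hw, e ▸ Dx_symm ha hw⟩
  by_cases hc : Commute a b
  · obtain ⟨w, hw⟩ := (hr a ha).Dx_ne (d := b) ⟨hb, e, hc⟩
    exact ⟨w, hw.1.1, Dx_symm ha hw.1, Dx_symm hb ⟨hw.1.1, hw.2⟩⟩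
  · obtain ⟨w, hw⟩ := h.mu_pos ha hb hc
    exact ⟨w, hw.1.1, Dx_symm ha hw.1, Dx_symm hb hw.2⟩

/-- local data for the gluing -/
structure Flat (D : Set G) : Prop where
  lp : LP D D
  r1 : ∀ d ∈ D, LP D (Dx D d)
  r2 : ∀ d ∈ D, ∀ e ∈ Dx D d, LP D (Dx (Dx D d) e)
  cen : ∀ w ∈ D, ∀ y ∈ Dx D w, ∀ g ∈ Ev (St D w), Commute g y → g ∈ Ev (St D y)
  nu : ∀ q ∈ D, ∀ k ∈ D, ¬ Commute q k → ∀ y ∈ Dx D q, ∃ w ∈ Dx D q, Commute w k ∧ Commute w y

/-- locally even elements that move `y` to `z` -/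
def Par (D : Set G) (y z g : G) : Prop :=
  ∃ w ∈ D, Commute w y ∧ Commute w z ∧ ∃ k ∈ Ev (St D w), cj k y = z ∧ k⁻¹ * g ∈ Ev (St D y)

theorem Dx_St (D : Set G) (w : G) : Dx D w ⊆ St D w := fun _ h => ⟨h.1, h.2.2⟩

namespace Flat

variable [Finite G] {D : Set G} (F : Flat D)
include F

theorem cen' {w y g : G} (hw : w ∈ D) (hy : y ∈ D) (hc : Commute w y) (hg : g ∈ Ev (St D w))
    (h : cj g y = y) : g ∈ Ev (St D y) := by
  by_cases e : y = w
  · rwa [e]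
  · exact F.cen w hw y ⟨hy, e, hc⟩ g hg (cj_eq_self.1 h)

theorem same {w y k l : G} (hw : w ∈ D) (hy : y ∈ D) (hc : Commute w y) (hk : k ∈ Ev (St D w))
    (hl : l ∈ Ev (St D w)) (e : cj k y = cj l y) : k⁻¹ * l ∈ Ev (St D y) :=
  F.cen' hw hy hc (mul_mem (inv_mem hk) hl) (by rw [← cj_cj, ← e, cj_inv_cj])

theorem uniq {y z v w k l : G} (hy : y ∈ D) (hv : v ∈ D) (hw : w ∈ D) (v1 : Commute v y)
    (v2 : Commute v z) (w1 : Commute w y) (w2 : Commute w z) (hk : k ∈ Ev (St D v))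
    (hl : l ∈ Ev (St D w)) (ek : cj k y = z) (el : cj l y = z) : k⁻¹ * l ∈ Ev (St D y) := by
  have T := F.lp.tt
  have hz : z ∈ D := ek ▸ T.mem_cj.2 hy
  by_cases e : z = y
  · subst e
    exact mul_mem (inv_mem (F.cen' hv hy v1 hk ek)) (F.cen' hw hy w1 hl el)
  by_cases hc : Commute y z
  · have mem : ∀ u ∈ D, Commute u y → Commute u z → ∀ m ∈ Ev (St D u), cj m y = z →
        u ∈ Dx (Dx D y) z := fun u hu u1 u2 m hm em => by
      refine ⟨⟨hu, ?_, u1.symm⟩, ?_, u2.symm⟩ <;> rintro rfl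
      · exact e (by rw [← em, cj_of_commute (comm_of_Ev hm)])
      · exact e (cj_injective m (by rw [em, cj_of_commute (comm_of_Ev hm)]))
    refine (F.r2 y hy z ⟨hz, e, hc⟩).comm_closed
      (U := {u | ∀ m ∈ Ev (St D u), cj m y = z → k⁻¹ * m ∈ Ev (St D y)})
      (fun u hu hu' u' hu'' c m hm em => ?_) (fun m hm em => F.same hv hy v1 hk hm (ek.trans em.symm))
      (mem v hv v1 v2 k hk ek) (mem w hw w1 w2 l hl el) l hl el
    by_cases e' : u' = u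
    · exact hu m (e' ▸ hm) em
    obtain ⟨g, hg, eg⟩ := (F.r2 u hu'.1.1 u' ⟨hu''.1.1, e', c⟩).ev_trans
      (x := y) (y := z) ⟨Dx_symm hy hu'.1, (Dx_symm hy hu''.1).2⟩
      ⟨⟨hz, hu'.2.1.symm, hu'.2.2.symm⟩, hu''.2.1.symm, hu''.2.2.symm⟩
    have h1 := hu g (Ev_mono (fun a ha => Dx_St D u ha.1) hg) eg
    have h2 := F.same hu''.1.1 hy hu''.1.2.2.symm (Ev_mono (fun a ha => (⟨ha.1.1, ha.2.2⟩ : a ∈ St D u')) hg) hm
      (eg.trans em.symm)
    simpa only [mul_assoc, mul_inv_cancel_left] using mul_mem h1 h2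
  · have key : ∀ u ∈ D, Commute u y → Commute u z → ∀ m ∈ Ev (St D u), cj m y = z →
        m⁻¹ * (cj y z * u) ∈ Ev (St D y) := fun u hu u1 u2 m hm em =>
      F.same hu hy u1 hm (mul_mem_Ev ⟨T.mem_cj.2 hz, (commute_cj_right u1.symm).2 u2⟩
        ⟨hu, Commute.refl u⟩) (by
          have := cj_cj_conj y z y
          rw [cj_self, ← T.braid hy hz hc, T.cj_cj_same hy] at this
          rw [em, ← cj_cj, cj_of_commute u1, ← this])
    have := mul_mem (mul_mem (key v hv v1 v2 k hk ek) (inv_mem (mul_mem_Ev (S := St D y)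
      ⟨hw, w1.symm⟩ ⟨hv, v1.symm⟩))) (inv_mem (key w hw w1 w2 l hl el))
    simpa only [mul_inv_rev, mul_assoc, mul_inv_cancel_left, inv_inv, T.inv hw, ← mul_assoc w w,
      T.sq w hw, one_mul] using this

theorem par_eq {y z g w l : G} (hy : y ∈ D) (h : Par D y z g) (hw : w ∈ D) (w1 : Commute w y)
    (w2 : Commute w z) (hl : l ∈ Ev (St D w)) (el : cj l y = z) : l⁻¹ * g ∈ Ev (St D y) := by
  obtain ⟨v, hv, v1, v2, k, hk, ek, h⟩ := h
  simpa only [mul_assoc, mul_inv_cancel_left] using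
    mul_mem (F.uniq hy hw hv w1 w2 v1 v2 hl hk el ek) h

omit F in
theorem par_mul {y z g e : G} (h : Par D y z g) (he : e ∈ Ev (St D y)) : Par D y z (g * e) :=
  let ⟨v, hv, v1, v2, k, hk, ek, h⟩ := h
  ⟨v, hv, v1, v2, k, hk, ek, mul_assoc k⁻¹ g e ▸ mul_mem h he⟩

theorem par_uniq {y z g g' : G} (hy : y ∈ D) (h : Par D y z g) (h' : Par D y z g') :
    g⁻¹ * g' ∈ Ev (St D y) := by
  obtain ⟨v, hv, v1, v2, k, hk, ek, h⟩ := h
  simpa only [mul_inv_rev, inv_inv, mul_assoc, mul_inv_cancel_left] using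
    mul_mem (inv_mem h) (F.par_eq hy h' hv v1 v2 hk ek)

theorem par_cj {y z g : G} (h : Par D y z g) (s : G) : Par D (cj s y) (cj s z) (cj s g) := by
  obtain ⟨v, hv, v1, v2, k, hk, ek, h⟩ := h
  refine ⟨_, F.lp.tt.conj v hv s, commute_cj.2 v1, commute_cj.2 v2, _, F.lp.tt.cj_Ev s hk,
    by rw [← cj_cj_conj, ek], ?_⟩
  convert F.lp.tt.cj_Ev s h using 1
  simp only [cj]; group

theorem par_ex {y z w : G} (hw : w ∈ D) (hy : y ∈ Dx D w) (hz : z ∈ Dx D w) :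
    ∃ k ∈ Ev (St D w), cj k y = z := by
  obtain ⟨k, hk, e⟩ := (F.r1 w hw).ev_trans hy hz
  exact ⟨k, Ev_mono (Dx_St D w) hk, e⟩

theorem tri {x y z : G} (hx : x ∈ D) (hy : y ∈ D) (hz : z ∈ D) (hc : Commute y z) :
    ∃ w ∈ D, x ∈ Dx D w ∧ y ∈ Dx D w ∧ z ∈ Dx D w := by
  have k : ∀ y ∈ D, ∀ z ∈ Dx D y, Commute y x → ∃ w ∈ D, x ∈ Dx D w ∧ y ∈ Dx D w ∧ z ∈ Dx D w := by
    intro y hy z hz h1
    by_cases e : x = y
    · obtain ⟨w, hw, h2, h3⟩ := F.lp.pair F.r1 hy hz.1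
      exact ⟨w, hw, e ▸ h2, h2, h3⟩
    · obtain ⟨w, hw, h2, h3⟩ := (F.r1 y hy).pair (F.r2 y hy) (a := x) ⟨hx, e, h1⟩ hz
      exact ⟨w, hw.1, ⟨hx, h2.2⟩, Dx_symm hy hw, ⟨hz.1, h3.2⟩⟩
  by_cases e : z = y
  · obtain ⟨w, hw, h2, h3⟩ := F.lp.pair F.r1 hx hy
    exact ⟨w, hw, h2, h3, e ▸ h3⟩
  by_cases h1 : Commute y x
  · exact k y hy z ⟨hz, e, hc⟩ h1
  by_cases h2 : Commute z x
  · obtain ⟨w, hw, a, b, c⟩ := k z hz y ⟨hy, Ne.symm e, hc.symm⟩ h2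
    exact ⟨w, hw, a, c, b⟩
  obtain ⟨w, hw, a, b⟩ := F.nu y hy x hx h1 z ⟨hz, e, hc⟩
  exact ⟨w, hw.1, ⟨hx, fun e => h1 (e ▸ hw.2.2), a⟩, Dx_symm hy hw, hz, fun e => h2 (e ▸ a), b⟩

theorem cocycle {x y z a b : G} (hx : x ∈ D) (hy : y ∈ D) (hz : z ∈ D) (hc : Commute y z)
    (ha : Par D x y a) (hb : Par D y z b) : Par D x z (b * a) := by
  obtain ⟨w, hw, h1, h2, h3⟩ := F.tri hx hy hz hc
  obtain ⟨k, hk, ek⟩ := F.par_ex hw h1 h2
  obtain ⟨l, hl, el⟩ := F.par_ex hw h2 h3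
  refine ⟨w, hw, h1.2.2, h3.2.2, l * k, mul_mem hl hk, by rw [← cj_cj, ek, el], ?_⟩
  have a1 := F.par_eq hx ha hw h1.2.2 h2.2.2 hk ek
  have a2 := F.lp.tt.cj_Ev k⁻¹ (F.par_eq hy hb hw h2.2.2 h3.2.2 hl el)
  rw [← ek, cj_inv_cj] at a2
  convert mul_mem a2 a1 using 1
  simp only [cj]; group

theorem step {x s : G} (hx : x ∈ D) (hs : s ∈ D) {y g : G} (hy : y ∈ D) (h : Par D x y g) :
    Par D x (cj s y) (s * g * x) := by
  have T := F.lp.tt
  obtain ⟨w, hw, w1, w2⟩ := F.lp.pair F.r1 hx hs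
  have ex : ∀ y ∈ D, ∀ z ∈ D, ∃ g, Par D y z g := fun y hy z hz => by
    obtain ⟨u, hu, u1, u2⟩ := F.lp.pair F.r1 hy hz
    obtain ⟨k, hk, ek⟩ := F.par_ex hu u1 u2
    exact ⟨k, u, hu, u1.2.2, u2.2.2, k, hk, ek, by simp⟩
  obtain ⟨g', h1, h2⟩ := F.lp.comm_closed (U := {y | ∃ g, Par D x y g ∧ Par D x (cj s y) (s * g * x)})
    (fun y ⟨g, h1, h2⟩ hy z hz c => by
      obtain ⟨b, hb⟩ := ex y hy z hz
      refine ⟨_, F.cocycle hx hy hz c h1 hb, ?_⟩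
      convert F.cocycle hx (T.conj y hy s) (T.conj z hz s) (commute_cj.2 c) h2 (F.par_cj hb s) using 1
      simp only [cj]; group) (u := w) (by
      obtain ⟨v, hv, v1, v2, k, hk, ek, h⟩ := (ex x hx w hw).choose_spec
      have hp : Par D x w k := ⟨v, hv, v1, v2, k, hk, ek, by simp⟩
      refine ⟨k, hp, ?_⟩
      have := T.cj_Ev k⁻¹ (mul_mem_Ev (S := St D w) (Dx_St D w w2) ⟨hw, Commute.refl w⟩)
      rw [cj_of_commute w2.2.2.symm]
      rw [show cj k⁻¹ w = x by rw [← ek, cj_inv_cj]] at this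
      convert par_mul hp this using 1
      rw [← ek]; simp only [cj]; group) hw hy
  have := T.cj_Ev x (F.par_uniq hx h1 h)
  rw [cj_self] at this
  convert par_mul h2 this using 1
  rw [cj, T.inv hx]
  calc s * g * x = s * g' * (x * x) * (g'⁻¹ * g) * x := by rw [T.sq x hx]; group
    _ = _ := by group

theorem main {x g : G} (hx : x ∈ D) (hg : g ∈ Ev D) (hc : Commute g x) : g ∈ Ev (St D x) := by
  have T := F.lp.tt
  have k : ∀ a ∈ D, ∀ b ∈ D, ∀ y ∈ D, ∀ k, Par D x y k → Par D x (cj (a * b) y) (a * b * k) := by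
    intro a ha b hb y hy k h
    have := F.step hx ha (T.conj y hy b) (F.step hx hb hy h)
    rwa [cj_cj, mul_assoc, mul_assoc, T.sq x hx, mul_one, ← mul_assoc] at this
  have key : ∀ y ∈ D, ∀ k, Par D x y k → Par D x (cj g y) (g * k) := by
    clear hc
    induction hg using Subgroup.closure_induction'' with
    | mem _ h => obtain ⟨a, ha, b, hb, rfl⟩ := h; exact k a ha b hb
    | inv_mem _ h =>
      obtain ⟨a, ha, b, hb, rfl⟩ := h
      rw [mul_inv_rev, T.inv ha, T.inv hb]; exact k b hb a ha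
    | one => simp
    | mul a b _ _ h1 h2 =>
      intro y hy k h
      rw [← cj_cj, mul_assoc]
      exact h1 _ (T.conj y hy b) _ (h2 y hy k h)
  have h0 : Par D x x 1 := ⟨x, hx, Commute.refl x, Commute.refl x, 1, one_mem _, cj_one x, by simp⟩
  have := key x hx 1 h0
  rw [cj_of_commute hc] at this
  simpa using F.par_uniq hx h0 this

end Flat

end H0
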