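import Mathlib
import Cfsg.Agent.H0.F24a
import Cfsg.Agent.H0.Flat

/-! A group that is locally of type `Fi₂₃` is not simple. -/

set_option autoImplicit false
set_option linter.unusedSectionVars false
set_option maxRecDepth 100000

namespace H0

open H29 H29.Fi23

variable {G : Type*} [Group G]

/-- `Y₅₄₂` generators -/
structure Y24 (D : Set G) (q p : G) (y : ℕ → G) (j k : G) : Prop where
  hq : q ∈ D
  y23 : Y23 (Dx D q) p y j
  hk : k ∈ D
  adj : ¬ Commute q k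
  comm : ∀ c ∈ [1, 2, 3, 4, 5, 6, 7, 8, 9], Commute k (ext9 y j c)
  zeta : ∀ z ∈ Dx D p, Commute (q * ev y [5, 4, 3, 2, 1, 0, 7] ^ 9) z

theorem LP.y24 [Finite G] {D : Set G} (hr : F24 D D) {q p x b j k : G} (hq : q ∈ D)
    (hp : p ∈ Dx D q) {π : V6 → G} (C : Cfg D (Dx (Dx D q) p) π x b) (hj : j ∈ Dx (Dx D q) x)
    (hpj : ¬ Commute p j) (sj : Std (fun v => π (sc om v)) j) (hk : k ∈ Dx (Dx D p) x)
    (hqk : ¬ Commute q k) (sk : Std (fun v => π (sc ob v)) k) : ∃ y, Y24 D q p y j k := by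
  obtain ⟨T, hT⟩ := C.exists_tab
  have hx := C.hx
  have hq' := Dx_symm hq hp
  have Y := (hr q hq).1.y23 (hr q hq).2 hp C hj hpj sj hT
  obtain ⟨Y', k1⟩ := (hr p hp.1).1.y23' (hr p hp.1).2 hq' (Dx_comm D q p ▸ C) hk hqk sk hT
  have hqx := Dx_symm hq hx.1
  obtain ⟨L, F⟩ := hr x hx.1.1
  have C' : Cfg D (Dx (Dx D x) q) (fun v => π (sc om v)) p j := by
    refine ⟨(F q hqx).1, (F q hqx).2, ⟨Dx_symm hp.1 ⟨hx.1.1, hx.2⟩, hp.2⟩, Dx_comm D q x ▸ hj, hpj,
      ?_, sj⟩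
    rw [Dx_comm D x q, Dx_comm _ x p]
    exact C.um.sc (by decide)
  have k2 : Commute k j := L.jb F hqx C' (Dx_comm D p x ▸ hk) hqk (Or.inl rfl)
    (std_congr (by decide) sk) 9 (by decide)
  refine ⟨_, hq, Y, hk.1.1, hqk, ?_, ?_⟩
  · simp only [List.forall_mem_cons] at k1 ⊢
    obtain ⟨h1, h2, h3, h4, h5, h6, h7, h8, -⟩ := k1
    exact ⟨h1, h2, h3, h4, h5, h6, h7, h8, k2, by simp⟩
  · have := Y'.zeta (hr p hp.1).1 ((hr p hp.1).1.hl23 (hr p hp.1).2)
    rwa [rG, ev_powW, show ev (Yf T iy2) [1, 2, 3, 4, 5, 6, 7] = ev (Yf T iy1) [5, 4, 3, 2, 1, 0, 7] by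
      simp only [ev_cons, ev_nil]; rfl] at this

theorem LP.exists_y24 [Finite G] {D : Set G} (h : LP D D) (hr : F24 D D) :
    ∃ q p y j k, Y24 D q p y j k := by
  obtain ⟨q, hq⟩ := h.nonempty
  obtain ⟨p, hp⟩ := (hr q hq).1.nonempty
  obtain ⟨x, hx⟩ := ((hr q hq).2 p hp).1.nonempty
  have hq' := Dx_symm hq hp
  have hx' : x ∈ Dx (Dx D p) q := Dx_comm D q p ▸ hx
  obtain ⟨L1, F1⟩ := (hr q hq).2 p hp
  obtain ⟨L2, F2⟩ := (hr q hq).2 x hx.1
  obtain ⟨L3, F3⟩ := (hr p hp.1).2 x hx'.1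
  obtain ⟨π, hπ⟩ := (F1 x hx).1.exists_um (F1 x hx).2
  have hπ' : UM (Dx (Dx (Dx D p) q) x) π := Dx_comm D q p ▸ hπ
  obtain ⟨b, hb, hxb, a, ha, sb⟩ := L1.exists_std F1 hx hπ
  obtain ⟨j, hj, hpj, l, hl, sj⟩ := L2.exists_std F2 (Dx_symm hp hx) (Dx_comm _ p x ▸ hπ)
  obtain ⟨k, hk, hqk, m, hm, sk⟩ := L3.exists_std F3 (Dx_symm hq' hx') (Dx_comm _ q x ▸ hπ')
  have C : Cfg D (Dx (Dx D q) p) _ x b := ⟨L1, F1, hx, hb, hxb, hπ.sc ha, sb⟩
  have : ∀ a l m : F4, a ≠ 0 → l ≠ 0 → m ≠ 0 → a = l ∨ a = m ∨ l = m ∨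
    (a * om = l ∧ a * ob = m) ∨ (a * om = m ∧ a * ob = l) := by decide
  rcases this a l m ha hl hm with rfl | rfl | rfl | e | e
  · exact ((hr q hq).1.distinct (hr q hq).2 hp hx (hπ.sc ha) hb hxb hj.1 hpj sb sj).elim
  · exact ((hr p hp.1).1.distinct (hr p hp.1).2 hq' hx' (hπ'.sc ha) (Dx_comm D q p ▸ hb) hxb hk.1 hqk
      sb sk).elim
  · refine ((hr x hx.1.1).1.distinct (hr x hx.1.1).2 (Dx_symm hq hx.1) (x := p)
      ⟨Dx_symm hp.1 hx'.1, hp.2⟩ (π := fun v => π (sc l v)) ?_ (Dx_comm D q x ▸ hj) hpj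
      (Dx_comm D p x ▸ hk : k ∈ Dx (Dx D x) p).1 hqk sj sk).elim
    rw [Dx_comm D x q, Dx_comm _ x p]
    exact hπ.sc hl
  · obtain ⟨y, hy⟩ := LP.y24 hr hq hp C hj hpj (std_congr e.1 sj) hk hqk (std_congr e.2 sk)
    exact ⟨_, _, _, _, _, hy⟩
  · rw [Dx_comm D q p] at C
    obtain ⟨y, hy⟩ := LP.y24 hr hp.1 hq' C hk hqk (std_congr e.1 sk) hj hpj
      (std_congr e.2 sj)
    exact ⟨_, _, _, _, _, hy⟩

/-- `J` extended by the involution `q`, inside the centraliser of `q` -/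
def subq (J : Subgroup G) {q : G} (hq : q * q = 1) : Subgroup G where
  carrier := {g | Commute g q ∧ (g ∈ J ∨ g * q ∈ J)}
  one_mem' := ⟨Commute.one_left q, Or.inl (one_mem J)⟩
  mul_mem' := by
    rintro a b ⟨h1, h2⟩ ⟨h3, h4⟩
    refine ⟨h1.mul_left h3, ?_⟩
    rcases h2 with h2 | h2 <;> rcases h4 with h4 | h4
    · exact Or.inl (mul_mem h2 h4)
    · exact Or.inr (mul_assoc a b q ▸ mul_mem h2 h4)
    · exact Or.inr (by rw [mul_assoc, h3.eq, ← mul_assoc]; exact mul_mem h2 h4)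
    · left
      have := mul_mem h2 h4
      rwa [mul_assoc, h3.eq, ← mul_assoc q, hq, one_mul] at this
  inv_mem' := by
    rintro a ⟨h1, h2⟩
    refine ⟨h1.inv_left, h2.imp inv_mem fun h2 => ?_⟩
    have := inv_mem h2
    rwa [mul_inv_rev, inv_eq_of_sq hq, ← h1.inv_left.eq] at this

theorem subq_cj {J : Subgroup G} {q : G} {hq : q * q = 1} {g : G} (hg : g ∈ subq J hq) :
    ∃ k ∈ J, ∀ x, Commute q x → cj g x = cj k x :=
  hg.2.elim (fun h => ⟨g, h, fun _ _ => rfl⟩) fun h =>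
    ⟨_, h, fun x hx => by rw [← cj_cj, cj_of_commute hx]⟩

theorem ev_mul_cen {σ y : ℕ → G} {q : G} : ∀ {w : List ℕ}, (∀ c ∈ w, σ c = y c * q) →
    (∀ c ∈ w, Commute q (y c)) → ev σ w = ev y w * q ^ w.length
  | [], _, _ => by simp
  | c :: w, h1, h2 => by
    rw [ev_cons, ev_cons, h1 c (by simp), ev_mul_cen (fun c hc => h1 c (by simp [hc]))
      fun c hc => h2 c (by simp [hc]), List.length_cons, pow_succ', mul_assoc, mul_assoc,
      ← mul_assoc q, (commute_ev fun c hc => h2 c (by simp [hc])).eq, mul_assoc]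

theorem commute_mul_cen {a b q : G} (ha : Commute a q) (hb : Commute b q)
    (h : Commute (a * q) (b * q)) : Commute a b := by
  have h1 : Commute (a * q) b := by
    simpa using h.mul_right (ha.mul_left (Commute.refl q)).inv_right
  simpa using h1.mul_left hb.symm.inv_left

namespace Y24

variable [Finite G] {D : Set G} (h : LP D D) (hr : F24 D D)
  (hZ : ∀ g, (∀ z ∈ D, Commute g z) → g = 1) {q p j k : G} {y : ℕ → G} (Y : Y24 D q p y j k)
include h hr hZ Y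

theorem mem : ∀ c < 10, ext9 y j c ∈ Dx D q := Y.y23.mem (hr q Y.hq).1

theorem qq : q * q = 1 := h.tt.sq q Y.hq

theorem spider : ev (ext9 y j) rS = 1 := by
  have k1 : ∀ c ∈ rS, c < 10 ∧ c ∈ [1, 2, 3, 4, 5, 6, 7, 8, 9] := by decide +kernel
  exact hZ _ (h.cen_res Y.hq Y.hk Y.adj (Y.y23.cen (hr q Y.hq).1 rS (by simp))
    (commute_ev fun c hc => (Y.mem h hr hZ c (k1 c hc).1).2.2).symm
    (commute_ev fun c hc => Y.comm c (k1 c hc).2).symm)

theorem e7 : ev (ext9 y j) rA = q := by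
  have m : ∀ c ∈ [5, 4, 3, 2, 1, 0, 7], y c ∈ Dx (Dx D q) p := fun c hc =>
    Y.y23.y22.mem c (by revert c; decide)
  have h1 := hZ _ (h.cen_res Y.y23.hp.1 Y.y23.hj.1 Y.y23.adj Y.zeta
    (Y.y23.hp.2.2.mul_left ((commute_ev fun c hc => (m c hc).2.2).symm.pow_left 9))
    (Y.y23.hj.2.2.mul_left ((commute_ev fun c hc => Y.y23.comm c (by revert c; decide)).symm.pow_left 9)))
  have iv := Y.y23.y22.iv ((hr q Y.hq).2 p Y.y23.hp).1
  have h2 : ev y [7, 0, 1, 2, 3, 4, 5] ^ 9 = q := by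
    rw [show [7, 0, 1, 2, 3, 4, 5] = [5, 4, 3, 2, 1, 0, 7].reverse from rfl, ev_reverse iv, inv_pow]
    exact inv_eq_of_mul_eq_one_left h1
  rw [ev_ext9 (by decide +kernel), rA, ev_powW, ← cj_of_commute (m 7 (by decide)).1.2.2.symm, ← h2, cj,
    ← conj_pow, show [0, 1, 2, 3, 4, 5, 7] = [0, 1, 2, 3, 4, 5] ++ [7] from rfl, ev_append,
    ev_cons y 7 [0, 1, 2, 3, 4, 5], ← mul_assoc, sq_of_iv iv, one_mul, inv_of_iv iv, ev_cons y 7,
    ev_nil, mul_one]

theorem hom : ∃ ψ : P.G →* G, Function.Injective ψ ∧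
    ∀ w : List ℕ, (∀ c ∈ w, c < 10) → ψ (ev P.e w) = ev (ext9 y j) w * q ^ w.length := by
  have qq := Y.qq h hr hZ
  have m := Y.mem h hr hZ
  let σ : ℕ → G := fun c => if c < 10 then ext9 y j c * q else 1
  have hσ : ∀ w : List ℕ, (∀ c ∈ w, c < 10) → ev σ w = ev (ext9 y j) w * q ^ w.length :=
    fun w hw => ev_mul_cen (fun c hc => if_pos (hw c hc)) fun c hc => (m c (hw c hc)).2.2
  have ev2 : ∀ n, Even n → q ^ n = 1 := by
    rintro _ ⟨n, rfl⟩; rw [← two_mul, pow_mul, sq, qq, one_pow]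
  obtain ⟨ψ, hψ⟩ := PData.exists_hom coh hg (σ := σ) (fun c => by
    change σ c = _
    by_cases hc : c < 10
    · refine (inv_eq_of_sq ?_).symm
      simp only [σ, if_pos hc]
      rw [mul_assoc, ← mul_assoc q, (m c hc).2.2.eq, mul_assoc, qq, mul_one, h.tt.sq _ (m c hc).1]
    · simp only [σ, if_neg hc, inv_one]) (rels_sub (R := coxW 10 A342 ++ [rS, rA]) (rels_append
      (fun r hr' => by
        have : ∀ r ∈ coxW 10 A342, (∀ c ∈ r, c < 10) ∧ Even r.length := by decide +kernel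
        rw [hσ r (this r hr').1, ev2 _ (this r hr').2, mul_one]
        exact cox_ok (Y.y23.iv (hr q Y.hq).1) (Y.y23.dg (hr q Y.hq).1) r hr') (by
        simp only [List.forall_mem_cons]
        refine ⟨?_, ?_, by simp⟩
        · rw [hσ _ (by decide +kernel), Y.spider h hr hZ, ev2 _ (by decide +kernel), mul_one]
        · rw [hσ _ (by decide +kernel), Y.e7 h hr hZ, ← pow_succ', ev2 _ (by decide +kernel)]))
      (by decide +kernel))
  have h1 : ∀ w : List ℕ, (∀ c ∈ w, c < 10) → ψ (ev P.e w) = ev (ext9 y j) w * q ^ w.length :=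
    fun w hw => by rw [map_ev, ← hσ w hw]; exact ev_congr fun c hc => hψ c (hw c hc)
  refine ⟨ψ, ?_, h1⟩
  have := simple
  rw [← MonoidHom.ker_eq_bot_iff]
  refine (ψ.normal_ker.eq_bot_or_eq_top).resolve_right fun ht => (m 0 (by decide)).2.1 ?_
  have h2 : ψ (ev P.e [0]) = 1 := by rw [← MonoidHom.mem_ker, ht]; trivial
  rw [h1 _ (by decide)] at h2
  simp only [ev_cons, ev_nil, mul_one, List.length_singleton, pow_one] at h2
  rw [eq_inv_of_mul_eq_one_left h2, inv_eq_of_sq qq]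

theorem flat : Flat D ∧ q ∉ Ev (St D q) := by
  obtain ⟨ψ, hi, hψ⟩ := Y.hom h hr hZ
  have T := h.tt
  have qq := Y.qq h hr hZ
  have m := Y.mem h hr hZ
  obtain ⟨L, F⟩ := hr q Y.hq
  have hp := Y.y23.hp
  have h1 : ∀ c < 10, ψ (P.e c) = ext9 y j c * q := fun c hc => by
    simpa using hψ [c] (by simpa using hc)
  have hle : ∀ (l : List ℕ) (K : Subgroup G), (∀ c ∈ l, c < 10 ∧ ext9 y j c * q ∈ K) →
      ∀ g ∈ gen P.e l, ψ g ∈ K := fun l K hK g hg =>
    (gen_le (H := K.comap ψ)).2 (fun c hc => by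
      rw [Subgroup.mem_comap, h1 c (hK c hc).1]; exact (hK c hc).2) hg
  have cq : ∀ g, Commute (ψ g) q := fun g => Subgroup.mem_centralizer_singleton_iff.1
    (hle Fi23T.cols _ (fun c hc => by
      have : c < 10 := by revert c; decide
      exact ⟨this, Subgroup.mem_centralizer_singleton_iff.2
        ((m c this).2.2.symm.mul_left (Commute.refl q)).eq⟩) g (top ▸ Subgroup.mem_top g))
  have nq : q ∉ ψ.range := by
    rintro ⟨g, hg⟩
    have := simple
    have h2 : g ∈ Subgroup.center P.G := Subgroup.mem_center_iff.2 fun a => hi (by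
      rw [map_mul, map_mul, hg, (cq a).eq])
    rw [center_eq_bot_of_simple (by rw [card.1]; norm_num), Subgroup.mem_bot] at h2
    rw [h2, map_one] at hg
    exact Y.adj (hg ▸ Commute.one_left k)
  have kG : ∀ c ∈ rG, c < 9 := by decide +kernel
  have ht : ψ t23 = ev y rG * q := by
    rw [t23, hψ _ fun c hc => (kG c hc).trans (by decide), ev_ext9 kG,
      show rG.length = 2 * 31 + 1 by decide +kernel, pow_succ, pow_mul, sq, qq, one_pow, one_mul]
  have hζ := Y.y23.zeta L (L.hl23 F)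
  have ζq : Commute (p * ev y rG) q :=
    hp.2.2.symm.mul_left (commute_ev fun c hc => (Y.y23.y22.mem c (kG c hc)).1.2.2).symm
  have ht' : ψ t23 = p ∨ ψ t23 = p * q := by
    have hm : cj (p * ev y rG) k ∈ Ln D q k := by
      refine ⟨T.conj k Y.hk _, fun w hw e1 e2 => ?_⟩
      rwa [commute_cj_right (hζ w ⟨hw, fun e => Y.adj (e ▸ e2), e1.symm⟩)]
    have pp := T.sq p hp.1
    rcases h.hl_of_res (fun d hd => ⟨(hr d hd).1, (hr d hd).1.hl23 (hr d hd).2⟩) q Y.hq k Y.hk Y.adj _ hm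
      with e | e | e
    · rw [← cj_of_commute ζq, cj_inj] at e
      exact absurd (e ▸ Commute.refl k) Y.adj
    · right
      have := hZ _ (h.cen_res Y.hq Y.hk Y.adj hζ ζq (cj_eq_self.1 e))
      rw [ht, eq_inv_of_mul_eq_one_right this, inv_eq_of_sq pp]
    · left
      have := hZ (q * (p * ev y rG)) (h.cen_res Y.hq Y.hk Y.adj
        (fun x hx => hx.2.2.mul_left (hζ x hx)) ((Commute.refl q).mul_left ζq)
        (by rw [← cj_eq_self, ← cj_cj, e, T.cj_cj_same Y.hq]))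
      rw [← ζq.eq, mul_assoc, ← ht] at this
      rw [eq_inv_of_mul_eq_one_right this, inv_eq_of_sq pp]
  have hK : Dx D q ⊆ subq ψ.range qq := by
    have k1 : ∀ c < 10, ext9 y j c ∈ subq ψ.range qq := fun c hc =>
      ⟨(m c hc).2.2.symm, Or.inr ⟨_, h1 c hc⟩⟩
    refine L.gen_res hp Y.y23.hj Y.y23.adj (Y.y23.y22.gen _ fun c hc => ?_)
      ⟨hp.2.2.symm, ht'.imp (fun e => ⟨_, e⟩) fun e => ⟨_, e⟩⟩ (k1 9 (by decide))
    have := k1 c (by omega)
    rwa [ext9, if_neg hc.ne] at this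
  have htr : ∀ a ∈ Dx D q, ∀ b ∈ Dx D q, ∃ g, cj (ψ g) a = b := fun a ha b hb => by
    obtain ⟨g, hg, e⟩ := L.trans ha hb
    obtain ⟨_, ⟨g, rfl⟩, e'⟩ := subq_cj ((Subgroup.closure_le _).2 hK hg)
    exact ⟨g, by rw [← e' a ha.2.2, e]⟩
  have nJ : ∀ a ∈ Dx D q, a ∉ ψ.range := by
    rintro _ ha ⟨a, rfl⟩
    obtain ⟨g, e⟩ := htr _ ha _ (m 0 (by decide))
    have h2 : ext9 y j 0 ∈ ψ.range := ⟨cj g a, by rw [map_cj, e]⟩
    exact nq ((mul_mem_cancel_left h2).1 ⟨_, h1 0 (by decide)⟩)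
  replace ht := ht'.resolve_left fun e => nJ p hp ⟨_, e⟩
  have hJ : Ev (St D q) ≤ ψ.range := by
    have k1 : ∀ a ∈ St D q, a * q ∈ ψ.range := fun a ha => by
      by_cases e : a = q
      · rw [e, qq]; exact one_mem _
      · exact (hK ⟨ha.1, e, ha.2⟩).2.resolve_left (nJ a ⟨ha.1, e, ha.2⟩)
    refine Ev_le fun a ha b hb => ?_
    have := mul_mem (k1 a ha) (k1 b hb)
    rwa [mul_assoc, ← hb.2.eq, ← mul_assoc q, qq, one_mul] at this
  have hcj : ∀ g, ψ (cj g t23) = cj (ψ g) p * q := fun g => by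
    rw [map_cj, ht, cj_mul, cj_of_commute (cq g)]
  have hDq : ∀ g, ∀ a ∈ Dx D q, cj (ψ g) a ∈ Dx D q := fun g a ha => by
    rw [← cj_of_commute (cq g)]; exact T.mem_Dx_cj.2 ha
  have cen : ∀ g ∈ Ev (St D q), Commute g p → g ∈ Ev (St D p) := by
    intro g hg hc
    obtain ⟨g, rfl⟩ := hJ hg
    refine hle Fi23T.hcols _ (fun c hc => ?_) g (cent23 ▸ Subgroup.mem_centralizer_singleton_iff.2
      (hi (by rw [map_mul, map_mul, ht]; exact (hc.mul_right (cq g)).eq)))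
    have : c < 9 := by revert c; decide
    refine ⟨by omega, ?_⟩
    rw [ext9, if_neg this.ne]
    exact mul_mem_Ev ⟨(Y.y23.y22.mem c this).1.1, (Y.y23.y22.mem c this).2.2⟩ ⟨Y.hq, hp.2.2.symm⟩
  have nu : ∀ a ∈ Dx D q, ∃ w ∈ Dx D q, Commute w k ∧ Commute w a := by
    intro a ha
    obtain ⟨g, rfl⟩ := htr p hp a ha
    obtain ⟨κ, hκ, e⟩ := nu23 g
    obtain ⟨g', hg', e'⟩ := subq_cj (hle _ (subq (Subgroup.centralizer {k}) qq) (fun c hc => by
      have : c < 10 := by revert c; decide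
      refine ⟨this, (m c this).2.2.symm.mul_left (Commute.refl q), Or.inr ?_⟩
      rw [mul_assoc, qq, mul_one]
      exact Subgroup.mem_centralizer_singleton_iff.2 (Y.comm c hc).symm.eq) κ hκ)
    have hk : ∀ w ∈ Dx D q, Commute w k → Commute (cj (ψ κ) w) k := fun w hw hc => by
      rwa [e' w hw.2.2, commute_cj_left (Subgroup.mem_centralizer_singleton_iff.1 hg')]
    rcases e with e | e
    · have m1 := hDq κ _ (m 1 (by decide))
      refine ⟨_, m1, hk _ (m 1 (by decide)) (Y.comm 1 (by decide)).symm,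
        commute_mul_cen m1.2.2.symm ha.2.2.symm ?_⟩
      have := e.map ψ
      rwa [hcj, map_cj, h1 1 (by decide), cj_mul, cj_of_commute (cq κ)] at this
    · have m1 := hDq (ev P.e w1) p hp
      have m2 := hDq (ev P.e w2) p hp
      have e1 := congrArg ψ e
      rw [map_cj ψ κ, hcj, hcj, cj_mul, cj_of_commute (cq κ), mul_left_inj] at e1
      refine ⟨_, ha, ?_, Commute.refl _⟩
      rw [e1]
      refine hk _ m1 (T.fix_of_cj_eq Y.hk m1.1 m2.1 (fun e2 => ne23 (hi (by rw [hcj, hcj, e2])))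
        ?_).1.symm
      have e2 := congrArg ψ rel23
      rw [map_mul, map_mul, hcj, hcj, hψ _ (by decide +kernel), map_one,
        show wu.length = 2 * 36 by decide +kernel, pow_mul, sq, qq, one_pow, mul_one,
        mul_assoc _ q, ← m2.2.2.eq, ← mul_assoc q, qq, one_mul] at e2
      have e3 : Commute k (ev (ext9 y j) wu) := commute_ev fun c hc => Y.comm c (by
        revert c; decide +kernel)
      rw [eq_inv_of_mul_eq_one_left e2, Commute.inv_right_iff] at e3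
      rw [← T.cj_cj_same m1.1 (cj (cj (ψ (ev P.e w2)) p) k), cj_cj _ _ k, cj_of_commute e3.symm]
  refine ⟨⟨h, fun d hd => (hr d hd).1, fun d hd e he => ((hr d hd).2 e he).1, ?_, ?_⟩,
    fun e => nq (hJ e)⟩
  · intro w hw z hz g hg hc
    obtain ⟨s, -, rfl, rfl⟩ := h.comm_pair_trans Y.hq hw hp hz
    have h2 := T.cj_Ev s⁻¹ hg
    rw [cj_inv_cj] at h2
    simpa using T.cj_Ev s (cen _ h2 (by rw [← commute_cj (g := s)]; simpa using hc))
  · intro a ha b hb hab z hz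
    obtain ⟨s, -, rfl, rfl⟩ := h.adj_pair_trans Y.hq Y.hk ha hb Y.adj hab
    obtain ⟨z, rfl⟩ : ∃ w, cj s w = z := ⟨_, cj_cj_inv s z⟩
    obtain ⟨w, hw, w1, w2⟩ := nu z (T.mem_Dx_cj.1 hz)
    exact ⟨_, T.mem_Dx_cj.2 hw, commute_cj.2 w1, commute_cj.2 w2⟩

end Y24

theorem no_f24 [Finite G] [IsSimpleGroup G] {D : Set G} (h : LP D D) (hr : F24 D D) : False := by
  obtain ⟨q, p, y, j, k, Y⟩ := h.exists_y24 hr
  have T := h.tt
  obtain ⟨F, hq⟩ := Y.flat h hr fun g hg => by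
    refine Subgroup.mem_bot.1 (((inferInstance : (Subgroup.center G).Normal).eq_bot_or_eq_top.resolve_right
      fun e => Y.adj ?_) ▸ Subgroup.mem_center_iff.2 fun a => ?_)
    · exact Subgroup.mem_center_iff.1 (e ▸ Subgroup.mem_top k) q
    · exact (commute_closure hg (T.gen ▸ Subgroup.mem_top a)).symm
  have hn : (Ev D).Normal := ⟨fun n hn g => cj_mem_Ev (fun a ha => T.conj a ha g) hn⟩
  refine hq (F.main Y.hq ?_ (Commute.refl q))
  rw [hn.eq_bot_or_eq_top.resolve_left fun e => Y.adj ?_]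
  · trivial
  · have := Subgroup.mem_bot.1 (e ▸ mul_mem_Ev Y.hq Y.hk)
    rw [eq_inv_of_mul_eq_one_right this]
    exact (Commute.refl q).inv_right

end H0
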