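import Mathlib
import Cfsg.Agent.H0.F23b

/-! There is no space that is locally of type `Fi₂₄`. -/

set_option autoImplicit false
set_option linter.unusedSectionVars false

namespace H0

variable {G : Type*} [Group G]

theorem no_f25 [Finite G] {D E : Set G} (h : LP D E)
    (hr : ∀ d ∈ E, LP D (Dx E d) ∧ F24 D (Dx E d)) : False := by
  obtain ⟨a, ha⟩ := h.nonempty
  obtain ⟨b, hb⟩ := (hr a ha).1.nonempty
  obtain ⟨c, hc⟩ := ((hr a ha).2 b hb).1.nonempty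
  obtain ⟨d, hd⟩ := (((hr a ha).2 b hb).2 c hc).1.nonempty
  let p : Fin 4 → G := ![a, b, c, d]
  have hp : ∀ i, p i ∈ E := fun i => by
    fin_cases i
    exacts [ha, hb.1, hc.1.1, hd.1.1.1]
  have hpp : ∀ i j, i ≠ j → p j ≠ p i ∧ Commute (p i) (p j) := by
    have k : ∀ i j, i < j → p j ≠ p i ∧ Commute (p i) (p j) := fun i j hij => by
      fin_cases i <;> fin_cases j <;> first | exact absurd hij (by decide) | skip
      exacts [hb.2, hc.1.2, hd.1.1.2, hc.2, hd.1.2, hd.2]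
    intro i j hij
    rcases lt_or_gt_of_ne hij with h1 | h1
    · exact k i j h1
    · exact ⟨(k j i h1).1.symm, (k j i h1).2.symm⟩
  let X : Fin 4 → Set G := fun i => {y | y ∈ E ∧ ∀ m, m ≠ i → y ≠ p m ∧ Commute (p m) y}
  let H : Set G := {y | y ∈ E ∧ ∀ m, y ≠ p m ∧ Commute (p m) y}
  have hH : ∀ i, Dx (X i) (p i) = H := fun i => by
    ext y
    refine ⟨fun hy => ⟨hy.1.1, fun m => ?_⟩, fun hy => ⟨⟨hy.1, fun m _ => hy.2 m⟩, hy.2 i⟩⟩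
    by_cases hm : m = i
    · rw [hm]; exact hy.2
    · exact hy.1.2 m hm
  have hX : ∀ i j k l : Fin 4, j ≠ i → k ≠ i → l ≠ i → (∀ m, m ≠ i → m = j ∨ m = k ∨ m = l) →
      Dx (Dx (Dx E (p k)) (p l)) (p j) = X i := fun i j k l h1 h2 h3 h4 => by
    ext y
    refine ⟨fun hy => ⟨hy.1.1.1, fun m hm => ?_⟩, fun hy => ⟨⟨⟨hy.1, hy.2 k h2⟩, hy.2 l h3⟩, hy.2 j h1⟩⟩
    rcases h4 m hm with rfl | rfl | rfl
    exacts [hy.2, hy.1.1.2, hy.1.2]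
  have hY : ∀ k l : Fin 4, k ≠ l → LP D (Dx (Dx E (p k)) (p l)) ∧ F23 D (Dx (Dx E (p k)) (p l)) :=
    fun k l hkl => (hr _ (hp k)).2 _ ⟨hp l, hpp k l hkl⟩
  have hm : ∀ j k l : Fin 4, k ≠ j → l ≠ j → p j ∈ Dx (Dx E (p k)) (p l) :=
    fun j k l h1 h2 => ⟨⟨hp j, hpp k j h1⟩, hpp l j h2⟩
  have hc : ∀ i j : Fin 4, i ≠ j → ∃ k l : Fin 4, k ≠ l ∧ k ≠ i ∧ l ≠ i ∧ k ≠ j ∧ l ≠ j ∧
      (∀ m, m ≠ i → m = j ∨ m = k ∨ m = l) ∧ ∀ m, m ≠ j → m = i ∨ m = k ∨ m = l := by decide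
  have hpX : ∀ i, p i ∈ X i := fun i => ⟨hp i, fun m hm => hpp m i hm⟩
  have hF : ∀ i, LP D (X i) ∧ F22 D (X i) := fun i => by
    obtain ⟨j, hj⟩ := exists_ne i
    obtain ⟨k, l, h1, h2, h3, h4, h5, h6, -⟩ := hc i j hj.symm
    rw [← hX i j k l hj h2 h3 h6]
    exact (hY k l h1).2 _ (hm j k l h4 h5)
  obtain ⟨π, hπ⟩ := ((hF 0).2 _ (hpX 0)).1.exists_um ((hF 0).2 _ (hpX 0)).2
  rw [hH] at hπ
  choose q hq hq' k hk hs using fun i => (hF i).1.exists_std (hF i).2 (hpX i) (hH i ▸ hπ)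
  obtain ⟨i, j, hij, e⟩ : ∃ i j, i ≠ j ∧ k i = k j := by
    have : ∀ a b c d : F4, a ≠ 0 → b ≠ 0 → c ≠ 0 → d ≠ 0 →
      a = b ∨ a = c ∨ a = d ∨ b = c ∨ b = d ∨ c = d := by decide
    rcases this _ _ _ _ (hk 0) (hk 1) (hk 2) (hk 3) with e | e | e | e | e | e <;>
      exact ⟨_, _, by decide, e⟩
  obtain ⟨r, l, h1, h2, h3, h4, h5, h6, h7⟩ := hc i j hij
  have e1 := hX i j r l hij.symm h2 h3 h6
  have e2 := hX j i r l hij h4 h5 h7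
  refine (hY r l h1).1.distinct (hY r l h1).2 (hm j r l h4 h5) (x := p i) (e1 ▸ hpX i)
    (π := fun v => π (sc (k i) v)) ?_ (e1 ▸ hq i) (hq' i) (e2 ▸ hq j : q j ∈ Dx _ _).1 (hq' j) (hs i)
    (e ▸ hs j)
  rw [e1, hH]
  exact hπ.sc (hk i)

end H0
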