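import Mathlib
import Cfsg.Agent.H0.Moufang
import Cfsg.Agent.H2.MinNormal
import Cfsg.Agent.H4.Central

/-! Primitivity of 3-transposition classes under Fischer's hypotheses. -/

set_option autoImplicit false

namespace H0

open scoped commutatorElement

variable {G : Type*} [Group G]

/-- kernel of the action on the blocks -/
def blockKer {D : Set G} (hD : TT D) {r : G → G → Prop} (hr : InvEq D r) : Subgroup G where
  carrier := {g | ∀ x ∈ D, r (cj g x) x}
  one_mem' := fun x hx => by simpa using hr.refl x hx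
  mul_mem' := fun {a b} ha hb x hx => by
    rw [← cj_cj]
    exact hr.tr _ _ _ (ha _ (hD.conj x hx b)) (hb x hx)
  inv_mem' := fun {a} ha x hx => by
    have := ha _ (hD.conj x hx a⁻¹)
    rw [cj_cj_inv] at this
    exact hr.symm _ _ this

theorem blockKer_normal {D : Set G} (hD : TT D) {r : G → G → Prop} (hr : InvEq D r) :
    (blockKer hD hr).Normal := by
  refine ⟨fun n hn g x hx => ?_⟩
  have := hr.inv g _ _ (hn _ (hD.conj x hx g⁻¹))
  rwa [cj_cj_inv, cj_cj, cj_cj] at this

namespace TT

variable {D : Set G} (hD : TT D) {r : G → G → Prop} (hr : InvEq D r)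
include hD hr

theorem block' {a b c : G} (ha : a ∈ D) (hc : c ∈ D) (hab : r a b) (hca : ¬ r c a)
    (hcb : Commute c b) : Commute c a := by
  by_contra h
  exact hca (hD.block hr.symm hr.tr ha hc (hr.inv a) (hr.inv c) hab hcb h)

omit hD in
theorem cj_rel {x y : G} (h : r y x) : r (cj x y) x := by
  simpa using hr.inv x _ _ h

theorem mul_mem_blockKer {a b : G} (ha : a ∈ D) (hb : b ∈ D) (hab : r a b) :
    a * b ∈ blockKer hD hr := by
  intro c hc
  rw [← cj_cj]
  by_cases hca : r c a
  · have h1 : r (cj b c) b := cj_rel hr (hr.tr _ _ _ hca hab)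
    have h2 : r (cj a (cj b c)) a := cj_rel hr (hr.tr _ _ _ h1 (hr.symm _ _ hab))
    exact hr.tr _ _ _ h2 (hr.symm _ _ hca)
  · have hcb : ¬ r c b := fun h => hca (hr.tr _ _ _ h (hr.symm _ _ hab))
    by_cases h : Commute c b
    · rw [cj_of_commute h.symm, cj_of_commute (hD.block' hr ha hc hab hca h).symm]
      exact hr.refl c hc
    · have h' : ¬ Commute c a := fun h' => h (hD.block' hr hb hc (hr.symm _ _ hab) hcb h')
      have h1 := hr.inv c _ _ hab
      rw [hD.braid hc ha h', hD.braid hc hb h] at h1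
      have h2 := hr.inv a _ _ h1
      rw [hD.cj_cj_same ha] at h2
      exact hr.symm _ _ h2

theorem total_of_subset (h : D ⊆ blockKer hD hr) : ∀ x ∈ D, ∀ y ∈ D, r x y := by
  intro x hx y hy
  obtain ⟨g, rfl⟩ := hD.trans x hx y hy
  have : g ∈ blockKer hD hr := by
    have : Subgroup.closure D ≤ blockKer hD hr := (Subgroup.closure_le _).2 h
    exact this (by rw [hD.gen]; trivial)
  exact hr.symm _ _ (this x hx)

theorem total_of_commutator_le (h : commutator G ≤ blockKer hD hr) : ∀ x ∈ D, ∀ y ∈ D, r x y := by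
  apply hD.total_of_subset hr
  intro e he x hx
  obtain ⟨g, hg⟩ := hD.trans x hx e he
  have h1 : e * x ∈ blockKer hD hr := by
    apply h
    rw [← hg]
    have : cj g x * x = ⁅g, x⁆ := by rw [commutatorElement_def, hD.inv hx]; rfl
    rw [this]
    exact Subgroup.commutator_mem_commutator (Subgroup.mem_top _) (Subgroup.mem_top _)
  have := h1 x hx
  rwa [← cj_cj, cj_self] at this

end TT

theorem TT.prim_of_simple {D : Set G} (hD : TT D) (hs : IsSimpleGroup (commutator G)) :
    Prim D := by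
  intro r hr
  by_cases h : ∀ x ∈ D, ∀ y ∈ D, r x y → x = y
  · exact Or.inl h
  right
  push Not at h
  obtain ⟨a, ha, b, hb, hab, hne⟩ := h
  apply hD.total_of_commutator_le hr
  have := blockKer_normal hD hr
  obtain ⟨g, hg⟩ := hD.trans b hb a ha
  have hmem : a * b ∈ commutator G := by
    rw [← hg]
    have : cj g b * b = ⁅g, b⁆ := by rw [commutatorElement_def, hD.inv hb]; rfl
    rw [this]
    exact Subgroup.commutator_mem_commutator (Subgroup.mem_top _) (Subgroup.mem_top _)
  rcases hs.eq_bot_or_eq_top_of_normal ((blockKer hD hr).subgroupOf (commutator G))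
    inferInstance with h | h
  · exfalso
    have : (⟨a * b, hmem⟩ : commutator G) ∈ (blockKer hD hr).subgroupOf (commutator G) :=
      hD.mul_mem_blockKer hr ha hb hab
    rw [h, Subgroup.mem_bot, Subtype.ext_iff] at this
    apply hne
    have h2 : a * b = 1 := this
    rw [← hD.inv hb]; exact eq_inv_of_mul_eq_one_left h2
  · exact Subgroup.subgroupOf_eq_top.1 h

theorem TT.exists_comm_of_not_three {D : Set G} [Finite G] (hD : TT D)
    (h : ¬ IsPGroup 3 (commutator G)) : ∃ d ∈ D, (Dx D d).Nonempty := by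
  by_contra hcon
  push Not at hcon
  apply h
  refine moufang_commutator hD.gen hD.sq hD.conj fun d hd e he => ?_
  by_cases hde : e = d
  · rw [hde]
  · refine hD.braid hd he fun hc => ?_
    have : e ∈ Dx D d := ⟨he, hde, hc⟩
    rw [hcon d hd] at this
    exact this

theorem TT.ptt_of_simple {D : Set G} [Finite G] (hD : TT D) (hs : IsSimpleGroup (commutator G))
    (hna : ∃ x y : commutator G, x * y ≠ y * x) : PTT D := by
  refine ⟨hD, hD.prim_of_simple hs, hD.exists_comm_of_not_three fun h => ?_⟩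
  have : Fact (Nat.Prime 3) := ⟨by norm_num⟩
  have h1 := h.isNilpotent
  obtain ⟨x, y, hxy⟩ := hna
  exact hxy (IsSimpleGroup.comm_iff_isSolvable.2 inferInstance x y)

theorem eq_bot_of_solvable_subnormal [Finite G]
    (hsol : ∀ N : Subgroup G, N.Normal → Group.IsSolvable ↥N → N = ⊥) {N K : Subgroup G}
    [N.Normal] (hle : K ≤ N) (hK : (K.subgroupOf N).Normal) (hs : Group.IsSolvable K) :
    K = ⊥ := by
  by_contra hne
  have h1 : K.subgroupOf N ≠ ⊥ := by
    intro h
    rw [Subgroup.subgroupOf_eq_bot] at h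
    exact hne (h.eq_bot_of_le hle)
  obtain ⟨p, hp, h2⟩ := H2.exists_prime_pCore_ne_bot hK (H2.isSolvable_subgroupOf hs N) h1
  have : Fact p.Prime := ⟨hp⟩
  have h3 := hsol (Cfsg.pCore p G) inferInstance
    (by have := (H2.pCore_isPGroup p G).isNilpotent; infer_instance)
  have h4 := H2.map_subtype_pCore_le p N
  rw [h3, le_bot_iff, Subgroup.map_eq_bot_iff_of_injective _ N.subtype_injective] at h4
  exact h2 (by rw [h4, bot_inf_eq])

theorem TT.prim_of_fischer {D : Set G} [Finite G] (hD : TT D)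
    (hsol : ∀ N : Subgroup G, N.Normal → Group.IsSolvable ↥N → N = ⊥)
    (hperf : ⁅commutator G, commutator G⁆ = commutator G) : Prim D := by
  intro r hr
  by_cases h : ∀ x ∈ D, ∀ y ∈ D, r x y → x = y
  · exact Or.inl h
  right
  push Not at h
  obtain ⟨a, ha, b, hb, hab, hne⟩ := h
  by_cases hcase : ∀ x ∈ D, ∀ y ∈ D, Commute x y → r x y
  · apply hD.total_of_commutator_le hr
    have hN := blockKer_normal hD hr
    set N := blockKer hD hr
    let π := QuotientGroup.mk' N
    have hπ : Function.Surjective π := QuotientGroup.mk'_surjective N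
    have h3 : IsPGroup 3 (commutator (G ⧸ N)) := by
      refine moufang_commutator (D := π '' D) ?_ ?_ ?_ ?_
      · rw [← MonoidHom.map_closure, hD.gen, Subgroup.map_top_of_surjective _ hπ]
      · rintro _ ⟨d, hd, rfl⟩; rw [← map_mul, hD.sq d hd, map_one]
      · rintro _ ⟨d, hd, rfl⟩ g
        obtain ⟨g, rfl⟩ := hπ g
        exact ⟨cj g d, hD.conj d hd g, by simp [cj]⟩
      · rintro _ ⟨d, hd, rfl⟩ _ ⟨e, he, rfl⟩
        by_cases hc : Commute d e
        · have h1 := hD.mul_mem_blockKer hr hd he (hcase d hd e he hc)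
          have : π d = π e := by
            apply QuotientGroup.eq.2
            rw [hD.inv hd]; exact h1
          rw [this]
        · have := congrArg π (hD.braid hd he hc)
          simpa [cj] using this
    have hc : commutator (G ⧸ N) = (commutator G).map π := by
      rw [commutator_def, commutator_def, Subgroup.map_commutator,
        Subgroup.map_top_of_surjective _ hπ]
    have : Fact (Nat.Prime 3) := ⟨by norm_num⟩
    have hbot : commutator (G ⧸ N) = ⊥ := by
      by_contra hne
      have h1 := h3.isNilpotent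
      have := H2.commutator_lt_of_isSolvable (H := commutator (G ⧸ N)) inferInstance hne
      rw [hc, ← Subgroup.map_commutator, hperf] at this
      exact lt_irrefl _ this
    rw [hc, Subgroup.map_eq_bot_iff, QuotientGroup.ker_mk'] at hbot
    exact hbot
  exfalso
  push Not at hcase
  obtain ⟨x0, hx0, y0, hy0, hc0, hr0⟩ := hcase
  let C : G → Set G := fun x => {y | y ∈ D ∧ Commute x y ∧ ¬ r x y}
  have hCi : ∀ g x, cj g '' C x = C (cj g x) := by
    intro g x; ext z
    constructor
    · rintro ⟨w, hw, rfl⟩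
      exact ⟨hD.conj _ hw.1 g, commute_cj.2 hw.2.1, fun h => hw.2.2 (hr.inv_iff.1 h)⟩
    · intro hz
      refine ⟨cj g⁻¹ z, ⟨hD.conj _ hz.1 _, ?_, fun h => hz.2.2 ?_⟩, by simp⟩
      · rw [← commute_cj (g := g)]; simpa using hz.2.1
      · simpa using hr.inv g _ _ h
  have hCcard : ∀ x ∈ D, ∀ y ∈ D, (C x).ncard = (C y).ncard := by
    intro x hx y hy
    obtain ⟨g, rfl⟩ := hD.trans x hx y hy
    rw [← hCi, Set.ncard_image_of_injective _ (cj_injective g)]
  have hCne : ∀ x ∈ D, (C x).Nonempty := by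
    intro x hx
    obtain ⟨g, rfl⟩ := hD.trans x0 hx0 x hx
    rw [← hCi]; exact Set.Nonempty.image _ ⟨y0, hy0, hc0, hr0⟩
  let s : G → G → Prop := fun x y => C x = C y
  have hs : InvEq D s :=
    ⟨fun _ _ => rfl, fun _ _ h => h.symm, fun _ _ _ h1 h2 => h1.trans h2,
      fun g x y h => by simp only [s]; rw [← hCi, ← hCi, h]⟩
  have hrs : ∀ x ∈ D, ∀ y ∈ D, r x y → C x ⊆ C y := by
    intro x hx y hy hxy z hz
    have h1 : ¬ r y z := fun h => hz.2.2 (hr.tr _ _ _ hxy h)
    exact ⟨hz.1, (hD.block' hr hy hz.1 (hr.symm _ _ hxy) (fun h => h1 (hr.symm _ _ h))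
      hz.2.1.symm).symm, h1⟩
  have hsab : s a b := (hrs a ha b hb hab).antisymm (hrs b hb a ha (hr.symm _ _ hab))
  have hnot : ∀ x, ∀ y ∈ C x, ¬ s x y := by
    intro x y hy h
    have : y ∈ C y := h ▸ hy
    exact this.2.2 (hr.refl y hy.1)
  -- blocks
  let B : G → Set G := fun x => {y | y ∈ D ∧ s x y}
  have hBcard : ∀ x ∈ D, ∀ y ∈ D, (B x).ncard = (B y).ncard := by
    intro x hx y hy
    obtain ⟨g, rfl⟩ := hD.trans x hx y hy
    have : cj g '' B x = B (cj g x) := by
      ext z
      constructor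
      · rintro ⟨w, hw, rfl⟩; exact ⟨hD.conj _ hw.1 g, hs.inv g _ _ hw.2⟩
      · intro hz
        exact ⟨cj g⁻¹ z, ⟨hD.conj _ hz.1 _, by simpa using hs.inv g⁻¹ _ _ hz.2⟩, by simp⟩
    rw [← this, Set.ncard_image_of_injective _ (cj_injective g)]
  have hN := blockKer_normal hD hs
  set N := blockKer hD hs with hNdef
  have hsurj : ∀ y ∈ D, ∀ c ∈ D, ¬ s y c → ¬ Commute c y → ∀ c' ∈ B c,
      ∃ b ∈ B y, cj (y * b) c = c' := by
    intro y hy c hc hyc hcy c' hc'
    have hadj : ∀ b ∈ B y, ¬ Commute c b := fun b hb h =>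
      hcy (hD.block' hs hy hc hb.2 (fun h => hyc (hs.symm _ _ h)) h)
    have := Set.surj_on_of_inj_on_of_ncard_le (s := B y) (t := B c)
      (fun b _ => cj (y * b) c) (fun b hb => ⟨hD.conj c hc _,
        hs.symm _ _ (hD.mul_mem_blockKer hs hy hb.1 hb.2 c hc)⟩)
      (fun b b' hb hb' h => by
        rw [← cj_cj, ← cj_cj, cj_inj, ← hD.braid hc hb.1 (hadj b hb),
          ← hD.braid hc hb'.1 (hadj b' hb'), cj_inj] at h
        exact h) (hBcard c hc y hy).le (Set.toFinite _) c' hc'
    obtain ⟨b, hb, h⟩ := this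
    exact ⟨b, hb, h.symm⟩
  let K : Subgroup G := Subgroup.closure {g | ∃ x ∈ B a, ∃ y ∈ B a, g = x * y}
  have hKN : K ≤ N := by
    rw [Subgroup.closure_le]
    rintro _ ⟨x, hx, y, hy, rfl⟩
    exact hD.mul_mem_blockKer hs hx.1 hy.1 (hs.tr _ _ _ (hs.symm _ _ hx.2) hy.2)
  have hKcomm : ∀ k ∈ K, ∀ z, (∀ x ∈ B a, Commute x z) → Commute k z := by
    intro k hk z hz
    induction hk using Subgroup.closure_induction with
    | mem g hg => obtain ⟨x, hx, y, hy, rfl⟩ := hg; exact (hz x hx).mul_left (hz y hy)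
    | one => exact Commute.one_left _
    | mul p q _ _ hp hq => exact hp.mul_left hq
    | inv p _ hp => exact hp.inv_left
  have haB : a ∈ B a := ⟨ha, rfl⟩
  have hout : ∀ c ∈ D, ¬ s a c → Commute c a → ∀ x ∈ B a, Commute x c := by
    intro c hc hac hca x hx
    exact (hD.block' hs hx.1 hc (hs.symm _ _ hx.2)
      (fun h => hac (hs.tr _ _ _ hx.2 (hs.symm _ _ h))) hca).symm
  have h6 : ∀ k ∈ K, ∀ c ∈ D, ¬ s a c → Commute (k ^ 6) c := by
    intro k hk c hc hac
    by_cases hca : Commute c a
    · exact (hKcomm k hk c (hout c hc hac hca)).pow_left 6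
    obtain ⟨y, hy, hyc⟩ : ∃ y ∈ C a, y ∉ C c := by
      by_contra hcon
      push Not at hcon
      exact hac (Set.eq_of_subset_of_ncard_le hcon (hCcard c hc a ha).le)
    have hay : ¬ s a y := hnot a y hy
    have hsyc : ¬ s y c := by
      intro h
      exact hca (hD.block' hs hc ha (hs.symm _ _ h) hac hy.2.1).symm
    have hcy : ¬ Commute c y := by
      intro h
      apply hyc
      refine ⟨hy.1, h, fun h' => hsyc ?_⟩
      exact (hrs y hy.1 c hc (hr.symm _ _ h')).antisymm (hrs c hc y hy.1 h')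
    obtain ⟨b0, hb0, hkb⟩ := hsurj a ha c hc hac hca (cj k c)
      ⟨hD.conj c hc k, hs.symm _ _ (hKN hk c hc)⟩
    have hab0 : a * b0 ∈ K := Subgroup.subset_closure ⟨a, haB, b0, hb0, rfl⟩
    have hfix : ∀ c' ∈ B c, cj k c' = cj (a * b0) c' := by
      intro c' hc'
      obtain ⟨b', hb', rfl⟩ := hsurj y hy.1 c hc hsyc hcy c' hc'
      have hz : ∀ x ∈ B a, Commute x (y * b') := by
        intro x hx
        refine (hout y hy.1 hay hy.2.1.symm x hx).mul_right (hout b' hb'.1 ?_ ?_ x hx)
        · exact fun h => hay (hs.tr _ _ _ h (hs.symm _ _ hb'.2))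
        · exact (hD.block' hs hb'.1 ha (hs.symm _ _ hb'.2)
            (fun h => hay (hs.tr _ _ _ h (hs.symm _ _ hb'.2))) hy.2.1).symm
      rw [cj_cj, (hKcomm k hk _ hz).eq, ← cj_cj, ← hkb, cj_cj, ← (hKcomm _ hab0 _ hz).eq,
        ← cj_cj]
    have hn : ∀ n : ℕ, cj (k ^ n) c = cj ((a * b0) ^ n) c := by
      intro n
      induction n with
      | zero => simp
      | succ n ih =>
        rw [pow_succ', ← cj_cj, ih, hfix, cj_cj, ← pow_succ']
        exact ⟨hD.conj c hc _, hs.symm _ _ (hKN (pow_mem hab0 n) c hc)⟩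
    rw [← cj_eq_self, hn, hD.pow_six ha hb0.1, cj_one]
  have hadjout : ∀ x ∈ D, ∃ c ∈ D, ¬ s x c ∧ ¬ Commute c x := by
    intro x hx
    by_contra hcon
    push Not at hcon
    have : D ⊆ N := by
      intro e he z hz
      by_cases hez : s e z
      · exact hs.tr _ _ _ (TT.cj_rel hs (hs.symm _ _ hez)) hez
      · obtain ⟨g, rfl⟩ := hD.trans x hx e he
        have := hcon (cj g⁻¹ z) (hD.conj z hz _) (fun h => hez (by simpa using hs.inv g _ _ h))
        rw [← commute_cj (g := g), cj_cj_inv] at this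
        rw [cj_of_commute this.symm]
    obtain ⟨y, hy⟩ := hCne a ha
    exact hnot a y hy (hD.total_of_subset hs this a ha y hy.1)
  have h6' : ∀ k ∈ K, k ^ 6 = 1 := by
    intro k hk
    have hall : ∀ x ∈ D, Commute (k ^ 6) x := by
      intro x hx
      by_cases hax : s a x
      · obtain ⟨c, hc, hxc, hcx⟩ := hadjout x hx
        have h1 := h6 k hk c hc (fun h => hxc (hs.tr _ _ _ (hs.symm _ _ hax) h))
        have h2 := h6 k hk (cj x c) (hD.conj c hc x) (fun h => hxc (by
          have := TT.cj_rel hs (hs.tr _ _ _ (hs.symm _ _ h) hax)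
          rw [hD.cj_cj_same hx] at this
          exact hs.symm _ _ this))
        rw [← hD.braid hc hx hcx, commute_cj_right h1.symm] at h2
        exact h2
      · exact h6 k hk x hx hax
    have hz : k ^ 6 ∈ Subgroup.center G := by
      rw [Subgroup.mem_center_iff]
      intro g
      have hg : g ∈ Subgroup.closure D := by rw [hD.gen]; trivial
      have : Commute (k ^ 6) g := by
        induction hg using Subgroup.closure_induction with
        | mem z hz => exact hall z hz
        | one => exact Commute.one_right _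
        | mul p q _ _ hp hq => exact hp.mul_right hq
        | inv p _ hp => exact hp.inv_right
      exact this.symm.eq
    rwa [hsol (Subgroup.center G) inferInstance (H2.isSolvable_of_isMulCommutative _), Subgroup.mem_bot] at hz
  have hKsol : Group.IsSolvable K := by
    refine H4.isSolvable_of_primes Nat.prime_two Nat.prime_three fun p hp hd => ?_
    obtain ⟨k, hk, hord⟩ := H2.exists_mem_orderOf_eq_prime hp hd
    have h1 : p ∣ 2 * 3 := hord ▸ orderOf_dvd_of_pow_eq_one (h6' k hk)
    rcases (Nat.Prime.dvd_mul hp).1 h1 with h | h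
    · exact Or.inl ((Nat.prime_dvd_prime_iff_eq hp Nat.prime_two).1 h)
    · exact Or.inr ((Nat.prime_dvd_prime_iff_eq hp Nat.prime_three).1 h)
  have hKn : (K.subgroupOf N).Normal := by
    rw [Subgroup.normal_subgroupOf_iff_le_normalizer hKN, Subgroup.le_normalizer_closure_iff]
    rintro n hn _ ⟨x, hx, y, hy, rfl⟩
    refine Subgroup.subset_closure ⟨cj n x, ⟨hD.conj _ hx.1 n, ?_⟩, cj n y, ⟨hD.conj _ hy.1 n, ?_⟩,
      cj_mul n x y⟩
    · exact hs.tr _ _ _ hx.2 (hs.symm _ _ (hn x hx.1))
    · exact hs.tr _ _ _ hy.2 (hs.symm _ _ (hn y hy.1))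
  have hK := eq_bot_of_solvable_subnormal hsol hKN hKn hKsol
  have : a * b ∈ K := Subgroup.subset_closure ⟨a, haB, b, ⟨hb, hsab⟩, rfl⟩
  rw [hK, Subgroup.mem_bot] at this
  apply hne
  rw [← hD.inv hb]; exact eq_inv_of_mul_eq_one_left this

theorem ptt_of_fischer {D : Set G} [Finite G]
    (hsol : ∀ N : Subgroup G, N.Normal → Group.IsSolvable ↥N → N = ⊥)
    (hperf : ⁅commutator G, commutator G⁆ = commutator G)
    (hD : Cfsg.IsThreeTranspositionClass D) : PTT D := by
  have h := TT.of_class hD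
  refine ⟨h, h.prim_of_fischer hsol hperf, h.exists_comm_of_not_three fun h3 => ?_⟩
  have : Fact (Nat.Prime 3) := ⟨by norm_num⟩
  have h1 := h3.isNilpotent
  have h2 := hsol (commutator G) inferInstance inferInstance
  have h4 : Group.IsSolvable (⊤ : Subgroup G) := by
    rw [H2.isSolvable_top_iff]
    exact ⟨⟨1, by rw [derivedSeries_one, h2]⟩⟩
  have h5 := hsol ⊤ inferInstance h4
  obtain ⟨d, hd, -⟩ := hD.2.1
  have : d ∈ (⊤ : Subgroup G) := trivial
  rw [h5, Subgroup.mem_bot] at this
  exact ne_one_of_set hD.1 hd this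

end H0
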