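import Mathlib
import Cfsg.Agent.H0.Classify
import Cfsg.Agent.H0.Prim

/-! Primitive Fischer subspaces of a fixed class of 3-transpositions: definitions and API. -/

set_option autoImplicit false
set_option linter.unusedSectionVars false

namespace H0

open H15 H15.Form Module

variable {G : Type*} [Group G]

theorem map_cj {G' : Type*} [Group G'] (f : G →* G') (g x : G) : f (cj g x) = cj (f g) (f x) := by
  simp [cj]

theorem rtg_lift' {α β : Type*} {R : α → α → Prop} {S : β → β → Prop} (f : α → β)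
    (hf : ∀ x y, R x y → S (f x) (f y)) {x y : α}
    (h : Relation.ReflTransGen R x y) : Relation.ReflTransGen S (f x) (f y) := by
  induction h with
  | refl => exact Relation.ReflTransGen.refl
  | tail _ h2 ih => exact ih.tail (hf _ _ h2)

/-- transfer of `TT` along a surjection -/
theorem TT.map {G' : Type*} [Group G'] {D : Set G} (hD : TT D) (f : G →* G')
    (hf : Function.Surjective f) : TT (f '' D) := by
  refine ⟨?_, ?_, ?_, ?_, ?_⟩
  · rintro _ ⟨d, hd, rfl⟩; rw [← map_mul, hD.sq d hd, map_one]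
  · rintro _ ⟨d, hd, rfl⟩ _ ⟨e, he, rfl⟩
    rcases hD.dich d hd e he with h | h
    · exact Or.inl (h.map f)
    · right; rw [← map_cj, h, map_cj]
  · rintro _ ⟨d, hd, rfl⟩ g
    obtain ⟨g, rfl⟩ := hf g
    exact ⟨_, hD.conj d hd g, map_cj f g d⟩
  · rintro _ ⟨d, hd, rfl⟩ _ ⟨e, he, rfl⟩
    obtain ⟨g, rfl⟩ := hD.trans d hd e he
    exact ⟨f g, (map_cj f g d).symm⟩
  · rw [← MonoidHom.map_closure, hD.gen, Subgroup.map_top_of_surjective _ hf]

theorem PTT.map {G' : Type*} [Group G'] {D : Set G} (hD : PTT D) (f : G →* G')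
    (hf : Function.Surjective f) (hi : Set.InjOn f D) : PTT (f '' D) := by
  refine ⟨hD.toTT.map f hf, fun r hr => ?_, ?_⟩
  · have : InvEq D fun x y => r (f x) (f y) :=
      ⟨fun x hx => hr.refl _ ⟨x, hx, rfl⟩, fun _ _ h => hr.symm _ _ h,
        fun _ _ _ h1 h2 => hr.tr _ _ _ h1 h2,
        fun g x y h => by rw [map_cj, map_cj]; exact hr.inv _ _ _ h⟩
    rcases hD.prim _ this with h | h
    · left
      rintro _ ⟨x, hx, rfl⟩ _ ⟨y, hy, rfl⟩ h'
      rw [h x hx y hy h']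
    · right
      rintro _ ⟨x, hx, rfl⟩ _ ⟨y, hy, rfl⟩
      exact h x hx y hy
  · obtain ⟨d, hd, a, ha⟩ := hD.comm
    exact ⟨_, ⟨d, hd, rfl⟩, _, ⟨a, ha.1, rfl⟩, fun h => ha.2.1 (hi ha.1 hd h), ha.2.2.map f⟩

/-- `E` as a subset of the group it generates -/
def sub (E : Set G) : Set (Subgroup.closure E) := {x | (x : G) ∈ E}

/-- `E` is a primitive Fischer subspace of the class `D` with a commuting pair -/
structure LP (D E : Set G) : Prop where
  tt : TT D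
  le : E ⊆ D
  ptt : PTT (sub E)

/-- thick lines -/
def Thick (E : Set G) : Prop := ∃ d ∈ E, ∃ a ∈ Dx E d, ∃ b ∈ Ln E d a, b ≠ d ∧ b ≠ a

/-- three distinct pairwise commuting points -/
def Triple (E : Set G) : Prop := ∃ d ∈ E, ∃ a ∈ Dx E d, (Dx E d ∩ Dx E a).Nonempty

/-- symplectic type: no affine planes -/
def Sy (E : Set G) : Prop := ∀ x ∈ E, ∀ y ∈ E, ∀ z ∈ E, ¬ Commute x y → ¬ Commute z x →
  ¬ Commute z y → z ≠ cj x y → Commute z (cj x y)

/-- symplectic model over `F₂` -/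
def MSp (E : Set G) (m : ℕ) : Prop := ∃ φ, Model E (spForm m (ZMod 2)) φ

/-- unitary model over `F₄` -/
def MU (E : Set G) (n : ℕ) : Prop := ∃ φ, Model E (unForm F4.card n) φ

/-- orthogonal model over `F₃`: the points are the pairs `±v` with `B v v = 1` -/
structure O3 (E : Set G) {V : Type} [AddCommGroup V] [Module (ZMod 3) V]
    (B : V →ₗ[ZMod 3] V →ₗ[ZMod 3] ZMod 3) (φ : G → V) : Prop where
  dim : 5 ≤ finrank (ZMod 3) V
  symm : ∀ v w, B v w = B w v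
  nd : ∀ v, (∀ w, B v w = 0) → v = 0
  one : ∀ x ∈ E, B (φ x) (φ x) = 1
  comm : ∀ x ∈ E, ∀ y ∈ E, x ≠ y → (Commute x y ↔ B (φ x) (φ y) = 0)
  surj : ∀ v, B v v = 1 → ∃ x ∈ E, φ x = v ∨ φ x = -v

def MO (E : Set G) : Prop := ∃ (V : Type) (_ : AddCommGroup V) (_ : Module (ZMod 3) V)
  (B : V →ₗ[ZMod 3] V →ₗ[ZMod 3] ZMod 3) (φ : G → V), O3 E B φ

def F22 (D E : Set G) : Prop := ∀ x ∈ E, LP D (Dx E x) ∧ MU (Dx E x) 6

def F23 (D E : Set G) : Prop := ∀ x ∈ E, LP D (Dx E x) ∧ F22 D (Dx E x)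

def F24 (D E : Set G) : Prop := ∀ x ∈ E, LP D (Dx E x) ∧ F23 D (Dx E x)

theorem Dx_subset (E : Set G) (d : G) : Dx E d ⊆ E := fun _ h => h.1

theorem coe_cj {K : Subgroup G} (g x : K) : ((cj g x : K) : G) = cj (g : G) x := rfl

theorem commute_coe {K : Subgroup G} {x y : K} : Commute (x : G) (y : G) ↔ Commute x y := by
  simp only [commute_iff_eq, ← Subgroup.coe_mul, Subtype.coe_inj]

theorem commute_mk {K : Subgroup G} {x y : G} (hx : x ∈ K) (hy : y ∈ K) :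
    Commute (⟨x, hx⟩ : K) ⟨y, hy⟩ ↔ Commute x y := commute_coe.symm

theorem mem_Dx_sub {E : Set G} {d y : Subgroup.closure E} :
    y ∈ Dx (sub E) d ↔ (y : G) ∈ Dx E d := by
  simp only [Dx, sub, Set.mem_setOf_eq, commute_coe, ne_eq, Subtype.coe_inj]

theorem mem_Ln_sub {E : Set G} {p q z : Subgroup.closure E} :
    z ∈ Ln (sub E) p q ↔ (z : G) ∈ Ln E p q := by
  constructor
  · refine fun h => ⟨h.1, fun w hw h1 h2 => ?_⟩
    have := h.2 ⟨w, Subgroup.subset_closure hw⟩ hw (commute_coe.1 h1) (commute_coe.1 h2)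
    exact commute_coe.2 this
  · exact fun h => ⟨h.1, fun w hw h1 h2 =>
      commute_coe.1 (h.2 w hw (commute_coe.2 h1) (commute_coe.2 h2))⟩

theorem image_sub (E : Set G) : (Subgroup.closure E).subtype '' sub E = E := by
  ext x
  constructor
  · rintro ⟨y, hy, rfl⟩; exact hy
  · exact fun hx => ⟨⟨x, Subgroup.subset_closure hx⟩, hx, rfl⟩

theorem closure_sub (E : Set G) : Subgroup.closure (sub E) = ⊤ := by
  apply Subgroup.map_injective (Subgroup.closure E).subtype_injective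
  rw [MonoidHom.map_closure, image_sub, ← MonoidHom.range_eq_map, Subgroup.range_subtype]

theorem PTT.lp {D : Set G} (hD : PTT D) : LP D D := by
  let f : G →* Subgroup.closure D := (MonoidHom.id G).codRestrict _ fun x => by
    rw [hD.gen]; trivial
  have hf : Function.Surjective f := fun x => ⟨x, rfl⟩
  have := hD.map f hf fun x _ y _ h => congrArg Subtype.val h
  refine ⟨hD.toTT, subset_rfl, ?_⟩
  convert this using 1
  ext x
  exact ⟨fun h => ⟨x, h, rfl⟩, by rintro ⟨y, hy, rfl⟩; exact hy⟩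

theorem LP.ptt_self {D : Set G} (h : LP D D) : PTT D := by
  have := h.ptt.map (Subgroup.closure D).subtype
    (fun x => ⟨⟨x, by rw [h.tt.gen]; trivial⟩, rfl⟩) (Subgroup.subtype_injective _).injOn
  rwa [image_sub] at this

theorem cj_image_cj (g k : G) (E : Set G) : cj g '' (cj k '' E) = cj (g * k) '' E := by
  rw [Set.image_image]; simp only [cj_cj]

theorem mem_image_cj {g x : G} {E : Set G} : cj g x ∈ cj g '' E ↔ x ∈ E :=
  (cj_injective g).mem_set_image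

theorem mem_image_cj' {g x : G} {E : Set G} : x ∈ cj g '' E ↔ cj g⁻¹ x ∈ E := by
  rw [← mem_image_cj (g := g) (x := cj g⁻¹ x), cj_cj_inv]

theorem image_Dx' (E : Set G) (g d : G) : cj g '' Dx E d = Dx (cj g '' E) (cj g d) := by
  ext y
  obtain ⟨y, rfl⟩ : ∃ w, cj g w = y := ⟨_, cj_cj_inv g y⟩
  simp only [Dx, mem_image_cj, Set.mem_setOf_eq, ne_eq, cj_inj, commute_cj]

theorem mem_Ln_cj' {E : Set G} {g p q z : G} :
    cj g z ∈ Ln (cj g '' E) (cj g p) (cj g q) ↔ z ∈ Ln E p q := by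
  constructor
  · refine fun h => ⟨mem_image_cj.1 h.1, fun w hw h1 h2 => ?_⟩
    exact commute_cj.1 (h.2 _ (mem_image_cj.2 hw) (commute_cj.2 h1) (commute_cj.2 h2))
  · refine fun h => ⟨mem_image_cj.2 h.1, ?_⟩
    rintro _ ⟨w, hw, rfl⟩ h1 h2
    exact commute_cj.2 (h.2 w hw (commute_cj.1 h1) (commute_cj.1 h2))

namespace LP

variable {D E : Set G} (h : LP D E)
include h

theorem cj_image (g : G) : LP D (cj g '' E) := by
  refine ⟨h.tt, by rintro _ ⟨x, hx, rfl⟩; exact h.tt.conj _ (h.le hx) g, ?_⟩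
  have hm : (Subgroup.closure E).map (MulAut.conj g).toMonoidHom = Subgroup.closure (cj g '' E) :=
    MonoidHom.map_closure _ _
  let f : Subgroup.closure E →* Subgroup.closure (cj g '' E) :=
    ((MulAut.conj g).toMonoidHom.comp (Subgroup.closure E).subtype).codRestrict _ fun x => by
      rw [← hm]; exact ⟨x, x.2, rfl⟩
  have hf : Function.Surjective f := by
    rintro ⟨y, hy⟩
    rw [← hm] at hy
    obtain ⟨x, hx, rfl⟩ := hy
    exact ⟨⟨x, hx⟩, rfl⟩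
  have := h.ptt.map f hf fun x _ y _ e =>
    Subtype.ext (cj_injective g (congrArg Subtype.val e))
  convert this using 1
  ext y
  constructor
  · rintro ⟨x, hx, e⟩
    exact ⟨⟨x, Subgroup.subset_closure hx⟩, hx, Subtype.ext e⟩
  · rintro ⟨x, hx, rfl⟩
    exact ⟨x, hx, rfl⟩

theorem conj {x g : G} (hx : x ∈ E) (hg : g ∈ Subgroup.closure E) : cj g x ∈ E :=
  h.ptt.conj ⟨x, Subgroup.subset_closure hx⟩ hx ⟨g, hg⟩

theorem cj_mem {x y : G} (hx : x ∈ E) (hy : y ∈ E) : cj x y ∈ E :=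
  h.conj hy (Subgroup.subset_closure hx)

theorem mem_cj {x g : G} (hg : g ∈ Subgroup.closure E) : cj g x ∈ E ↔ x ∈ E :=
  ⟨fun h1 => by simpa using h.conj h1 (inv_mem hg), fun h1 => h.conj h1 hg⟩

theorem image_self {g : G} (hg : g ∈ Subgroup.closure E) : cj g '' E = E := by
  ext x
  rw [mem_image_cj', h.mem_cj (inv_mem hg)]

theorem image_Dx {g : G} (hg : g ∈ Subgroup.closure E) (d : G) :
    cj g '' Dx E d = Dx E (cj g d) := by
  rw [image_Dx', h.image_self hg]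

theorem mem_Dx_cj {g d y : G} (hg : g ∈ Subgroup.closure E) :
    cj g y ∈ Dx E (cj g d) ↔ y ∈ Dx E d := by
  rw [← h.image_Dx hg, mem_image_cj]

theorem mem_Ln_cj {g p q z : G} (hg : g ∈ Subgroup.closure E) :
    cj g z ∈ Ln E (cj g p) (cj g q) ↔ z ∈ Ln E p q := by
  conv_lhs => rw [← h.image_self hg]
  exact mem_Ln_cj'

theorem cj_mem_Dx {d x y : G} (hx : x ∈ Dx E d) (hy : y ∈ Dx E d) : cj x y ∈ Dx E d := by
  have := (h.mem_Dx_cj (Subgroup.subset_closure hx.1)).2 hy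
  rwa [cj_of_commute hx.2.2.symm] at this

theorem trans {x y : G} (hx : x ∈ E) (hy : y ∈ E) : ∃ g ∈ Subgroup.closure E, cj g x = y := by
  obtain ⟨g, hg⟩ := h.ptt.trans ⟨x, Subgroup.subset_closure hx⟩ hx
    ⟨y, Subgroup.subset_closure hy⟩ hy
  exact ⟨g, g.2, congrArg Subtype.val hg⟩

theorem nonempty : E.Nonempty := by
  obtain ⟨d, hd, -⟩ := h.ptt.comm
  exact ⟨d, hd⟩

theorem Dx_ne {d : G} (hd : d ∈ E) : (Dx E d).Nonempty := by
  obtain ⟨y, hy⟩ := h.ptt.Dx_ne (d := ⟨d, Subgroup.subset_closure hd⟩) hd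
  exact ⟨y, mem_Dx_sub.1 hy⟩

theorem adj_ne {d : G} (hd : d ∈ E) : ∃ y ∈ E, ¬ Commute d y := by
  obtain ⟨y, hy, h1⟩ := h.ptt.adj_ne (d := ⟨d, Subgroup.subset_closure hd⟩) hd
  exact ⟨y, hy, fun h2 => h1 (commute_coe.1 h2)⟩

theorem comm_closed {U : Set G} (hU : ∀ x ∈ U, x ∈ E → ∀ y ∈ E, Commute x y → y ∈ U) {u : G}
    (hu : u ∈ U) (huE : u ∈ E) : E ⊆ U := fun x hx =>
  (h.ptt.comm_closed (U := {x | (x : G) ∈ U ∧ (x : G) ∈ E})
    (fun x hx y hy hc => ⟨hU x hx.1 hx.2 y hy (commute_coe.2 hc), hy⟩)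
    (u := ⟨u, Subgroup.subset_closure huE⟩) ⟨hu, huE⟩ huE
    (a := ⟨x, Subgroup.subset_closure hx⟩) hx).1

theorem adj_closed {U : Set G} (hU : ∀ x ∈ U, x ∈ E → ∀ y ∈ E, ¬ Commute x y → y ∈ U) {u : G}
    (hu : u ∈ U) (huE : u ∈ E) : E ⊆ U := fun x hx =>
  (h.ptt.adj_closed (U := {x | (x : G) ∈ U ∧ (x : G) ∈ E})
    (fun x hx y hy hc => ⟨hU x hx.1 hx.2 y hy (fun h' => hc (commute_coe.1 h')), hy⟩)
    (u := ⟨u, Subgroup.subset_closure huE⟩) ⟨hu, huE⟩ huE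
    (a := ⟨x, Subgroup.subset_closure hx⟩) hx).1

variable [Finite G]

theorem sep {x y : G} (hx : x ∈ E) (hy : y ∈ E) (hxy : x ≠ y) :
    ∃ f ∈ Dx E x, ¬ Commute f y := by
  obtain ⟨f, hf, h1⟩ := h.ptt.sep (x := ⟨x, Subgroup.subset_closure hx⟩)
    (y := ⟨y, Subgroup.subset_closure hy⟩) hx hy (fun e => hxy (congrArg Subtype.val e))
  exact ⟨f, mem_Dx_sub.1 hf, fun h2 => h1 (commute_coe.1 h2)⟩

/-- a point is determined by the points commuting with it -/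
theorem eq_of_comm {x y : G} (hx : x ∈ E) (hy : y ∈ E)
    (hc : ∀ f ∈ E, f ≠ x → Commute f x → Commute f y) : x = y := by
  by_contra hne
  obtain ⟨f, hf, h1⟩ := h.sep hx hy hne
  exact h1 (hc f hf.1 hf.2.1 hf.2.2.symm)

theorem Dx_connected {d x y : G} (hd : d ∈ E) (hx : x ∈ Dx E d) (hy : y ∈ Dx E d) :
    y ∈ Comp E d x := by
  have := h.ptt.Dx_connected (d := ⟨d, Subgroup.subset_closure hd⟩)
    (x := ⟨x, Subgroup.subset_closure hx.1⟩) (y := ⟨y, Subgroup.subset_closure hy.1⟩) hd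
    (mem_Dx_sub.2 hx) (mem_Dx_sub.2 hy)
  exact rtg_lift' (R := AdjIn (sub E) ⟨d, Subgroup.subset_closure hd⟩) (S := AdjIn E d)
    (fun z : Subgroup.closure E => (z : G))
    (fun a b hab => ⟨mem_Dx_sub.1 hab.1, mem_Dx_sub.1 hab.2.1,
      fun h' => hab.2.2 (commute_coe.1 h')⟩) this

theorem Dx_trans {d x y : G} (hd : d ∈ E) (hx : x ∈ Dx E d) (hy : y ∈ Dx E d) :
    ∃ g ∈ Subgroup.closure (Dx E d), cj g x = y := by
  have h1 := h.Dx_connected hd hx hy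
  clear hy
  induction h1 with
  | refl => exact ⟨1, one_mem _, cj_one _⟩
  | tail _ hbc ih =>
    obtain ⟨g, hg, rfl⟩ := ih
    refine ⟨_ * _ * g, mul_mem (mul_mem (Subgroup.subset_closure hbc.1)
      (Subgroup.subset_closure hbc.2.1)) hg, ?_⟩
    rw [← cj_cj]
    exact h.tt.cj_mul_adj (h.le hbc.1.1) (h.le hbc.2.1.1) hbc.2.2

theorem comm_pair_trans {a b c d : G} (ha : a ∈ E) (hc : c ∈ E) (hb : b ∈ Dx E a)
    (hd : d ∈ Dx E c) : ∃ g ∈ Subgroup.closure E, cj g a = c ∧ cj g b = d := by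
  obtain ⟨g, h1, h2⟩ := h.ptt.comm_pair_trans (a := ⟨a, Subgroup.subset_closure ha⟩)
    (b := ⟨b, Subgroup.subset_closure hb.1⟩) (c := ⟨c, Subgroup.subset_closure hc⟩)
    (d := ⟨d, Subgroup.subset_closure hd.1⟩) ha hc (mem_Dx_sub.2 hb) (mem_Dx_sub.2 hd)
  exact ⟨g, g.2, congrArg Subtype.val h1, congrArg Subtype.val h2⟩

theorem adj_pair_trans {a b c d : G} (ha : a ∈ E) (hb : b ∈ E) (hc : c ∈ E) (hd : d ∈ E)
    (hab : ¬ Commute a b) (hcd : ¬ Commute c d) :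
    ∃ g ∈ Subgroup.closure E, cj g a = c ∧ cj g b = d := by
  obtain ⟨g, h1, h2⟩ := h.ptt.adj_pair_trans (a := ⟨a, Subgroup.subset_closure ha⟩)
    (b := ⟨b, Subgroup.subset_closure hb⟩) (c := ⟨c, Subgroup.subset_closure hc⟩)
    (d := ⟨d, Subgroup.subset_closure hd⟩) ha hb hc hd (fun e => hab (commute_coe.2 e))
    (fun e => hcd (commute_coe.2 e))
  exact ⟨g, g.2, congrArg Subtype.val h1, congrArg Subtype.val h2⟩

/-- `μ > 0` -/
theorem mu_pos {x y : G} (hx : x ∈ E) (hy : y ∈ E) (hxy : ¬ Commute x y) :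
    (Dx E x ∩ Dx E y).Nonempty := by
  obtain ⟨p, hp⟩ := h.Dx_ne hx
  obtain ⟨e, he, hep⟩ := h.sep hp.1 hx hp.2.1
  obtain ⟨g, hg, h1, h2⟩ := h.adj_pair_trans hx he.1 hx hy (fun h' => hep h'.symm) hxy
  refine ⟨cj g p, ?_, ?_⟩
  · rw [← h1]; exact (h.mem_Dx_cj hg).2 hp
  · rw [← h2]; exact (h.mem_Dx_cj hg).2 ⟨hp.1, he.2.1.symm, he.2.2.symm⟩

/-- an `A₄` diagram `x - y - n - m` on any edge -/
theorem exists_A4 {x y : G} (hx : x ∈ E) (hy : y ∈ E) (hxy : ¬ Commute x y) :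
    ∃ n ∈ E, ∃ m ∈ E, ¬ Commute y n ∧ ¬ Commute n m ∧ Commute x n ∧ Commute x m ∧
      Commute y m := by
  obtain ⟨m0, hm0⟩ := h.mu_pos hx hy hxy
  obtain ⟨f, hf, hfy⟩ := h.sep hx hy (fun e => hxy (e ▸ Commute.refl x))
  by_contra hcon
  push Not at hcon
  have := rtg_closed (R := AdjIn E x) (U := {z | Commute y z}) (fun a ha b hab => by
    by_contra hb
    exact hcon b hab.2.1.1 a hab.1.1 hb (fun e => hab.2.2 e.symm) hab.2.1.2.2 hab.1.2.2 ha)
    (h.Dx_connected hx hm0.1 hf) hm0.2.2.2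
  exact hfy (Commute.symm this)

theorem line_eq {L : Set G} (hL : IsLine E L) {a b : G} (ha : a ∈ L) (hb : b ∈ L) (hne : a ≠ b) :
    Ln E a b = L := by
  obtain ⟨p, hp, q, hq, hpq, hc, rfl⟩ := hL
  have hl := isLine_Ln (D := sub E) (p := ⟨p, Subgroup.subset_closure hp⟩)
    (q := ⟨q, Subgroup.subset_closure hq⟩) hp hq (fun e => hpq (congrArg Subtype.val e))
    (commute_coe.1 hc)
  have := h.ptt.line_eq hl (a := ⟨a, Subgroup.subset_closure ha.1⟩)
    (b := ⟨b, Subgroup.subset_closure hb.1⟩) (mem_Ln_sub.2 ha) (mem_Ln_sub.2 hb)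
    (fun e => hne (congrArg Subtype.val e))
  ext z
  constructor
  · intro hz
    have h1 := (mem_Ln_sub (p := ⟨a, Subgroup.subset_closure ha.1⟩)
      (q := ⟨b, Subgroup.subset_closure hb.1⟩) (z := ⟨z, Subgroup.subset_closure hz.1⟩)).2 hz
    rw [this] at h1
    exact mem_Ln_sub.1 h1
  · intro hz
    have h1 := (mem_Ln_sub (p := ⟨p, Subgroup.subset_closure hp⟩)
      (q := ⟨q, Subgroup.subset_closure hq⟩) (z := ⟨z, Subgroup.subset_closure hz.1⟩)).2 hz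
    rw [← this] at h1
    exact mem_Ln_sub.1 h1

theorem all_of_two {L : Set G} (hL : IsLine E L) {a b w z : G} (ha : a ∈ L) (hb : b ∈ L)
    (hne : a ≠ b) (hw : w ∈ E) (h1 : Commute w a) (h2 : Commute w b) (hz : z ∈ L) :
    Commute w z := by
  rw [← h.line_eq hL ha hb hne] at hz
  exact hz.2 w hw h1 h2

theorem pol (ht : Thick E) : Pol (sub E) := by
  obtain ⟨d, hd, a, ha, b, hb, h1, h2⟩ := ht
  exact ⟨h.ptt, ⟨d, Subgroup.subset_closure hd⟩, hd, ⟨a, Subgroup.subset_closure ha.1⟩,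
    mem_Dx_sub.2 ha, ⟨b, Subgroup.subset_closure hb.1⟩, mem_Ln_sub.2 hb,
    fun e => h1 (congrArg Subtype.val e), fun e => h2 (congrArg Subtype.val e)⟩

theorem exists_third (ht : Thick E) {p q : G} (hp : p ∈ E) (hq : q ∈ Dx E p) :
    ∃ c ∈ Ln E p q, c ≠ p ∧ c ≠ q := by
  obtain ⟨d, hd, a, ha, b, hb, h1, h2⟩ := ht
  obtain ⟨g, hg, rfl, rfl⟩ := h.comm_pair_trans hd hp ha hq
  exact ⟨cj g b, (h.mem_Ln_cj hg).2 hb, fun e => h1 (cj_inj.1 e), fun e => h2 (cj_inj.1 e)⟩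

theorem exists_mu (ht : Thick E) {p q y : G} (hp : p ∈ E) (hq : q ∈ Dx E p) (hy : y ∈ E) :
    ∃ m ∈ Ln E p q, Commute y m := by
  obtain ⟨m, hm, h1⟩ := (h.pol ht).exists_mu (isLine_Ln (D := sub E)
    (p := ⟨p, Subgroup.subset_closure hp⟩) (q := ⟨q, Subgroup.subset_closure hq.1⟩) hp hq.1
    (fun e => hq.2.1 (congrArg Subtype.val e).symm) (commute_coe.1 hq.2.2))
    (y := ⟨y, Subgroup.subset_closure hy⟩) hy
  exact ⟨m, mem_Ln_sub.1 hm, commute_coe.2 h1⟩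

theorem exists_adj_M (ht : Thick E) {x y m : G} (hx : x ∈ E) (hy : y ∈ E) (hm : m ∈ E)
    (hxy : ¬ Commute x y) (hmx : Commute m x) (hmy : Commute m y) :
    ∃ e ∈ E, Commute e x ∧ Commute e y ∧ ¬ Commute e m := by
  obtain ⟨e, he, h1, h2, h3⟩ := (h.pol ht).exists_adj_M (x := ⟨x, Subgroup.subset_closure hx⟩)
    (y := ⟨y, Subgroup.subset_closure hy⟩) (m := ⟨m, Subgroup.subset_closure hm⟩) hx hy hm
    (fun e => hxy (commute_coe.2 e)) (commute_coe.1 hmx) (commute_coe.1 hmy)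
  exact ⟨e, he, commute_coe.2 h1, commute_coe.2 h2, fun e => h3 (commute_coe.1 e)⟩

theorem hyp_line (ht : Thick E) {x y z : G} (hx : x ∈ E) (hy : y ∈ E) (hxy : ¬ Commute x y)
    (hz : z ∈ Ln E x y) : z = x ∨ z = y ∨ z = cj x y := by
  have := (h.pol ht).hyp_line (x := ⟨x, Subgroup.subset_closure hx⟩)
    (y := ⟨y, Subgroup.subset_closure hy⟩) hx hy (fun e => hxy (commute_coe.2 e))
    (z := ⟨z, Subgroup.subset_closure hz.1⟩) (mem_Ln_sub.2 hz)
  simpa only [Subtype.ext_iff, coe_cj] using this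

/-- thick spaces are symplectic or unitary -/
theorem model (ht : Thick E) : (∃ m, 2 ≤ m ∧ MSp E m) ∨ ∃ n, 4 ≤ n ∧ MU E n := by
  classical
  have P := h.ptt
  set K := Subgroup.closure E
  let π := QuotientGroup.mk' (Subgroup.center K)
  have hπ : Function.Surjective π := QuotientGroup.mk'_surjective _
  have hi : Set.InjOn π (sub E) := by
    intro x hx y hy e
    by_contra hne
    obtain ⟨f, hf, h1⟩ := P.sep hx hy hne
    apply h1
    have hz : x⁻¹ * y ∈ Subgroup.center K := QuotientGroup.eq.1 e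
    have : y = x * (x⁻¹ * y) := by group
    rw [this]
    exact hf.2.2.symm.mul_right (Subgroup.mem_center_iff.1 hz f)
  have hc : ∀ g : K, ∀ x ∈ sub E, Commute (π g) (π x) ↔ Commute g x := by
    refine fun g x hx => ⟨fun e => ?_, fun e => e.map π⟩
    rw [← cj_eq_self] at e ⊢
    exact hi (P.conj x hx g) hx (by rw [map_cj, e])
  have hZ : Subgroup.center (K ⧸ Subgroup.center K) = ⊥ := by
    rw [eq_bot_iff]
    intro g hg
    obtain ⟨g, rfl⟩ := hπ g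
    rw [Subgroup.mem_bot]
    apply (QuotientGroup.eq_one_iff g).2
    rw [Subgroup.mem_center_iff]
    intro k
    have hk : k ∈ Subgroup.closure (sub E) := by rw [P.gen]; trivial
    have : Commute g k := by
      induction hk using Subgroup.closure_induction with
      | mem z hz => exact (hc g z hz).1 (Subgroup.mem_center_iff.1 hg _).symm
      | one => exact Commute.one_right _
      | mul p q _ _ hp hq => exact hp.mul_right hq
      | inv p _ hp => exact hp.inv_right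
    exact this.symm.eq
  have hpol : Pol (π '' sub E) := by
    obtain ⟨d, hd, a, ha, b, hb, h1, h2⟩ := (h.pol ht).thick
    refine ⟨P.map π hπ hi, _, ⟨d, hd, rfl⟩, π a, ⟨⟨a, ha.1, rfl⟩,
      fun e => ha.2.1 (hi ha.1 hd e), ha.2.2.map π⟩, π b, ⟨⟨b, hb.1, rfl⟩, ?_⟩,
      fun e => h1 (hi hb.1 hd e), fun e => h2 (hi hb.1 ha.1 e)⟩
    rintro _ ⟨w, hw, rfl⟩ e1 e2
    exact (hb.2 w hw ((hc w d hd).1 e1) ((hc w a ha.1).1 e2)).map π
  have key : ∀ {F : Type} [Field F] {σ : F →+* F} {V : Type} [AddCommGroup V] [Module F V]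
      (Φ : Form σ V) (φ : _ → V), Model (π '' sub E) Φ φ → ∃ ψ, Model E Φ ψ := by
    intro F _ σ V _ _ Φ φ hφ
    refine ⟨fun x => if hx : x ∈ K then φ (π ⟨x, hx⟩) else 0, fun x hx z hz => ?_, fun p hp => ?_⟩
    · have hx' : x ∈ K := Subgroup.subset_closure hx
      have hz' : z ∈ K := Subgroup.subset_closure hz
      simp only [dif_pos hx', dif_pos hz']
      rw [← hφ.1 _ ⟨⟨x, hx'⟩, hx, rfl⟩ _ ⟨⟨z, hz'⟩, hz, rfl⟩, hc _ _ hz, commute_mk]
    · obtain ⟨_, ⟨x, hx, rfl⟩, c, hc0, e⟩ := hφ.2 p hp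
      exact ⟨x, hx, c, hc0, by simp only [dif_pos x.2]; exact e⟩
  rcases hpol.model hZ with ⟨m, hm, φ, hφ⟩ | ⟨n, hn, φ, hφ⟩
  · exact Or.inl ⟨m, hm, key _ φ hφ⟩
  · exact Or.inr ⟨n, hn, key _ φ hφ⟩

end LP

/-! conjugation invariance of the types -/

theorem Sy.cj_image {E : Set G} (h : Sy E) (g : G) : Sy (cj g '' E) := by
  rintro _ ⟨x, hx, rfl⟩ _ ⟨y, hy, rfl⟩ _ ⟨z, hz, rfl⟩
  simp only [← cj_cj_conj, commute_cj, ne_eq, cj_inj]
  exact h x hx y hy z hz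

theorem Sy.mono {E E' : Set G} (h : Sy E) (hE : E' ⊆ E) : Sy E' :=
  fun x hx y hy z hz => h x (hE hx) y (hE hy) z (hE hz)

theorem Thick.cj_image {E : Set G} (h : Thick E) (g : G) : Thick (cj g '' E) := by
  obtain ⟨d, hd, a, ha, b, hb, h1, h2⟩ := h
  exact ⟨_, ⟨d, hd, rfl⟩, cj g a, by rw [← image_Dx']; exact ⟨a, ha, rfl⟩, cj g b,
    mem_Ln_cj'.2 hb, fun e => h1 (cj_inj.1 e), fun e => h2 (cj_inj.1 e)⟩

theorem Triple.cj_image {E : Set G} (h : Triple E) (g : G) : Triple (cj g '' E) := by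
  obtain ⟨d, hd, a, ha, b, hb⟩ := h
  refine ⟨_, ⟨d, hd, rfl⟩, cj g a, ?_, cj g b, ?_, ?_⟩ <;> rw [← image_Dx']
  exacts [⟨a, ha, rfl⟩, ⟨b, hb.1, rfl⟩, ⟨b, hb.2, rfl⟩]

theorem Model.cj_image {F : Type*} [Field F] {σ : F →+* F} {V : Type*} [AddCommGroup V]
    [Module F V] {E : Set G} {Φ : Form σ V} {φ : G → V} (h : Model E Φ φ) (g : G) :
    Model (cj g '' E) Φ fun x => φ (cj g⁻¹ x) := by
  refine ⟨?_, fun p hp => ?_⟩
  · rintro _ ⟨x, hx, rfl⟩ _ ⟨z, hz, rfl⟩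
    simp only [commute_cj, cj_inv_cj]
    exact h.1 x hx z hz
  · obtain ⟨x, hx, c, hc, e⟩ := h.2 p hp
    exact ⟨_, ⟨x, hx, rfl⟩, c, hc, by simpa using e⟩

theorem MSp.cj_image {E : Set G} {m : ℕ} (h : MSp E m) (g : G) : MSp (cj g '' E) m :=
  let ⟨_, h⟩ := h; ⟨_, h.cj_image g⟩

theorem MU.cj_image {E : Set G} {n : ℕ} (h : MU E n) (g : G) : MU (cj g '' E) n :=
  let ⟨_, h⟩ := h; ⟨_, h.cj_image g⟩

theorem O3.cj_image {E : Set G} {V : Type} [AddCommGroup V] [Module (ZMod 3) V]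
    {B : V →ₗ[ZMod 3] V →ₗ[ZMod 3] ZMod 3} {φ : G → V} (h : O3 E B φ) (g : G) :
    O3 (cj g '' E) B fun x => φ (cj g⁻¹ x) := by
  refine ⟨h.dim, h.symm, h.nd, ?_, ?_, fun v hv => ?_⟩
  · rintro _ ⟨x, hx, rfl⟩
    simpa using h.one x hx
  · rintro _ ⟨x, hx, rfl⟩ _ ⟨z, hz, rfl⟩
    simp only [commute_cj, cj_inv_cj, ne_eq, cj_inj]
    exact h.comm x hx z hz
  · obtain ⟨x, hx, e⟩ := h.surj v hv
    exact ⟨_, ⟨x, hx, rfl⟩, by simpa using e⟩

theorem MO.cj_image {E : Set G} (h : MO E) (g : G) : MO (cj g '' E) :=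
  let ⟨V, i1, i2, B, _, h⟩ := h; ⟨V, i1, i2, B, _, h.cj_image g⟩

theorem F22.cj_image {D E : Set G} (h : F22 D E) (g : G) : F22 D (cj g '' E) := by
  rintro _ ⟨x, hx, rfl⟩
  rw [← image_Dx']
  exact ⟨(h x hx).1.cj_image g, (h x hx).2.cj_image g⟩

theorem F23.cj_image {D E : Set G} (h : F23 D E) (g : G) : F23 D (cj g '' E) := by
  rintro _ ⟨x, hx, rfl⟩
  rw [← image_Dx']
  exact ⟨(h x hx).1.cj_image g, (h x hx).2.cj_image g⟩

theorem F24.cj_image {D E : Set G} (h : F24 D E) (g : G) : F24 D (cj g '' E) := by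
  rintro _ ⟨x, hx, rfl⟩
  rw [← image_Dx']
  exact ⟨(h x hx).1.cj_image g, (h x hx).2.cj_image g⟩

/-- a conjugation invariant property of one residue holds for all residues -/
theorem LP.all_res {D E : Set G} (h : LP D E) {P : Set G → Prop}
    (hP : ∀ X g, P X → P (cj g '' X)) {d : G} (hd : d ∈ E) (h0 : P (Dx E d)) :
    ∀ x ∈ E, P (Dx E x) := by
  intro x hx
  obtain ⟨g, hg, rfl⟩ := h.trans hd hx
  rw [← h.image_Dx hg]
  exact hP _ g h0

end H0
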