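import Mathlib
import Cfsg.Agent.H0.LP

/-! Residues of primitive Fischer spaces. -/

set_option autoImplicit false
set_option linter.unusedSectionVars false

namespace H0

open H15 H15.Form Module

variable {G : Type*} [Group G]

theorem TT.prim_aux {D : Set G} [Finite G] (hD : TT D)
    (hsol : ∀ N : Subgroup (G ⧸ Subgroup.center G), N.Normal → Group.IsSolvable ↥N → N = ⊥)
    {r : G → G → Prop} (hr : InvEq D r) {a b : G} (ha : a ∈ D) (hb : b ∈ D) (hab : r a b)
    {x0 y0 : G} (hx0 : x0 ∈ D) (hy0 : y0 ∈ D) (hc0 : Commute x0 y0) (hr0 : ¬ r x0 y0) :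
    a * b ∈ Subgroup.center G := by
  let C : G → Set G := fun x => {y | y ∈ D ∧ Commute x y ∧ ¬ r x y}
  have hCi : ∀ g x, cj g '' C x = C (cj g x) := by
    intro g x; ext z
    constructor
    · rintro ⟨w, hw, rfl⟩
      exact ⟨hD.conj _ hw.1 g, commute_cj.2 hw.2.1, fun h => hw.2.2 (hr.inv_iff.1 h)⟩
    · intro hz
      refine ⟨cj g⁻¹ z, ⟨hD.conj _ hz.1 _, ?_, fun h => hz.2.2 ?_⟩, by simp⟩
      · rw [← commute_cj (g := g)]; simpa using hz.2.1
      · simpa using hr.inv g _ _ h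
  have hCcard : ∀ x ∈ D, ∀ y ∈ D, (C x).ncard = (C y).ncard := by
    intro x hx y hy
    obtain ⟨g, rfl⟩ := hD.trans x hx y hy
    rw [← hCi, Set.ncard_image_of_injective _ (cj_injective g)]
  have hCne : ∀ x ∈ D, (C x).Nonempty := by
    intro x hx
    obtain ⟨g, rfl⟩ := hD.trans x0 hx0 x hx
    rw [← hCi]; exact Set.Nonempty.image _ ⟨y0, hy0, hc0, hr0⟩
  let s : G → G → Prop := fun x y => C x = C y
  have hs : InvEq D s :=
    ⟨fun _ _ => rfl, fun _ _ h => h.symm, fun _ _ _ h1 h2 => h1.trans h2,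
      fun g x y h => by simp only [s]; rw [← hCi, ← hCi, h]⟩
  have hrs : ∀ x ∈ D, ∀ y ∈ D, r x y → C x ⊆ C y := by
    intro x hx y hy hxy z hz
    have h1 : ¬ r y z := fun h => hz.2.2 (hr.tr _ _ _ hxy h)
    exact ⟨hz.1, (hD.block' hr hy hz.1 (hr.symm _ _ hxy) (fun h => h1 (hr.symm _ _ h))
      hz.2.1.symm).symm, h1⟩
  have hsab : s a b := (hrs a ha b hb hab).antisymm (hrs b hb a ha (hr.symm _ _ hab))
  have hnot : ∀ x, ∀ y ∈ C x, ¬ s x y := by
    intro x y hy h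
    have : y ∈ C y := h ▸ hy
    exact this.2.2 (hr.refl y hy.1)
  -- blocks
  let B : G → Set G := fun x => {y | y ∈ D ∧ s x y}
  have hBcard : ∀ x ∈ D, ∀ y ∈ D, (B x).ncard = (B y).ncard := by
    intro x hx y hy
    obtain ⟨g, rfl⟩ := hD.trans x hx y hy
    have : cj g '' B x = B (cj g x) := by
      ext z
      constructor
      · rintro ⟨w, hw, rfl⟩; exact ⟨hD.conj _ hw.1 g, hs.inv g _ _ hw.2⟩
      · intro hz
        exact ⟨cj g⁻¹ z, ⟨hD.conj _ hz.1 _, by simpa using hs.inv g⁻¹ _ _ hz.2⟩, by simp⟩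
    rw [← this, Set.ncard_image_of_injective _ (cj_injective g)]
  have hN := blockKer_normal hD hs
  set N := blockKer hD hs with hNdef
  have hsurj : ∀ y ∈ D, ∀ c ∈ D, ¬ s y c → ¬ Commute c y → ∀ c' ∈ B c,
      ∃ b ∈ B y, cj (y * b) c = c' := by
    intro y hy c hc hyc hcy c' hc'
    have hadj : ∀ b ∈ B y, ¬ Commute c b := fun b hb h =>
      hcy (hD.block' hs hy hc hb.2 (fun h => hyc (hs.symm _ _ h)) h)
    have := Set.surj_on_of_inj_on_of_ncard_le (s := B y) (t := B c)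
      (fun b _ => cj (y * b) c) (fun b hb => ⟨hD.conj c hc _,
        hs.symm _ _ (hD.mul_mem_blockKer hs hy hb.1 hb.2 c hc)⟩)
      (fun b b' hb hb' h => by
        rw [← cj_cj, ← cj_cj, cj_inj, ← hD.braid hc hb.1 (hadj b hb),
          ← hD.braid hc hb'.1 (hadj b' hb'), cj_inj] at h
        exact h) (hBcard c hc y hy).le (Set.toFinite _) c' hc'
    obtain ⟨b, hb, h⟩ := this
    exact ⟨b, hb, h.symm⟩
  let K : Subgroup G := Subgroup.closure {g | ∃ x ∈ B a, ∃ y ∈ B a, g = x * y}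
  have hKN : K ≤ N := by
    rw [Subgroup.closure_le]
    rintro _ ⟨x, hx, y, hy, rfl⟩
    exact hD.mul_mem_blockKer hs hx.1 hy.1 (hs.tr _ _ _ (hs.symm _ _ hx.2) hy.2)
  have hKcomm : ∀ k ∈ K, ∀ z, (∀ x ∈ B a, Commute x z) → Commute k z := by
    intro k hk z hz
    induction hk using Subgroup.closure_induction with
    | mem g hg => obtain ⟨x, hx, y, hy, rfl⟩ := hg; exact (hz x hx).mul_left (hz y hy)
    | one => exact Commute.one_left _
    | mul p q _ _ hp hq => exact hp.mul_left hq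
    | inv p _ hp => exact hp.inv_left
  have haB : a ∈ B a := ⟨ha, rfl⟩
  have hout : ∀ c ∈ D, ¬ s a c → Commute c a → ∀ x ∈ B a, Commute x c := by
    intro c hc hac hca x hx
    exact (hD.block' hs hx.1 hc (hs.symm _ _ hx.2)
      (fun h => hac (hs.tr _ _ _ hx.2 (hs.symm _ _ h))) hca).symm
  have h6 : ∀ k ∈ K, ∀ c ∈ D, ¬ s a c → Commute (k ^ 6) c := by
    intro k hk c hc hac
    by_cases hca : Commute c a
    · exact (hKcomm k hk c (hout c hc hac hca)).pow_left 6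
    obtain ⟨y, hy, hyc⟩ : ∃ y ∈ C a, y ∉ C c := by
      by_contra hcon
      push Not at hcon
      exact hac (Set.eq_of_subset_of_ncard_le hcon (hCcard c hc a ha).le)
    have hay : ¬ s a y := hnot a y hy
    have hsyc : ¬ s y c := by
      intro h
      exact hca (hD.block' hs hc ha (hs.symm _ _ h) hac hy.2.1).symm
    have hcy : ¬ Commute c y := by
      intro h
      apply hyc
      refine ⟨hy.1, h, fun h' => hsyc ?_⟩
      exact (hrs y hy.1 c hc (hr.symm _ _ h')).antisymm (hrs c hc y hy.1 h')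
    obtain ⟨b0, hb0, hkb⟩ := hsurj a ha c hc hac hca (cj k c)
      ⟨hD.conj c hc k, hs.symm _ _ (hKN hk c hc)⟩
    have hab0 : a * b0 ∈ K := Subgroup.subset_closure ⟨a, haB, b0, hb0, rfl⟩
    have hfix : ∀ c' ∈ B c, cj k c' = cj (a * b0) c' := by
      intro c' hc'
      obtain ⟨b', hb', rfl⟩ := hsurj y hy.1 c hc hsyc hcy c' hc'
      have hz : ∀ x ∈ B a, Commute x (y * b') := by
        intro x hx
        refine (hout y hy.1 hay hy.2.1.symm x hx).mul_right (hout b' hb'.1 ?_ ?_ x hx)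
        · exact fun h => hay (hs.tr _ _ _ h (hs.symm _ _ hb'.2))
        · exact (hD.block' hs hb'.1 ha (hs.symm _ _ hb'.2)
            (fun h => hay (hs.tr _ _ _ h (hs.symm _ _ hb'.2))) hy.2.1).symm
      rw [cj_cj, (hKcomm k hk _ hz).eq, ← cj_cj, ← hkb, cj_cj, ← (hKcomm _ hab0 _ hz).eq,
        ← cj_cj]
    have hn : ∀ n : ℕ, cj (k ^ n) c = cj ((a * b0) ^ n) c := by
      intro n
      induction n with
      | zero => simp
      | succ n ih =>
        rw [pow_succ', ← cj_cj, ih, hfix, cj_cj, ← pow_succ']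
        exact ⟨hD.conj c hc _, hs.symm _ _ (hKN (pow_mem hab0 n) c hc)⟩
    rw [← cj_eq_self, hn, hD.pow_six ha hb0.1, cj_one]
  have hadjout : ∀ x ∈ D, ∃ c ∈ D, ¬ s x c ∧ ¬ Commute c x := by
    intro x hx
    by_contra hcon
    push Not at hcon
    have : D ⊆ N := by
      intro e he z hz
      by_cases hez : s e z
      · exact hs.tr _ _ _ (TT.cj_rel hs (hs.symm _ _ hez)) hez
      · obtain ⟨g, rfl⟩ := hD.trans x hx e he
        have := hcon (cj g⁻¹ z) (hD.conj z hz _) (fun h => hez (by simpa using hs.inv g _ _ h))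
        rw [← commute_cj (g := g), cj_cj_inv] at this
        rw [cj_of_commute this.symm]
    obtain ⟨y, hy⟩ := hCne a ha
    exact hnot a y hy (hD.total_of_subset hs this a ha y hy.1)
  have h6' : ∀ k ∈ K, k ^ 6 ∈ Subgroup.center G := by
    intro k hk
    have hall : ∀ x ∈ D, Commute (k ^ 6) x := by
      intro x hx
      by_cases hax : s a x
      · obtain ⟨c, hc, hxc, hcx⟩ := hadjout x hx
        have h1 := h6 k hk c hc (fun h => hxc (hs.tr _ _ _ (hs.symm _ _ hax) h))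
        have h2 := h6 k hk (cj x c) (hD.conj c hc x) (fun h => hxc (by
          have := TT.cj_rel hs (hs.tr _ _ _ (hs.symm _ _ h) hax)
          rw [hD.cj_cj_same hx] at this
          exact hs.symm _ _ this))
        rw [← hD.braid hc hx hcx, commute_cj_right h1.symm] at h2
        exact h2
      · exact h6 k hk x hx hax
    have hz : k ^ 6 ∈ Subgroup.center G := by
      rw [Subgroup.mem_center_iff]
      intro g
      have hg : g ∈ Subgroup.closure D := by rw [hD.gen]; trivial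
      have : Commute (k ^ 6) g := by
        induction hg using Subgroup.closure_induction with
        | mem z hz => exact hall z hz
        | one => exact Commute.one_right _
        | mul p q _ _ hp hq => exact hp.mul_right hq
        | inv p _ hp => exact hp.inv_right
      exact this.symm.eq
    exact hz
  have hKn : (K.subgroupOf N).Normal := by
    rw [Subgroup.normal_subgroupOf_iff_le_normalizer hKN, Subgroup.le_normalizer_closure_iff]
    rintro n hn _ ⟨x, hx, y, hy, rfl⟩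
    refine Subgroup.subset_closure ⟨cj n x, ⟨hD.conj _ hx.1 n, ?_⟩, cj n y, ⟨hD.conj _ hy.1 n, ?_⟩,
      cj_mul n x y⟩
    · exact hs.tr _ _ _ hx.2 (hs.symm _ _ (hn x hx.1))
    · exact hs.tr _ _ _ hy.2 (hs.symm _ _ (hn y hy.1))
  let π := QuotientGroup.mk' (Subgroup.center G)
  have hπ : Function.Surjective π := QuotientGroup.mk'_surjective _
  have hKsol : Group.IsSolvable (K.map π) := by
    refine H4.isSolvable_of_primes Nat.prime_two Nat.prime_three fun p hp hd => ?_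
    obtain ⟨_, ⟨k, hk, rfl⟩, hord⟩ := H2.exists_mem_orderOf_eq_prime hp hd
    have h1 : p ∣ 2 * 3 := hord ▸ orderOf_dvd_of_pow_eq_one (by
      rw [← map_pow]; exact (QuotientGroup.eq_one_iff _).2 (h6' k hk))
    rcases (Nat.Prime.dvd_mul hp).1 h1 with h | h
    · exact Or.inl ((Nat.prime_dvd_prime_iff_eq hp Nat.prime_two).1 h)
    · exact Or.inr ((Nat.prime_dvd_prime_iff_eq hp Nat.prime_three).1 h)
  have : (N.map π).Normal := hN.map π hπ
  have hKn' : ((K.map π).subgroupOf (N.map π)).Normal := by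
    rw [Subgroup.normal_subgroupOf_iff (Subgroup.map_mono hKN)]
    rintro _ _ ⟨k, hk, rfl⟩ ⟨n, hn, rfl⟩
    refine ⟨n * k * n⁻¹, ?_, by simp⟩
    exact (Subgroup.normal_subgroupOf_iff hKN).1 hKn k n hk hn
  have hK := eq_bot_of_solvable_subnormal hsol (Subgroup.map_mono hKN) hKn' hKsol
  have h1 : π (a * b) ∈ K.map π :=
    ⟨_, Subgroup.subset_closure ⟨a, haB, b, ⟨hb, hsab⟩, rfl⟩, rfl⟩
  rw [hK, Subgroup.mem_bot] at h1
  exact (QuotientGroup.eq_one_iff _).1 h1

theorem TT.fix_of_cj_eq {D : Set G} (T : TT D) {a x y : G} (ha : a ∈ D) (hx : x ∈ D) (hy : y ∈ D)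
    (hne : x ≠ y) (e : cj x a = cj y a) : Commute a x ∧ Commute a y := by
  have key : ∀ x y : G, x ∈ D → y ∈ D → x ≠ y → cj x a = cj y a → Commute a x := by
    intro x y hx hy hne e
    by_contra h
    have h1 : ¬ Commute a y := by
      intro h1
      rw [cj_of_commute h1.symm, cj_eq_self] at e
      exact h e.symm
    rw [← T.braid ha hx h, ← T.braid ha hy h1, cj_inj] at e
    exact hne e
  exact ⟨key x y hx hy hne e, key y x hy hx hne.symm e.symm⟩

theorem PTT.res [Finite G] {D : Set G} (P : PTT D) (hn : ¬ Thick D) (ht : Triple D) {d : G}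
    (hd : d ∈ D) : PTT (sub (Dx D d)) := by
  have T := P.toTT
  have h := P.lp
  have htr : ∀ x ∈ Dx D d, (Dx D d ∩ Dx D x).Nonempty := by
    obtain ⟨d0, hd0, a0, ha0, z, hz⟩ := ht
    intro x hx
    obtain ⟨g, rfl, rfl⟩ := P.comm_pair_trans hd0 hd ha0 hx
    exact ⟨cj g z, T.mem_Dx_cj.2 hz.1, T.mem_Dx_cj.2 hz.2⟩
  have TK : TT (sub (Dx D d)) := by
    refine ⟨fun x hx => Subtype.ext (T.sq x hx.1), fun x hx y hy => ?_, fun x hx g => ?_,
      fun x hx y hy => ?_, closure_sub _⟩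
    · rcases T.dich x hx.1 y hy.1 with h1 | h1
      · exact Or.inl (commute_coe.1 h1)
      · exact Or.inr (Subtype.ext h1)
    · have := (T.mem_Dx_cj (g := (g : G))).2 hx
      rwa [cj_of_commute (PTT.commute_of_mem_closure g.2)] at this
    · obtain ⟨g, hg, e⟩ := P.Dx_trans hd hx hy
      exact ⟨⟨g, hg⟩, Subtype.ext e⟩
  -- a central product of two points is trivial
  have hcen : ∀ x ∈ Dx D d, ∀ y ∈ Dx D d, (∀ w ∈ Dx D d, Commute w (x * y)) → x = y := by
    intro x hx y hy hc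
    by_contra hne
    refine hn ⟨d, hd, x, hx, y, ⟨hy.1, fun w hw h1 h2 => ?_⟩, hy.2.1, Ne.symm hne⟩
    by_cases hwd : w = d
    · rw [hwd]; exact hy.2.2
    have := h2.mul_right (hc w ⟨hw, hwd, h1.symm⟩)
    rwa [← mul_assoc, T.sq x hx.1, one_mul] at this
  refine ⟨TK, fun r hr => ?_, ?_⟩
  swap
  · obtain ⟨x, hx⟩ := P.Dx_ne hd
    obtain ⟨z, hz⟩ := htr x hx
    exact ⟨⟨x, Subgroup.subset_closure hx⟩, hx, ⟨z, Subgroup.subset_closure hz.1⟩,
      mem_Dx_sub.2 ⟨hz.1, hz.2.2⟩⟩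
  by_contra hcon
  push Not at hcon
  obtain ⟨⟨a, ha, b, hb, hab, hne⟩, x, hx, y, hy, hxy⟩ := hcon
  by_cases hcase : ∀ x ∈ sub (Dx D d), ∀ y ∈ sub (Dx D d), Commute x y → r x y
  · have hadj : ¬ Commute (x : G) y := fun e => hxy (hcase x hx y hy (commute_coe.1 e))
    have hiso : ∀ m ∈ D, Commute m x → Commute m y → m ≠ d → ¬ Commute d m := by
      intro m hm h1 h2 h3 h4
      let m' : Subgroup.closure (Dx D d) := ⟨m, Subgroup.subset_closure ⟨hm, h3, h4⟩⟩
      exact hxy (hr.tr _ _ _ (hcase x hx m' ⟨hm, h3, h4⟩ (commute_coe.1 h1.symm))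
        (hcase m' ⟨hm, h3, h4⟩ y hy (commute_coe.1 h2)))
    have hno : ∀ m ∈ D, ∀ m' ∈ D, Commute m x → Commute m y → Commute m' x → Commute m' y →
        Commute m m' → m = m' := by
      intro m hm m' hm' h1 h2 h3 h4 h5
      by_contra hmm
      have k1 : m ≠ d := fun e => hiso m' hm' h3 h4 (e ▸ Ne.symm hmm) (e ▸ h5)
      have k2 : m' ≠ d := fun e => hiso m hm h1 h2 (e ▸ hmm) (e ▸ h5.symm)
      have k3 := hiso m hm h1 h2 k1
      have k4 := hiso m' hm' h3 h4 k2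
      refine hiso _ (T.conj d hd (m * m')) ?_ ?_ (T.partner_ne hm hm' hd h5 hmm k3).symm
        (T.partner_commute hm hm' hd h5 k3 k4)
      · exact (commute_cj_left (h1.mul_left h3)).2 hx.2.2
      · exact (commute_cj_left (h2.mul_left h4)).2 hy.2.2
    obtain ⟨z, hz⟩ := htr x hx
    have : z ∉ Ln D d x := fun e => hn ⟨d, hd, x, hx, z, e, hz.1.2.1, hz.2.2.1⟩
    simp only [Ln, Set.mem_setOf_eq, not_and, not_forall] at this
    obtain ⟨w, hw, h1, h2, h3⟩ := this hz.1.1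
    obtain ⟨g, e1, e2⟩ := P.adj_pair_trans hw hz.1.1 hx.1 hy.1 h3 hadj
    have := hno _ (T.conj d hd g) _ (T.conj x hx.1 g) (e1 ▸ commute_cj.2 h1.symm)
      (e2 ▸ commute_cj.2 hz.1.2.2) (by nth_rw 2 [← e1]; exact commute_cj.2 h2.symm)
      (e2 ▸ commute_cj.2 hz.2.2.2) (commute_cj.2 hx.2.2)
    exact hx.2.1 (cj_inj.1 this).symm
  push Not at hcase
  obtain ⟨x0, hx0, y0, hy0, hc0, hr0⟩ := hcase
  have hsol : ∀ N : Subgroup (Subgroup.closure (Dx D d) ⧸
      Subgroup.center (Subgroup.closure (Dx D d))), N.Normal → Group.IsSolvable N → N = ⊥ := by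
    intro N hN hs
    by_contra hb
    obtain ⟨p, hp, h2⟩ := H2.exists_prime_pCore_ne_bot hN hs hb
    have : Fact p.Prime := ⟨hp⟩
    let π := QuotientGroup.mk' (Subgroup.center (Subgroup.closure (Dx D d)))
    have hπ : Function.Surjective π := QuotientGroup.mk'_surjective _
    let M := (Cfsg.pCore p _).comap π
    have hM : ¬ M ≤ Subgroup.center _ := by
      intro hle
      apply h2
      rw [eq_bot_iff]
      intro g hg
      obtain ⟨g, rfl⟩ := hπ g
      exact (QuotientGroup.eq_one_iff _).2 (hle hg.1)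
    have hpow : ∀ g ∈ M.map (Subgroup.subtype _), ∀ q : ℕ, q.Coprime p → g ^ q = 1 →
        ∀ w ∈ Dx D d, Commute w g := by
      rintro _ ⟨g, hg, rfl⟩ q hq e w hw
      obtain ⟨k, hk⟩ := H2.pCore_isPGroup p _ ⟨π g, hg⟩
      have h1 : π g ^ p ^ k = 1 := congrArg Subtype.val hk
      have h3 : π g ^ q = 1 := by
        rw [← map_pow, show g ^ q = 1 from Subtype.ext e, map_one]
      have h4 : orderOf (π g) = 1 := Nat.eq_one_of_dvd_coprimes (hq.pow_right k)
        (orderOf_dvd_of_pow_eq_one h3) (orderOf_dvd_of_pow_eq_one h1)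
      rw [orderOf_eq_one_iff] at h4
      have h5 := (QuotientGroup.eq_one_iff _).1 h4
      exact commute_coe.2 (Subgroup.mem_center_iff.1 h5 ⟨w, Subgroup.subset_closure hw⟩)
    obtain ⟨a, ha, b, hb, hab, h1, h3⟩ := T.block_of_noncentral M hM
    by_cases hp2 : p = 2
    · have key : ∀ x ∈ Dx D d, ∀ y ∈ Dx D d, x * y ∈ M.map (Subgroup.subtype _) → Commute x y := by
        intro x hx y hy hm
        by_contra hc
        rw [hcen x hx y hy (hpow _ hm 3 (by rw [hp2]; norm_num)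
          (T.pow_three hx.1 hy.1 (T.braid hx.1 hy.1 hc)))] at hc
        exact hc (Commute.refl y)
      refine hn ⟨d, hd, a, ha, b, ⟨hb.1, fun z hz hzd hza => ?_⟩, hb.2.1, hab.symm⟩
      by_cases hz' : z = d
      · rw [hz']; exact hb.2.2
      by_contra hzb
      exact hzb (key z ⟨hz, hz', hzd.symm⟩ b hb (h3 z ⟨hz, hz', hzd.symm⟩ hza hzb).2)
    · have key : ∀ x ∈ Dx D d, ∀ y ∈ Dx D d, x * y ∈ M.map (Subgroup.subtype _) → Commute x y →
          x = y := by
        intro x hx y hy hm hc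
        refine hcen x hx y hy (hpow _ hm 2 ((Nat.coprime_primes Nat.prime_two hp).2 (Ne.symm hp2)) ?_)
        rw [hc.mul_pow, pow_two, pow_two, T.sq x hx.1, T.sq y hy.1, one_mul]
      have hW : Wodd D d a b := by
        refine ⟨hb, fun hc => hab (key a ha b hb h1 hc), fun z hz hzd hza hne => ?_⟩
        by_cases hz' : z = d
        · rw [hz']; exact hb.2.2
        by_contra hzb
        exact hne (key z ⟨hz, hz', hzd.symm⟩ a ha (h3 z ⟨hz, hz', hzd.symm⟩ hza hzb).1 hza)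
      have := htr a ha
      rw [P.no_triple_of_wodd hd ha hW] at this
      exact Set.not_nonempty_empty this
  have := TK.prim_aux hsol hr ha hb hab hx0 hy0 hc0 hr0
  exact hne (Subtype.ext (hcen a ha b hb fun w hw =>
    commute_coe.2 (Subgroup.mem_center_iff.1 this ⟨w, Subgroup.subset_closure hw⟩)))

theorem thick_sub {E : Set G} : Thick (sub E) ↔ Thick E := by
  constructor
  · rintro ⟨d, hd, a, ha, b, hb, h1, h2⟩
    exact ⟨d, hd, a, mem_Dx_sub.1 ha, b, mem_Ln_sub.1 hb, fun e => h1 (Subtype.ext e),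
      fun e => h2 (Subtype.ext e)⟩
  · rintro ⟨d, hd, a, ha, b, hb, h1, h2⟩
    exact ⟨⟨d, Subgroup.subset_closure hd⟩, hd, ⟨a, Subgroup.subset_closure ha.1⟩,
      mem_Dx_sub.2 ha, ⟨b, Subgroup.subset_closure hb.1⟩, mem_Ln_sub.2 hb,
      fun e => h1 (congrArg Subtype.val e), fun e => h2 (congrArg Subtype.val e)⟩

theorem triple_sub {E : Set G} : Triple (sub E) ↔ Triple E := by
  constructor
  · rintro ⟨d, hd, a, ha, b, hb⟩
    exact ⟨d, hd, a, mem_Dx_sub.1 ha, b, mem_Dx_sub.1 hb.1, mem_Dx_sub.1 hb.2⟩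
  · rintro ⟨d, hd, a, ha, b, hb⟩
    exact ⟨⟨d, Subgroup.subset_closure hd⟩, hd, ⟨a, Subgroup.subset_closure ha.1⟩,
      mem_Dx_sub.2 ha, ⟨b, Subgroup.subset_closure hb.1.1⟩, mem_Dx_sub.2 hb.1, mem_Dx_sub.2 hb.2⟩

/-- transfer of primitivity along an injective homomorphism -/
theorem ptt_sub_image {G' : Type*} [Group G'] (f : G →* G') (hf : Function.Injective f) {X : Set G}
    (h : PTT (sub X)) : PTT (sub (f '' X)) := by
  have hm : (Subgroup.closure X).map f = Subgroup.closure (f '' X) := MonoidHom.map_closure _ _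
  let k : Subgroup.closure X →* Subgroup.closure (f '' X) :=
    (f.comp (Subgroup.closure X).subtype).codRestrict _ fun x => by
      rw [← hm]; exact ⟨x, x.2, rfl⟩
  have hk : Function.Surjective k := by
    rintro ⟨y, hy⟩
    rw [← hm] at hy
    obtain ⟨x, hx, rfl⟩ := hy
    exact ⟨⟨x, hx⟩, rfl⟩
  have := h.map k hk fun x _ y _ e => Subtype.ext (hf (congrArg Subtype.val e))
  convert this using 1
  ext y
  constructor
  · rintro ⟨x, hx, e⟩
    exact ⟨⟨x, Subgroup.subset_closure hx⟩, hx, Subtype.ext e⟩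
  · rintro ⟨x, hx, rfl⟩
    exact ⟨x, hx, rfl⟩

theorem s5_sy : ∀ i j k : Fin 10, s5tab i j ≠ j → s5tab k i ≠ i → s5tab k j ≠ j → k ≠ s5tab i j →
    s5tab k (s5tab i j) = s5tab i j := by decide +kernel

theorem PTT.sy_of_no_triple [Finite G] {D : Set G} (hD : PTT D) (ht : ¬ Triple D) : Sy D := by
  classical
  have T := hD.toTT
  have h := hD.lp
  have hno : ∀ d ∈ D, ∀ a ∈ Dx D d, Dx D d ∩ Dx D a = ∅ := fun d hd a ha => by
    by_contra hne
    exact ht ⟨d, hd, a, ha, Set.nonempty_iff_ne_empty.2 hne⟩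
  obtain ⟨x, hx⟩ := h.nonempty
  obtain ⟨y, hy, hxy⟩ := h.adj_ne hx
  obtain ⟨n, hn, m, hm, h1, h2, h3, h4, h5⟩ := h.exists_A4 hx hy hxy
  obtain ⟨a, ha⟩ := h.mu_pos hx hy hxy
  have h6 := hD.ncard_Dx_of_no_triple hno hx hy hxy ha
  obtain ⟨q, rfl, rfl, rfl, rfl, hq, ht⟩ := T.s5_table hx hy hn hm hxy h1 h2 h3 h4 h5
  have hinj := s5_inj hxy ht
  have hsurj : D ⊆ Set.range q := by
    refine hD.comm_closed ?_ ⟨0, rfl⟩ (hq 0)
    rintro _ ⟨i, rfl⟩ y hy hc
    by_cases hyi : y = q i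
    · exact ⟨i, hyi.symm⟩
    have hsub : (((Finset.univ.filter fun j => j ≠ i ∧ s5tab i j = j).image q : Finset G) : Set G)
        ⊆ Dx D (q i) := by
      intro z hz
      simp only [Finset.coe_image, Finset.coe_filter, Finset.mem_univ, true_and, Set.mem_image,
        Set.mem_setOf_eq] at hz
      obtain ⟨j, ⟨h1, h2⟩, rfl⟩ := hz
      exact ⟨hq j, fun h => h1 (hinj h), by rw [← cj_eq_self, ht, h2]⟩
    have heq := Set.eq_of_subset_of_ncard_le hsub (by
      rw [Set.ncard_coe_finset, Finset.card_image_of_injective _ hinj, s5_three,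
        T.ncard_Dx (hq i) (hq 0), h6])
    have : y ∈ Dx D (q i) := ⟨hy, hyi, hc⟩
    rw [← heq] at this
    simp only [Finset.coe_image, Set.mem_image] at this
    obtain ⟨j, -, rfl⟩ := this
    exact ⟨j, rfl⟩
  intro x hx y hy z hz
  obtain ⟨i, rfl⟩ := hsurj hx
  obtain ⟨j, rfl⟩ := hsurj hy
  obtain ⟨k, rfl⟩ := hsurj hz
  simp only [← cj_eq_self, ht, hinj.eq_iff, ne_eq]
  exact s5_sy i j k

namespace LP

variable [Finite G] {D E : Set G} (h : LP D E)
include h

/-- Step 0: the residues of a non-thick space with a commuting triple are primitive -/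
theorem res (hn : ¬ Thick E) (ht : Triple E) : ∀ d ∈ E, LP D (Dx E d) := by
  intro d hd
  refine ⟨h.tt, (Dx_subset E d).trans h.le, ?_⟩
  have := ptt_sub_image (Subgroup.closure E).subtype (Subgroup.subtype_injective _)
    (h.ptt.res (fun e => hn (thick_sub.1 e)) (triple_sub.2 ht)
      (d := ⟨d, Subgroup.subset_closure hd⟩) hd)
  have e : (Subgroup.closure E).subtype '' Dx (sub E) ⟨d, Subgroup.subset_closure hd⟩ = Dx E d := by
    ext y
    constructor
    · rintro ⟨z, hz, rfl⟩; exact mem_Dx_sub.1 hz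
    · exact fun hy => ⟨⟨y, Subgroup.subset_closure hy.1⟩, mem_Dx_sub.2 hy, rfl⟩
  rwa [e] at this

theorem sy_of_no_triple (ht : ¬ Triple E) : Sy E := by
  have := h.ptt.sy_of_no_triple fun e => ht (triple_sub.1 e)
  intro x hx y hy z hz h1 h2 h3 h4
  exact commute_coe.2 (this ⟨x, Subgroup.subset_closure hx⟩ hx ⟨y, Subgroup.subset_closure hy⟩ hy
    ⟨z, Subgroup.subset_closure hz⟩ hz (fun e => h1 (commute_coe.2 e))
    (fun e => h2 (commute_coe.2 e)) (fun e => h3 (commute_coe.2 e))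
    (fun e => h4 (congrArg Subtype.val e)))

section Model

variable {F : Type*} [Field F] {σ : F →+* F} {V : Type*} [AddCommGroup V] [Module F V]
  [FiniteDimensional F V] {Φ : Form σ V} (hΦ : TF Φ) (hQ : ∀ v, Φ.Q v = Φ.τ) {φ : G → V}
  (M : Model E Φ φ)
include hΦ hQ M

theorem model_pt {x : G} (hx : x ∈ E) : Pt Φ (φ x) := by
  obtain ⟨y, hy, hxy⟩ := h.adj_ne hx
  exact ⟨fun h0 => hxy ((M.1 x hx y hy).2 (by simp [h0])), (M.1 x hx x hx).1 (Commute.refl x), hQ _⟩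

theorem model_Ln {x y z : G} (hx : x ∈ E) (hy : y ∈ E) (hz : z ∈ E) {a b : F}
    (e : φ z = a • φ x + b • φ y) : z ∈ Ln E x y := by
  refine ⟨hz, fun w hw h1 h2 => ?_⟩
  rw [M.1 w hw _ ‹_›] at h1 h2 ⊢
  simp [e, h1, h2]

theorem model_inj {x y : G} (hx : x ∈ E) (hy : y ∈ E) {c : F} (e : φ x = c • φ y) : x = y := by
  refine (h.eq_of_comm hy hx fun f hf _ h1 => ?_).symm
  rw [M.1 f hf _ ‹_›] at h1 ⊢
  simp [e, h1]

/-- every isotropic vector is a nonzero multiple of a point, in the convenient direction -/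
theorem model_surj {p : V} (hp : p ≠ 0) (hpp : Φ.B p p = 0) :
    ∃ x ∈ E, ∃ c : F, c ≠ 0 ∧ φ x = c • p := by
  obtain ⟨x, hx, c, hc, e⟩ := M.2 p ⟨hp, hpp, hQ _⟩
  exact ⟨x, hx, c⁻¹, inv_ne_zero hc, by rw [e, smul_smul, inv_mul_cancel₀ hc, one_smul]⟩

theorem model_cj (ht : Thick E) {x y : G} (hx : x ∈ E) (hy : y ∈ E) :
    ∃ c : F, c ≠ 0 ∧ φ (cj x y) = c • (φ y + Φ.B (φ x) (φ y) • φ x) := by
  by_cases hb : Φ.B (φ x) (φ y) = 0
  · exact ⟨1, one_ne_zero, by rw [cj_of_commute ((M.1 x hx y hy).2 hb)]; simp [hb]⟩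
  have hp := h.model_pt hΦ hQ M hx
  have hq := h.model_pt hΦ hQ M hy
  have hr := hq.map (hΦ.T ⟨_, hp⟩)
  rw [hΦ.T_apply] at hr
  obtain ⟨z, hz, c, hc, e⟩ := h.model_surj hΦ hQ M hr.1 hr.2.1
  have hm : z ∈ Ln E x y := h.model_Ln hΦ hQ M hx hy hz (a := c * Φ.B (φ x) (φ y)) (b := c)
    (by rw [e, smul_add, smul_smul, add_comm])
  rcases h.hyp_line ht hx hy (fun h' => hb ((M.1 x hx y hy).1 h')) hm with h1 | h1 | h1
  · exfalso
    have := (M.1 x hx z hz).1 (h1 ▸ Commute.refl _)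
    simp [e, hp.2.1, hb, hc] at this
  · exfalso
    have := (M.1 y hy z hz).1 (h1 ▸ Commute.refl _)
    simp [e, hq.2.1, hb, hc, hΦ.symm (φ x) (φ y)] at this
  · exact ⟨c, hc, h1 ▸ e⟩

theorem model_span {x y z : G} (hx : x ∈ E) (hy : y ∈ E) (hc : Commute x y) (hz : z ∈ Ln E x y) :
    ∃ a b : F, φ z = a • φ x + b • φ y := by
  by_contra hcon
  have hτ : Φ.τ = 0 := by rw [← hQ 0, Φ.Q_zero]
  have hn : φ z ∉ Submodule.span F {φ x, φ y} := fun e => by
    obtain ⟨a, b, e⟩ := Submodule.mem_span_pair.1 e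
    exact hcon ⟨a, b, e.symm⟩
  have h1 := (M.1 x hx z hz.1).1 (hz.2 x hx (Commute.refl x) hc)
  have h2 := (M.1 y hy z hz.1).1 (hz.2 y hy hc.symm (Commute.refl y))
  obtain ⟨r, k1, k2, k3, -⟩ := hΦ.nd.exists_hyp_partner hn (h.model_pt hΦ hQ M hz.1).2.1
    (by rw [hQ, hτ]) (fun v hv => by
      obtain ⟨a, b, rfl⟩ := Submodule.mem_span_pair.1 hv
      simp [h1, h2])
  obtain ⟨w, hw, c, hc0, e⟩ := h.model_surj hΦ hQ M (p := r) (by rintro rfl; simp at k2) k3
  have := hz.2 w hw ((M.1 x hx w hw).2 (by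
      simp [e, k1 _ (Submodule.subset_span (Set.mem_insert _ _))])).symm
    ((M.1 y hy w hw).2 (by
      simp [e, k1 _ (Submodule.subset_span (Set.mem_insert_of_mem _ rfl))])).symm
  have := (M.1 z hz.1 w hw).1 this.symm
  simp [e, k2, hc0] at this

theorem model_thick : Thick E := by
  obtain ⟨d, hd⟩ := h.nonempty
  obtain ⟨a, ha⟩ := h.Dx_ne hd
  have hp := h.model_pt hΦ hQ M hd
  have hq := h.model_pt hΦ hQ M ha.1
  have h1 := (M.1 d hd a ha.1).1 ha.2.2
  have h2 := (M.1 a ha.1 d hd).1 ha.2.2.symm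
  have hne : ∀ s t : F, s • φ d + t • φ a = 0 → s = 0 ∧ t = 0 := by
    intro s t e
    have ht : t = 0 := by
      by_contra ht
      refine ha.2.1 (h.model_inj hΦ hQ M ha.1 hd (c := -(t⁻¹ * s)) ?_)
      rw [neg_smul, ← smul_smul, eq_neg_of_add_eq_zero_left e, smul_neg, neg_neg, smul_smul,
        inv_mul_cancel₀ ht, one_smul]
    rw [ht, zero_smul, add_zero, smul_eq_zero] at e
    exact ⟨e.resolve_right hp.1, ht⟩
  obtain ⟨b, hb, c, hc, e⟩ := h.model_surj hΦ hQ M (p := φ d + φ a)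
    (fun e => one_ne_zero (hne 1 1 (by simpa using e)).1) (by simp [hp.2.1, hq.2.1, h1, h2])
  refine ⟨d, hd, a, ha, b, h.model_Ln hΦ hQ M hd ha.1 hb (a := c) (b := c) (by rw [e, smul_add]),
    ?_, ?_⟩
  · rintro rfl
    exact hc (hne (c - 1) c (by rw [sub_smul, one_smul, sub_add_eq_add_sub, ← smul_add, ← e, sub_self])).2
  · rintro rfl
    exact hc (hne c (c - 1) (by rw [sub_smul, one_smul, ← add_sub_assoc, ← smul_add, ← e, sub_self])).1

end Model

theorem thick_of_MU {n : ℕ} (hu : MU E n) : Thick E :=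
  let ⟨_, M⟩ := hu; h.model_thick (tf_un F4.card n) (fun _ => rfl) M

theorem thick_of_MSp {m : ℕ} (hu : MSp E m) : Thick E :=
  let ⟨_, M⟩ := hu; h.model_thick (tf_sp m) (fun _ => rfl) M

omit h in
theorem Ln_swap {d y z w : G} (hd : d ∈ E) (hy : y ∈ Dx E d) (hz : z ∈ Dx (Dx E d) y)
    (hw : w ∈ Ln (Dx E y) d z) (hwd : w ≠ d) : w ∈ Ln (Dx E d) y z := by
  have hd' : d ∈ Dx E y := ⟨hd, hy.2.1.symm, hy.2.2.symm⟩
  refine ⟨⟨hw.1.1, hwd, hw.2 d hd' (Commute.refl d) hz.1.2.2⟩, fun v hv h1 h2 => ?_⟩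
  by_cases hvy : v = y
  · rw [hvy]; exact hw.1.2.2
  · exact hw.2 v ⟨hv.1, hvy, h1.symm⟩ hv.2.2.symm h2

theorem sect (hr : ∀ d ∈ E, LP D (Dx E d) ∧ Thick (Dx E d)) {d a y z : G}
    (hd : d ∈ E) (ha : a ∈ E) (hda : ¬ Commute d a) (hy : y ∈ Dx E d) (hya : Commute y a)
    (hz : z ∈ Dx (Dx E d) y) : ∃! m, m ∈ Ln (Dx E d) y z ∧ m ≠ y ∧ Commute m a := by
  have hd' : d ∈ Dx E y := ⟨hd, hy.2.1.symm, hy.2.2.symm⟩
  have ha' : a ∈ Dx E y := ⟨ha, fun e => hda (e ▸ hy.2.2), hya⟩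
  have hz' : z ∈ Dx (Dx E y) d := ⟨⟨hz.1.1, hz.2.1, hz.2.2⟩, hz.1.2.1, hz.1.2.2⟩
  obtain ⟨H, ht⟩ := hr y hy.1
  obtain ⟨m, hm, hma⟩ := H.exists_mu ht hd' hz' ha'
  have hmd : m ≠ d := fun e => hda (e ▸ hma.symm)
  refine ⟨m, ⟨Ln_swap hd hy hz hm hmd, hm.1.2.1, hma.symm⟩, fun m' hm' => ?_⟩
  by_contra hne
  have h1 := Ln_swap hy.1 hd' hz' hm'.1 hm'.2.1
  exact hda (H.all_of_two (isLine_Ln hd' hz'.1 hz'.2.1.symm hz'.2.2) h1 hm hne ha' hm'.2.2.symm
    hma (left_mem_Ln hd')).symm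

end LP

end H0
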