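import Mathlib
import Cfsg.Agent.H0.LP2
import Cfsg.Agent.H16.O3Step2

set_option autoImplicit false

namespace H0

variable {G : Type*} [Group G] [Finite G] {D E : Set G}

theorem o3_step (h : LP D E) (hr : ∀ d ∈ E, LP D (Dx E d) ∧ MO (Dx E d)) : MO E :=
  H16.o3_step h hr

end H0
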