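import Mathlib
import Cfsg.Agent.H0.LP2
import Cfsg.Prelude.Def_Classical
import Cfsg.Agent.H16.O3Fin

set_option autoImplicit false

namespace H0

variable {G : Type*} [Group G] [Finite G] {D E : Set G}

theorem o3_final [IsSimpleGroup G] (hna : ∃ x y : G, x * y ≠ y * x) (h : LP D D) (ho : MO D) :
    ∃ m : ℕ, Nonempty (G ≃* Cfsg.POmega (ZMod 3) (Cfsg.quadFormOdd m (ZMod 3))) :=
  H16.o3_final hna h ho

end H0
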