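import Mathlib
import Cfsg.Agent.H18.SyM
import Cfsg.Prelude.Def_Classical

/-! Symplectic Fischer spaces: the sign character in the non-thick case. -/

set_option autoImplicit false

namespace H0

open H15

variable {G : Type*} [Group G] [Finite G] {D E : Set G}

theorem msp_sy (h : LP D E) {m : ℕ} (hm : MSp E m) : Sy E := by
  have ht := h.thick_of_MSp hm
  obtain ⟨φ, M⟩ := hm
  intro x hx y hy z hz h0 h1 h2 _
  obtain ⟨c, -, e⟩ := h.model_cj (tf_sp m) (fun _ => rfl) M ht hx hy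
  rw [M.1 _ ‹_› _ ‹_›] at h0 h1 h2
  rw [M.1 z hz _ (h.cj_mem hx hy), e]
  simp only [map_smul, map_add, eq_one_two _ h0, eq_one_two _ h1, eq_one_two _ h2, smul_eq_mul]
  exact mul_eq_zero_of_right _ rfl

omit [Finite G] in
theorem TT.exists_sign (T : TT D)
    (h : ∀ l : List G, (∀ x ∈ l, x ∈ D) → l.prod = 1 → Even l.length) :
    ∃ f : G →* ℤˣ, ∀ d ∈ D, f d = -1 := by
  have h1 : ∀ g : G, ∃ l : List G, (∀ x ∈ l, x ∈ D) ∧ l.prod = g := fun g => by
    have hg : g ∈ (Subgroup.closure D).toSubmonoid := T.gen ▸ Subgroup.mem_top g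
    rw [Subgroup.closure_toSubmonoid] at hg
    obtain ⟨l, h1, h2⟩ := Submonoid.exists_list_of_mem_closure hg
    exact ⟨l, fun x hx => (h1 x hx).elim id fun h => by rwa [← inv_inv x, T.inv h], h2⟩
  choose w hw hw' using h1
  have h2 : ∀ l : List G, (∀ x ∈ l, x ∈ D) → l.prod * l.reverse.prod = 1 := fun l hl => by
    rw [List.prod_reverse_noncomm, List.map_congr_left fun x hx => T.inv (hl x hx), List.map_id',
      mul_inv_cancel]
  have key : ∀ l : List G, (∀ x ∈ l, x ∈ D) → (-1 : ℤˣ) ^ (w l.prod).length = (-1) ^ l.length :=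
    fun l hl => by
      have := h (w l.prod ++ l.reverse) (fun x hx => (List.mem_append.1 hx).elim (hw _ x)
        fun hx => hl x (List.mem_reverse.1 hx)) (by rw [List.prod_append, hw', h2 l hl])
      rw [List.length_append, List.length_reverse, Nat.even_add] at this
      simp only [neg_one_pow_eq_ite, this]
  refine ⟨MonoidHom.mk' (fun g => (-1) ^ (w g).length) fun a b => ?_, fun d hd => ?_⟩
  · have := key (w a ++ w b) fun x hx => (List.mem_append.1 hx).elim (hw _ x) (hw _ x)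
    rwa [List.prod_append, hw', hw', List.length_append, pow_add] at this
  · simpa using key [d] (by simpa)

section Orth

variable {V : Type*} [AddCommGroup V] [Module (ZMod 2) V] {Q : QuadraticForm (ZMod 2) V}
  {φ : G → V} (M : SM E Q φ) (h : LP D E) (hs : Sy E)
include M h hs

theorem SM.nondeg (hn : ¬ Thick E) (h4 : SyD4 E) : (ofQuad Q).Nondeg := by
  obtain ⟨d, hd⟩ := h.nonempty
  obtain ⟨a, ha, hda⟩ := h.adj_ne hd
  let U : V → Prop := fun u => ∃ ε, (ε = 0 ∨ ε = φ d) ∧ (u = ε ∨ ∃ q ∈ Dx E d, u = φ q + ε)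
  have U0 : U 0 := ⟨0, .inl rfl, .inl rfl⟩
  have Ud : ∀ u, U u → U (u + φ d) := by
    rintro u ⟨ε, h1, h2⟩
    refine ⟨ε + φ d, ?_, h2.imp (congrArg (· + φ d)) fun ⟨q, hq, e⟩ => ⟨q, hq, by rw [e, add_assoc]⟩⟩
    rcases h1 with rfl | rfl <;> simp [SM.add_self]
  have Uε : ∀ u ε, (ε = 0 ∨ ε = φ d) → U u → U (u + ε) := by
    rintro u ε (rfl | rfl) hu
    · rwa [add_zero]
    · exact Ud u hu
  have Uq : ∀ q ∈ Dx E d, U (φ q) := fun q hq => ⟨0, .inl rfl, .inr ⟨q, hq, (add_zero _).symm⟩⟩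
  have Upq : ∀ p ∈ Dx E d, ∀ q ∈ Dx E d, U (φ p + φ q) := fun p hp q hq => by
    by_cases h1 : p = q
    · rwa [h1, SM.add_self]
    by_cases h2 : Commute p q
    · obtain ⟨c, hc, c1, c2, c3⟩ := h.sy_centre hn h4 hd hp hq h2 h1
      obtain ⟨s, hs', e⟩ := M.quad h hs hc hd hp hq h2 h1 c1 c2 c3
      have := Ud _ (Uq s hs')
      rwa [e, show φ d + φ p + φ q + φ d = φ p + φ q + (φ d + φ d) by abel, SM.add_self,
        add_zero] at this
    · exact M.cj_eq h hs hp.1 hq.1 h2 ▸ Uq _ (h.cj_mem_Dx hp hq)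
  have Uadd : ∀ u v, U u → U v → U (u + v) := by
    rintro u v ⟨ε, h1, rfl | ⟨p, hp, rfl⟩⟩ hv
    · exact add_comm u v ▸ Uε _ _ h1 hv
    · rw [add_right_comm]
      refine Uε _ _ h1 ?_
      obtain ⟨ε', h2, rfl | ⟨q, hq, rfl⟩⟩ := hv
      · exact Uε _ _ h2 (Uq p hp)
      · exact add_assoc (φ p) _ _ ▸ Uε _ _ h2 (Upq p hp q hq)
  have Uc : ∀ y ∈ E, Commute d y → U (φ y) := fun y hy h1 => by
    by_cases h2 : y = d
    · exact ⟨_, .inr rfl, .inl (h2 ▸ rfl)⟩
    · exact Uq y ⟨hy, h2, h1⟩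
  have Ua : ∀ y ∈ E, ¬ Commute d y → ¬ Commute y a → U (φ y + φ a) := fun y hy h1 h2 => by
    rw [← M.cj_eq h hs hy ha h2]
    refine Uc _ (h.cj_mem hy ha) ?_
    rw [← bb_zero, hs.add h.tt h.le hy ha hd h2, bb_of_not h1, bb_of_not hda]; rfl
  have all : ∀ v, U v ∨ U (v + φ a) := by
    refine M.induction (.inl U0) (fun y hy => ?_) fun v w hv hw => ?_
    · by_cases h1 : Commute d y
      · exact .inl (Uc y hy h1)
      by_cases h2 : Commute y a
      · by_cases h3 : y = a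
        · exact .inr (by rwa [h3, SM.add_self])
        have := Ud _ (Ua _ (h.cj_mem hd hy) (h.tt.adj_cj_self h1) fun e =>
          h.tt.adj_cj' (h.le hd) (h.le hy) h1 h2.symm (fun e => hda e.symm) e.symm)
        rw [M.cj_eq h hs hd hy h1, show φ d + φ y + φ a + φ d = φ y + φ a + (φ d + φ d) by abel,
          SM.add_self, add_zero] at this
        exact .inr this
      · exact .inr (Ua y hy h1 h2)
    · rcases hv with hv | hv <;> rcases hw with hw | hw
      · exact .inl (Uadd _ _ hv hw)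
      · exact .inr (add_assoc v w _ ▸ Uadd _ _ hv hw)
      · exact .inr (add_right_comm v _ w ▸ Uadd _ _ hv hw)
      · have := Uadd _ _ hv hw
        rw [show v + φ a + (w + φ a) = v + w + (φ a + φ a) by abel, SM.add_self, add_zero] at this
        exact .inl this
  have Up : ∀ u, U u → H15.pol Q (φ d) u = 0 := by
    rintro u ⟨ε, rfl | rfl, rfl | ⟨q, hq, rfl⟩⟩ <;>
      simp only [map_add, map_zero, SM.pol_self', add_zero] <;> rw [M.pol d hd q hq.1, bb_of hq.2.2]
  intro r (hr : ∀ w, H15.pol Q r w = 0)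
  have hφ : ∀ y ∈ E, r ≠ φ y := fun y hy e => by
    obtain ⟨z, hz, h1⟩ := h.adj_ne hy
    exact h1 (by rw [← bb_zero, ← M.pol y hy z hz, ← e, hr])
  rcases all r with ⟨ε, rfl | rfl, rfl | ⟨q, hq, e⟩⟩ | h1
  · rfl
  · exact (hφ q hq.1 (e.trans (add_zero _))).elim
  · exact (hφ d hd rfl).elim
  · refine M.rad r ?_ hr
    rw [e, quad_add, M.one q hq.1, M.one d hd, M.pol q hq.1 d hd, bb_of hq.2.2.symm]; rfl
  · have := Up _ h1
    rw [map_add, pol_comm, hr, M.pol d hd a ha, bb_of_not hda] at this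
    exact absurd this (by decide)

omit [Finite G] in
theorem SM.prod_refl (l : List G) (hl : ∀ x ∈ l, x ∈ E) :
    l.prod ∈ Subgroup.closure E ∧
      ∀ y ∈ E, ((l.map φ).map (refl Q)).prod.1 (φ y) = φ (cj l.prod y) := by
  induction l with
  | nil => exact ⟨one_mem _, fun y _ => by simp⟩
  | cons x l ih =>
    obtain ⟨h1, h2⟩ := ih fun z hz => hl z (List.mem_cons_of_mem _ hz)
    have hx := hl x List.mem_cons_self
    refine ⟨mul_mem (Subgroup.subset_closure hx) h1, fun y hy => ?_⟩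
    rw [List.prod_cons, ← cj_cj, ← M.refl_eq h hs hx (h.conj hy h1), ← h2 y hy]
    rfl

end Orth

/-- the star through two adjacent points -/
def SySt (E : Set G) (a b : G) : Set G :=
  {x | x ∈ E ∧ (x = a ∨ ¬ Commute x a) ∧ (x = b ∨ ¬ Commute x b) ∧ x ≠ cj a b}

section Star

omit [Finite G]

variable (h : LP D E) (hs : Sy E) (h4 : ¬ SyD4 E) {a b : G} (ha : a ∈ E) (hb : b ∈ E)
  (hab : ¬ Commute a b)
include h ha hb hab

theorem SySt.left : a ∈ SySt E a b :=
  ⟨ha, .inl rfl, .inr hab, fun e => h.tt.adj_cj_self hab (e ▸ Commute.refl _)⟩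

theorem SySt.symm : SySt E a b = SySt E b a := by
  ext x
  simp only [SySt, Set.mem_ofPred_eq, h.tt.braid (h.le ha) (h.le hb) hab]
  tauto

theorem SySt.right : b ∈ SySt E a b :=
  SySt.symm h ha hb hab ▸ SySt.left h hb ha fun e => hab e.symm

include hs h4

theorem SySt.adj {x y : G} (hx : x ∈ SySt E a b) (hy : y ∈ SySt E a b) :
    x = y ∨ ¬ Commute x y := by
  obtain ⟨x0, rfl | x1, x2, x3⟩ := hx
  · exact hy.2.1.imp Eq.symm (mt Commute.symm)
  obtain rfl | x2 := x2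
  · exact hy.2.2.1.imp Eq.symm (mt Commute.symm)
  obtain ⟨y0, rfl | y1, y2, y3⟩ := hy
  · exact .inr x1
  obtain rfl | y2 := y2
  · exact .inr x2
  by_contra! hc
  exact h4 ⟨a, ha, _, h.cj_mem ha hb, x, ⟨x0, x3, (hs a ha b hb x x0 hab x1 x2 x3).symm⟩,
    y, ⟨y0, y3, (hs a ha b hb y y0 hab y1 y2 y3).symm⟩, hc.2, hc.1, h.tt.adj_cj_self hab,
    mt Commute.symm x1, mt Commute.symm y1⟩

theorem SySt.sub {x y : G} (hx : x ∈ SySt E a b) (hy : y ∈ SySt E a b) (hne : x ≠ y) :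
    SySt E a b ⊆ SySt E x y := fun z hz => by
  have hxy := (SySt.adj h hs h4 ha hb hab hx hy).resolve_left hne
  refine ⟨hz.1, SySt.adj h hs h4 ha hb hab hz hx, SySt.adj h hs h4 ha hb hab hz hy, ?_⟩
  rintro rfl
  have T := h.tt
  have dx := h.le hx.1
  have dy := h.le hy.1
  have key : ∀ w ∈ SySt E a b, w = x ∨ w = y ∨ w = cj x y := fun w hw => by
    by_contra! hc
    exact (SySt.adj h hs h4 ha hb hab hw hz).resolve_left hc.2.2 (hs x hx.1 y hy.1 w hw.1 hxy
      ((SySt.adj h hs h4 ha hb hab hw hx).resolve_left hc.1)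
      ((SySt.adj h hs h4 ha hb hab hw hy).resolve_left hc.2.1) hc.2.2)
  rcases key a (SySt.left h ha hb hab) with e1 | e1 | e1 <;>
    rcases key b (SySt.right h ha hb hab) with e2 | e2 | e2
  · exact hab (by rw [e1, e2])
  · exact hz.2.2.2 (by rw [e1, e2])
  · exact hy.2.2.2 (by rw [e1, e2, T.cj_cj_same dx])
  · exact hz.2.2.2 (by rw [e1, e2, T.braid dx dy hxy])
  · exact hab (by rw [e1, e2])
  · exact hx.2.2.2 (by rw [e1, e2, T.braid dx dy hxy, T.cj_cj_same dy])
  · exact hy.2.2.2 (by rw [e1, e2, T.cj_cj_left dx dy hxy])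
  · exact hx.2.2.2 (by rw [e1, e2, T.cj_cj_right dx dy hxy])
  · exact hab (by rw [e1, e2])

theorem SySt.eq {x y : G} (hx : x ∈ SySt E a b) (hy : y ∈ SySt E a b) (hne : x ≠ y) :
    SySt E x y = SySt E a b :=
  (SySt.sub h hs h4 hx.1 hy.1 ((SySt.adj h hs h4 ha hb hab hx hy).resolve_left hne)
    (SySt.sub h hs h4 ha hb hab hx hy hne (SySt.left h ha hb hab))
    (SySt.sub h hs h4 ha hb hab hx hy hne (SySt.right h ha hb hab))
    fun e => hab (e ▸ Commute.refl _)).antisymm (SySt.sub h hs h4 ha hb hab hx hy hne)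

theorem SySt.fix {d : G} (hd : d ∈ E) (h1 : Commute d a) (h2 : d ≠ a) :
    SySt E (cj d a) (cj d b) = SySt E a b := by
  rw [cj_of_commute h1]
  by_cases h3 : Commute d b
  · rw [cj_of_commute h3]
  have h5 : ¬ Commute a (cj d b) := h.tt.adj_cj h1.symm hab
  refine SySt.eq h hs h4 ha hb hab (SySt.left h ha hb hab) ⟨h.cj_mem hd hb,
    .inr (mt Commute.symm h5), .inr (mt Commute.symm (h.tt.adj_cj_self' (h.le hd) (h.le hb) h3)),
    fun e => h3 (h.tt.fix_of_cj_eq (h.le hb) (h.le hd) (h.le ha) h2 e).1.symm⟩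
    fun e => h5 (e ▸ Commute.refl _)

end Star

omit [Finite G] in
theorem SySt.image (T : TT D) (g a b : G) : cj g '' SySt D a b = SySt D (cj g a) (cj g b) := by
  ext x
  obtain ⟨y, rfl⟩ : ∃ y, x = cj g y := ⟨_, (cj_cj_inv g x).symm⟩
  simp [SySt, T.mem_cj, ← cj_cj_conj]

theorem sy_sign_of_not_D4 (h : LP D D) (hs : Sy D) (h4 : ¬ SyD4 D) :
    ∃ f : G →* ℤˣ, ∀ d ∈ D, f d = -1 := by
  classical
  have T := h.tt
  let Ω := {S : Set G // ∃ a ∈ D, ∃ b ∈ D, ¬ Commute a b ∧ S = SySt D a b}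
  let _ : MulAction G Ω :=
    { smul := fun g S => ⟨cj g '' S.1, by
        obtain ⟨a, ha, b, hb, h1, e⟩ := S.2
        exact ⟨_, T.conj a ha g, _, T.conj b hb g, by simpa, by rw [e, SySt.image T]⟩⟩
      one_smul := fun S => Subtype.ext (show cj 1 '' S.1 = S.1 by simp)
      mul_smul := fun g k S => Subtype.ext (cj_image_cj g k S.1).symm }
  have := Fintype.ofFinite Ω
  have hsm : ∀ (g : G) (S : Ω), (g • S).1 = cj g '' S.1 := fun _ _ => rfl
  refine ⟨Equiv.Perm.sign.comp (MulAction.toPermHom G Ω), fun d hd => ?_⟩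
  obtain ⟨a, ha, hda⟩ := h.adj_ne hd
  have ha' := T.conj a ha d
  have hda' := T.adj_cj_self hda
  let S₁ : Ω := ⟨_, d, hd, a, ha, hda, rfl⟩
  let S₂ : Ω := ⟨_, d, hd, _, ha', hda', rfl⟩
  have hne : S₁ ≠ S₂ := fun e =>
    ((congrArg Subtype.val e).ge (SySt.right h hd ha' hda')).2.2.2 rfl
  suffices e : MulAction.toPermHom G Ω d = Equiv.swap S₁ S₂ by
    rw [MonoidHom.comp_apply, e, Equiv.Perm.sign_swap hne]
  refine Equiv.ext fun S => ?_
  rw [MulAction.toPermHom_apply, MulAction.toPerm_apply]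
  by_cases h1 : S = S₁
  · rw [h1, Equiv.swap_apply_left]
    exact Subtype.ext (by rw [hsm, SySt.image T, cj_self])
  by_cases h2 : S = S₂
  · rw [h2, Equiv.swap_apply_right]
    exact Subtype.ext (by rw [hsm, SySt.image T, cj_self, T.cj_cj_same hd])
  rw [Equiv.swap_apply_of_ne_of_ne h1 h2]
  obtain ⟨_, x, hx, y, hy, hxy, rfl⟩ := S
  refine Subtype.ext ?_
  rw [hsm, SySt.image T, Subtype.coe_mk]
  by_cases h3 : d ∈ SySt D x y
  · exfalso
    obtain ⟨z, hz, hzd⟩ : ∃ z ∈ SySt D x y, d ≠ z := by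
      by_cases e : d = x
      · exact ⟨y, SySt.right h hx hy hxy, fun e' => hxy (by rw [← e, ← e'])⟩
      · exact ⟨x, SySt.left h hx hy hxy, e⟩
    have h5 := (SySt.adj h hs h4 hx hy hxy h3 hz).resolve_left hzd
    have h6 := SySt.eq h hs h4 hx hy hxy h3 hz hzd
    have h7 : z ∈ SySt D d a ∨ z ∈ SySt D d (cj d a) := by
      by_cases e1 : z = a
      · exact .inl (e1.symm ▸ SySt.right h hd ha hda)
      by_cases e2 : z = cj d a
      · exact .inr (e2.symm ▸ SySt.right h hd ha' hda')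
      by_cases e3 : Commute z a
      · exact .inr ⟨hz.1, .inr (mt Commute.symm h5), .inr (T.adj_cj' hd ha hda e3
          (mt Commute.symm h5)), by rwa [T.cj_cj_same hd]⟩
      · exact .inl ⟨hz.1, .inr (mt Commute.symm h5), .inr e3, e2⟩
    rcases h7 with h7 | h7
    · exact h1 (Subtype.ext (h6.symm.trans
        (SySt.eq h hs h4 hd ha hda (SySt.left h hd ha hda) h7 hzd)))
    · exact h2 (Subtype.ext (h6.symm.trans
        (SySt.eq h hs h4 hd ha' hda' (SySt.left h hd ha' hda') h7 hzd)))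
  · simp only [SySt, Set.mem_ofPred_eq, hd, true_and, not_and_or, not_or, not_not] at h3
    rcases h3 with h3 | h3 | h3
    · exact SySt.fix h hs h4 hx hy hxy hd h3.2 h3.1
    · rw [SySt.symm h (T.conj x hx d) (T.conj y hy d) (by simpa), SySt.symm h hx hy hxy]
      exact SySt.fix h hs h4 hy hx (mt Commute.symm hxy) hd h3.2 h3.1
    · rw [h3, T.cj_cj_left hx hy hxy, T.cj_cj_right hx hy hxy, SySt.symm h hx hy hxy]

theorem sy_final (h : LP D D) (hs : Sy D) (hn : ¬ Thick D) :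
    ∃ f : G →* ℤˣ, ∀ d ∈ D, f d = -1 := by
  by_cases h4 : SyD4 D
  · obtain ⟨W, Q, φ, M⟩ := exists_SM D
    refine h.tt.exists_sign fun l hl e => ?_
    have := (even_and_isSquare_of_prod_refl (M.nondeg h hs hn h4) (l.map φ) (fun a ha => ?_) ?_).1
    · rwa [List.length_map] at this
    · obtain ⟨x, hx, rfl⟩ := List.mem_map.1 ha
      rw [M.one x (hl x hx)]; exact one_ne_zero
    · refine Subtype.ext (LinearEquiv.ext (M.induction (by simp) (fun y hy => ?_)
        fun v w hv hw => by rw [map_add, map_add, hv, hw]))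
      rw [(M.prod_refl h hs l hl).2 y hy, e, cj_one]; rfl
  · exact sy_sign_of_not_D4 h hs h4

end H0
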