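import Mathlib
import Cfsg.Agent.H0.SyA
import Cfsg.Agent.H18.SyE6

/-! Non-symplectic Fischer spaces with symplectic residues: the residues are of type `E₆`. -/

set_option autoImplicit false

namespace H0

open H15

variable {G : Type*} [Group G] [Finite G] {D E : Set G}

/-- no four pairwise adjacent points commute with two adjacent points -/
def SyK (X : Set G) : Prop := ∀ a ∈ X, ∀ b ∈ X, ¬ Commute a b → ∀ x : Fin 4 → G,
  (∀ i, x i ∈ X ∧ Commute (x i) a ∧ Commute (x i) b) → ∃ i j, i ≠ j ∧ Commute (x i) (x j)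

omit [Finite G] in
theorem SyK.cj_image (h : SyK E) (g : G) : SyK (cj g '' E) := by
  rintro _ ⟨a, ha, rfl⟩ _ ⟨b, hb, rfl⟩ hab x hx
  obtain ⟨i, j, h1, h2⟩ := h a ha b hb (by simpa using hab) (fun i => cj g⁻¹ (x i)) fun i =>
    ⟨mem_image_cj'.1 (hx i).1, by simpa using (commute_cj (g := g⁻¹)).2 (hx i).2.1,
      by simpa using (commute_cj (g := g⁻¹)).2 (hx i).2.2⟩
  exact ⟨i, j, h1, commute_cj.1 h2⟩

section Model

variable {V : Type*} [AddCommGroup V] [Module (ZMod 2) V] {Q : QuadraticForm (ZMod 2) V}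
  {φ : G → V}

omit [Finite G] in
/-- projection away from a hyperbolic pair -/
theorem sy_proj {a b : V} (hab : pol Q a b = 1) (v : V) : ∃ w, pol Q a w = 0 ∧ pol Q b w = 0 ∧
    ∀ u, pol Q u a = 0 → pol Q u b = 0 → pol Q u w = pol Q u v := by
  refine ⟨v + pol Q b v • a + pol Q a v • b, ?_, ?_, fun u h1 h2 => ?_⟩ <;>
    simp only [map_add, map_smul, SM.pol_self', pol_comm Q b a, smul_eq_mul, mul_one, mul_zero,
      add_zero, *] <;> exact CharTwo.add_self_eq_zero _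

variable (M : SM E Q φ) (h : LP D E) (hs : Sy E)
include M

omit [Finite G] in
theorem SM.k4 (hK : SyK E) {a b : G} (ha : a ∈ E) (hb : b ∈ E) (hab : ¬ Commute a b) (v : Fin 4 → V)
    (h1 : ∀ i, ∃ x ∈ E, ∀ w, H15.pol Q w (φ x) = H15.pol Q w (v i))
    (h2 : ∀ i, H15.pol Q (φ a) (v i) = 0 ∧ H15.pol Q (φ b) (v i) = 0)
    (h3 : ∀ i j, i ≠ j → H15.pol Q (v i) (v j) = 1) : False := by
  choose x hx e using h1
  obtain ⟨i, j, h4, h5⟩ := hK a ha b hb hab x fun i => ⟨hx i,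
    (bb_zero.1 (by rw [← M.pol a ha _ (hx i), e, (h2 i).1])).symm,
    (bb_zero.1 (by rw [← M.pol b hb _ (hx i), e, (h2 i).2])).symm⟩
  rw [← bb_zero, ← M.pol _ (hx i) _ (hx j), e, pol_comm, e, h3 j i h4.symm] at h5
  exact one_ne_zero h5

include h hs

theorem SM.thick_add (ht : Thick E) {p q : G} (hp : p ∈ E) (hq : q ∈ E) (hne : p ≠ q) :
    ∃ r ∈ E, ∀ w, H15.pol Q w (φ r) = H15.pol Q w (φ p + φ q) := by
  by_cases hpq : Commute p q
  swap
  · exact ⟨_, h.cj_mem hp hq, fun w => by rw [M.cj_eq h hs hp hq hpq]⟩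
  have hq' : q ∈ Dx E p := ⟨hq, hne.symm, hpq⟩
  obtain ⟨r, hr, r1, r2⟩ := h.exists_third ht hp hq'
  have hL := isLine_Ln hp hq hne hpq
  have mp : p ∈ Ln E p q := left_mem_Ln hp
  have mq : q ∈ Ln E p q := right_mem_Ln hq
  refine ⟨r, hr.1, M.induction (by simp) (fun z hz => ?_) fun a b ha hb => by
    rw [map_add, LinearMap.add_apply, LinearMap.add_apply, ha, hb]⟩
  rw [map_add, M.pol z hz p hp, M.pol z hz q hq, M.pol z hz r hr.1]
  by_cases h1 : Commute z p <;> by_cases h2 : Commute z q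
  · rw [bb_of h1, bb_of h2, bb_of (hr.2 z hz h1 h2), add_zero]
  · rw [bb_of h1, bb_of_not h2, zero_add,
      bb_of_not fun e => h2 (h.all_of_two hL mp hr r1.symm hz h1 e mq)]
  · rw [bb_of h2, bb_of_not h1, add_zero,
      bb_of_not fun e => h1 (h.all_of_two hL mq hr r2.symm hz h2 e mp)]
  · rw [bb_of_not h1, bb_of_not h2, bb_of]
    · rfl
    by_contra h3
    obtain ⟨s, hs', e⟩ := M.quad h hs hz hp hq' ⟨hr.1, r1, hL.comm mp hr⟩ (hL.comm mq hr) r2.symm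
      h1 h2 h3
    have key : ∀ w ∈ E, bb w s = bb w p + bb w q + bb w r := fun w hw => by
      rw [← M.pol w hw s hs'.1, e, map_add, map_add, M.pol w hw p hp, M.pol w hw q hq,
        M.pol w hw r hr.1]
    have ms : s ∈ Ln E p q := ⟨hs'.1, fun w hw a b => by
      rw [← bb_zero, key w hw, bb_of a, bb_of b, bb_of (hr.2 w hw a b)]; rfl⟩
    obtain ⟨f, hf, h4⟩ := h.sep hp hq hne
    refine h4 (h.all_of_two hL mp ms hs'.2.1.symm hf.1 hf.2.2.symm ?_ mq)
    rw [← bb_zero, key f hf.1, bb_of hf.2.2.symm, bb_of_not h4,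
      bb_of_not fun e => h4 (h.all_of_two hL mp hr r1.symm hf.1 hf.2.2.symm e mq)]
    rfl

theorem SM.thick_full (ht : Thick E) (v : V) :
    (∀ w, H15.pol Q w v = 0) ∨ ∃ x ∈ E, ∀ w, H15.pol Q w (φ x) = H15.pol Q w v := by
  refine M.induction (P := fun v => (∀ w, H15.pol Q w v = 0) ∨
    ∃ x ∈ E, ∀ w, H15.pol Q w (φ x) = H15.pol Q w v) (.inl (by simp))
    (fun x hx => .inr ⟨x, hx, fun _ => rfl⟩) ?_ v
  rintro v w (h1 | ⟨x, hx, h1⟩) (h2 | ⟨y, hy, h2⟩)
  · exact .inl fun u => by rw [map_add, h1, h2, add_zero]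
  · exact .inr ⟨y, hy, fun u => by rw [map_add, h1, h2, zero_add]⟩
  · exact .inr ⟨x, hx, fun u => by rw [map_add, h1, h2, add_zero]⟩
  · by_cases e : x = y
    · exact .inl fun u => by rw [map_add, ← h1, ← h2, e]; exact CharTwo.add_self_eq_zero _
    · obtain ⟨r, hr, h3⟩ := M.thick_add h hs ht hx hy e
      exact .inr ⟨r, hr, fun u => by rw [h3, map_add, map_add, h1, h2]⟩

omit hs in
theorem SM.exists_pol {x y : G} (hx : x ∈ E) (hy : y ∈ E) (hne : x ≠ y) :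
    ∃ w, H15.pol Q (φ x + φ y) w = 1 := by
  obtain ⟨f, hf, h1⟩ := h.sep hx hy hne
  exact ⟨φ f, by rw [pol_comm, map_add, M.pol f hf.1 x hx, M.pol f hf.1 y hy, bb_of hf.2.2.symm,
    bb_of_not h1, zero_add]⟩

omit M h hs [Finite G] in
theorem sy_dual {u v a c : V} (ha : pol Q u a = 1) (hc : pol Q (u + v) c = 1) :
    ∃ w, pol Q u w = 1 ∧ pol Q v w = 0 := by
  rw [map_add, LinearMap.add_apply] at hc
  rcases sy_f2 (pol Q v a) with h1 | h1
  · exact ⟨a, ha, h1⟩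
  rcases sy_f2 (pol Q v c) with h2 | h2
  · exact ⟨c, by rwa [h2, add_zero] at hc, h2⟩
  · rw [h2, add_eq_right] at hc
    exact ⟨a + c, by rw [map_add, ha, hc, add_zero], by rw [map_add, h1, h2]; rfl⟩

theorem SM.not_thick (hK : SyK E) (h4 : SyD4 E) : ¬ Thick E := fun ht => by
  obtain ⟨c, hc, p, hp, q, hq, r, hr, h1, h2, h3, h4, h5⟩ := h4
  obtain ⟨a, ha⟩ := M.exists_pol h hp hq.1 hq.2.1.symm
  obtain ⟨b, hb⟩ := M.exists_pol h hp hr.1 hr.2.1.symm
  obtain ⟨k, hk⟩ := M.exists_pol h hq.1 hr.1 h2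
  rw [← zero_add (φ q + φ r), ← SM.add_self (φ p), add_add_add_comm] at hk
  obtain ⟨f₀, f1, f2⟩ := sy_dual ha hk
  obtain ⟨g₀, g1, g2⟩ := sy_dual hb (add_comm (φ p + φ q) _ ▸ hk)
  have hcp : H15.pol Q (φ c) (φ p) = 1 := by rw [M.pol c hc p hp, bb_of_not h3]
  have uc : H15.pol Q (φ c) (φ p + φ q) = 0 := by
    rw [map_add, hcp, M.pol c hc q hq.1, bb_of_not h4]; rfl
  have vc : H15.pol Q (φ c) (φ p + φ r) = 0 := by
    rw [map_add, hcp, M.pol c hc r hr.1, bb_of_not h5]; rfl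
  have up : H15.pol Q (φ p) (φ p + φ q) = 0 := by
    rw [map_add, SM.pol_self', M.pol p hp q hq.1, bb_of hq.2.2, add_zero]
  have vp : H15.pol Q (φ p) (φ p + φ r) = 0 := by
    rw [map_add, SM.pol_self', M.pol p hp r hr.1, bb_of hr.2.2, add_zero]
  have uv : H15.pol Q (φ p + φ q) (φ p + φ r) = 0 := by
    rw [map_add, pol_comm, up, pol_comm, map_add, M.pol r hr.1 p hp, M.pol r hr.1 q hq.1,
      bb_of hr.2.2.symm, bb_of h1.symm]; rfl
  generalize φ p + φ q = u at *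
  generalize φ p + φ r = v at *
  obtain ⟨f, f3, f4, f5⟩ := sy_proj hcp f₀
  obtain ⟨g, g3, g4, g5⟩ := sy_proj hcp g₀
  rw [← f5 _ (pol_comm Q _ _ ▸ uc) (pol_comm Q _ _ ▸ up)] at f1
  rw [← f5 _ (pol_comm Q _ _ ▸ vc) (pol_comm Q _ _ ▸ vp)] at f2
  rw [← g5 _ (pol_comm Q _ _ ▸ vc) (pol_comm Q _ _ ▸ vp)] at g1
  rw [← g5 _ (pol_comm Q _ _ ▸ uc) (pol_comm Q _ _ ▸ up)] at g2
  have key : ∀ i j, i ≠ j → H15.pol Q (![u, f, u + f + v, u + f + g + H15.pol Q f g • u] i)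
      (![u, f, u + f + v, u + f + g + H15.pol Q f g • u] j) = 1 := fun i j hij => by
    fin_cases i <;> fin_cases j <;> first
      | exact absurd rfl hij
      | simp only [Fin.zero_eta, Fin.mk_one, Fin.reduceFinMk, Matrix.cons_val, map_add, map_smul,
          LinearMap.add_apply, LinearMap.smul_apply, SM.pol_self', pol_comm Q f u, pol_comm Q v u,
          pol_comm Q g u, pol_comm Q f v, pol_comm Q g v, pol_comm Q g f, f1, f2, g1, g2, uv,
          smul_eq_mul] <;>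
        (generalize H15.pol Q f g = t
         revert t; decide)
  refine M.k4 hK hc hp h3 _ (fun i => (M.thick_full h hs ht _).resolve_left fun e => ?_)
    (fun i => ?_) key
  · obtain ⟨j, hj⟩ := exists_ne i
    exact one_ne_zero ((key j i hj).symm.trans (e _))
  · fin_cases i <;> simp only [Fin.zero_eta, Fin.mk_one, Fin.reduceFinMk, Matrix.cons_val, map_add,
      map_smul, add_zero, smul_zero, and_self, *]

theorem SM.surj (hn : ¬ Thick E) (h4 : SyD4 E) {v : V} (hv : Q v = 1) : ∃ x ∈ E, φ x = v := by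
  let S : V → Prop := fun v => v = 0 ∨ (∃ x ∈ E, φ x = v) ∨
    ∃ p ∈ E, ∃ q ∈ Dx E p, v = φ p + φ q
  have two : ∀ p ∈ E, ∀ q ∈ E, S (φ p + φ q) := fun p hp q hq => by
    by_cases h1 : q = p
    · exact .inl (by rw [h1, SM.add_self])
    by_cases h2 : Commute p q
    · exact .inr (.inr ⟨p, hp, q, ⟨hq, h1, h2⟩, rfl⟩)
    · exact .inr (.inl ⟨_, h.cj_mem hp hq, M.cj_eq h hs hp hq h2⟩)
  have all : ∀ w v, S v → S (v + w) := by
    refine M.induction (by simp) (fun z hz v hv => ?_) fun a b ha hb v hv =>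
      add_assoc v a b ▸ hb _ (ha v hv)
    rcases hv with rfl | ⟨x, hx, rfl⟩ | ⟨p, hp, q, hq, rfl⟩
    · exact .inr (.inl ⟨z, hz, (zero_add _).symm⟩)
    · exact two x hx z hz
    by_cases h1 : Commute p z
    · by_cases h2 : Commute q z
      · by_cases h3 : z = p
        · exact .inr (.inl ⟨q, hq.1, by rw [h3, add_right_comm, SM.add_self, zero_add]⟩)
        by_cases h5 : q = z
        · exact .inr (.inl ⟨p, hp, by rw [h5, add_assoc, SM.add_self, add_zero]⟩)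
        obtain ⟨c, hc, c1, c2, c3⟩ := h.sy_centre hn h4 hp hq ⟨hz, h3, h1⟩ h2 h5
        obtain ⟨s, hs', e⟩ := M.quad h hs hc hp hq ⟨hz, h3, h1⟩ h2 h5 c1 c2 c3
        exact .inr (.inl ⟨s, hs'.1, e⟩)
      · rw [add_assoc, ← M.cj_eq h hs hq.1 hz h2]
        exact two p hp _ (h.cj_mem hq.1 hz)
    · rw [add_right_comm, ← M.cj_eq h hs hp hz h1]
      exact two _ (h.cj_mem hp hz) q hq.1
  rcases zero_add v ▸ all v 0 (.inl rfl) with rfl | h1 | ⟨p, hp, q, hq, rfl⟩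
  · exact absurd hv (by simp)
  · exact h1
  · rw [quad_add, M.one p hp, M.one q hq.1, M.pol p hp q hq.1, bb_of hq.2.2] at hv
    exact absurd hv (by decide)

end Model

omit [Finite G] in
theorem sy_three (h : LP D E) (hs : Sy E) {X : Set G} (hX : LP D X) (hE : X ⊆ E) {q a b c : G}
    (hq : q ∈ E) (ha : a ∈ X) (hb : b ∈ X) (hc : c ∈ X) (hab : ¬ Commute a b) (hac : ¬ Commute a c)
    (hbc : ¬ Commute b c) (h1 : ¬ Commute q a) (h2 : ¬ Commute q b)
    (h3 : ¬ Commute q c) : ∃ y ∈ X, ∃ y' ∈ X, ¬ Commute y y' ∧ Commute q y ∧ Commute q y' := by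
  refine ⟨_, hX.cj_mem ha hb, _, hX.cj_mem ha hc, by simpa, ?_, ?_⟩
  · rw [← bb_zero, hs.add h.tt h.le (hE ha) (hE hb) hq hab, bb_of_not h1, bb_of_not h2]; rfl
  · rw [← bb_zero, hs.add h.tt h.le (hE ha) (hE hc) hq hac, bb_of_not h1, bb_of_not h3]; rfl

theorem sy_mu_adj (h : LP D E) (hs : Sy E) (hn : ¬ Thick E) (ht : Triple E) {p q : G} (hp : p ∈ E)
    (hq : q ∈ E) : ∃ y ∈ Dx E p, ∃ y' ∈ Dx E p, ¬ Commute y y' ∧ Commute q y ∧ Commute q y' := by
  have X := h.res hn ht p hp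
  have T := h.tt
  obtain ⟨x, hx⟩ := X.nonempty
  obtain ⟨y, hy, hxy⟩ := X.adj_ne hx
  obtain ⟨a, ha, b, hb, h1, hab, h2, h3, h4⟩ := X.exists_A4 hx hy hxy
  have hc := X.cj_mem hy ha
  have hd := X.cj_mem hx hc
  have hac := T.adj_cj_self' (X.le hy) (X.le ha) h1
  have had := T.adj_cj h2.symm hac
  have hbc := T.adj_cj h4.symm (mt Commute.symm hab)
  have hbd := T.adj_cj h3.symm hbc
  have hcd := T.adj_cj_self' (X.le hx) (X.le hc) (T.adj_cj' (X.le hy) (X.le ha) h1 h2 hxy)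
  generalize cj x (cj y a) = d at *
  generalize cj y a = c at *
  have three := @sy_three _ _ _ _ h hs _ X (Dx_subset _ _) q
  by_cases c1 : Commute q a <;> by_cases c2 : Commute q b <;> by_cases c3 : Commute q c <;>
    by_cases c4 : Commute q d <;> first
    | exact ⟨a, ha, b, hb, hab, c1, c2⟩
    | exact ⟨a, ha, c, hc, hac, c1, c3⟩
    | exact ⟨a, ha, d, hd, had, c1, c4⟩
    | exact ⟨b, hb, c, hc, hbc, c2, c3⟩
    | exact ⟨b, hb, d, hd, hbd, c2, c4⟩
    | exact ⟨c, hc, d, hd, hcd, c3, c4⟩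
    | exact three hq ha hb hc hab hac hbc c1 c2 c3
    | exact three hq ha hb hd hab had hbd c1 c2 c4
    | exact three hq ha hc hd hac had hcd c1 c3 c4
    | exact three hq hb hc hd hbc hbd hcd c2 c3 c4

theorem sy_sq : ∀ a : ZMod 2, a * a = a := by decide

open H18 in
theorem sy_mo' {V : Type*} [AddCommGroup V] [Module (ZMod 2) V] {Q : QuadraticForm (ZMod 2) V}
    {φ : G → V} (M : SM E Q φ) (h : LP D E) (hs : Sy E) (hK : SyK E) (h4 : SyD4 E) : MO E := by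
  have hn := M.not_thick h hs hK h4
  have nd : ∀ v, (∀ w, pol Q v w = 0) → v = 0 := M.nondeg h hs hn h4
  obtain ⟨p, hp, s, hs', t, ht, ht'⟩ := h4.triple
  obtain ⟨q, hq, hpq⟩ := h.adj_ne hp
  obtain ⟨y, hy, y', hy', hyy, hqy, hqy'⟩ := sy_mu_adj h hs hn h4.triple hp hq
  have Qp := M.one p hp
  have Qq := M.one q hq
  have Qy := M.one y hy.1
  have Qy' := M.one y' hy'.1
  have pq : pol Q (φ p) (φ q) = 1 := by rw [M.pol p hp q hq, bb_of_not hpq]
  have yy : pol Q (φ y) (φ y') = 1 := by rw [M.pol y hy.1 y' hy'.1, bb_of_not hyy]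
  have py : pol Q (φ p) (φ y) = 0 := by rw [M.pol p hp y hy.1, bb_of hy.2.2]
  have py' : pol Q (φ p) (φ y') = 0 := by rw [M.pol p hp y' hy'.1, bb_of hy'.2.2]
  have qy : pol Q (φ q) (φ y) = 0 := by rw [M.pol q hq y hy.1, bb_of hqy]
  have qy' : pol Q (φ q) (φ y') = 0 := by rw [M.pol q hq y' hy'.1, bb_of hqy']
  -- the orthogonal complement `O` of the two anisotropic planes
  let O : _ → Prop := fun v => pol Q (φ p) v = 0 ∧ pol Q (φ q) v = 0 ∧ pol Q (φ y) v = 0 ∧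
    pol Q (φ y') v = 0
  have dual : ∀ e, O e → e ≠ 0 → ∃ f, O f ∧ pol Q e f = 1 := fun e he h0 => by
    obtain ⟨w, hw⟩ : ∃ w, pol Q e w = 1 := by
      by_contra! hc
      exact h0 (nd e fun w => (sy_f2 _).resolve_right (hc w))
    obtain ⟨w', a1, a2, a3⟩ := sy_proj pq w
    obtain ⟨f, b1, b2, b3⟩ := sy_proj yy w'
    refine ⟨f, ⟨by rw [b3 _ py py', a1], by rw [b3 _ qy qy', a2], b1, b2⟩, ?_⟩
    rw [b3 _ (pol_comm Q _ _ ▸ he.2.2.1) (pol_comm Q _ _ ▸ he.2.2.2),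
      a3 _ (pol_comm Q _ _ ▸ he.1) (pol_comm Q _ _ ▸ he.2.1), hw]
  have aniso : ∀ e, O e → e ≠ 0 → Q e = 1 := fun e he h0 => by
    refine (sy_f2 _).resolve_left fun h1 => ?_
    obtain ⟨f, hf, h2⟩ := dual e he h0
    obtain ⟨e1, e2, e3, e4⟩ := he
    obtain ⟨f1, f2, f3, f4⟩ := hf
    refine M.k4 hK hp hq hpq ![φ y, φ y', φ y + φ y' + e, φ y + φ y' + (f + Q f • e)]
      (fun i => ?_) (fun i => ?_) fun i j hij => ?_
    · refine (M.surj h hs hn h4 ?_).imp fun x hx => ⟨hx.1, fun w => congrArg _ hx.2⟩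
      fin_cases i <;> simp only [Fin.zero_eta, Fin.mk_one, Fin.reduceFinMk, Matrix.cons_val,
        quad_add, quad_smul, map_add, map_smul, LinearMap.add_apply, pol_comm Q f e, smul_eq_mul,
        Qy, Qy', yy, h1, h2, e3, e4, f3, f4]
      · rfl
      · generalize Q f = t
        revert t; decide
    · fin_cases i <;> simp only [Fin.zero_eta, Fin.mk_one, Fin.reduceFinMk, Matrix.cons_val,
        map_add, map_smul, add_zero, smul_zero, and_self, py, py', qy, qy', e1, e2, f1, f2]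
    · fin_cases i <;> fin_cases j <;> first
      | exact absurd rfl hij
      | simp only [Fin.zero_eta, Fin.mk_one, Fin.reduceFinMk, Matrix.cons_val, map_add, map_smul,
          LinearMap.add_apply, LinearMap.smul_apply, SM.pol_self', pol_comm Q (φ y') (φ y),
          pol_comm Q e (φ y), pol_comm Q e (φ y'), pol_comm Q f (φ y), pol_comm Q f (φ y'),
          pol_comm Q f e, smul_eq_mul, mul_zero, add_zero, zero_add, yy, h2, e3, e4, f3, f4] <;> rfl
  have dec : ∀ v, O (v + (pol Q (φ q) v • φ p + pol Q (φ p) v • φ q +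
      (pol Q (φ y') v • φ y + pol Q (φ y) v • φ y'))) := fun v => by
    refine ⟨?_, ?_, ?_, ?_⟩ <;>
    simp only [map_add, map_smul, SM.pol_self', pol_comm Q (φ q) (φ p), pol_comm Q (φ y') (φ y),
      pol_comm Q (φ y) (φ p), pol_comm Q (φ y') (φ p), pol_comm Q (φ y) (φ q),
      pol_comm Q (φ y') (φ q), smul_eq_mul, mul_zero, mul_one, add_zero, zero_add,
      pq, yy, py, py', qy, qy'] <;>
    exact CharTwo.add_self_eq_zero _
  have mv : ∀ {v w : V}, v + w = 0 → v = w := fun {v w} e => by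
    rw [← add_zero v, ← SM.add_self w, ← add_assoc, e, zero_add]
  obtain ⟨z, hz, hz0⟩ : ∃ z, O z ∧ z ≠ 0 := by
    by_contra! hc
    have key : ∀ x ∈ Dx E p, ∃ a b : ZMod 2, a + a * b + b = 1 ∧ φ x = a • φ y + b • φ y' := fun x hx => by
      have e := mv (hc _ (dec (φ x)))
      have e1 := M.one x hx.1
      rw [M.pol p hp x hx.1, bb_of hx.2.2, zero_smul, add_zero] at e
      generalize pol Q (φ q) (φ x) = c at e
      generalize pol Q (φ y') (φ x) = a at e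
      generalize pol Q (φ y) (φ x) = b at e
      rw [e] at e1
      simp only [quad_add, quad_smul, map_add, map_smul, LinearMap.smul_apply, smul_eq_mul,
        Qp, Qy, Qy', yy, py, py'] at e1
      rcases sy_f2 c with rfl | rfl
      · exact ⟨a, b, by clear e; revert a b; decide, by rw [e, zero_smul, zero_add]⟩
      · obtain ⟨rfl, rfl⟩ : a = 0 ∧ b = 0 := by clear e; revert a b; decide
        exact (hx.2.1 (M.inj h hx.1 hp (by simpa using e))).elim
    obtain ⟨a, b, h1, e1⟩ := key s hs'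
    obtain ⟨c, d, h2, e2⟩ := key t ht
    have h3 := M.pol s hs'.1 t ht.1
    rw [bb_of ht'.2.2, e1, e2] at h3
    simp only [map_add, map_smul, LinearMap.add_apply, LinearMap.smul_apply, SM.pol_self',
      pol_comm Q (φ y') (φ y), yy, smul_eq_mul] at h3
    obtain ⟨rfl, rfl⟩ : a = c ∧ b = d := by clear e1 e2; revert a b c d; decide
    exact ht'.2.1 (M.inj h ht.1 hs'.1 (e2.trans e1.symm))
  obtain ⟨z', hz', zz⟩ := dual z hz hz0
  have Qz := aniso z hz hz0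
  have Qz' := aniso z' hz' (by rintro rfl; simp at zz)
  let L := fun a b c d e f : ZMod 2 => a • φ p + b • φ q + (c • φ y + d • φ y') + (e • z + f • z')
  obtain ⟨z1, z2, z3, z4⟩ := id hz
  obtain ⟨z5, z6, z7, z8⟩ := id hz'
  have PL : ∀ a b c d e f, pol Q (φ q) (L a b c d e f) = a ∧ pol Q (φ p) (L a b c d e f) = b ∧
      pol Q (φ y') (L a b c d e f) = c ∧ pol Q (φ y) (L a b c d e f) = d ∧
      pol Q z' (L a b c d e f) = e ∧ pol Q z (L a b c d e f) = f := fun a b c d e f => by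
    simp only [L, map_add, map_smul, SM.pol_self', pol_comm Q (φ q) (φ p), pol_comm Q (φ y') (φ y),
      pol_comm Q (φ y) (φ p), pol_comm Q (φ y') (φ p), pol_comm Q (φ y) (φ q),
      pol_comm Q (φ y') (φ q), pol_comm Q z (φ _), pol_comm Q z' (φ _), pol_comm Q z' z,
      smul_eq_mul, mul_zero, mul_one, add_zero, zero_add, and_self, pq, yy, py, py', qy, qy', zz,
      z1, z2, z3, z4, z5, z6, z7, z8]
  have QL : ∀ a b c d e f, Q (L a b c d e f) = E6.q a b c d e f := fun a b c d e f => by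
    simp only [L, E6.q, quad_add, quad_smul, map_add, map_smul, LinearMap.add_apply,
      LinearMap.smul_apply, smul_eq_mul, mul_zero, mul_one, add_zero, sq, sy_sq, Qp, Qq, Qy, Qy',
      pq, yy, py, py', qy, qy', zz, Qz, Qz', z1, z2, z3, z4, z5, z6, z7, z8]
    ring
  have span : ∀ v, v = L (pol Q (φ q) v) (pol Q (φ p) v) (pol Q (φ y') v) (pol Q (φ y) v)
      (pol Q z' v) (pol Q z v) := fun v => by
    refine mv ?_
    obtain ⟨a1, a2, a3, a4, a5, a6⟩ := PL (pol Q (φ q) v) (pol Q (φ p) v) (pol Q (φ y') v)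
      (pol Q (φ y) v) (pol Q z' v) (pol Q z v)
    generalize L _ _ _ _ _ _ = w at *
    have two : ∀ a : ZMod 2, a + a = 0 := by decide
    by_contra h0
    have h1 := aniso (v + w) (by simp only [O, map_add, two, and_self, a1, a2, a3, a4]) h0
    have h2 := aniso (z + (v + w)) (by
      simp only [O, map_add, two, and_self, a1, a2, a3, a4, z1, z2, z3, z4]) fun e => by
      have := congrArg (pol Q z') e
      simp only [map_add, two, pol_comm Q z' z, map_zero, add_zero, zz, a5] at this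
      exact one_ne_zero this
    rw [quad_add, h1, Qz, map_add, a6, two, two] at h2
    exact absurd h2 (by decide)
  have Qφ : ∀ x ∈ E, E6.q _ _ _ _ _ _ = 1 := fun x hx => by rw [← QL, ← span (φ x), M.one x hx]
  refine ⟨_, _, _, E6.B, fun x => E6.τ (pol Q (φ q) (φ x)) (pol Q (φ p) (φ x)) (pol Q (φ y') (φ x))
    (pol Q (φ y) (φ x)) (pol Q z' (φ x)) (pol Q z (φ x)), by simp, E6.B_symm, E6.B_nd,
    fun x hx => ?_, fun x hx w hw hne => ?_, fun v hv => ?_⟩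
  · rw [E6.B_apply, E6.one _ _ _ _ _ _ (Qφ x hx)]
  · rcases E6.comm _ _ _ _ _ _ (Qφ x hx) _ _ _ _ _ _ (Qφ w hw) with ⟨a1, a2, a3, a4, a5, a6⟩ | h1
    · exact (hne (M.inj h hx hw (by rw [span (φ x), span (φ w), a1, a2, a3, a4, a5, a6]))).elim
    · rw [E6.B_apply, ← h1, ← bb_zero, ← M.pol x hx w hw]
      conv_lhs => rw [span (φ x)]
      simp only [L, map_add, map_smul, LinearMap.add_apply, LinearMap.smul_apply, smul_eq_mul]
  · obtain ⟨a, b, c, d, e, f, h1, h2⟩ := E6.surj v (E6.B_apply v v ▸ hv)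
    obtain ⟨x, hx, e'⟩ := M.surj h hs hn h4 ((QL a b c d e f).trans h1)
    obtain ⟨a1, a2, a3, a4, a5, a6⟩ := PL a b c d e f
    exact ⟨x, hx, by simp only [e', a1, a2, a3, a4, a5, a6, h2]⟩

theorem sy_mo (h : LP D E) (hs : Sy E) (hK : SyK E) (h4 : SyD4 E) : MO E :=
  let ⟨_, _, _, M⟩ := exists_SM E
  sy_mo' M h hs hK h4

theorem sy_step (h : LP D E) (hr : ∀ d ∈ E, LP D (Dx E d) ∧ Sy (Dx E d)) (hs : ¬ Sy E) :
    ∀ d ∈ E, MO (Dx E d) := by
  classical
  have T := h.tt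
  simp only [Sy, not_forall] at hs
  obtain ⟨x, hx, x', hx', a, ha, h0, h1, h2, -, h3⟩ := hs
  obtain ⟨d, hdx, hdx'⟩ := h.mu_pos hx hx' h0
  have hd := hdx.1
  obtain ⟨H, S⟩ := hr d hd
  have mx : x ∈ Dx E d := ⟨hx, hdx.2.1.symm, hdx.2.2.symm⟩
  have mx' : x' ∈ Dx E d := ⟨hx', hdx'.2.1.symm, hdx'.2.2.symm⟩
  let L : Finset G := {x, x', cj x x'}
  have memL : ∀ {z}, z ∈ L ↔ z = x ∨ z = x' ∨ z = cj x x' := by simp [L]
  have L1 : ∀ z ∈ L, z ∈ Dx E d ∧ ¬ Commute a z := fun z hz => by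
    rcases memL.1 hz with rfl | rfl | rfl
    exacts [⟨mx, h1⟩, ⟨mx', h2⟩, ⟨H.cj_mem mx mx', h3⟩]
  have L2 : ∀ z ∈ L, ∀ z' ∈ L, z ≠ z' → ¬ Commute z z' ∧ cj z z' ∈ L := fun z hz z' hz' hne => by
    have dx := h.le hx
    have dx' := h.le hx'
    have b1 := T.adj_cj_self h0
    have b2 := T.adj_cj_self' dx dx' h0
    rw [memL]
    rcases memL.1 hz with rfl | rfl | rfl <;> rcases memL.1 hz' with rfl | rfl | rfl
    exacts [absurd rfl hne, ⟨h0, .inr (.inr rfl)⟩, ⟨b1, .inr (.inl (T.cj_cj_same dx _))⟩,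
      ⟨mt Commute.symm h0, .inr (.inr (T.braid dx dx' h0).symm)⟩, absurd rfl hne,
      ⟨b2, .inl (by rw [T.braid dx dx' h0, T.cj_cj_same dx'])⟩,
      ⟨mt Commute.symm b1, .inr (.inl (T.cj_cj_left dx dx' h0))⟩,
      ⟨mt Commute.symm b2, .inl (T.cj_cj_right dx dx' h0)⟩, absurd rfl hne]
  have L3 : ∀ z ∈ L, ∀ z' ∈ L, ∃ w ∈ L, w ≠ z ∧ w ≠ z' := fun z hz z' hz' => by
    by_cases e : z = z'
    · by_cases e' : x = z
      · exact ⟨x', memL.2 (.inr (.inl rfl)), fun k => h0 (by rw [e', k]), fun k => h0 (by rw [e', e, k])⟩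
      · exact ⟨x, memL.2 (.inl rfl), e', e ▸ e'⟩
    · obtain ⟨k1, k2⟩ := L2 z hz z' hz' e
      exact ⟨_, k2, fun k => T.adj_cj_self k1 (by rw [k]), fun k => k1 (cj_eq_self.1 k)⟩
  have L4 : ∀ y ∈ Dx E d, ∃ z ∈ L, Commute y z := fun y hy => by
    by_cases k1 : Commute y x
    · exact ⟨x, memL.2 (.inl rfl), k1⟩
    by_cases k2 : Commute y x'
    · exact ⟨x', memL.2 (.inr (.inl rfl)), k2⟩
    refine ⟨_, memL.2 (.inr (.inr rfl)), bb_zero.1 ?_⟩
    rw [S.add T H.le mx mx' hy h0, bb_of_not k1, bb_of_not k2]; rfl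
  have A : ∀ y ∈ E, y ≠ a → Commute y a → ∀ z ∈ L, ∀ z' ∈ L, Commute y z → Commute y z' → z = z' :=
    fun y hy hya k0 z hz z' hz' k1 k2 => by
      by_contra hne
      obtain ⟨k3, k4⟩ := L2 z hz z' hz' hne
      have k5 : ∀ w ∈ L, w ≠ y := fun w hw e => (L1 w hw).2 (e ▸ k0.symm)
      exact (L1 _ k4).2 ((hr y hy).2 z ⟨(L1 z hz).1.1, k5 z hz, k1⟩ z' ⟨(L1 z' hz').1.1, k5 z' hz', k2⟩
        a ⟨ha, hya.symm, k0⟩ k3 (L1 z hz).2 (L1 z' hz').2 fun e => (L1 _ k4).2 (e ▸ Commute.refl a))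
  have hda : ¬ Commute d a := fun e => h0 (by
    rw [A d hd (fun k => h1 (k ▸ mx.2.2)) e x (memL.2 (.inl rfl)) x' (memL.2 (.inr (.inl rfl)))
      mx.2.2 mx'.2.2])
  have A' : ∀ y ∈ Dx E d, Commute y a → ∀ z ∈ L, ∀ z' ∈ L, Commute y z → Commute y z' → z = z' :=
    fun y hy => A y hy.1 fun e => hda (e ▸ hy.2.2)
  have B : ∀ y ∈ Dx E d, ∀ y' ∈ Dx E d, Commute y a → Commute y' a → ∀ z ∈ L, Commute y z →
      Commute y' z → Commute y y' := fun y hy y' hy' k1 k2 z hz k3 k4 => by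
    by_contra k5
    obtain ⟨w, hw, k6, -⟩ := L3 z hz z hz
    have k7 := TT.commute_cj_of k1.symm k2.symm
    refine k6 (A' _ (H.cj_mem hy hy') k7.symm w hw z hz (S y hy y' hy' w (L1 w hw).1 k5
      (fun e => k6 (A' y hy k1 w hw z hz e.symm k3)) (fun e => k6 (A' y' hy' k2 w hw z hz e.symm k4))
      fun e => (L1 w hw).2 (e ▸ k7)).symm (TT.commute_cj_of k3.symm k4.symm).symm)
  obtain ⟨q, hqd, hqa⟩ := h.mu_pos hd ha hda
  obtain ⟨H', S'⟩ := hr q hqd.1
  have md : d ∈ Dx E q := ⟨hd, hqd.2.1.symm, hqd.2.2.symm⟩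
  have ma : a ∈ Dx E q := ⟨ha, hqa.2.1.symm, hqa.2.2.symm⟩
  have hM : ∀ y ∈ Dx E q, Commute y d → Commute y a → y ∈ Dx E d := fun y hy k1 k2 =>
    ⟨hy.1, fun e => hda (e ▸ k2), k1.symm⟩
  have hK : SyK (Dx E q) := fun u hu v hv huv w hw => by
    obtain ⟨g, hg, rfl, rfl⟩ := H'.adj_pair_trans hu hv md ma huv hda
    have k1 := fun i => (commute_cj (g := g)).2 (hw i).2.1
    have k2 := fun i => (commute_cj (g := g)).2 (hw i).2.2
    have k3 := fun i => hM _ (H'.conj (hw i).1 hg) (k1 i) (k2 i)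
    choose c hc hc' using fun i => L4 _ (k3 i)
    obtain ⟨i, -, j, -, k4, k5⟩ := Finset.exists_ne_map_eq_of_card_lt_of_maps_to
      (s := Finset.univ) (t := L) (f := c) (Finset.card_le_three.trans_lt (by simp))
      fun i _ => hc i
    exact ⟨i, j, k4, commute_cj.1 (B _ (k3 i) _ (k3 j) (k2 i) (k2 j) _ (hc i) (hc' i) (k5 ▸ hc' j))⟩
  obtain ⟨q', hq'd, hq'a⟩ := H'.mu_pos md ma hda
  have hq' := hM q' hq'd.1 hq'd.2.2.symm hq'a.2.2.symm
  have ht : Triple (Dx E q) := by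
    obtain ⟨z₁, z1, k1⟩ := L4 q hqd
    obtain ⟨z₂, z2, k2⟩ := L4 q' hq'
    obtain ⟨z, hz, k3, k4⟩ := L3 z₁ z1 z₂ z2
    have k5 : ¬ Commute z q := fun e => k3 (A' q hqd hqa.2.2.symm z hz _ z1 e.symm k1)
    have k6 : ¬ Commute z q' := fun e => k4 (A' q' hq' hq'a.2.2.symm z hz _ z2 e.symm k2)
    have dq := h.le hqd.1
    have dq' := h.le hq'.1
    have mz := (L1 z hz).1
    have dz := h.le mz.1
    have hqq := hq'd.1.2.2
    have mz' : cj (q * q') z ∈ Dx E d := cj_cj q q' z ▸ H.cj_mem hqd (H.cj_mem hq' mz)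
    have c1 := T.partner_commute dq dq' dz hqq k5 k6
    have n1 := T.partner_ne dq dq' dz hqq hq'd.1.2.1.symm k5
    have s1 := T.swap_left dq dq' dz hqq k5 k6
    have s2 := T.swap_right dq dq' dz hqq k5 k6
    have k7 := (L1 z hz).2
    have c2 := T.partner_commute dz (h.le mz'.1) (h.le ha) c1 k7
      (mt (commute_cj_right (hqa.2.2.mul_right hq'a.2.2).symm).1 k7)
    have n2 := T.partner_ne dz (h.le mz'.1) (h.le ha) c1 n1 k7
    have k8 : ¬ Commute d (cj (z * cj (q * q') z) a) :=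
      mt (commute_cj_right (mz.2.2.mul_right mz'.2.2).symm).1 hda
    have k9 : cj (z * cj (q * q') z) a ∈ E := cj_cj z _ a ▸ h.cj_mem mz.1 (h.cj_mem mz'.1 ha)
    generalize z * cj (q * q') z = g at *
    have mb : cj g a ∈ Dx E q :=
      ⟨k9, fun e => k8 (e ▸ hqd.2.2), by rw [← s2, commute_cj]; exact hq'a.2.2.symm⟩
    exact ⟨a, ma, q', hq'a, _, ⟨mb, n2.symm, c2⟩, mb, fun e => k8 (e ▸ hq'.2.2),
      by rw [← s1, commute_cj]; exact hqa.2.2.symm⟩
  obtain ⟨y, hy, y', hy', k1, k2, k3⟩ : ∃ y ∈ Dx E d, ∃ y' ∈ Dx E d,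
      ¬ Commute y y' ∧ Commute a y ∧ Commute a y' := by
    by_cases hth : Thick (Dx E q)
    · obtain ⟨e, he, k1, k2, k3⟩ :=
        H'.exists_adj_M hth md ma hq'd.1 hda hq'd.2.2.symm hq'a.2.2.symm
      exact ⟨e, hM e he k1 k2, q', hq', k3, k2.symm, hq'a.2.2⟩
    · obtain ⟨y, hy, y', hy', k1, k2, k3⟩ := sy_mu_adj H' S' hth ht md ma
      exact ⟨y, hM y hy.1 hy.2.2.symm k2.symm, y', hM y' hy'.1 hy'.2.2.symm k3.symm, k1, k2, k3⟩
  obtain ⟨z, hz, k4⟩ := L4 y hy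
  obtain ⟨z', hz', k5⟩ := L4 y' hy'
  have hne : z ≠ z' := fun e => k1 (B y hy y' hy' k2.symm k3.symm z hz k4 (e ▸ k5))
  obtain ⟨k6, k7⟩ := L2 z hz z' hz' hne
  have k8 : ¬ Commute y z' := fun e => hne (A' y hy k2.symm z hz z' hz' k4 e)
  have k9 : ¬ Commute y' z := fun e => hne (A' y' hy' k3.symm z hz z' hz' e k5)
  have mz := (L1 z hz).1
  have mz' := (L1 z' hz').1
  have mz'' := (L1 _ k7).1
  have k10 : ¬ Commute y' (cj z z') := T.adj_cj' (H.le mz) (H.le mz') k6 k5 k9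
  have add := fun w hw => S.add T H.le hy' mz'' (z := w) hw k10
  have k11 : ¬ Commute a (cj y' (cj z z')) := T.adj_cj k3 (L1 _ k7).2
  refine h.all_res (fun _ g k => MO.cj_image k g) hd (sy_mo H S
    (h.all_res (fun _ g k => SyK.cj_image k g) hqd.1 hK d hd)
    ⟨z', mz', z, mz, y, ⟨hy, fun e => (L1 z hz).2 (e ▸ k2), k4.symm⟩, _,
      ⟨H.cj_mem hy' mz'', fun e => ?_, bb_zero.1 ?_⟩, bb_zero.1 ?_, fun e => k11 (e ▸ k2),
      mt Commute.symm k6, mt Commute.symm k8,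
      T.adj_cj k5.symm (T.adj_cj_self' (H.le mz) (H.le mz') k6)⟩)
  · rw [T.braid (H.le hy') (H.le mz'') k10] at e
    exact (L1 z' hz').2 (cj_inj.1 (e.trans (T.cj_cj_right (H.le mz) (H.le mz') k6).symm) ▸ k3)
  · rw [add z mz, bb_of_not (mt Commute.symm k9), bb_of_not (T.adj_cj_self k6)]; rfl
  · rw [add y hy, bb_of_not k1, bb_of_not (T.adj_cj k4 k8)]; rfl

end H0
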