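import Mathlib
import Cfsg.Agent.H0.LP2
import Cfsg.Agent.H20.FU2

set_option autoImplicit false

namespace H0

variable {G : Type*} [Group G] [Finite G] {D E : Set G}

theorem u4_o3 (h : LP D E) (hu : MU E 4) : MO E := H20.FU.u4 h hu

theorem u_step (h : LP D E) {n : ℕ} (hn : n = 5 ∨ 7 ≤ n)
    (hr : ∀ d ∈ E, LP D (Dx E d) ∧ MU (Dx E d) n) : False := by
  rcases hn with rfl | hn
  · exact H20.FU.u_five h hr
  · obtain ⟨k, rfl⟩ : ∃ k, n = 2 + (5 + k) := ⟨n - 7, by omega⟩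
    exact H20.FU.u_big h hr

end H0
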