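import Mathlib
import Cfsg.Agent.H0.F24b
import Cfsg.Agent.H0.F25
import Cfsg.Agent.H0.SyB
import Cfsg.Agent.H0.O3A
import Cfsg.Agent.H0.O3B
import Cfsg.Agent.H0.UA

/-! Fischer's theorem. -/

set_option autoImplicit false

namespace H0

variable {G : Type*} [Group G] [Finite G]

theorem LP.types {D : Set G} : ∀ (n : ℕ) {E : Set G}, E.ncard = n → LP D E →
    Sy E ∨ (Thick E ∧ ∃ n, 4 ≤ n ∧ MU E n) ∨ MO E ∨ F22 D E ∨ F23 D E ∨ F24 D E := by
  intro n
  induction n using Nat.strong_induction_on with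
  | _ n ih =>
  intro E hn h
  by_cases ht : Thick E
  · rcases h.model ht with ⟨m, -, hm⟩ | hu
    · exact Or.inl (msp_sy h hm)
    · exact Or.inr (Or.inl ⟨ht, hu⟩)
  by_cases h3 : Triple E
  swap
  · exact Or.inl (h.sy_of_no_triple h3)
  have hr := h.res ht h3
  obtain ⟨d, hd⟩ := h.nonempty
  have hlt : (Dx E d).ncard < n := hn ▸ Set.ncard_lt_ncard
    ⟨Dx_subset E d, fun e => (e hd).2.1 rfl⟩ (Set.toFinite E)
  have o3 : (∀ d ∈ E, MO (Dx E d)) → MO E := fun k => o3_step h fun d hd => ⟨hr d hd, k d hd⟩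
  rcases ih _ hlt rfl (hr d hd) with k | ⟨-, m, hm, k⟩ | k | k | k | k
  · by_cases hs : Sy E
    · exact Or.inl hs
    · exact Or.inr (Or.inr (Or.inl (o3 (sy_step h (fun x hx => ⟨hr x hx,
        h.all_res (fun _ g k => k.cj_image g) hd k x hx⟩) hs))))
  · have k := h.all_res (P := fun X => MU X m) (fun _ g k => k.cj_image g) hd k
    by_cases h4 : m = 4
    · subst h4
      exact Or.inr (Or.inr (Or.inl (o3 fun x hx => u4_o3 (hr x hx) (k x hx))))
    by_cases h6 : m = 6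
    · subst h6
      exact Or.inr (Or.inr (Or.inr (Or.inl fun x hx => ⟨hr x hx, k x hx⟩)))
    · exact (u_step h (n := m) (by omega) fun x hx => ⟨hr x hx, k x hx⟩).elim
  · exact Or.inr (Or.inr (Or.inl (o3 (h.all_res (fun _ g k => k.cj_image g) hd k))))
  · exact Or.inr (Or.inr (Or.inr (Or.inr (Or.inl fun x hx => ⟨hr x hx,
      h.all_res (fun _ g k => k.cj_image g) hd k x hx⟩))))
  · exact Or.inr (Or.inr (Or.inr (Or.inr (Or.inr fun x hx => ⟨hr x hx,
      h.all_res (fun _ g k => k.cj_image g) hd k x hx⟩))))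
  · exact (no_f25 h fun x hx => ⟨hr x hx, h.all_res (fun _ g k => k.cj_image g) hd k x hx⟩).elim

omit [Finite G] in
theorem iso_of_quot {D : Set G} (hD : Subgroup.closure D = ⊤) (hZ : Subgroup.center G = ⊥)
    {Γ : Type*} [Group Γ]
    (h : Nonempty (Subgroup.closure D ⧸ Subgroup.center (Subgroup.closure D) ≃* Γ)) :
    Nonempty (G ≃* Γ) := by
  obtain ⟨e⟩ := h
  have h1 : Subgroup.center (Subgroup.closure D) = ⊥ := by
    refine eq_bot_iff.2 fun g hg => Subtype.ext (Subgroup.mem_bot.1 (hZ ▸ ?_))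
    exact Subgroup.mem_center_iff.2 fun a => congrArg Subtype.val
      (Subgroup.mem_center_iff.1 hg ⟨a, hD ▸ Subgroup.mem_top a⟩)
  exact ⟨(Subgroup.topEquiv.symm.trans (MulEquiv.subgroupCongr hD.symm)).trans
    (((QuotientGroup.quotientMulEquivOfEq h1).trans QuotientGroup.quotientBot).symm.trans e)⟩

theorem fischer [IsSimpleGroup G] (hna : ∃ x y : G, x * y ≠ y * x) {D : Set G}
    (hD : Cfsg.IsThreeTranspositionClass D) :
    (∃ n : ℕ, Nonempty (G ≃* Matrix.symplecticGroup (Fin n) (ZMod 2))) ∨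
    (∃ n : ℕ, 4 ≤ n ∧ Nonempty (G ≃* Cfsg.PSU n F4 2)) ∨
    (∃ m : ℕ, Nonempty (G ≃* Cfsg.POmega (ZMod 3) (Cfsg.quadFormOdd m (ZMod 3)))) ∨
    Nonempty (G ≃* Cfsg.Spor.Fi22) ∨ Nonempty (G ≃* Cfsg.Spor.Fi23) := by
  obtain ⟨a, b, hab⟩ := hna
  have hZ : Subgroup.center G = ⊥ :=
    (inferInstance : (Subgroup.center G).Normal).eq_bot_or_eq_top.resolve_right fun e =>
      hab (Subgroup.mem_center_iff.1 (e ▸ Subgroup.mem_top b) a)
  have hc : commutator G = ⊤ :=
    (inferInstance : (commutator G).Normal).eq_bot_or_eq_top.resolve_left fun e => hab (by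
      rw [← commutatorElement_eq_one_iff_mul_comm, ← Subgroup.mem_bot, ← e]
      exact Subgroup.commutator_mem_commutator (Subgroup.mem_top a) (Subgroup.mem_top b))
  have T := TT.of_class hD
  have P : PTT D := T.ptt_of_simple
    (((MulEquiv.subgroupCongr hc).trans Subgroup.topEquiv).isSimpleGroup)
    ⟨⟨a, hc ▸ Subgroup.mem_top a⟩, ⟨b, hc ▸ Subgroup.mem_top b⟩,
      fun e => hab (congrArg Subtype.val e)⟩
  have h := P.lp
  by_cases ht : Thick D
  · have hp : Pol D := ⟨P, ht⟩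
    rcases hp.model hZ with ⟨m, -, φ, hφ⟩ | ⟨n, hn, φ, hφ⟩
    · exact Or.inl ⟨m, hφ.iso_sp hp hZ⟩
    · exact Or.inr (Or.inl ⟨n, hn, hφ.iso_su hp hZ hn⟩)
  rcases LP.types _ rfl h with k | k | k | k | k | k
  · obtain ⟨f, hf⟩ := sy_final h k ht
    obtain ⟨d, hd⟩ := h.nonempty
    have := Abelianization.commutator_subset_ker f (hc ▸ Subgroup.mem_top d)
    rw [MonoidHom.mem_ker, hf d hd] at this
    exact absurd this (by decide)
  · exact absurd k.1 ht
  · exact Or.inr (Or.inr (Or.inl (o3_final ⟨a, b, hab⟩ h k)))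
  · exact Or.inr (Or.inr (Or.inr (Or.inl (iso_of_quot T.gen hZ (h.f22_iso k)))))
  · exact Or.inr (Or.inr (Or.inr (Or.inr (iso_of_quot T.gen hZ (h.f23_iso k)))))
  · exact (no_f24 h k).elim

end H0
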