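import Mathlib
import Cfsg.Agent.H5.MC2

/-! # Finite checks for phase one -/

set_option autoImplicit false
set_option maxRecDepth 100000
set_option Elab.async false

namespace H5.MC.P0

open H9 Cfsg H24 Subgroup

/-- `V1 ⟨e1⟩` -/
def K (s : Ph) : Prop := s.V1 ∨ (e1 * s).V1
instance decK (s : Ph) : Decidable (K s) := inferInstanceAs (Decidable (_ ∨ _))
/-- conjugation by `rho` -/
def rc (s : Ph) : Ph := (NX.r * NX.of s * NX.r⁻¹ : N1).p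
/-- conjugation by the inverse of `r2` -/
def rd (s : Ph) : Ph := (NX.r⁻¹ * NX.of s * NX.r : N2).p
def cn (s u : Ph) : Ph := s * u * s⁻¹

theorem rc_ok : ∀ s : Ph, K s ∨ s.Q → (NX.r * NX.of s * NX.r⁻¹ : N1) = NX.of (rc s) := by decide +kernel
theorem rd_ok : ∀ s : Ph, s.Jh → (NX.r⁻¹ * NX.of s * NX.r : N2) = NX.of (rd s) := by decide +kernel
theorem r_inn : (NX.r : N1).p.inn ∧ (NX.r : N2).p.inn := by decide +kernel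
theorem r3 : (NX.r * (NX.r * NX.r) : N1) = 1 ∧ (NX.of i2 * NX.r : N1) = NX.r * NX.r * NX.of i2 := by
  decide +kernel
theorem fker : ∀ n : N1, n * NX.of z2 = NX.of z2 * n → n * NX.of i1 = NX.of i1 * n →
    n = NX.of n.p ∧ K n.p := by decide +kernel
theorem fnml : ∀ s : Ph, s * s = 1 → (∀ m : N1, m.p.inn →
    NX.of s * (m * NX.of s * m⁻¹) = m * NX.of s * m⁻¹ * NX.of s) → s.V1 := by decide +kernel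
theorem fnml' : ∀ m : N1, ∀ v : Ph, v.V1 → ∃ u : Ph, u.V1 ∧ m * NX.of v * m⁻¹ = NX.of u := by
  decide +kernel
theorem fV : ∀ v : Ph, v.V1 → v.inn ∧ (v = 1 ∨ v.zc) ∧ v * v = 1 ∧ (rc v).V1 ∧ rc (rc (rc v)) = v ∧
    (∀ u : Ph, u.V1 → (v * u).V1) ∧ (∀ s : Ph, (cn s v).V1 ∧ cn s (cn s⁻¹ v) = v) ∧
    ∃ a : Ph, (a = 1 ∨ a = z1) ∧ ∃ b : Ph, (b = 1 ∨ b = z2) ∧ ∃ c : Ph, (c = 1 ∨ c = i1) ∧
      v = a * b * c := by decide +kernel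
theorem fK : ∀ s : Ph, K s → K s⁻¹ ∧ (s * s = 1 → s.V1) ∧ (s * s).V1 ∧ (s⁻¹ * rc s).V1 ∧ K (rc s) ∧
    (s.V1 ∨ ∃ u : Ph, u.V1 ∧ s = e1 * u) ∧ ∀ u : Ph, K u → K (s * u) ∧ s * u = u * s := by
  decide +kernel
theorem fU : ∀ u : Ph, u.U0 → u.V1 ∧ u.Jh ∧ (rd u).U0 ∧ rd (rd (rd u)) = u ∧ ∀ j : Ph, j.J → cn j u = u := by
  decide +kernel
theorem fz2 : ∀ s : Ph, s.V1 → (∀ u : Ph, u.inn → s * cn u s = 1 ∨ s * cn u s = z1) → s.U0 := by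
  decide +kernel
theorem fz2' : ∀ u : Ph, z2 * cn u z2 = 1 ∨ z2 * cn u z2 = z1 := by decide +kernel
theorem fi2 : ∀ s : Ph, s * s = 1 → ∀ z : Ph, z.U0 → z ≠ 1 → z ≠ z1 → s * z = z * s →
    (∀ u : Ph, s * cn u s = cn u s * s) ∨ (s.zc ∧ ((i2 * s).U0 ∨ (i2 * cn sg s).U0)) := by decide +kernel
theorem fi1 : ∀ s : Ph, s.V1 → ∀ u : Ph, (i2 * u).U0 → s * u = u * s ∨
    (s * u * (s * u) = z3 ∧ (i1 * s).U0 ∧ u.inn ∧ u.Jh ∧ (i1 * rd u).U0) := by decide +kernel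
theorem fadj : ∀ s : Ph, (i1 * s).U0 → s.inn ∧ ∃ j : Ph, j.J ∧ j.inn ∧ cn j s = i1 := by decide +kernel
theorem fmu : ∀ m : Ph, m.V1 → cn j1 m = m → m * rc m * rc (rc m) = 1 → m = 1 ∨ m = z3 := by
  decide +kernel
theorem ffix : ∀ s : Ph, K s → s * rc s * rc (rc s) = 1 → ∃ y : Ph, y.V1 ∧ s * rc y = y := by
  decide +kernel
theorem fj : ∀ x : Ph, K x → x * cn j1 x = 1 → x.U0 := by decide +kernel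
theorem fd : ∀ δ : Ph, K δ → rc δ = δ → ∀ y : Ph, y.V1 → ∀ m : Ph, m = δ⁻¹ * (y * cn sg y) →
    m * cn sg m = 1 → m * cn sg (rc (rc m)) = rc m → m = 1 ∧ (δ = 1 ∨ δ = z1) := by decide +kernel
theorem fQ : ∀ s : Ph, s.Q → s.inn ∧ ∃ a : Ph, (a = 1 ∨ a = sg) ∧ ∃ b : Ph, (b = 1 ∨ b = j1) ∧
    ∃ v : Ph, v.V1 ∧ s = a * b * v := by decide +kernel
theorem fdw : ∀ c : Ph, c.V1 → cn j1 c = c → cn sg c = c → c * rc c * rc (rc c) = 1 → c = 1 := by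
  decide +kernel
theorem ffz : ∀ c : Ph, c.V1 → rc c = c → c = 1 ∨ c = z1 := by decide +kernel
theorem fD1 : ∀ δ : Ph, δ = 1 ∨ δ = z1 → ∀ x : Ph, x.U0 → ∀ y : Ph, y.V1 → δ⁻¹ * (y * cn sg y) = 1 →
    δ * (y * rc x * rc (rc (y * cn sg x))) = 1 →
    (δ = 1 ∧ (x = 1 ∨ x = z1) ∧ (y = 1 ∨ y = z1)) ∨ (δ = z1 ∧ (x = z3 ∨ x = z2)) := by decide +kernel
theorem fD2 : ∀ δ : Ph, δ = 1 ∨ δ = z1 → ∀ s : Ph, K s → cn j1 s = s → cn sg s = s * δ → ∀ c : Ph, c.V1 →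
    s * rc s * c * rc (rc s) = 1 →
    (δ = 1 ∧ ((s = 1 ∧ c = 1) ∨ (s = z1 ∧ c = z1))) ∨
      (δ = z1 ∧ ((s = z3 ∧ c = 1) ∨ (s = z2 ∧ c = z1))) := by decide +kernel
set_option synthInstance.maxSize 4000 in
set_option synthInstance.maxHeartbeats 400000 in
theorem fD3 : ∀ j : Ph, j = 1 ∨ j = j3 → ∀ e : Ph, e = 1 ∨ e = z3 → ∀ u : Ph, K u → ∀ s : Ph, s.U0 →
    ∀ x : Ph, x.U0 → j * j = s * (e * (u * u)) → u * (j * j) = x * cn j1 u →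
    ((x = 1 ∨ x = z1) → s = 1 ∨ s = z1 → (j = 1 ∧ e = 1 ∧ s = 1 ∧ u.V1) ∨ (j = j3 ∧ ¬ u.inn)) ∧
    ((x = z3 ∨ x = z2) → s = z3 ∨ s = z2 → (j = j3 ∧ e = 1 ∧ s = z3 ∧ u.V1) ∨
      (j = 1 ∧ e = z3 ∧ s = z2 ∧ ¬ u.inn ∧ ∃ v : Ph, v.V1 ∧ z3 * u = e1 * v)) := by decide +kernel
theorem fc : (sg⁻¹ * j1⁻¹ * rc sg).V1 ∧ (j1⁻¹ * sg⁻¹ * rc sg).V1 ∧ (j1⁻¹ * rc (rc sg)).V1 ∧
    (sg⁻¹ * rc j1).V1 ∧ ((sg * j1)⁻¹ * cn i2 sg).V1 ∧ rc z3 = i1 ∧ rc z1 = z1 ∧ rc e1 = e1 ∧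
    cn i2 i1 = rc i1 ∧ i1 * rc i1 = z3 ∧ z3 * i1 * rc i1 = 1 ∧ rd z1 = z3 ∧ rd z2 = z1 ∧ rd z3 = z2 ∧
    rd i2 = i1 ∧ rd j1 = j3 ∧ rd j2 = j1 ∧ rd i0 = i0 ∧ rd e1 * (j3 * z2) = e1 ∧ i0 * j1 = i1 ∧
    i0 * j2 = i2 ∧ i1 * i2 * (i1 * i2) = z3 := by decide +kernel

end H5.MC.P0
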