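import Mathlib
import Cfsg.Agent.H5.MCQ
import Cfsg.Agent.H0.MCP0

/-! # Phase one: the group `A` of elements centralizing `V1` and moving `t` inside `t V1` -/

set_option autoImplicit false
set_option linter.unusedSectionVars false
set_option linter.unusedVariables false

namespace H5.MC.P0

open H9 Cfsg H24 Subgroup Q0

section
variable {X : Type*} [Group X]
/-- conjugation -/
def κ (g : X) : X →* X := (MulAut.conj g).toMonoidHom
theorem κ_def (g x : X) : κ g x = g * x * g⁻¹ := rfl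
theorem κ_mul (g h x : X) : κ (g * h) x = κ g (κ h x) := by simp only [κ_def]; group
theorem κ_κ (g h x : X) : κ g (κ h x) = κ (κ g h) (κ g x) := by simp only [κ_def]; group
theorem κ_one (x : X) : κ 1 x = x := by simp [κ_def]
theorem κ_inv (g x : X) : κ g⁻¹ (κ g x) = x := by simp only [κ_def]; group
theorem κ_inv' (g x : X) : κ g (κ g⁻¹ x) = x := by simp only [κ_def]; group
theorem κ_inj {g x y : X} (h : κ g x = κ g y) : x = y := by rw [← κ_inv g x, h, κ_inv]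
theorem κ_eq {g x : X} : κ g x = x ↔ Commute g x := mul_inv_eq_iff_eq_mul
theorem κ_symm {g x : X} (h : κ g x = x) : κ x g = g := κ_eq.2 (κ_eq.1 h).symm
theorem κ_inv_eq {g x : X} (h : κ g x = x) : κ g⁻¹ x = x := by
  conv_lhs => rw [← h, κ_inv]
end

variable {H : Subgroup PG} {X : Type*} [Group X] [Finite X] (F : Fr H X) {s u v : Ph} {x y g : X}

theorem I_mul (hs : emb s ∈ H) (hu : emb u ∈ H) : emb (s * u) ∈ H := map_mul emb s u ▸ mul_mem hs hu
theorem I_inv (hs : emb s ∈ H) : emb s⁻¹ ∈ H := map_inv emb s ▸ inv_mem hs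
theorem I_cn (hs : emb s ∈ H) (hu : emb u ∈ H) : emb (cn s u) ∈ H := I_mul (I_mul hs hu) (I_inv hs)
theorem I_one : emb 1 ∈ H := map_one emb ▸ one_mem H
include F in
theorem IV (h : v.V1) : emb v ∈ H := F.inn (fV v h).1
include F in
theorem rho_mem : rho ∈ H := F.h12 NX.r_12
include F in
theorem r2_mem : r2 ∈ H := F.h12 NX.r_12
theorem emb_rc (h : K s ∨ s.Q) : emb (rc s) = rho * emb s * rho⁻¹ := by
  have := congrArg NX.emb (rc_ok s h)
  rw [map_mul, map_mul, map_inv, NX.emb_of, NX.emb_of, NX.emb_r] at this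
  exact this.symm
theorem emb_rd (h : s.Jh) : emb (rd s) = r2⁻¹ * emb s * r2⁻¹⁻¹ := by
  have := congrArg NX.emb (rd_ok s h)
  rw [map_mul, map_mul, map_inv, NX.emb_of, NX.emb_of, NX.emb_r] at this
  rw [inv_inv]; exact this.symm
include F in
theorem I_rc (h : K s) (hs : emb s ∈ H) : emb (rc s) ∈ H :=
  emb_rc (Or.inl h) ▸ conj_mem (norm_self H (rho_mem F)) hs
theorem κp (hs : emb s ∈ H) (hu : emb u ∈ H) : κ (F.p s) (F.p u) = F.p (cn s u) := by
  rw [cn, F.p_mul (I_mul hs hu) (I_inv hs), F.p_mul hs hu, F.p_inv hs]; rfl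
theorem κpt (s : Ph) : κ (F.p s) F.t = F.t := κ_eq.2 (F.p_t s).symm
theorem κρt : κ F.ρ F.t = F.t := κ_eq.2 (F.e_t _).symm
theorem κrt : κ F.r⁻¹ F.t = F.t := κ_inv_eq (κ_eq.2 (F.e_t _).symm)
theorem κρ (h : K s ∨ s.Q) (hs : emb s ∈ H) : κ F.ρ (F.p s) = F.p (rc s) := by
  rw [Fr.p, Fr.p, emb_rc h, F.e_conj (rho_mem F) hs]; rfl
theorem κr (h : s.Jh) (hs : emb s ∈ H) : κ F.r⁻¹ (F.p s) = F.p (rd s) := by
  rw [Fr.p, Fr.p, emb_rd h, F.e_conj (inv_mem (r2_mem F)) hs, F.e_inv (r2_mem F)]; rfl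
theorem ρ3 : F.ρ * (F.ρ * F.ρ) = 1 := by
  have := congrArg NX.emb r3.1
  rw [map_mul, map_mul, map_one, NX.emb_r] at this
  have m := rho_mem F
  rw [Fr.ρ, ← F.e_mul m m, ← F.e_mul m (mul_mem m m), ← F.e_one]
  exact congrArg F.e this
theorem κρ3 (x : X) : κ F.ρ (κ F.ρ (κ F.ρ x)) = x := by rw [← κ_mul, ← κ_mul, mul_assoc, ρ3, κ_one]
theorem κi2 (x : X) : κ (F.p i2) (κ F.ρ x) = κ F.ρ (κ F.ρ (κ (F.p i2) x)) := by
  have := congrArg NX.emb r3.2
  rw [map_mul, map_mul, map_mul, NX.emb_r, NX.emb_of] at this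
  have m := rho_mem F
  have m' : emb i2 ∈ H := F.inn (by decide +kernel)
  rw [← κ_mul, ← κ_mul, ← κ_mul, Fr.ρ, Fr.p, ← F.e_mul m m, ← F.e_mul m' m, ← F.e_mul (mul_mem m m) m']
  exact congrArg (fun z => κ (F.e z) x) this
theorem ne_t (hs : emb s ∈ H) (hu : emb u ∈ H) : F.p s ≠ F.t * F.p u := fun h =>
  F.e_ne_t (emb (s * u⁻¹)) (by
    change F.p _ = _
    rw [F.p_mul hs (I_inv hu), F.p_inv hu, h, mul_inv_cancel_right])
theorem psq (h : v.V1) : F.p v * F.p v = 1 := by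
  rw [← F.p_mul (IV F h) (IV F h), (fV v h).2.2.1, F.p_one]

/-- `x` centralizes `V1` and moves `t` to `t v` -/
structure InA (x : X) (v : Ph) : Prop where
  hv : v.V1
  c : ∀ s : Ph, s.V1 → κ x (F.p s) = F.p s
  t : κ x F.t = F.t * F.p v

variable {F}

theorem InA.mul (hx : InA F x v) (hy : InA F y u) : InA F (x * y) (v * u) :=
  ⟨(fV v hx.hv).2.2.2.2.2.1 u hy.hv, fun s hs => by rw [κ_mul, hy.c s hs, hx.c s hs], by
    rw [κ_mul, hy.t, map_mul, hx.t, hx.c u hy.hv, F.p_mul (IV F hx.hv) (IV F hy.hv), mul_assoc]⟩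
theorem InA.inv (hx : InA F x v) : InA F x⁻¹ v :=
  ⟨hx.hv, fun s hs => κ_inv_eq (hx.c s hs), κ_inj (g := x) (by
    rw [κ_inv', map_mul, hx.t, hx.c v hx.hv, mul_assoc, psq F hx.hv, mul_one])⟩
theorem InA.cp (hx : InA F x v) (hs : emb s ∈ H) : InA F (κ (F.p s) x) (cn s v) := by
  refine ⟨((fV v hx.hv).2.2.2.2.2.2.1 s).1, fun u hu => ?_, ?_⟩
  · have h1 := ((fV u hu).2.2.2.2.2.2.1 s⁻¹).1
    rw [← ((fV u hu).2.2.2.2.2.2.1 s).2, ← κp F hs (IV F h1), ← κ_κ, hx.c _ h1]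
  · rw [← κpt F s, ← κ_κ, hx.t, map_mul, κp F hs (IV F hx.hv)]
theorem InA.cρ (hx : InA F x v) : InA F (κ F.ρ x) (rc v) := by
  refine ⟨(fV v hx.hv).2.2.2.1, fun u hu => ?_, ?_⟩
  · have h1 := (fV _ (fV u hu).2.2.2.1).2.2.2.1
    rw [← (fV u hu).2.2.2.2.1, ← κρ F (Or.inl (Or.inl h1)) (IV F h1), ← κ_κ, hx.c _ h1]
  · rw [← κρt F, ← κ_κ, hx.t, map_mul, κρ F (Or.inl (Or.inl hx.hv)) (IV F hx.hv)]
theorem inA_p (h : K s) (hs : emb s ∈ H) : InA F (F.p s) 1 :=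
  ⟨by decide +kernel, fun u hu => by
    rw [κp F hs (IV F hu), cn, ((fK s h).2.2.2.2.2.2 u (Or.inl hu)).2, mul_inv_cancel_right],
    by rw [κpt, F.p_one, mul_one]⟩
theorem inA_t : InA F F.t 1 :=
  ⟨by decide +kernel, fun u _ => κ_eq.2 (F.p_t u), by rw [F.p_one, mul_one]; exact κ_eq.2 (Commute.refl _)⟩
theorem InA.V (hx : InA F x v) (hu : u.V1) : κ (F.p u) x = x := κ_symm (hx.c u hu)
theorem InA.cV (hx : InA F x v) (hu : u.V1) : F.p u * x = x * F.p u := (κ_eq.1 (hx.V hu)).eq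
theorem InA.tx (hx : InA F x v) : F.t * x = x * (F.t * F.p v) := by
  rw [← hx.inv.t, κ_def]; group
theorem InA.κV (hx : InA F x v) (hs : emb s ∈ H) (hu : emb u ∈ H) (h : (s⁻¹ * u).V1) :
    κ (F.p u) x = κ (F.p s) x := by
  rw [← mul_inv_cancel_left s u, F.p_mul hs (IV F h), κ_mul, hx.V h]

theorem dec (hW : F.W = ⊥) (h : κ x F.t = F.t) : ∃ a ∈ H, x = F.e a ∨ x = F.t * F.e a := by
  obtain ⟨w, hw, a, ha, e⟩ := F.cent' (κ_eq.1 h)
  rw [hW, mem_bot] at hw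
  exact ⟨a, ha, by simpa only [hw, one_mul] using e⟩
theorem κ_dec {a b : PG} (ha : a ∈ H) (hb : b ∈ H) (h : x = F.e a ∨ x = F.t * F.e a) :
    κ x (F.e b) = F.e (a * b * a⁻¹) := by
  rw [F.e_conj ha hb]
  rcases h with rfl | rfl
  · rfl
  · rw [κ_mul, κ_def (F.e a), ← F.e_conj ha hb]; exact κ_eq.2 (F.e_t _)

theorem InA.ker (hW : F.W = ⊥) (hx : InA F x 1) :
    ∃ s, K s ∧ emb s ∈ H ∧ ∃ τ, (τ = 1 ∨ τ = F.t) ∧ x = τ * F.p s := by
  obtain ⟨a, ha, e⟩ := dec hW (by rw [hx.t, F.p_one, mul_one])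
  have k : ∀ v : Ph, v.V1 → a * emb v = emb v * a := fun v hv => mul_inv_eq_iff_eq_mul.1
    (F.e_inj (conj_mem (norm_self H ha) (IV F hv)) (IV F hv)
      ((κ_dec ha (IV F hv) e).symm.trans (hx.c v hv)))
  obtain ⟨n, rfl⟩ := cent_z (F.hAM ha) (k z1 (by decide +kernel))
  obtain ⟨e1, e2⟩ := fker n (NX.emb_inj (by rw [map_mul, map_mul, NX.emb_of]; exact k _ (by decide +kernel)))
    (NX.emb_inj (by rw [map_mul, map_mul, NX.emb_of]; exact k _ (by decide +kernel)))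
  rw [e1, NX.emb_of] at ha e
  refine ⟨_, e2, ha, ?_⟩
  rcases e with e | e
  · exact ⟨1, Or.inl rfl, by rw [one_mul]; exact e⟩
  · exact ⟨_, Or.inr rfl, e⟩

theorem V_ind {P : Ph → Prop} (h1 : P 1) (h2 : P z1) (h3 : P z2) (h4 : P i1)
    (hm : ∀ a b, P a → P b → P (a * b)) (hv : v.V1) : P v := by
  obtain ⟨a, ha, b, hb, c, hc, rfl⟩ := (fV v hv).2.2.2.2.2.2.2
  refine hm _ _ (hm _ _ ?_ ?_) ?_
  · rcases ha with rfl | rfl <;> assumption
  · rcases hb with rfl | rfl <;> assumption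
  · rcases hc with rfl | rfl <;> assumption

theorem adj (hv : v.U0) (ht : κ g F.t = F.t * F.p v) (h1 : κ g (F.p z1) = F.p z1)
    (h2 : κ g (F.p z2) = F.p z2) (hs : (i1 * s).U0) (h3 : κ g (F.p i1) = F.p s) : ∃ x, InA F x v := by
  obtain ⟨si, j, hj, ji, e⟩ := fadj s hs
  have k : ∀ u : Ph, u.U0 → κ (F.p j) (F.p u) = F.p u := fun u hu => by
    rw [κp F (F.inn ji) (IV F (fU u hu).1), (fU u hu).2.2.2.2 j hj]
  refine ⟨F.p j * g, (fU v hv).1, fun u hu => ?_, by rw [κ_mul, ht, map_mul, κpt, k v hv]⟩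
  refine (V_ind (P := fun u => u.V1 ∧ κ (F.p j * g) (F.p u) = F.p u) ⟨by decide +kernel, by rw [F.p_one, map_one]⟩
    ⟨by decide +kernel, by rw [κ_mul, h1, k _ (by decide +kernel)]⟩ ⟨by decide +kernel, by rw [κ_mul, h2, k _ (by decide +kernel)]⟩
    ⟨by decide +kernel, by rw [κ_mul, h3, κp F (F.inn ji) (F.inn si), e]⟩ (fun a b ha hb => ⟨(fV a ha.1).2.2.2.2.2.1 b hb.1,
      by rw [F.p_mul (IV F ha.1) (IV F hb.1), map_mul, ha.2, hb.2]⟩) hu).2

/-- facts on an element normalizing `S0` and moving `t z` to `t` -/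
theorem norm_facts (hW : F.W = ⊥) (hg : g ∈ N[F.S0]) (ht : κ g (F.t * F.p z1) = F.t) :
    κ g (F.p z1) = F.p z1 ∧ κ g F.t = F.t * F.p z1 ∧ (∃ s : Ph, s.V1 ∧ κ g (F.p i1) = F.p s) ∧
      ∃ s : Ph, s.inn ∧ ((i2 * s).U0 ∨ (i2 * cn sg s).U0) ∧ κ g (F.p i2) = F.p s := by
  have z : emb z1 ∈ H := F.inn (by decide +kernel)
  have ms : ∀ s, ∃ u, emb u ∈ H ∧ (κ g (F.p s) = F.p u ∨ κ g (F.p s) = F.t * F.p u) := fun s =>
    F.mem_S0.1 (conj_mem hg (F.p_mem s))
  have nT : ∀ s u : Ph, s.zc → (u = 1 ∨ u.zc) → κ g (F.p s) ≠ F.t * F.p u := fun s u hs hu e => by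
    refine F.not_T hs (IsConj.trans ?_ (isConj_iff.2 ⟨g, e⟩).symm)
    rcases hu with rfl | hu
    · rw [F.p_one, mul_one]
    · exact F.T_tz hu
  have tr : ∀ u v, emb v ∈ H → ∃ u', emb u' ∈ H ∧ κ (F.p u) (κ g (F.p v)) = κ g (F.p (cn u' v)) := by
    intro u v hv
    obtain ⟨u', h1, h2⟩ := F.mem_S0.1 (conj_mem (inv_mem hg) (F.p_mem u))
    refine ⟨u', h1, ?_⟩
    rw [← κ_inv' g (F.p u), ← κ_κ]
    refine congrArg (κ g) ((κ_dec h1 hv h2).trans ?_)
    rw [← map_inv, ← map_mul, ← map_mul]; rfl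
  have cm : ∀ {x y s u}, emb s ∈ H → emb u ∈ H → (x = F.p s ∨ x = F.t * F.p s) →
      (y = F.p u ∨ y = F.t * F.p u) → (Commute x y ↔ s * u = u * s) := by
    intro x y s u hs hu hx hy
    have k : Commute (F.p s) (F.p u) ↔ s * u = u * s :=
      ⟨fun h => F.p_inj (I_mul hs hu) (I_mul hu hs) (by rw [F.p_mul hs hu, F.p_mul hu hs, h.eq]),
        fun h => by rw [Commute, SemiconjBy, ← F.p_mul hs hu, ← F.p_mul hu hs, h]⟩
    have k1 : ∀ {a b : X}, Commute F.t b → (Commute (F.t * a) b ↔ Commute a b) := fun h =>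
      ⟨fun h1 => by simpa using h.inv_left.mul_left h1, h.mul_left⟩
    rw [← k]
    rcases hx with rfl | rfl <;> rcases hy with rfl | rfl
    · rfl
    · rw [Commute.symm_iff, k1 (F.p_t s), Commute.symm_iff]
    · rw [k1 (F.p_t u)]
    · rw [k1 ((Commute.refl _).mul_right (F.p_t u)), Commute.symm_iff, k1 (F.p_t s), Commute.symm_iff]
  have sq : ∀ {x s}, emb s ∈ H → (x = F.p s ∨ x = F.t * F.p s) → x * x = 1 → s * s = 1 := by
    intro x s hs hx h
    refine F.p_inj (I_mul hs hs) I_one ?_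
    rw [F.p_mul hs hs, F.p_one, ← h]
    rcases hx with rfl | rfl
    · rfl
    · rw [mul_assoc, ← mul_assoc (F.p s), ← (F.p_t s).eq, mul_assoc, ← mul_assoc, F.tt, one_mul]
  have gz : κ g (F.p z1) = F.p z1 := by
    obtain ⟨s, hs, e⟩ := ms z1
    have k := fZ s fun u hu => ((cm hs (F.inn hu) e (Or.inl rfl)).1 (κ_eq.1 (by
      obtain ⟨u', h1, h2⟩ := tr u z1 z
      rw [h2, cn, fZ', mul_inv_cancel_right])).symm).symm
    rcases e with e | e
    · rcases k with rfl | rfl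
      · rw [F.p_one, ← map_one (κ g), ← F.p_one] at e
        exact absurd (F.p_inj z I_one (κ_inj e)) (by decide +kernel)
      · exact e
    · exact absurd e (nT _ _ (by decide +kernel) (k.imp_right (by rintro rfl; decide +kernel)))
  have gt : κ g F.t = F.t * F.p z1 := by
    rw [map_mul, gz] at ht
    conv_rhs => rw [← ht, mul_assoc, psq F (by decide +kernel), mul_one]
  have gV : ∀ v : Ph, v.V1 → v.zc → ∃ s : Ph, s.V1 ∧ κ g (F.p v) = F.p s := fun v hv hz => by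
    obtain ⟨s, hs, e⟩ := ms v
    have k := fnml s (sq hs e (by rw [← map_mul, psq F hv, map_one])) fun m hm => by
      have mH := F.h12 (NX.emb_12.2 hm)
      have c1 : κ (F.e (NX.emb m)) (F.p z1) = F.p z1 := by
        rw [κ_def, Fr.p, ← F.e_conj mH z, (A.comm_z1 m).eq, mul_inv_cancel_right]
      have c2 : κ (κ g⁻¹ (F.e (NX.emb m))) (F.p z1) = F.p z1 := by
        rw [← κ_inv_eq gz, ← κ_κ, c1]
      obtain ⟨a, ha, e1⟩ := dec hW (x := κ g⁻¹ (F.e (NX.emb m))) (by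
        rw [← κ_inv g F.t, gt, ← κ_κ, map_mul, c1, κ_eq.2 (F.e_t _).symm])
      rw [Fr.p, κ_dec ha z e1] at c2
      obtain ⟨n, rfl⟩ := cent_z (F.hAM ha)
        (mul_inv_eq_iff_eq_mul.1 (F.e_inj (conj_mem (norm_self H ha) z) z c2))
      obtain ⟨u, hu, e2⟩ := fnml' n v hv
      have c3 : κ (F.e (NX.emb m)) (κ g (F.p v)) = κ g (F.p u) := by
        rw [← κ_inv' g (F.e _), ← κ_κ]
        refine congrArg (κ g) ((κ_dec ha (IV F hv) e1).trans ?_)
        rw [← NX.emb_of (X := X1), ← map_inv, ← map_mul, ← map_mul, e2, NX.emb_of]; rfl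
      have c4 : Commute (κ g (F.p v)) (κ (F.e (NX.emb m)) (κ g (F.p v))) := by
        rw [c3]; exact (κ_eq.1 ((inA_p (Or.inl hv) (IV F hv)).c u hu)).map _
      have c5 : Commute (F.p s) (κ (F.e (NX.emb m)) (F.p s)) := by
        rcases e with e | e
        · rwa [e] at c4
        · rw [e, map_mul, κ_eq.2 (F.e_t _).symm] at c4
          have k1 : Commute F.t (κ (F.e (NX.emb m)) (F.p s)) := by
            rw [κ_def, Fr.p, ← F.e_conj mH hs]; exact F.e_t _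
          simpa using (((Commute.refl _).mul_left (F.p_t s).symm).inv_right.mul_right c4).symm.mul_right
            (by simpa using k1.symm.inv_right) |>.symm |> fun h => by
              simpa [mul_assoc, (F.p_t s).eq, F.tt] using h
      rw [κ_def, Fr.p, ← F.e_conj mH hs] at c5
      have m1 := conj_mem (norm_self H mH) hs
      apply NX.emb_inj
      simp only [map_mul, map_inv, NX.emb_of]
      exact F.e_inj (mul_mem hs m1) (mul_mem m1 hs) (by rw [F.e_mul hs m1, F.e_mul m1 hs, c5.eq])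
    exact ⟨s, k, e.resolve_right (nT _ _ hz (fV s k).2.1)⟩
  refine ⟨gz, gt, gV i1 (by decide +kernel) (by decide +kernel), ?_⟩
  obtain ⟨s2, h2, e2⟩ := gV z2 (by decide +kernel) (by decide +kernel)
  have z' : emb z2 ∈ H := F.inn (by decide +kernel)
  have k2 := fz2 s2 h2 fun u hu => by
    obtain ⟨u', h1, e⟩ := tr u z2 z'
    have m := I_cn (F.inn hu) (IV F h2)
    have : F.p (s2 * cn u s2) = κ g (F.p (z2 * cn u' z2)) := by
      rw [F.p_mul (IV F h2) m, F.p_mul z' (I_cn h1 z'), map_mul, ← e, e2, κp F (F.inn hu) (IV F h2)]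
    rcases fz2' u' with e3 | e3
    · rw [e3, F.p_one, map_one, ← F.p_one] at this
      exact Or.inl (F.p_inj (I_mul (IV F h2) m) I_one this)
    · rw [e3, gz] at this
      exact Or.inr (F.p_inj (I_mul (IV F h2) m) z this)
  have i : emb i2 ∈ H := F.inn (by decide +kernel)
  obtain ⟨s, hs, e⟩ := ms i2
  obtain ⟨u, hu, e3⟩ := ms sg
  rcases fi2 s (sq hs e (by rw [← map_mul, ← F.p_mul i i, show i2 * i2 = 1 by decide +kernel, F.p_one, map_one]))
    s2 k2 (by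
      rintro rfl
      rw [F.p_one, ← map_one (κ g), ← F.p_one] at e2
      exact absurd (F.p_inj z' I_one (κ_inj e2)) (by decide +kernel))
    (by rintro rfl; exact absurd (F.p_inj z' z (κ_inj (e2.trans gz.symm))) (by decide +kernel))
    ((cm hs (IV F h2) e (Or.inl e2)).1
      (((cm i z' (Or.inl rfl) (Or.inl rfl)).2 (by decide +kernel)).map _)) with k | k
  · have sgH : emb sg ∈ H := F.inn (by decide +kernel)
    have c1 : κ g (F.p (cn sg i2)) = F.p (cn u s) ∨ κ g (F.p (cn sg i2)) = F.t * F.p (cn u s) := by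
      have c2 : ∀ y, κ (κ g (F.p sg)) (F.p y) = κ (F.p u) (F.p y) := fun y => by
        rcases e3 with e3 | e3 <;> rw [e3]
        rw [κ_mul, κ_eq]
        exact (F.p_t u).mul_right (F.p_t y) |>.mul_right (F.p_t u).inv_right
      have c3 : κ (κ g (F.p sg)) F.t = F.t := by
        rcases e3 with e3 | e3 <;> rw [e3]
        · exact κpt F u
        · rw [κ_mul, κpt]; exact κ_eq.2 (Commute.refl _)
      rw [← κp F sgH i, κ_κ, ← κp F hu hs]
      exact e.imp (fun e => by rw [e, c2]) fun e => by rw [e, map_mul, c2, c3]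
    have c4 := (cm hs (I_cn hu hs) e c1).2 (k u)
    have c5 : Commute (F.p i2) (F.p (cn sg i2)) := κ_inj (g := g) (by rw [map_mul, map_mul, c4.eq])
    exact absurd ((cm i (I_cn sgH i) (Or.inl rfl) (Or.inl rfl)).1 c5) (by decide +kernel)
  · exact ⟨s, fzc s k.1, k.2, e.resolve_right (nT _ _ (by decide +kernel) (Or.inr k.1))⟩

theorem exA (hW : F.W = ⊥) : ∃ x, InA F x z3 := by
  have z : emb z1 ∈ H := F.inn (by decide +kernel)
  have sgH : emb sg ∈ H := F.inn (by decide +kernel)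
  have i : emb i1 ∈ H := F.inn (by decide +kernel)
  have i' : emb i2 ∈ H := F.inn (by decide +kernel)
  have hc : F.S0 ≤ C{F.t * F.p z1} := fun y hy => by
    refine mem_C1_comm.1 (mul_mem (mem_C1_comm.1 (F.S0_C hy)) (mem_C1.2 ?_))
    obtain ⟨s, hs, rfl | rfl⟩ := F.mem_S0.1 hy
    · rw [← F.p_mul z hs, ← F.p_mul hs z, fZ']
    · rw [← mul_assoc, ← (F.p_t _).eq, mul_assoc, mul_assoc, ← F.p_mul z hs, ← F.p_mul hs z, fZ']
  obtain ⟨g, hg, ht, s, hs, e⟩ : ∃ g ∈ N[F.S0], κ g (F.t * F.p z1) = F.t ∧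
      ∃ s : Ph, (i2 * s).U0 ∧ κ g (F.p i2) = F.p s := by
    obtain ⟨g, e1, e2⟩ := F.embed F.tz' F.S0_two hc
    obtain ⟨-, -, -, s, si, h | h, e⟩ := norm_facts hW (mem_N_of_cj_le e2) e1
    · exact ⟨g, mem_N_of_cj_le e2, e1, s, h, e⟩
    · exact ⟨F.p sg * g, mul_mem (norm_self _ (F.p_mem _)) (mem_N_of_cj_le e2),
        by rw [κ_mul, show κ g _ = _ from e1, κpt], _, h, by rw [κ_mul, e, κp F sgH (F.inn si)]⟩
  obtain ⟨gz, gt, ⟨u, hu, e1⟩, -⟩ := norm_facts hW hg ht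
  obtain ⟨-, -, -, -, -, -, -, -, -, -, -, c1, c2, c3, c4, -, -, -, -, -, -, c5⟩ := fc
  rcases fi1 u hu s hs with k | ⟨k1, k2, k3, k4, k5⟩
  · have si : emb s ∈ H := by
      have := I_mul i' (IV F (fU _ hs).1)
      rwa [← mul_assoc, show i2 * i2 = 1 by decide +kernel, one_mul] at this
    have : F.p (i1 * i2) = F.p (i2 * i1) := κ_inj (g := g) (by
      rw [F.p_mul i i', F.p_mul i' i, map_mul, map_mul, e, e1, ← F.p_mul (IV F hu) si, k,
        F.p_mul si (IV F hu)])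
    exact absurd (F.p_inj (I_mul i i') (I_mul i' i) this) (by decide +kernel)
  have m := I_mul (IV F hu) (F.inn k3)
  have g3 : κ g (F.p z3) = F.p z3 := by
    conv_lhs => rw [← c5, F.p_mul (I_mul i i') (I_mul i i'), F.p_mul i i']
    rw [map_mul, map_mul, e, e1, ← F.p_mul (IV F hu) (F.inn k3), ← F.p_mul m m, k1]
  have g2 : κ g (F.p z2) = F.p z2 := by
    rw [show z2 = z1 * z3 by decide +kernel, F.p_mul z (F.inn (by decide +kernel)), map_mul, gz, g3]
  refine adj (g := κ F.r⁻¹ g) (by decide +kernel) ?_ ?_ ?_ k5 ?_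
  · rw [← κrt F, ← κ_κ, gt, map_mul, κr F (by decide +kernel) z, c1]
  · rw [← c2, ← κr F (by decide +kernel) (F.inn (by decide +kernel)), ← κ_κ, g2]
  · rw [← c3, ← κr F (by decide +kernel) (F.inn (by decide +kernel)), ← κ_κ, g3]
  · rw [← c4, ← κr F (by decide +kernel) i', ← κ_κ, e, κr F k4 (F.inn k3)]

end H5.MC.P0
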