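import Mathlib
import Cfsg.Agent.H0.MCP1

/-! # Phase one: `e1` may be taken central in `A`; squares and commutators in `A` -/

set_option autoImplicit false
set_option linter.unusedSectionVars false
set_option linter.unusedVariables false
set_option maxRecDepth 100000

namespace H5.MC.P0

open H9 Cfsg H24 Subgroup

theorem gK : ∀ s : Ph, K s → (∀ u : Ph, K (cn u s)) ∧ (s * (rc (rc s))⁻¹).V1 := by decide +kernel
theorem gmu : ∀ m : Ph, m.V1 → m * z2 = z2 * cn j1 m → m * rc m * rc (rc m) = 1 → m = 1 ∨ m = z3 := by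
  decide +kernel
theorem gc : cn j1 e1 = e1 * z2 ∧ cn j1 z3 = z3 ∧ cn sg z3 = z2 ∧ z2 * z3 = z1 ∧ rc z3 = i1 ∧ rc e1 = e1 ∧
    z3 * rc z3 * rc (rc z3) = 1 ∧ (e1⁻¹ * cn sg e1).V1 ∧ K e1 ∧ ¬ e1.inn ∧ ¬ e1.V1 := by decide +kernel

variable {H : Subgroup PG} {X : Type*} [Group X] [Finite X] {F : Fr H X} {s u v : Ph} {x y g : X}

theorem InA.div (hx : InA F x v) (hy : InA F y v) : InA F (x⁻¹ * y) 1 :=
  (fV v hx.hv).2.2.1 ▸ hx.inv.mul hy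
theorem InA.sq (hx : InA F x v) : InA F (x * x) 1 := (fV v hx.hv).2.2.1 ▸ hx.mul hx

theorem InA.eqv (hW : F.W = ⊥) (hx : InA F x v) (hy : InA F y v) :
    ∃ s, K s ∧ emb s ∈ H ∧ ∃ τ, (τ = 1 ∨ τ = F.t) ∧ y = x * (τ * F.p s) := by
  obtain ⟨s, h1, h2, τ, h3, e⟩ := (hx.div hy).ker hW
  exact ⟨s, h1, h2, τ, h3, by rw [← e, mul_inv_cancel_left]⟩

theorem C_fix (hW : F.W = ⊥) (hx : InA F x 1) (hu : K u) (hu' : emb u ∈ H) : κ x (F.p u) = F.p u := by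
  obtain ⟨s, h1, h2, τ, h3, rfl⟩ := hx.ker hW
  rw [κ_mul, κp F h2 hu', cn, ((fK s h1).2.2.2.2.2.2 u hu).2, mul_inv_cancel_right]
  rcases h3 with rfl | rfl
  · exact κ_one _
  · exact κ_eq.2 (F.p_t u)

theorem mu (hW : F.W = ⊥) (he : emb e1 ∈ H) (hx : InA F x v) :
    ∃ m : Ph, m.V1 ∧ κ x (F.p e1) = F.p e1 * F.p m := by
  have k : K e1 := gc.2.2.2.2.2.2.2.2.1
  have h1 : InA F (κ x (F.p e1)) 1 := by
    have := (hx.mul (inA_p k he)).mul hx.inv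
    rwa [mul_one, (fV v hx.hv).2.2.1] at this
  obtain ⟨s, h2, h3, τ, h4, e⟩ := h1.ker hW
  have h5 : κ x (κ x (F.p e1)) = F.p e1 := by rw [← κ_mul]; exact C_fix hW hx.sq k he
  rcases (fK s h2).2.2.2.2.2.1 with h | ⟨u, hu, rfl⟩
  · rw [e, map_mul, hx.c s h] at h5
    rcases h4 with rfl | rfl
    · rw [map_one, one_mul] at h5
      exact (gc.2.2.2.2.2.2.2.2.2.2 (F.p_inj h3 he h5 ▸ h)).elim
    · rw [hx.t, mul_assoc, ← F.p_mul (IV F hx.hv) h3] at h5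
      exact (ne_t F he (I_mul (IV F hx.hv) h3) h5.symm).elim
  · rw [F.p_mul he (IV F hu)] at e
    rcases h4 with rfl | rfl
    · exact ⟨u, hu, by rw [e, one_mul]⟩
    · rw [e, map_mul, map_mul, hx.t, hx.c u hu, e, mul_assoc F.t (_ * _), mul_assoc (F.p e1), psq F hu, mul_one,
        (F.p_t v).eq, mul_assoc, ← mul_assoc F.t, F.tt, one_mul, mul_eq_right, ← F.p_one] at h5
      obtain rfl := F.p_inj (IV F hx.hv) I_one h5
      exact ⟨1, hx.hv, by rw [C_fix hW hx k he, F.p_one, mul_one]⟩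

theorem spread {f w : X} (h1 : ∀ x, InA F x 1 → κ x f = f) (hρ : κ F.ρ f = f)
    (hs : ∃ y : Ph, y.V1 ∧ κ (F.p sg) f = f * F.p y) (hw : InA F w z3) (h : κ w f = f)
    (hx : InA F x v) : κ x f = f := by
  obtain ⟨y, hy, e⟩ := hs
  have w2 := hw.cp (F.inn (s := sg) (by decide +kernel))
  rw [gc.2.2.1] at w2
  have h2 : κ (κ (F.p sg) w) f = f := by
    have : κ (κ (F.p sg) w) (κ (F.p sg) f) = κ (F.p sg) f := by rw [← κ_κ, h]
    rw [e, map_mul, w2.c y hy] at this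
    exact mul_right_cancel this
  have h3 : κ (κ F.ρ w) f = f := by
    conv_lhs => rw [← hρ, ← κ_κ, h, hρ]
  obtain ⟨a, ha, e⟩ := V_ind (P := fun v => ∃ x, InA F x v ∧ κ x f = f) ⟨_, inA_t, h1 _ inA_t⟩
    ⟨_, gc.2.2.2.1 ▸ w2.mul hw, by rw [κ_mul, h, h2]⟩ ⟨_, w2, h2⟩ ⟨_, gc.2.2.2.2.1 ▸ hw.cρ, h3⟩
    (fun a b ⟨x, hx, e⟩ ⟨y, hy, e'⟩ => ⟨_, hx.mul hy, by rw [κ_mul, e', e]⟩) hx.hv
  rw [← mul_inv_cancel_left a x, κ_mul, h1 _ (ha.div hx), e]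

/-- `A` centralizes `e1` -/
def HE (F : Fr H X) : Prop := ∀ x v, InA F x v → κ x (F.p e1) = F.p e1

theorem tw_in (h : s.inn) : F.tw.p s = F.p s := by
  rw [Fr.p, Fr.p, F.tw.e_eq (F.inn h), F.e_eq (F.inn h)]; exact if_pos (emb_12.2 h)
theorem tw_out (h : ¬ s.inn) (hs : emb s ∈ H) : F.tw.p s = F.t * F.p s := by
  rw [Fr.p, Fr.p, F.tw.e_eq hs, F.e_eq hs]; exact if_neg fun k => h (emb_12.1 k)

theorem dich (hW : F.W = ⊥) : HE F ∨ HE F.tw := by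
  by_cases he : emb e1 ∈ H
  swap
  · exact Or.inl fun x v _ => by rw [show F.p e1 = 1 from dif_neg he, map_one]
  obtain ⟨c1, c2, -, -, -, c3, c4, c5, k, c6, -⟩ := gc
  obtain ⟨w, hw⟩ := exA hW
  obtain ⟨m, hm, e⟩ := mu hW he hw
  have j : emb j1 ∈ H := F.inn (by decide +kernel)
  have sgH : emb sg ∈ H := F.inn (by decide +kernel)
  have z : z2.V1 := by decide +kernel
  have ρe : κ F.ρ (F.p e1) = F.p e1 := by rw [κρ F (Or.inl k) he, c3]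
  have se : κ (F.p sg) (F.p e1) = F.p e1 * F.p (e1⁻¹ * cn sg e1) := by
    rw [κp F sgH he, ← F.p_mul he (IV F c5), mul_inv_cancel_left]
  have m1 := (fV m hm).2.2.2.1
  have m2 := (fV _ m1).2.2.2.1
  have a1 : m * z2 = z2 * cn j1 m := by
    have wj := c2 ▸ hw.cp j
    have b : κ (κ (F.p j1) w) (F.p e1) = F.p e1 * F.p m := by
      rw [← mul_inv_cancel_left w (κ _ w), κ_mul, C_fix hW (hw.div wj) k he, e]
    have := κ_κ (F.p j1) w (F.p e1)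
    rw [e, map_mul, κp F j he, c1, F.p_mul he (IV F z), map_mul, b, wj.c _ z, κp F j (IV F hm), mul_assoc,
      mul_assoc, mul_right_inj, ← F.p_mul (IV F z) (I_cn j (IV F hm)), ← F.p_mul (IV F hm) (IV F z)] at this
    exact (F.p_inj (I_mul (IV F z) (I_cn j (IV F hm))) (I_mul (IV F hm) (IV F z)) this).symm
  have a2 : m * rc m * rc (rc m) = 1 := by
    have b2 : κ (κ F.ρ w) (F.p e1) = F.p e1 * F.p (rc m) := by
      conv_lhs => rw [← ρe, ← κ_κ, e, map_mul, ρe, κρ F (Or.inl (Or.inl hm)) (IV F hm)]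
    have b3 : κ (κ F.ρ (κ F.ρ w)) (F.p e1) = F.p e1 * F.p (rc (rc m)) := by
      conv_lhs => rw [← ρe, ← κ_κ, b2, map_mul, ρe, κρ F (Or.inl (Or.inl m1)) (IV F m1)]
    have := C_fix hW (c4 ▸ (hw.mul hw.cρ).mul hw.cρ.cρ) k he
    rw [κ_mul, κ_mul, b3, map_mul, b2, hw.cρ.c _ m2, map_mul, map_mul, e, hw.c _ m1, hw.c _ m2, mul_assoc,
      mul_assoc, mul_eq_left, ← mul_assoc, ← F.p_mul (IV F hm) (IV F m1),
      ← F.p_mul (I_mul (IV F hm) (IV F m1)) (IV F m2), ← F.p_one] at this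
    exact F.p_inj (I_mul (I_mul (IV F hm) (IV F m1)) (IV F m2)) I_one this
  rcases gmu m hm a1 a2 with rfl | rfl
  · exact Or.inl fun x v hx => spread (fun x hx => C_fix hW hx k he) ρe ⟨_, c5, se⟩ hw
      (by rw [e, F.p_one, mul_one]) hx
  · refine Or.inr fun x v hx => ?_
    rw [tw_out c6 he]
    refine spread (F := F) (v := v) (fun x hx => by rw [map_mul, C_fix hW hx k he, hx.t, F.p_one, mul_one])
      (by rw [map_mul, ρe, κρt]) ⟨_, c5, by rw [map_mul, se, κpt, mul_assoc]⟩ hw ?_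
      ⟨hx.hv, fun s hs => tw_in (F := F) (fV s hs).1 ▸ hx.c s hs, tw_in (F := F) (fV v hx.hv).1 ▸ hx.t⟩
    rw [map_mul, e, hw.t, mul_assoc, ← mul_assoc (F.p z3), (inA_p k he).cV hm, mul_assoc, psq F hm, mul_one]

/-- the central elements -/
structure Z (F : Fr H X) (s : Ph) : Prop where
  k : K s
  m : emb s ∈ H

theorem Z.mul (hs : Z F s) (hu : Z F u) : Z F (s * u) := ⟨((fK s hs.k).2.2.2.2.2.2 u hu.k).1, I_mul hs.m hu.m⟩
theorem Z.inv (hs : Z F s) : Z F s⁻¹ := ⟨(fK s hs.k).1, I_inv hs.m⟩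
theorem Z.rc (hs : Z F s) : Z F (rc s) := ⟨(fK s hs.k).2.2.2.2.1, I_rc F hs.k hs.m⟩
theorem Z.cn (hs : Z F s) (hu : emb u ∈ H) : Z F (cn u s) := ⟨(gK s hs.k).1 u, I_cn hu hs.m⟩
theorem ZV (h : v.V1) : Z F v := ⟨Or.inl h, IV F h⟩
theorem Z.pm (hs : Z F s) (hu : Z F u) : F.p s * F.p u = F.p (s * u) := (F.p_mul hs.m hu.m).symm
theorem Z.κρ (hs : Z F s) : κ F.ρ (F.p s) = F.p (P0.rc s) := P0.κρ F (Or.inl hs.k) hs.m
theorem Z.inj (hs : Z F s) (hu : Z F u) (h : F.p s = F.p u) : s = u := F.p_inj hs.m hu.m h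
theorem Z.one (hs : Z F s) (h : F.p s = 1) : s = 1 := F.p_inj hs.m I_one (h.trans F.p_one.symm)

theorem InA.cK (hx : InA F x v) (hE : HE F) (hs : Z F s) : κ x (F.p s) = F.p s := by
  rcases (fK s hs.k).2.2.2.2.2.1 with h | ⟨u, hu, rfl⟩
  · exact hx.c s h
  · have he : emb e1 ∈ H := by
      have := I_mul hs.m (I_inv (IV F hu))
      rwa [mul_inv_cancel_right] at this
    rw [F.p_mul he (IV F hu), map_mul, hE _ _ hx, hx.c u hu]
theorem InA.mv (hx : InA F x v) (hE : HE F) (hs : Z F s) : F.p s * x = x * F.p s :=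
  (κ_eq.1 (hx.cK hE hs)).eq.symm
theorem InA.mv' (hx : InA F x v) (hE : HE F) (hs : Z F s) (y : X) : F.p s * (x * y) = x * (F.p s * y) := by
  rw [← mul_assoc, hx.mv hE hs, mul_assoc]

theorem InA.sq' (hx : InA F x v) (hW : F.W = ⊥) (hE : HE F) : ∃ s, Z F s ∧ x * x = F.p s := by
  obtain ⟨s, h1, h2, τ, rfl | rfl, e⟩ := hx.sq.ker hW
  · exact ⟨s, ⟨h1, h2⟩, by rw [e, one_mul]⟩
  have : κ x (x * x) = x * x := κ_eq.2 ((Commute.refl x).mul_right (Commute.refl x))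
  rw [e, map_mul, hx.t, hx.cK hE ⟨h1, h2⟩, mul_left_inj, mul_eq_left] at this
  obtain rfl := (ZV hx.hv).one this
  obtain ⟨u, h3, h4, τ, h5, rfl⟩ := hx.ker hW
  refine (ne_t F (I_mul h4 h4) h2 ?_).elim
  rw [← e, F.p_mul h4 h4]
  rcases h5 with rfl | rfl
  · rw [one_mul]
  · rw [mul_assoc, ← mul_assoc (F.p u), ← (F.p_t u).eq, mul_assoc, ← mul_assoc F.t, F.tt, one_mul]

theorem InA.comm (hx : InA F x v) (hy : InA F y u) (hW : F.W = ⊥) (hE : HE F) :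
    ∃ c : Ph, c.V1 ∧ y * x = x * y * F.p c := by
  obtain ⟨s0, h0, e0⟩ := (hx.mul hy).sq' hW hE
  obtain ⟨s1, h1, e1⟩ := hx.sq' hW hE
  obtain ⟨s2, h2, e2⟩ := hy.sq' hW hE
  have hc := (h1.inv.mul h0).mul h2.inv
  have e : y * x = x * y * F.p (s1⁻¹ * s0 * s2⁻¹) := by
    rw [mul_assoc x, ← hy.mv hE hc, ← (h1.inv.mul h0).pm h2.inv, ← h1.inv.pm h0, F.p_inv h1.m, F.p_inv h2.m,
      ← e0, ← e1, ← e2]
    group
  refine ⟨_, (fK _ hc.k).2.1 ((hc.mul hc).one ?_), e⟩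
  have : y * (x * x) = x * x * y := by rw [e1, hy.mv hE h1]
  rw [← mul_assoc, e, mul_assoc, hx.mv hE hc, mul_assoc x, ← mul_assoc y, e] at this
  rw [← hc.pm hc]
  simpa only [mul_assoc, mul_right_inj, mul_eq_left] using this

theorem InA.fix (hx : InA F x z1) (hW : F.W = ⊥) (hE : HE F) :
    ∃ y : Ph, y.V1 ∧ κ F.ρ (x * F.p y) = x * F.p y := by
  obtain ⟨s, h1, h2, τ, h3, e⟩ := hx.eqv hW (fc.2.2.2.2.2.2.1 ▸ hx.cρ)
  have hs : Z F s := ⟨h1, h2⟩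
  have := κρ3 F x
  rcases h3 with rfl | rfl
  · simp only [e, one_mul, map_mul, hs.κρ, hs.rc.κρ, mul_assoc, mul_eq_left, hs.rc.pm hs.rc.rc,
      hs.pm (hs.rc.mul hs.rc.rc)] at this
    obtain ⟨y, hy, e'⟩ := ffix s h1 (by rw [mul_assoc]; exact (hs.mul (hs.rc.mul hs.rc.rc)).one this)
    exact ⟨y, hy, by rw [map_mul, e, one_mul, (ZV hy).κρ, mul_assoc, hs.pm (ZV hy).rc, e']⟩
  · simp only [e, map_mul, κρt, hs.κρ, hs.rc.κρ, mul_assoc, mul_eq_left, inA_t.mv' hE hs,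
      hs.rc.pm hs.rc.rc, hs.pm (hs.rc.mul hs.rc.rc)] at this
    rw [← mul_assoc, F.tt, one_mul, ← F.p_one] at this
    exact (ne_t F I_one (hs.mul (hs.rc.mul hs.rc.rc)).m this.symm).elim

end H5.MC.P0
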