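import Mathlib
import Cfsg.Agent.H6.ZMain
import Cfsg.Prelude.Def_SporadicB

/-! Groups with a proper `2`-generated core, permutation form: definitions. -/

set_option autoImplicit false

namespace H0
namespace PC

open H24 H3.B71 H6.ZD Subgroup MulAction

variable {G Ω : Type*} [Group G] [MulAction G Ω]

/-- every `2`-subgroup fixes a point, a four-group fixes at most one point, `G` is transitive and
has a four-group -/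
structure PC (G Ω : Type*) [Group G] [MulAction G Ω] : Prop where
  ex : ∀ P : Subgroup G, IsPi {2} P → ∃ a : Ω, ∀ x ∈ P, x • a = a
  uniq : ∀ u v : G, Inv u → Inv v → u ≠ v → u * v = v * u → ∀ a b : Ω,
    u • a = a → v • a = a → u • b = b → v • b = b → a = b
  tr : ∀ a b : Ω, ∃ g : G, g • a = b
  four : ∃ u v : G, Inv u ∧ Inv v ∧ u ≠ v ∧ u * v = v * u

/-- the fixed points of `x` -/
def Fx (Ω : Type*) [MulAction G Ω] (x : G) : Set Ω := {b | x • b = b}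

/-- `x` fixes at most one point of the orbit of `a` under `Y` -/
def NO (Y : Subgroup G) (a : Ω) (x : G) : Prop :=
  ∀ b ∈ Orb Y a, ∀ c ∈ Orb Y a, x • b = b → x • c = c → b = c

/-- a narrow involution of the group induced by `Y` on the orbit of `a` -/
def NI (Y : Subgroup G) (a : Ω) (x : G) : Prop := x ∈ Y ∧ x * x ∈ Ker Y a ∧ NO Y a x

/-- the class of `e` is a `Z`-structure for the group induced by `Y` on the orbit of `a` -/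
structure ZH (Y : Subgroup G) (a : Ω) (T : Subgroup G) (e : G) : Prop where
  syl : Syl 2 Y T
  fix : ∀ x ∈ T, x • a = a
  mv : ∃ y ∈ Y, y • a ≠ a
  eT : e ∈ T
  ni : NI Y a e
  cen : ∀ x ∈ T, e * x * e⁻¹ * x⁻¹ ∈ Ker Y a
  pd : ∀ y ∈ Y, y * e * y⁻¹ ∈ T →
    e * (y * e * y⁻¹) ∈ Ker Y a ∨ NO Y a (e * (y * e * y⁻¹))

/-- two distinct commuting narrow involutions modulo the kernel -/
def PairH (Y : Subgroup G) (a : Ω) (T : Subgroup G) : Prop :=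
  ∃ x ∈ T, ∃ w ∈ T, NI Y a x ∧ NI Y a w ∧ x * w ∉ Ker Y a ∧ x * w * x⁻¹ * w⁻¹ ∈ Ker Y a

/-- the Bender structure of the group induced by `Y` on the orbit of `a`, lifted to the Sylow
subgroup `T` -/
structure ZS (Y : Subgroup G) (a : Ω) (T A U : Subgroup G) (ρ : G) (d i : ℕ) : Prop where
  memA : ∀ x, x ∈ A ↔ x ∈ T ∧ (x ∈ Ker Y a ∨ NI Y a x)
  AU : A ≤ U
  UT : U ≤ T
  nU : T ≤ N[U]
  cent : ∀ x ∈ U, ∀ u ∈ A, x * u * x⁻¹ * u⁻¹ ∈ Ker Y a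
  two_le : 2 ≤ d
  cardA : ♯A = 2 ^ d * ♯(T ⊓ Ker Y a)
  cardU : ♯U = (2 ^ d) ^ i * ♯(T ⊓ Ker Y a)
  cardO : (Orb Y a).ncard = (2 ^ d) ^ i + 1
  cases : i = 1 ∨ (i = 2 ∧ ¬ 3 ∣ 2 ^ d - 1) ∨ i = 3
  trans : ∀ b ∈ Orb Y a, ∀ c ∈ Orb Y a, b ≠ a → c ≠ a → ∃ x ∈ U, x • b = c
  free : ∀ x ∈ U, ∀ b ∈ Orb Y a, b ≠ a → x • b = b → x ∈ Ker Y a
  ρY : ρ ∈ Y
  ρa : ρ • a = a
  odd : Odd (orderOf ρ)
  ρU : ρ ∈ N[U]
  ρA : ρ ∈ N[A]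
  ρR : ρ ∈ N[T ⊓ Ker Y a]
  ρtr : ∀ u ∈ A, ∀ w ∈ A, u ∉ Ker Y a → w ∉ Ker Y a →
    ∃ k : ℕ, ρ ^ k * u * (ρ ^ k)⁻¹ * w⁻¹ ∈ Ker Y a
  ρfpf : ∀ x ∈ U, ρ * x * ρ⁻¹ * x⁻¹ ∈ Ker Y a → x ∈ Ker Y a
  perf : ∃ L : Subgroup G, L ≤ Y ∧ Y ≤ N[L] ∧ U ≤ L ∧ Ker Y a ≤ L ∧ L ≤ ⁅L, L⁆ ⊔ Ker Y a

/-- `f` embeds `C_S(u)` into `S` -/
structure Lf (S : Subgroup G) (u : G) (f : G → G) : Prop where
  mem : ∀ x ∈ S, x * u = u * x → f x ∈ S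
  mul : ∀ x ∈ S, ∀ y ∈ S, x * u = u * x → y * u = u * y → f (x * y) = f x * f y
  inj : ∀ x ∈ S, ∀ y ∈ S, x * u = u * x → y * u = u * y → f x = f y → x = y

/-- the centraliser `X` of a wide `2`-central involution `z`, acting on the fixed points of `z` -/
structure BX (z v : G) (S : Subgroup G) (a : Ω) : Prop where
  zi : Inv z
  zc : ∀ g : G, g * z = z * g
  zf : ∀ b : Ω, z • b = b
  tr : ∀ b : Ω, ∃ g : G, g • a = b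
  nt : ∃ b : Ω, b ≠ a
  nar : ∀ t : G, Inv t → t ≠ z → Nar Ω t
  syl : Syl 2 ⊤ S
  fix : ∀ x ∈ S, x • a = a
  vS : v ∈ S
  vi : Inv v
  vz : v ≠ z
  vn : ∀ x ∈ S, x * v * x⁻¹ = v ∨ x * v * x⁻¹ = v * z
  e8 : ∃ b ∈ S, ∃ c ∈ S, Inv b ∧ Inv c ∧ b * c = c * b ∧ b ≠ z ∧ c ≠ z ∧ b ≠ c ∧ b * c ≠ z
  g1 : ∃ u ∈ S, Inv u ∧ u ≠ z ∧ ∃ f : G → G, Lf S u f ∧ f u = z
  g2 : ∀ S₀ : Subgroup G, S₀ ≤ S → S₀.relIndex S = 2 → (∀ t ∈ S, Inv t → t ∈ S₀) →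
    ∀ w ∈ S, w ∉ S₀ → w ^ 4 = 1 → ∃ f : G → G, Lf S w f ∧ f w ∈ S₀
  g3 : ∃ b ∈ S, ∃ c ∈ S, Inv b ∧ Inv c ∧ b * c ≠ c * b

/-- wide square roots of `z` inverted by an involution -/
def YY (Ω : Type*) [MulAction G Ω] (z y : G) : Prop :=
  y * y = z ∧ ¬ Nar Ω y ∧ ∃ t : G, Inv t ∧ t * y * t⁻¹ = y⁻¹

/-- the position of `y` -/
structure YP (z v : G) (S : Subgroup G) (a : Ω) (y : G) : Prop where
  bx : BX z v S a
  yy : YY Ω z y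
  yS : y ∈ S
  syl : Syl 2 N[zpowers y] (S ⊓ N[zpowers y])

/-- the configuration `Q₈ ∘ Q₈ = ⟨i, j⟩ ⟨i, j⟩ˢ` -/
structure CF (z v : G) (S : Subgroup G) (a : Ω) (i j s ρ : G) : Prop where
  yp : YP z v S a i
  jS : j ∈ S
  sS : s ∈ S
  jj : j * j = z
  ji : j * i * j⁻¹ = i⁻¹
  ss : s * s = 1
  c1 : i * (s * i * s⁻¹) = (s * i * s⁻¹) * i
  c2 : i * (s * j * s⁻¹) = (s * j * s⁻¹) * i
  c3 : j * (s * j * s⁻¹) = (s * j * s⁻¹) * j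
  card : (Fx Ω i).ncard = 5
  jf : ∀ b ∈ Fx Ω i, j • b = b
  ker : ∀ x ∈ S, x ∈ N[zpowers i] → (∀ b ∈ Fx Ω i, x • b = b) → x ∈ closure {i, j}
  reg : ∀ b ∈ Fx Ω i, ∀ c ∈ Fx Ω i, b ≠ a → c ≠ a →
    ∃ x ∈ closure {s * i * s⁻¹, s * j * s⁻¹}, x • b = c
  odd : Odd (orderOf ρ)
  ρa : ρ • a = a
  ρi : ρ * i = i * ρ
  ρj : ρ * j = j * ρ
  ρQ : ρ ∈ N[closure {s * i * s⁻¹, s * j * s⁻¹}]
  ρm : ρ * (s * i * s⁻¹) * ρ⁻¹ ∉ zpowers (s * i * s⁻¹)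

/-- the element `σ` of the case `|S| = 128` -/
structure CS (Ω : Type*) [MulAction G Ω] (z : G) (S : Subgroup G) (i j s σ : G) : Prop where
  gen : S = closure {i, j, s, σ}
  sq : σ * σ = z
  σi : σ * i * σ⁻¹ = i⁻¹
  σj : σ * j * σ⁻¹ = i * j
  fix : (Fx Ω i ∩ Fx Ω σ).ncard = 3

/-- the stabiliser of `Λ = Fix i ∪ Fix iˢ` -/
def XL (Ω : Type*) [MulAction G Ω] (i s : G) : Subgroup G where
  carrier := {g | ∀ b : Ω, g • b ∈ Fx Ω i ∪ Fx Ω (s * i * s⁻¹) ↔ b ∈ Fx Ω i ∪ Fx Ω (s * i * s⁻¹)}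
  mul_mem' := fun {g h} hg hh b => by rw [mul_smul, hg, hh]
  one_mem' := fun b => by rw [one_smul]
  inv_mem' := fun {g} hg b => by rw [← hg, smul_inv_smul]

/-- `Y` induces `A₉`, the kernel has Sylow subgroup `⟨z⟩`, and `z` is a square -/
def N9 (Y : Subgroup G) (z : G) : Prop :=
  ∃ φ : Y →* Equiv.Perm (Fin 9), φ.range = alternatingGroup (Fin 9) ∧
    (∀ x : Y, (x : G) = z → φ x = 1) ∧
    (∀ x : Y, φ x = 1 → (x : G) ^ 4 = 1 → (x : G) = 1 ∨ (x : G) = z) ∧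
    (∀ x : Y, (x : G) * x = z → (φ x).support.card = 4) ∧
    (∀ x : Y, Inv (x : G) → (x : G) ≠ z → (φ x).support.card = 8) ∧ ∃ y ∈ Y, y * y = z

/-- `θ(x) = O(C(x))` -/
abbrev θ (x : G) : Subgroup G := Cfsg.centralizerPPrimeCore 2 x

/-- `W = ⟨O(C(x)) : x an involution of S⟩` -/
abbrev Wc (S : Subgroup G) : Subgroup G := ⨆ x : {x : G // x ∈ S ∧ orderOf x = 2}, θ (x : G)

/-- the hypothesis of the core killing theorem -/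
def Sig (S : Subgroup G) : Prop :=
  Odd ♯(Wc S) ∧ ∀ x : G, x ∈ S → orderOf x = 2 → Wc S ⊓ C{x} = θ x

end PC
end H0
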