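import Mathlib
import Cfsg.Agent.H0.PCDefs

set_option autoImplicit false
set_option linter.unusedSectionVars false
set_option linter.unusedVariables false

namespace H3.PZ

open H24 H3.B71 H6.ZD H0.PC H26.BR Subgroup MulAction Cfsg

universe u

/-- the Bender structure of a faithful group -/
structure BS {B Λ : Type u} [Group B] [MulAction B Λ] (a : Λ) (L Q A : Subgroup B) (k : B) (d i : ℕ) : Prop where
  nL : ⊤ ≤ N[L]
  perf : L ≤ ⁅L, L⁆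
  QL : Q ≤ L
  nQ : ∀ g : B, g • a = a → g ∈ N[Q]
  two : IsPi {2} Q
  memA : ∀ x, x ∈ A ↔ x = 1 ∨ (x * x = 1 ∧ Nar Λ x ∧ x • a = a)
  AQ : A ≤ Q
  nA : ∀ g : B, g • a = a → g ∈ N[A]
  cent : ∀ x ∈ Q, ∀ u ∈ A, u * x = x * u
  two_le : 2 ≤ d
  cardA : ♯A = 2 ^ d
  cardQ : ♯Q = (2 ^ d) ^ i
  cardO : Nat.card Λ = (2 ^ d) ^ i + 1
  cases : i = 1 ∨ (i = 2 ∧ ¬ 3 ∣ 2 ^ d - 1) ∨ i = 3
  trans : ∀ b c : Λ, b ≠ a → c ≠ a → ∃ x ∈ Q, x • b = c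
  free : ∀ x ∈ Q, ∀ b : Λ, b ≠ a → x • b = b → x = 1
  fix : ∀ x ∈ Q, x • a = a
  ka : k • a = a
  odd : Odd (orderOf k)
  ktr : ∀ u ∈ A, ∀ w ∈ A, u ≠ 1 → w ≠ 1 → ∃ n : ℕ, k ^ n * u * (k ^ n)⁻¹ = w
  kfpf : ∀ x ∈ Q, k * x = x * k → x = 1

theorem exists_BS {B Λ : Type u} [Group B] [Finite B] [MulAction B Λ] [Finite Λ] [Nontrivial Λ] {Z : Set B}
    (h : ZE Λ Z) (hf : ∀ g : B, (∀ c : Λ, g • c = c) → g = 1) {a : Λ} (hP : Pair Z ⊤ a) :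
    ∃ (L Q A : Subgroup B) (k : B) (d i : ℕ), BS a L Q A k d i := by
  have inv : ∀ z : closure Z, Inv (z : B) → Inv z := fun z hz =>
    ⟨fun e => hz.1 (congrArg Subtype.val e), Subtype.ext hz.2⟩
  have ze : ZE Λ ((↑) ⁻¹' Z : Set (closure Z)) := ⟨fun z hz => inv z (h.inv z hz), fun z hz g => h.conj z hz g,
    fun z hz => h.ex z hz, fun z hz => h.nar z hz, fun c => by
      obtain ⟨z, hz, e⟩ := h.pt c
      exact ⟨⟨z, subset_closure hz⟩, hz, e⟩,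
    fun u hu v hv ne e => h.pd u hu v hv (fun e => ne (Subtype.ext e)) (congrArg Subtype.val e)⟩
  have hf' : ∀ g : closure Z, (∀ c : Λ, g • c = c) → g = 1 := fun g e => Subtype.ext (hf g e)
  obtain ⟨u, hu, v, hv, ne, e⟩ := hP
  have ne' : (⟨u, subset_closure hu.1⟩ : closure Z) ≠ ⟨v, subset_closure hv.1⟩ := fun e => ne (congrArg Subtype.val e)
  have sm : Sm Λ ((↑) ⁻¹' Z : Set (closure Z)) := ⟨ze, ze.simple_of_gen hf' (a := a)
    ⟨⟨u, subset_closure hu.1⟩, ⟨hu.1, mem_top _, hu.2.2⟩, ⟨v, subset_closure hv.1⟩, ⟨hv.1, mem_top _, hv.2.2⟩, ne',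
      Subtype.ext e⟩ closure_closure_coe_preimage, inferInstance⟩
  have se : SE (closure Z) Λ := ⟨fun z hz => ze.ex z (sm.mem_of_nar hz (sm.nar hz)), fun z hz => sm.nar hz, fun c => by
    obtain ⟨z, hz, e⟩ := ze.pt c
    exact ⟨z, ze.inv z hz, e⟩⟩
  have iu := inv ⟨u, subset_closure hu.1⟩ (h.inv u hu.1)
  have iv := inv ⟨v, subset_closure hv.1⟩ (h.inv v hv.1)
  obtain ⟨t, Q, s, r, H⟩ := bender se hf' ⟨_, _, iu.1, iv.1, ne', iu.2, iv.2, Subtype.ext e⟩ a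
  have nL : ⊤ ≤ N[closure Z] := norm_closure fun g _ z hz => subset_closure (h.conj z hz g)
  obtain ⟨d, d2, hd⟩ := H.card_Q0
  obtain ⟨i, hQ, hi⟩ : ∃ i : ℕ, Nat.card Q = Nat.card (H8.Suz.Q0 Q) ^ i ∧
      (i = 1 ∨ (i = 2 ∧ ¬ 3 ∣ 2 ^ d - 1) ∨ i = 3) := by
    rcases H.cases with hc | ⟨h1, hc⟩ | ⟨hC, -⟩
    · exact ⟨1, by rw [pow_one, le_antisymm H8.Suz.Q0_le fun x hx => H.mem_Q0.mpr ⟨hx, hc x hx⟩], Or.inl rfl⟩
    · refine ⟨2, hc, Or.inr (Or.inl ⟨rfl, fun h4 => ?_⟩)⟩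
      obtain ⟨m, hm⟩ := H.card_Q0_odd h1 hc
      rw [← hd, hm, pow_succ, pow_mul] at h4
      have h5 : (2 ^ 2) ^ m % 3 = 1 := by rw [Nat.pow_mod]; simp
      omega
    · exact ⟨3, hC.card, Or.inr (Or.inr rfl)⟩
  obtain ⟨k, hk⟩ := H.isCyclic_KK.exists_monoid_generator
  have k1 : (k : closure Z) ≠ 1 := fun e => by
    obtain ⟨l, hl, l1⟩ := H.exists_KK_ne_one
    obtain ⟨n, hn⟩ := hk ⟨l, hl⟩
    exact l1 (by rw [← show (k : closure Z) ^ n = l from congrArg Subtype.val hn, e, one_pow])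
  have mA : ∀ x, x ∈ (H8.Suz.Q0 Q).map (closure Z).subtype ↔ x = 1 ∨ (x * x = 1 ∧ Nar Λ x ∧ x • a = a) := fun x => by
    constructor
    · rintro ⟨z, hz, rfl⟩
      have := H.mem_Q0.1 hz
      exact (em (z = 1)).imp (congrArg Subtype.val) fun n => ⟨congrArg Subtype.val this.2, sm.nar ⟨n, this.2⟩,
        H21.RankOne.Q_fix H.setup this.1⟩
    · by_cases x1 : x = 1
      · exact fun _ => x1 ▸ one_mem _
      rintro (e | ⟨h1, h2, h3⟩)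
      · exact absurd e x1
      have := subset_closure (h.mem_of_nar' hf ⟨x1, h1⟩ h2)
      exact ⟨⟨x, this⟩, H.mem_Q0.2 ⟨H21.RankOne.invol_mem_Q H.setup h3 (Subtype.ext h1), Subtype.ext h1⟩, rfl⟩
  have inj := (closure Z).subtype_injective
  refine ⟨closure Z, Q.map (closure Z).subtype, (H8.Suz.Q0 Q).map (closure Z).subtype, (k : closure Z), d, i, nL, ?_,
    map_subtype_le _, fun g hg => mem_N_of_finite ?_,
    isPi_of_isPGroup Nat.prime_two (H.struct'.two.map _), mA, map_mono H8.Suz.Q0_le,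
    fun g hg => mem_N_of_finite fun x hx => (mA _).2 (((mA x).1 hx).imp (by rintro rfl; simp) fun e =>
      ⟨by rw [conj_mul, e.1]; simp, e.2.1.conj g, by simpa [hg] using conj_fix (g := g) e.2.2⟩), ?_, d2,
    by rw [card_map_of_injective inj, hd], by rw [card_map_of_injective inj, hQ, hd],
    by rw [H21.RankOne.card_Omega H.setup, hQ, hd], hi, fun b c hb hc => ?_, ?_, ?_, (H8.Suz.KK_le k.2).1, ?_, ?_, ?_⟩
  · have := congrArg (map (closure Z).subtype) sm.commutator_eq_top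
    rw [_root_.commutator_def, map_commutator, map_subtype_top] at this
    exact this.ge
  · rintro _ ⟨x, hx, rfl⟩
    obtain ⟨n, hn⟩ := H.struct'.two ⟨x, hx⟩
    have hn' : x ^ 2 ^ n = 1 := congrArg Subtype.val hn
    refine ⟨⟨g * x * g⁻¹, conj_mem (nL (mem_top g)) x.2⟩, H.mem_Q_of_two ?_ (n := n) (Subtype.ext ?_), rfl⟩
    · simpa [hg] using conj_fix (g := g) (x := (x : B)) (H21.RankOne.Q_fix H.setup hx)
    · show (g * x * g⁻¹) ^ 2 ^ n = 1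
      rw [conj_pow, ← Subgroup.coe_pow, hn']; simp
  · rintro _ ⟨x, hx, rfl⟩ _ ⟨z, hz, rfl⟩
    exact congrArg Subtype.val (H.Q0_central hz hx)
  · obtain ⟨q, hq, e⟩ := H21.RankOne.exists_Q_smul H.setup hb hc
    exact ⟨q, ⟨q, hq, rfl⟩, e⟩
  · rintro _ ⟨x, hx, rfl⟩ b hb e
    exact congrArg Subtype.val (H21.RankOne.eq_one_of_mem_Q_of_fix H.setup hx hb e)
  · rintro _ ⟨x, hx, rfl⟩
    exact H21.RankOne.Q_fix H.setup hx
  · rw [orderOf_coe]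
    exact H.odd_D.of_dvd_nat (orderOf_dvd_card' (H8.Suz.KK_le k.2))
  · rintro _ ⟨x, hx, rfl⟩ _ ⟨y, hy, rfl⟩ x1 y1
    obtain ⟨l, hl, rfl⟩ := H.exists_K_conj_s hx fun e => x1 (congrArg Subtype.val e)
    obtain ⟨m, hm, rfl⟩ := H.exists_K_conj_s hy fun e => y1 (congrArg Subtype.val e)
    obtain ⟨n, hn⟩ := hk ⟨m⁻¹ * l, mul_mem (inv_mem hm) hl⟩
    have e : (k : closure Z) ^ n = m⁻¹ * l := congrArg Subtype.val hn
    refine ⟨n, congrArg Subtype.val (show (k : closure Z) ^ n * (l⁻¹ * s * l) * ((k : closure Z) ^ n)⁻¹ = m⁻¹ * s * m by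
      rw [e]; group)⟩
  · rintro _ ⟨x, hx, rfl⟩ e
    exact congrArg Subtype.val (H.K_fpf k.2 k1 hx (Subtype.ext e))

variable {G Ω : Type u} [Group G] [Finite G] [MulAction G Ω] [Finite Ω] {Y T : Subgroup G} {a : Ω} {e x y z : G}

theorem ap_smul (hx : x ∈ Y) (c : orbit Y a) : ((ap (pr Y a) x • c : orbit Y a) : Ω) = x • (c : Ω) := by
  rw [ap_of_mem _ hx, pr_smul]

theorem ap_fix (hx : x ∈ Y) {c : orbit Y a} : ap (pr Y a) x • c = c ↔ x • (c : Ω) = c := by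
  rw [Subtype.ext_iff, ap_smul hx]

theorem ap_one' (hx : x ∈ Y) : ap (pr Y a) x = 1 ↔ x ∈ Ker Y a := by rw [ap_of_mem _ hx, pr_eq_one]

theorem ap_eq (hx : x ∈ Y) (hy : y ∈ Y) : x * y⁻¹ ∈ Ker Y a ↔ ap (pr Y a) x = ap (pr Y a) y := by
  rw [← ap_one' (mul_mem hx (inv_mem hy)), ap_mul _ hx (inv_mem hy), ap_inv _ hy, mul_inv_eq_one]

theorem ap_surj (b : Im Y a) : ∃ x ∈ Y, ap (pr Y a) x = b := by
  obtain ⟨x, rfl⟩ := pr_surj b
  exact ⟨x, x.2, ap_coe _ x⟩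

theorem pre_bot : pre (pr Y a) ⊥ = Ker Y a := by
  ext x
  rw [mem_pre_bot]
  exact ⟨fun h => (ap_one' h.1).1 h.2, fun h => ⟨h.1, (ap_one' h.1).2 h⟩⟩

theorem range_top : (pr Y a).range = ⊤ := MonoidHom.range_eq_top.2 pr_surj

theorem no_iff (hx : x ∈ Y) : NO Y a x ↔ Nar (orbit Y a) (ap (pr Y a) x) :=
  ⟨fun h b c hb hc => Subtype.ext (h b (mem_orbit_iff_Orb.1 b.2) c (mem_orbit_iff_Orb.1 c.2) ((ap_fix hx).1 hb)
    ((ap_fix hx).1 hc)), fun h b hb c hc e e' => congrArg Subtype.val (h ⟨b, mem_orbit_iff_Orb.2 hb⟩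
      ⟨c, mem_orbit_iff_Orb.2 hc⟩ ((ap_fix hx).2 e) ((ap_fix hx).2 e'))⟩

theorem ni_inv (mv : ∃ y ∈ Y, y • a ≠ a) (h : NI Y a x) : Inv (ap (pr Y a) x) := by
  refine ⟨fun e => ?_, by rw [← ap_mul _ h.1 h.1, ap_one' (mul_mem h.1 h.1)]; exact h.2.1⟩
  obtain ⟨b, c, n⟩ := nontrivial_orbit mv
  exact n ((no_iff h.1).1 h.2.2 b c (by rw [e, one_smul]) (by rw [e, one_smul]))

theorem intoT (hT : Syl 2 Y T) (hz : PiElt {2} z) (hx : x ∈ T) (h : z * x⁻¹ ∈ Ker Y a) :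
    ∃ n ∈ Ker Y a, n * z * n⁻¹ ∈ T := by
  have nK := hT.le.trans (Ker_nml Y a).norm
  obtain ⟨g, hg, e⟩ := Sylow_Jsub Nat.prime_two (hT.of_le le_sup_left (sup_le hT.le (Ker_le Y a))) hz.isPi
    (zpowers_le.2 ((mul_mem_cancel_right (inv_mem (mem_sup_left hx))).1 (mem_sup_right h)))
  obtain ⟨t, ht, n, hn, rfl⟩ := (mem_sup_of_norm' nK).1 hg
  refine ⟨n, hn, (conj_mem_iff (norm_self T ht)).1 ?_⟩
  simpa [mul_assoc] using e (conj_mem_cj _ (mem_zpowers z))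

variable (h : ZH Y a T e)
include h

theorem sylB : Syl 2 ⊤ (img (pr Y a) T) := by
  have := h.syl.img (pr Y a) le_rfl
  rwa [img_dom, range_top] at this

theorem ze : ZE (orbit Y a) {b : Im Y a | ∃ g, g * ap (pr Y a) e * g⁻¹ = b} := by
  have eY := h.ni.1
  have ie := ni_inv h.mv h.ni
  have ea : ap (pr Y a) e • base Y a = base Y a := (ap_fix eY).2 (h.fix e h.eT)
  refine ⟨?_, ?_, ?_, ?_, fun c => ?_, ?_⟩
  · rintro _ ⟨g, rfl⟩; exact ie.conj g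
  · rintro _ ⟨g, rfl⟩ x; exact ⟨x * g, by group⟩
  · rintro _ ⟨g, rfl⟩; exact ⟨_, conj_fix ea⟩
  · rintro _ ⟨g, rfl⟩; exact ((no_iff eY).1 h.ni.2.2).conj g
  · obtain ⟨y, hy, e⟩ := mem_orbit_iff_Orb.1 c.2
    refine ⟨_, ⟨ap (pr Y a) y, rfl⟩, ?_⟩
    rw [show c = ap (pr Y a) y • base Y a from Subtype.ext (by rw [ap_smul hy, e])]
    exact conj_fix ea
  · rintro _ ⟨g, rfl⟩ _ ⟨g', rfl⟩ ne cm
    have l : img (pr Y a) T ≤ C{ap (pr Y a) e} := fun b hb => by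
      obtain ⟨x, hx, rfl⟩ := (mem_img_of_le h.syl.le).1 hb
      have := (ap_eq (conj_mem (norm_self Y eY) (h.syl.le hx)) (h.syl.le hx)).1 (h.cen x hx)
      rw [ap_conj _ eY (h.syl.le hx)] at this
      exact mem_C1_comm.1 (mem_C1_iff_conj.2 this)
    obtain ⟨c, hc, e1⟩ := Sylow_Jsub Nat.prime_two ((sylB h).of_le l le_top) (ie.conj (g⁻¹ * g')).two
      (zpowers_le.2 (mem_C1.2 (by
        calc _ = g⁻¹ * (g' * ap (pr Y a) e * g'⁻¹ * (g * ap (pr Y a) e * g⁻¹)) * g := by group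
          _ = _ := by rw [← cm]; group)))
    obtain ⟨x, hx, e2⟩ := (mem_img_of_le h.syl.le).1 (e1 (conj_mem_cj c (mem_zpowers _)))
    obtain ⟨y, hy, e3⟩ := ap_surj (c * (g⁻¹ * g'))
    have yY := conj_mem (norm_self Y hy) eY
    obtain ⟨n, hn, e4⟩ := intoT h.syl ((h.syl.pi.piElt h.eT).conj y) hx ((ap_eq yY (h.syl.le hx)).2 (by
      rw [ap_conj _ hy eY, e3, e2]; group))
    have nY := mul_mem hn.1 hy
    have e5 : ap (pr Y a) (e * (n * y * e * (n * y)⁻¹)) =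
        (c * g⁻¹) * (g * ap (pr Y a) e * g⁻¹ * (g' * ap (pr Y a) e * g'⁻¹)) * (c * g⁻¹)⁻¹ := by
      rw [ap_mul _ eY (conj_mem (norm_self Y nY) eY), ap_conj _ nY eY, ap_mul _ hn.1 hy, (ap_one' hn.1).2 hn, e3]
      nth_rw 1 [← mem_C1_iff_conj.1 hc]
      group
    have mY := mul_mem eY (conj_mem (norm_self Y nY) eY)
    rcases h.pd (n * y) nY (by simpa [mul_assoc] using e4) with e6 | e6
    · rw [← ap_one' mY, e5, conj_eq_one_iff'] at e6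
      exact absurd ((eq_inv_of_mul_eq_one_left e6).trans (ie.conj g').inv) ne
    · rw [no_iff mY, e5] at e6
      simpa [mul_assoc] using e6.conj (c * g⁻¹)⁻¹

theorem memZ (hx : NI Y a x) : ∃ g, g * ap (pr Y a) e * g⁻¹ = ap (pr Y a) x :=
  have := nontrivial_orbit h.mv
  (ze h).mem_of_nar' im_faithful (ni_inv h.mv hx) ((no_iff hx.1).1 hx.2.2)

end H3.PZ

namespace H0
namespace PC

open H24 H3.B71 H6.ZD Subgroup MulAction Cfsg

universe u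

variable {G Ω : Type u} [Group G] [Finite G] [MulAction G Ω] [Finite Ω]
  {Y T : Subgroup G} {a : Ω} {e : G}

theorem ZH.conj (h : ZH Y a T e) {x : G} (hx : NI Y a x) :
    ∃ y ∈ Y, y * e * y⁻¹ * x⁻¹ ∈ Ker Y a := by
  obtain ⟨g, hg⟩ := H3.PZ.memZ h hx
  obtain ⟨y, hy, rfl⟩ := H3.PZ.ap_surj g
  exact ⟨y, hy, (H3.PZ.ap_eq (conj_mem (norm_self Y hy) h.ni.1) hx.1).2 (by rw [ap_conj _ hy h.ni.1, hg])⟩

theorem ZH.conj' (h : ZH Y a T e) {x : G} (hx : NI Y a x) (hT : x ∈ T) :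
    ∃ y ∈ Y, y * e * y⁻¹ ∈ T ∧ y * e * y⁻¹ * x⁻¹ ∈ Ker Y a := by
  obtain ⟨y, hy, e1⟩ := h.conj hx
  obtain ⟨n, hn, e2⟩ := H3.PZ.intoT h.syl ((h.syl.pi.piElt h.eT).conj y) hT e1
  refine ⟨n * y, mul_mem hn.1 hy, by simpa [mul_assoc] using e2, ?_⟩
  have := mul_mem (mul_mem hn e1) ((Ker_nml Y a).conj_mem hx.1 (inv_mem hn))
  convert this using 1
  group

open H3.PZ H26.BR in
theorem ZH.zs (h : ZH Y a T e) (hp : PairH Y a T) :
    ∃ (A U : Subgroup G) (ρ : G) (d i : ℕ), ZS Y a T A U ρ d i := by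
  have := nontrivial_orbit h.mv
  have TY := h.syl.le
  have fx : ∀ x ∈ T, ap (pr Y a) x • base Y a = base Y a := fun x hx => (ap_fix (TY hx)).2 (h.fix x hx)
  obtain ⟨L, Q, A, k, d, i, b⟩ := exists_BS (ze h) im_faithful (a := base Y a) (by
    obtain ⟨x, hx, w, hw, nx, nw, ne, cm⟩ := hp
    refine ⟨_, ⟨memZ h nx, mem_top _, fx x hx⟩, _, ⟨memZ h nw, mem_top _, fx w hw⟩, fun e => ne ?_, ?_⟩
    · rw [← ap_one' (mul_mem nx.1 nw.1), ap_mul _ nx.1 nw.1, e, (ni_inv h.mv nw).2]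
    · have := (ap_eq (conj_mem (norm_self Y nx.1) nw.1) nw.1).1 cm
      rwa [ap_conj _ nx.1 nw.1, mul_inv_eq_iff_eq_mul] at this)
  have nrm : ∀ X : Subgroup (Im Y a), (∀ g : Im Y a, g • base Y a = base Y a → g ∈ N[X]) →
      Y ⊓ stabilizer G a ≤ N[pre (pr Y a) X] := fun X hX => norm_pre inf_le_left fun c hc => by
    obtain ⟨x, hx, rfl⟩ := (mem_img_of_le inf_le_left).1 hc
    exact hX _ ((ap_fix hx.1).2 hx.2)
  have TM : T ≤ Y ⊓ stabilizer G a := le_inf TY h.fix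
  have QT : Q ≤ img (pr Y a) T := (sylB h).le_of_norm' b.two le_top fun c hc => by
    obtain ⟨x, hx, rfl⟩ := (mem_img_of_le TY).1 hc
    exact b.nQ _ (fx x hx)
  have im : ∀ X ≤ Q, img (pr Y a) (T ⊓ pre (pr Y a) X) = X := fun X hX => by
    rw [img_inf_pre, inf_eq_right.2 (hX.trans QT)]
  have pb := pre_bot (Y := Y) (a := a)
  have kb : ∀ X, Ker Y a ≤ pre (pr Y a) X := fun X => pb.ge.trans (ker_le_pre _ X)
  have kr : ∀ X, T ⊓ pre (pr Y a) X ⊓ Ker Y a = T ⊓ Ker Y a := fun X => by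
    rw [inf_assoc, inf_eq_right.2 (kb X)]
  have cd : ∀ X ≤ Q, ♯(T ⊓ pre (pr Y a) X) = ♯X * ♯(T ⊓ Ker Y a) := fun X hX => by
    rw [← card_img_mul (pr Y a) (inf_le_left.trans TY : T ⊓ pre (pr Y a) X ≤ Y), im X hX, pb, inf_comm, kr, mul_comm]
  have lift : ∀ q ∈ Q, ∃ x ∈ T ⊓ pre (pr Y a) Q, ap (pr Y a) x = q := fun q hq =>
    (mem_img_of_le (inf_le_left.trans TY)).1 ((im Q le_rfl).ge hq)
  have PM : pre (pr Y a) Q ⊴ Y ⊓ stabilizer G a := ⟨fun x hx => ⟨(mem_pre.1 hx).1,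
    (ap_fix (mem_pre.1 hx).1 (c := base Y a)).1 (b.fix _ (mem_pre.1 hx).2)⟩, nrm Q b.nQ⟩
  obtain ⟨ρ, ρM, ρU, ρo, ρk⟩ : ∃ ρ ∈ Y ⊓ stabilizer G a, ρ ∈ N[T ⊓ pre (pr Y a) Q] ∧ Odd (orderOf ρ) ∧
      ap (pr Y a) ρ = k := by
    obtain ⟨y, hy, rfl⟩ := ap_surj k
    obtain ⟨p, hp, m, hm, rfl⟩ := (Frattini_arg Nat.prime_two PM ((h.syl.of_le TM inf_le_left).inf_nml PM)).mul y
      ⟨hy, (ap_fix hy (c := base Y a)).1 b.ka⟩
    obtain ⟨u, hu, e1⟩ := lift _ (mem_pre.1 hp).2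
    have g1 : u * m ∈ (Y ⊓ stabilizer G a) ⊓ N[T ⊓ pre (pr Y a) Q] := mul_mem ⟨TM hu.1, norm_self _ hu⟩ hm
    have g2 := constt_mem {2}ᶜ g1
    refine ⟨_, g2.1, g2.2, ?_, ?_⟩
    · have := piElt_constt {2}ᶜ (u * m)
      rw [PiElt, piNat_compl_singleton Nat.prime_two, Nat.two_dvd_ne_zero] at this
      exact Nat.odd_iff.2 this
    · rw [constt_ap _ _ g1.1.1, ap_mul _ (TY hu.1) hm.1.1, e1, ← ap_mul _ (PM.le hp).1 hm.1.1, constt_eq_self]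
      rw [PiElt, piNat_compl_singleton Nat.prime_two, Nat.two_dvd_ne_zero]
      exact Nat.odd_iff.1 b.odd
  have ρY : ρ ∈ Y := ρM.1
  have AU : T ⊓ pre (pr Y a) A ≤ T ⊓ pre (pr Y a) Q := inf_le_inf_left _ (pre_mono _ b.AQ)
  refine ⟨T ⊓ pre (pr Y a) A, T ⊓ pre (pr Y a) Q, ρ, d, i, fun x => and_congr_right fun hx => ?_, AU, inf_le_left,
    norm_inf (norm_self T) (TM.trans PM.norm), fun x hx u hu => ?_, b.two_le, by rw [cd A b.AQ, b.cardA],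
    by rw [cd Q le_rfl, b.cardQ], ?_, b.cases, fun c hc c' hc' n n' => ?_, fun x hx c hc n e => ?_, ρY, ρM.2, ρo, ρU,
    ?_, kr Q ▸ mem_N_inf ρU ((Ker_nml Y a).norm ρY), fun u hu w hw n n' => ?_, fun x hx e => ?_,
    pre (pr Y a) L, pre_le _ _, norm_pre le_rfl (le_top.trans b.nL), inf_le_right.trans (pre_mono _ b.QL),
    kb _, ?_⟩
  · have xY : x ∈ Y := TY hx
    show x ∈ pre (pr Y a) A ↔ _
    rw [mem_pre, b.memA, ap_one' xY, ← ap_mul _ xY xY, ap_one' (mul_mem xY xY), ← no_iff xY]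
    exact ⟨fun e => e.2.imp_right fun e => ⟨xY, e.1, e.2.1⟩, fun e => ⟨xY, e.imp_right fun e => ⟨e.2.1, e.2.2, fx x hx⟩⟩⟩
  · rw [ap_eq (conj_mem (norm_self Y (TY hx.1)) (TY hu.1)) (TY hu.1), ap_conj _ (TY hx.1) (TY hu.1),
      ← b.cent _ (mem_pre.1 hx.2).2 _ (mem_pre.1 hu.2).2, mul_inv_cancel_right]
  · rw [← b.cardO, ← Nat.card_coe_set_eq, show Orb Y a = orbit Y a from Set.ext fun c => mem_orbit_iff_Orb.symm]
  · obtain ⟨q, hq, e⟩ := b.trans ⟨c, mem_orbit_iff_Orb.2 hc⟩ ⟨c', mem_orbit_iff_Orb.2 hc'⟩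
      (fun e => n (congrArg Subtype.val e)) fun e => n' (congrArg Subtype.val e)
    obtain ⟨x, hx, rfl⟩ := lift q hq
    exact ⟨x, hx, (ap_smul (TY hx.1) _).symm.trans (congrArg Subtype.val e)⟩
  · exact (ap_one' (TY hx.1)).1 (b.free _ (mem_pre.1 hx.2).2 ⟨c, mem_orbit_iff_Orb.2 hc⟩
      (fun e => n (congrArg Subtype.val e)) ((ap_fix (TY hx.1)).2 e))
  · rw [← inf_eq_left.2 AU, inf_inf_inf_comm, inf_idem, inf_comm (pre _ A), ← inf_assoc]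
    exact mem_N_inf ρU (nrm A b.nA ρM)
  · obtain ⟨m, e⟩ := b.ktr _ (mem_pre.1 hu.2).2 _ (mem_pre.1 hw.2).2 (fun e => n ((ap_one' (TY hu.1)).1 e))
      fun e => n' ((ap_one' (TY hw.1)).1 e)
    exact ⟨m, (ap_eq (conj_mem (norm_self Y (pow_mem ρY m)) (TY hu.1)) (TY hw.1)).2 (by
      rw [ap_conj _ (pow_mem ρY m) (TY hu.1), ap_pow _ ρY, ρk, e])⟩
  · rw [ap_eq (conj_mem (norm_self Y ρY) (TY hx.1)) (TY hx.1), ap_conj _ ρY (TY hx.1), ρk,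
      mul_inv_eq_iff_eq_mul] at e
    exact (ap_one' (TY hx.1)).1 (b.kfpf _ (mem_pre.1 hx.2).2 e)
  · rw [← pb, ← img_le_img_iff (pre_le _ _) (comm_le_of_le (pre_le _ _) (pre_le _ _)),
      img_comm _ (pre_le _ _) (pre_le _ _), img_pre_of_le (le_top.trans (range_top (Y := Y) (a := a)).ge)]
    exact b.perf

end PC
end H0
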