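import Mathlib
import Cfsg.Agent.H0.PC0
import Cfsg.Agent.H0.PCZ

set_option autoImplicit false
set_option linter.unusedSectionVars false
set_option linter.unusedVariables false

namespace H3.PK

open H24 H3.B71 H6.ZD H0.PC H3.P0 H26.Gold Subgroup MulAction Cfsg

universe u

variable {G : Type u} [Group G] [Finite G] {S L Q W : Subgroup G} {x : G}

theorem th_odd (x : G) : OddG (θ x) := th_eq x ▸ pcore_pi _ _

theorem th_cent (hL : IsComponent L) (hx : x ∈ C[L]) : θ x ≤ C[L] :=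
  cents_symm (comm_eq_bot.1 (H23.IsComponent.comm_of_solvable hL (th_odd x).sol
    ((mem_C_iff_le_C1.1 hx).trans (th_eq x ▸ (pcore_nml _ _).norm))))

theorem sig_norm (h : Sig S) (hQ : Q ≤ S) (f : F4 Q) : N[Q] ≤ N[Wc S] := fun g hg => by
  obtain ⟨u, hu, v, hv, h1, h2, h3, h4⟩ := f
  rw [mem_N_iff_cj]
  nth_rw 1 [h.four (hQ hu) (hQ hv) h1 h2 h3 h4]
  rw [cj_sup, cj_sup, th_cj, th_cj, th_cj, ← conj_mul, ← h.four (hQ (conj_mem hg hu)) (hQ (conj_mem hg hv)) (h1.conj g)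
    (h2.conj g) (by simpa using h3) (by rw [conj_mul, conj_mul, h4])]

theorem comp_N (hL : IsComponent L) : layer G ≤ N[L] := H23.layer_le_normalizer_of_isSubnormal hL.1

theorem syl_comp (hS : Syl 2 ⊤ S) (hL : IsComponent L) : Syl 2 L (S ⊓ L) := by
  have := (hS.inf_nml (nml_top (layer G))).inf_nml ⟨H23.le_layer hL, comp_N hL⟩
  rwa [inf_assoc, inf_eq_right.2 (H23.le_layer hL)] at this

theorem comp_ne (hO : oddCore G = ⊥) (hS : Syl 2 ⊤ S) (hL : IsComponent L) : S ⊓ L ≠ ⊥ :=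
  (syl_comp hS hL).ne_bot Nat.prime_two rfl (H23.IsComponent.dvd_card hO hL)

theorem comp_cj (hL : IsComponent L) (g : G) : g ∈ N[L] ∨ cj g L ≤ C[L] :=
  (H23.IsComponent.eq_or_comm (H23.IsComponent.conj hL g) hL).imp mem_N_iff_cj.2 comm_eq_bot.1

theorem mem_of_sq_odd {y : G} (hW : Odd ♯W) (hy : y ∈ W) (h : y * y ∈ Q) : y ∈ Q :=
  H23.mem_of_pow_mem_of_coprime (n := 2) (Nat.coprime_two_right.2 (hW.of_dvd_nat (orderOf_dvd_card' hy))) (pow_two y ▸ h)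

theorem case12 (hO : oddCore G = ⊥) (hS : Syl 2 ⊤ S) (h : Sig S) (hL : IsComponent L) (n : S ⊓ C[L] ≠ ⊥) :
    Wc S ≤ C[L] := by
  by_cases f : F4 (S ⊓ C[L])
  · obtain ⟨u, hu, v, hv, h1, h2, h3, h4⟩ := f
    rw [h.four hu.1 hv.1 h1 h2 h3 h4]
    exact sup_le (sup_le (th_cent hL hu.2) (th_cent hL hv.2)) (th_cent hL (mul_mem hu.2 hv.2))
  obtain ⟨x, hx, x1, x2⟩ := TwoG.exists_inv (hS.pi.inf_left _) n
  have ix : Inv x := ⟨x1, x2⟩
  have xN := norm_W S (norm_self S hx.1)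
  have key : ∀ y ∈ Wc S, x * y * x⁻¹ = y⁻¹ → y ∈ C[L] := fun y hy e => by
    by_cases yN : y ∈ N[L]
    · refine mem_of_sq_odd h.1 hy ?_
      have := mul_mem (conj_mem (N_le_NC L yN) hx.2) (inv_mem hx.2)
      rwa [← e, show y * x * (x * y * x⁻¹) * x⁻¹ = y * (x * x) * y * (x * x)⁻¹ by group, x2, mul_one, inv_one,
        mul_one] at this
    have c1 := H23.IsComponent.conj hL y
    obtain ⟨d, hd, d1, d2⟩ := TwoG.exists_inv (((hS.pi.inf_left _).inf_left _).inf_left _)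
      (IsPi.inf_C_ne_bot Nat.prime_two ix.two ((hS.pi.inf_left C[L]).inf_left (layer G))
        (zpowers_le.2 (mem_N_inf (mem_N_inf (norm_self S hx.1) (norm_self _ hx.2)) (norm_of_normal ⊤ _ (mem_top x))))
        fun e => comp_ne hO hS c1 (eq_bot_of_le e (le_inf (inf_le_inf_left _ ((comp_cj hL y).resolve_left yN))
          (inf_le_right.trans (H23.le_layer c1)))))
    refine absurd ⟨d, hd.1.1, x, hx, ⟨d1, d2⟩, ix, fun e2 => yN (mem_of_sq_odd h.1 hy ?_),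
      (mem_C.1 hd.2 x (mem_zpowers x)).symm⟩ f
    have h1 : cj x (cj y L) = cj y L := cj_of_mem_N (e2 ▸ comp_N c1 hd.1.2)
    rw [← cj_mul, show x * y = y⁻¹ * x by rw [← e]; group, cj_mul, cj_of_mem_C hx.2] at h1
    simpa using cj_eq_cj_iff.1 h1.symm
  intro w hw
  have e : x * (x * w * x⁻¹ * w⁻¹) * x⁻¹ = (x * w * x⁻¹ * w⁻¹)⁻¹ := by
    rw [show x * (x * w * x⁻¹ * w⁻¹) * x⁻¹ = x * x * w * x⁻¹ * w⁻¹ * x⁻¹ by group, x2, ix.inv]
    simp [ix.inv, mul_assoc]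
  have yW := mul_mem (conj_mem xN hw) (inv_mem hw)
  have l := zpowers_le.2 yW
  obtain ⟨o, ho, c⟩ := exists_prod_of_comm ix (H24.odd_of_le h.1 l) (mem_N_of_finite fun z hz => by
    obtain ⟨k, rfl⟩ := hz
    rw [← conj_zpow, e]
    exact zpow_mem (inv_mem (mem_zpowers _)) k) (mem_zpowers _)
  have := th_cent hL hx.2 ((h.2 x hx.1 ix.orderOf_eq).le ⟨(Wc S).mul_mem ((Wc S).inv_mem (l ho)) hw, mem_C1.2 c⟩)
  have l2 : zpowers (x * w * x⁻¹ * w⁻¹) ≤ C[L] := zpowers_le.2 (key _ yW e)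
  exact (mul_mem_cancel_left (inv_mem (l2 ho))).1 this

theorem th_sub (n : ⊤ ≤ N[L]) (x : L) : θ x = (θ (x : G)).subgroupOf L := by
  have e : C{x} = (C{(x : G)} ⊓ L).subgroupOf L := by
    ext y
    rw [mem_subgroupOf, mem_inf, mem_C1, mem_C1, Subtype.ext_iff]
    exact ⟨fun h => ⟨h, y.2⟩, fun h => h.1⟩
  rw [th_eq, th_eq, e, pcore_subgroupOf _ inf_le_right, ← pcore_inf_nml _ (K := C{(x : G)} ⊓ L) (H := C{(x : G)})
    ⟨inf_le_left, norm_inf (norm_self _) (le_top.trans n)⟩, ← inf_assoc, inf_eq_left.2 (pcore_le _ _),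
    inf_subgroupOf_right]

theorem kill {Λ : Type u} [MulAction G Λ] {a : Λ} {L Q A : Subgroup G} {k : G} {d i : ℕ} (b : H3.PZ.BS a L Q A k d i)
    (hf : ∀ g : G, (∀ c : Λ, g • c = c) → g = 1) (hW : Odd ♯W) (h1 : W ≤ stabilizer G a) (h2 : stabilizer G a ≤ N[W])
    (c : Λ) (ca : c ≠ a) : W = ⊥ := by
  have cm : W ≤ C[Q] := cents_of_inf_eq_bot (fun w hw => b.nQ w (h1 hw)) (fun q hq => h2 (b.fix q hq))
    (IsPi.inf_eq_bot' (oddG_iff.2 hW) b.two)
  refine eq_bot_iff.2 fun w hw => ?_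
  obtain ⟨q, hq, e⟩ := b.trans c (w • c) ca fun e => ca (smul_left_cancel w (e.trans (h1 hw).symm))
  have cq : Commute w q := (mem_C.1 (cm hw) q hq).symm
  have p : ∀ n : ℕ, w ^ n • c = q ^ n • c := fun n => by
    induction n with
    | zero => simp
    | succ n ih => rw [pow_succ', mul_smul, ih, ← mul_smul, (cq.pow_right n).eq, mul_smul, ← e, ← mul_smul, pow_succ]
  have := hf (w ^ ♯Q) fun c' => by
    by_cases e : c' = a
    · exact e ▸ pow_mem (h1 hw) _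
    obtain ⟨y, hy, rfl⟩ := b.trans c c' ca e
    rw [← mul_smul, ← mem_C.1 (pow_mem (cm hw) _) y hy, mul_smul, p, orderOf_dvd_iff_pow_eq_one.1 (orderOf_dvd_card' hq),
      one_smul]
  exact H23.mem_of_pow_mem_of_coprime (cop (oddG_iff.2 hW) b.two |>.coprime_dvd_left (orderOf_dvd_card' hw)) this

end H3.PK

namespace H0
namespace PC

open H24 H3.B71 H6.ZD Subgroup MulAction Cfsg H3.P0 H3.PK H26.Gold

universe u

/-- the reduction of S1291 to S1290 -/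
theorem Sig.eq_bot_of_simple
    (h1290 : ∀ (L : Type u) [Group L] [Finite L] [IsSimpleGroup L], ¬ IsMulCommutative L →
      ∀ S : Sylow 2 L, Sig (S : Subgroup L) → ∀ t : L, orderOf t = 2 → θ t = ⊥)
    {G : Type u} [Group G] [Finite G] (hO : oddCore G = ⊥) (S : Sylow 2 G)
    (h2 : ¬ PRankLE 2 1 G) (h : Sig (S : Subgroup G)) : Wc (S : Subgroup G) = ⊥ := by
  have hS := syl_top_of_sylow Nat.prime_two S
  obtain ⟨V, l, hV⟩ := H25.Sg.exists_four_le_sylow h2 S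
  have pc := h.pc hS ((f4_of_klein hV).mono l)
  generalize (S : Subgroup G) = S at *
  have O : ∀ K : Subgroup G, ⊤ ≤ N[K] → OddG K → K = ⊥ := fun K n o =>
    eq_bot_of_le ((pcore_compl_singleton_top Nat.prime_two).trans hO) (pcore_max' o le_top n)
  have SN := (norm_self S).trans (norm_W S)
  have oW := oddG_iff.2 h.1
  have F2 : IsPi {2} F[(⊤ : Subgroup G)] := by
    rw [Fitting_eq_pcore Nat.prime_two ((pcore_compl_singleton_top Nat.prime_two).trans hO)]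
    exact pcore_pi _ _
  refine (F2.of_le (Fitting_top (G := G) ▸ H23.le_fitting_of_comm (H23.comm_bot_symm (H23.layer_comm fun L hL =>
    comm_eq_bot'.2 ?_)) (comm_eq_bot.2 ?_))).eq_bot oW
  swap
  · rw [← Fitting_top]
    exact cents_of_inf_eq_bot (le_top.trans (Fitting_nml ⊤).norm) ((hS.nml_le F2 (Fitting_nml ⊤)).trans SN)
      (oW.inf_eq_bot' F2)
  by_cases n : S ⊓ C[L] = ⊥
  swap
  · exact case12 hO hS h hL n
  have nL : ⊤ ≤ N[L] := fun g _ => (comp_cj hL g).resolve_right fun e =>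
    comp_ne hO hS (H23.IsComponent.conj hL g) (eq_bot_of_le n (inf_le_inf_left _ e))
  have C1 : C[L] = ⊥ := O _ (norm_C nL) ((hS.inf_nml ⟨le_top, norm_C nL⟩).isPi_compl_of_eq_bot n)
  have hT := syl_comp hS hL
  obtain ⟨q1, q2, q3⟩ := H23.isQuasisimple_subgroup_iff.1 hL.2
  have q4 : ∀ N ≤ L, L ≤ N[N] → N = L ∨ N = ⊥ := fun N h1 h2 =>
    (q3 N h1 h2).imp_right fun e => eq_bot_of_le C1 (comm_eq_bot.1 e)
  have f : F4 (S ⊓ L) := by
    by_contra f
    obtain ⟨z, hz, iz, -⟩ := exists_cent_inv hT.pi (comp_ne hO hS hL)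
    refine iz.1 (mem_bot.1 (C1 ▸ mem_C'.2 fun y hy => ?_))
    have := zstar_iso iz hz.2 (fun g hg e => by
      by_contra ne
      obtain ⟨y, -, l⟩ := Sylow_Jsub Nat.prime_two hT (two_four iz (iz.conj g) e)
        (sup_le (zpowers_le.2 hz.2) (zpowers_le.2 (conj_mem (norm_self L hg) hz.2)))
      exact f (((f4_four iz (iz.conj g) (Ne.symm ne) e).cj y).mono l)) hy
    rwa [O _ (norm_pcore _ nL) (pcore_pi _ _), mem_bot, mul_inv_eq_one, mul_inv_eq_iff_eq_mul] at this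
  have nt := (nontrivial_iff_ne_bot L).2 q2
  have sL : IsSimpleGroup L := ⟨fun N hN => by
    rcases q4 _ (map_subtype_le N) (H23.le_normalizer_map_subtype_of_normal N) with e | e
    · exact Or.inr (map_injective L.subtype_injective (e.trans (map_subtype_top L).symm))
    · exact Or.inl ((map_eq_bot_iff_of_injective _ L.subtype_injective).1 e)⟩
  obtain ⟨T, eT⟩ := Syl.exists_sylow_top Nat.prime_two ((hall_subgroupOf_top inf_le_right).2 hT)
  have tl : Wc (T : Subgroup L) ≤ (Wc S).subgroupOf L := iSup_le fun x => (th_sub nL x.1).le.trans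
    (subgroupOf_mono L (th_le (eT.le x.2.1).1 (inv_of_order ((orderOf_coe x.1).trans x.2.2))))
  have t0 := h1290 L (fun c => q2 (eq_bot_of_le C1 (abl_iff.1 c))) T ⟨oddG_iff.1 ((isPi_subgroupOf oW L).of_le tl),
    fun x hx o => le_antisymm (fun y hy => th_sub nL x ▸ (h.2 x (eT.le hx).1 ((orderOf_coe x).trans o)).le
      ⟨tl hy.1, mem_C1.2 (congrArg Subtype.val (mem_C1.1 hy.2))⟩) (le_inf (th_le hx (inv_of_order o)) (map_subtype_le _))⟩
  have WL : Wc S ⊓ L = ⊥ := by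
    obtain ⟨u, hu, v, hv, h1, h2, h3, h4⟩ := f
    have m := sup_le (zpowers_le.2 hu) (zpowers_le.2 hv)
    refine eq_bot_iff.2 (gen_four h1 h2 h3 h4 (H24.odd_of_le h.1 inf_le_left) (mem_N_inf (SN hu.1) (nL (mem_top _)))
      (mem_N_inf (SN hv.1) (nL (mem_top _))) fun x hx ix y hy => ?_)
    have : (⟨y, hy.1.2⟩ : L) ∈ θ (⟨x, (m hx).2⟩ : L) :=
      th_sub nL ⟨x, (m hx).2⟩ ▸ (h.2 x (m hx).1 ix.orderOf_eq).le ⟨hy.1.1, hy.2⟩
    rw [t0 _ ((orderOf_coe _).symm.trans ix.orderOf_eq)] at this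
    exact congrArg Subtype.val (mem_bot.1 this)
  have cW : L ⊓ N[Wc S] ≤ C[Wc S] := comm_eq_bot.1 (eq_bot_of_le WL (le_inf (comm_le_right inf_le_right)
    ((commutator_mono inf_le_left le_rfl).trans (comm_le_left (le_top.trans nL)))))
  by_cases LM : L ≤ N[Wc S]
  · exact cents_symm ((le_inf le_rfl LM).trans cW)
  have nar : ∀ t ∈ L, Inv t → Nar (G ⧸ N[Wc S]) t := fun t ht it => by
    obtain ⟨g, -, e⟩ := Sylow_Jsub Nat.prime_two hT it.two (zpowers_le.2 ht)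
    have m := e (conj_mem_cj g (mem_zpowers t))
    have := (pc.nar_of_cent (it.conj g) (a := ((1 : G) : G ⧸ N[Wc S])) ?_).conj g⁻¹
    · simpa [mul_assoc] using this
    rw [stab_coe, cj_one, ← inf_eq_left.2 (mem_C_iff_le_C1.1 (cW ⟨m.2, SN m.1⟩)), h.2 _ m.1 (it.conj g).orderOf_eq, th_eq]
    exact (pcore_nml _ _).norm
  have := H26.BR.nontrivial_cosets fun e : N[Wc S] = ⊤ => LM (e ▸ le_top)
  have fx : ∀ g ∈ N[Wc S], g • ((1 : G) : G ⧸ N[Wc S]) = ((1 : G) : G ⧸ N[Wc S]) := fun g hg =>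
    (H6.smul_coe_eq_iff _ _ _).2 (by simpa using hg)
  have hf : ∀ g : G, (∀ c : G ⧸ N[Wc S], g • c = c) → g = 1 := fun g hg => by
    have nk := Ker_nml (⊤ : Subgroup G) ((1 : G) : G ⧸ N[Wc S])
    rcases q4 _ (inf_le_right (a := Ker ⊤ ((1 : G) : G ⧸ N[Wc S]))) (norm_inf (le_top.trans nk.norm) (norm_self L)) with e | e
    · exact absurd (fun y hy => by simpa using (H6.smul_coe_eq_iff _ _ _).1 (Ker_fix (e.ge hy).1)) LM
    · exact mem_bot.1 (C1 ▸ cents_of_inf_eq_bot (le_top.trans nL) (le_top.trans nk.norm) e ⟨mem_top g, fun y _ => hg _⟩)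
  obtain ⟨u, hu, v, hv, h1, h2, h3, h4⟩ := f
  obtain ⟨L', Q, A, k, d, i, b⟩ := H3.PZ.exists_BS (Z := {t | t ∈ L ∧ Inv t}) (a := ((1 : G) : G ⧸ N[Wc S]))
    ⟨fun z hz => hz.2, fun z hz g => ⟨conj_mem (nL (mem_top g)) hz.1, hz.2.conj g⟩,
      fun z hz => (pc.ex _ hz.2.two).imp fun a ha => ha z (mem_zpowers z), fun z hz => nar z hz.1 hz.2, fun a => by
        obtain ⟨g, rfl⟩ := pc.tr ((1 : G) : G ⧸ N[Wc S]) a
        exact ⟨_, ⟨conj_mem (nL (mem_top g)) hu.2, h1.conj g⟩, conj_fix (fx u (SN hu.1))⟩,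
      fun u hu v hv n e => nar _ (mul_mem hu.1 hv.1) (hu.2.mul hv.2 n e)⟩ hf
    ⟨u, ⟨⟨hu.2, h1⟩, mem_top u, fx u (SN hu.1)⟩, v, ⟨⟨hv.2, h2⟩, mem_top v, fx v (SN hv.1)⟩, h3, h4⟩
  obtain ⟨c, hc⟩ := exists_ne ((1 : G) : G ⧸ N[Wc S])
  rw [kill b hf h.1 (fun w hw => fx w (norm_self _ hw)) (by rw [stab_coe, cj_one]) c hc]
  exact bot_le

theorem core_eq_bot_of_conn {G : Type u} [Group G] [Finite G] (hb : IsBalanced G)
    (hO : oddCore G = ⊥) (h3 : ¬ PRankLE 2 2 G) (hc : IsFourConnected G) {t : G}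
    (ht : orderOf t = 2) : θ t = ⊥ := by
  have es : H25.Sg.ESF 2 (θ (G := G)) := ⟨fun a _ => map_subtype_le _,
    fun a _ => H6.ZD.not_two_dvd (oddG_iff.1 (th_odd a)), fun a _ => (th_odd a).sol, fun a g _ => H25.Sg.cpp_conj a g,
    fun a b ha hb' e => (hb a b ha.1 hb'.1 e).le.trans inf_le_left⟩
  have path : ∀ X Y : Subgroup G, H25.Sg.FC X Y → H25.Sg.Vx 2 X →
      H25.Sg.Vx 2 Y ∧ signalizerClosure X θ = signalizerClosure Y θ := by
    intro X Y h hX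
    induction h with
    | refl => exact ⟨hX, rfl⟩
    | @tail A B _ h ih =>
      obtain ⟨h1, h2⟩ := H25.Sg.ea_of_isKleinFour h.1
      obtain ⟨h3, h4⟩ := H25.Sg.ea_of_isKleinFour h.2.1
      have c := H23.comm_bot_iff.2 h.2.2
      refine ⟨?_, ih.2.trans (es.closure_eq_of_comm ih.1 h3 h4.ge c)⟩
      by_cases e : B ≤ A
      · exact eq_of_le_of_card_ge e (h2.trans h4.symm).le ▸ ih.1
      obtain ⟨y, hy, n⟩ := SetLike.not_le_iff_exists.1 fun l : A ≤ B => e (eq_of_le_of_card_ge l (h4.trans h2.symm).le).ge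
      exact ⟨h4.ge, _, le_sup_left, H25.Sg.E3_of_not_mem h3 h4.ge (by rw [← pow_two, h1.2 y hy])
        (fun b hb => mem_C1.2 (h.2.2 y hy b hb).symm) n⟩
  obtain ⟨P, hP, l⟩ := Sylow_superset Nat.prime_two (inv_of_order ht).two le_top
  obtain ⟨S, rfl⟩ := hP.exists_sylow_top Nat.prime_two
  obtain ⟨z, u, tr⟩ := H25.Sg.exists_tr_sylow h3 S
  have kl : ∀ {V : Subgroup G}, IsElementaryAbelian 2 V → ♯V = 4 → IsKleinFour V := fun h1 h2 =>
    H13.isKleinFour_of_card_of_sq h2 h1.2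
  have k0 := kl tr.toNF.ea (le_antisymm (H25.Sg.card_four_le tr.zz tr.uu tr.toNF.zu) tr.toNF.card)
  have v0 : H25.Sg.Vx 2 (H25.Sg.four z u) := let ⟨A, h1, h2⟩ := tr.e3; tr.toNF.vx h2 h1
  have W0 : signalizerClosure (H25.Sg.four z u) θ = ⊥ :=
    eq_bot_of_le ((pcore_compl_singleton_top Nat.prime_two).trans hO) (pcore_max'
      (oddG_iff.2 (Nat.coprime_two_right.1 (es.vx_cop v0))) le_top fun g _ => mem_N_iff_cj.2 (by
        rw [cj_def, ← es.closure_conj (fun a ha h1 => v0.big ha h1)]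
        exact (path _ _ (hc _ _ k0 (H25.Sg.isKleinFour_map (MulAut.conj g).injective k0)) v0).2.symm))
  have t1 := H25.Sg.ne_one_of_order ht
  by_cases e : t = z
  · exact eq_bot_of_le W0 (H25.Sg.le_closure (e ▸ H25.Sg.left_mem_four _ _) t1)
  have cm := (tr.toNF.comm (l (mem_zpowers t))).symm
  have xx := H25.Sg.mul_self_of_order ht
  exact eq_bot_of_le ((path _ _ (hc _ _ k0 (kl (H25.Sg.ea_four tr.zz xx cm) (le_antisymm
    (H25.Sg.card_four_le tr.zz xx cm) (H25.Sg.four_le_card tr.oz ht cm e)))) v0).2.symm.trans W0)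
    (H25.Sg.le_closure (H25.Sg.right_mem_four _ _) t1)

end PC
end H0
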