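import Mathlib
import Cfsg.Agent.H0.PC0
import Cfsg.Prelude.Def_Spor_Mathieu
import Cfsg.Agent.H27.PRB
import Cfsg.Agent.H27.PRD
import Cfsg.Agent.H15.Finite
import Cfsg.Agent.H9.M24
import Cfsg.Agent.S0420
import Cfsg.Agent.S1603

set_option autoImplicit false
set_option linter.unusedSectionVars false

namespace H0
namespace PC

open H24 H3.B71 H6.ZD Subgroup MulAction Cfsg

universe u

variable {G Ω : Type u} [Group G] [Finite G] [IsSimpleGroup G] [MulAction G Ω] [Finite Ω]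

theorem sl3_cube {F : Type} [Field F] :
    ∀ x ∈ center (Matrix.SpecialLinearGroup (Fin 3) F), x ^ 3 = 1 := fun x hx => by
  obtain ⟨r, hr, e⟩ := Matrix.SpecialLinearGroup.mem_center_iff.1 hx
  refine Subtype.ext ?_
  rw [Matrix.SpecialLinearGroup.coe_pow, ← e, ← map_pow, show r ^ 3 = 1 from hr, map_one]
  rfl

theorem PC.nar_psl3 (h : PC G Ω) {F : Type} [Field F] [Fintype F] (hF : Odd (Fintype.card F))
    (e : G ≃* Matrix.ProjectiveSpecialLinearGroup (Fin 3) F) : ∀ t : G, Inv t → Nar Ω t := by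
  have h2 := H15.card_odd_iff.1 hF
  have h3 : (-1 : F) ≠ 1 := fun e => h2 (by linear_combination -e)
  refine fun t _ => H27.PR.nar_of_cl h (H27.PR.surj_quot e) (H27.PR.k3_quot e sl3_cube)
    (u := H27.PR.u3 F) (v := H27.PR.v3 F) (Subtype.ext ?_) (Subtype.ext ?_) (Subtype.ext ?_)
    (fun e => h3 (congrArg (fun g : Matrix.SpecialLinearGroup (Fin 3) F => g.1 0 0) e))
    (fun e => h3 (congrArg (fun g : Matrix.SpecialLinearGroup (Fin 3) F => g.1 1 1) e))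
    (fun e => h3 ?_) (fun M => H27.PR.sl3_top hF h2) t
  · change H27.PR.U3 F * H27.PR.U3 F = 1
    rw [Matrix.one_fin_three]; simp [H27.PR.U3]
  · change H27.PR.V3 F * H27.PR.V3 F = 1
    rw [Matrix.one_fin_three]; simp [H27.PR.V3]
  · change H27.PR.U3 F * H27.PR.V3 F = H27.PR.V3 F * H27.PR.U3 F
    simp [H27.PR.U3, H27.PR.V3]
  · have : (H27.PR.U3 F * H27.PR.V3 F) 0 0 = 1 :=
      congrArg (fun g : Matrix.SpecialLinearGroup (Fin 3) F => g.1 0 0) e
    simpa [H27.PR.U3, H27.PR.V3] using this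

theorem PC.nar_a7 (h : PC G Ω) (e : G ≃* alternatingGroup (Fin 7)) :
    ∀ t : G, Inv t → Nar Ω t := fun t _ => H27.PR.nar_a7 h e t

theorem core_psl3 {F : Type} [Field F] [Fintype F] (hF : Odd (Fintype.card F))
    (e : G ≃* Matrix.ProjectiveSpecialLinearGroup (Fin 3) F) {t u : G} (ht : Inv t)
    (hc : u * t = t * u) : θ t ≤ C{u} :=
  H27.PR.core_sl3 (H15.card_odd_iff.1 hF) (H27.PR.surj_quot e) (H27.PR.k3_quot e sl3_cube)
    ht.1 ht.2 hc

theorem sq_dodecad : Spor.squareDodecad ∈ dodecads := H9.squareDodecad_eq ▸ H9.dod0_mem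

theorem zero_mem_sq : (some 0 : GolayPt) ∈ Spor.squareDodecad := by
  rw [H9.squareDodecad_eq]; decide +kernel

theorem core_m11 (h : IsM11 G) {t : G} (ht : Inv t) : θ t = ⊥ := by
  obtain ⟨e⟩ := Cfsg.Agent.S0420.result h _ sq_dodecad _ zero_mem_sq
  obtain ⟨f⟩ := Cfsg.Agent.S1603.result _ sq_dodecad _ zero_mem_sq (e t) (by
    rw [MulEquiv.orderOf_eq]; exact orderOf_eq_prime (by rw [sq, ht.2]) ht.1)
  exact H27.PR.core_of_gl23 e f

theorem iso_m11 (h : IsM11 G) : Spor.IsoM11 G := by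
  obtain ⟨e⟩ := Cfsg.Agent.S0420.result h _ sq_dodecad _ zero_mem_sq
  refine ⟨e.trans ((equivMapOfInjective _ M24.subtype Subtype.val_injective).trans
    (MulEquiv.subgroupCongr ?_))⟩
  ext g
  exact ⟨by rintro ⟨g, ⟨h1, h2⟩, rfl⟩; exact ⟨⟨g.2, h1⟩, h2⟩,
    fun ⟨⟨h1, h2⟩, h3⟩ => ⟨⟨g, h1⟩, ⟨h2, h3⟩, rfl⟩⟩

end PC
end H0
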