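import Mathlib
import Cfsg.Agent.H0.PC0
import Cfsg.Agent.H27.PRC
import Cfsg.Agent.H27.PRD

set_option autoImplicit false
set_option linter.unusedSectionVars false

namespace H0
namespace PC

open H24 H3.B71 H6.ZD Subgroup MulAction Cfsg

universe u

variable {G Ω : Type u} [Group G] [Finite G] [IsSimpleGroup G] [MulAction G Ω] [Finite Ω]

theorem su3_cube {F : Type} [Field F] [Fintype F] {q : ℕ} (hF : Fintype.card F = q ^ 2) :
    ∀ x ∈ center (SU 3 F q), x ^ 3 = 1 := fun x hx => by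
  obtain ⟨r, -, hr, e⟩ := H7.su_center_smul hF (by norm_num) hx
  refine H27.PR.muU_inj ?_
  rw [map_pow, map_one, show H27.PR.muU 3 F q x = r • 1 from e, smul_pow, hr, one_pow, one_smul]

theorem PC.nar_psu3 (h : PC G Ω) {F : Type} [Field F] [Fintype F] {q : ℕ}
    (hF : Fintype.card F = q ^ 2) (hq : Odd q) (e : G ≃* PSU 3 F q) :
    ∀ t : G, Inv t → Nar Ω t := by
  have h2 : (2 : F) ≠ 0 := H15.card_odd_iff.1 (hF ▸ hq.pow)
  have h3 : (-1 : F) ≠ 1 := fun e => h2 (by linear_combination -e)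
  refine fun t _ => H27.PR.nar_of_cl h (H27.PR.surj_quot e) (H27.PR.k3_quot e (su3_cube hF))
    (u := H27.PR.mkU hF H27.PR.xu_U3) (v := H27.PR.mkU hF H27.PR.xu_V3) (H27.PR.muU_inj ?_)
    (H27.PR.muU_inj ?_) (H27.PR.muU_inj ?_)
    (fun e => h3 (congrArg (fun g : SU 3 F q => g.1.1 0 0) e))
    (fun e => h3 (congrArg (fun g : SU 3 F q => g.1.1 1 1) e))
    (fun e => h3 ?_) (fun M => H27.PR.su3_top hF h2) t
  · change H27.PR.U3 F * H27.PR.U3 F = 1
    rw [Matrix.one_fin_three]; simp [H27.PR.U3]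
  · change H27.PR.V3 F * H27.PR.V3 F = 1
    rw [Matrix.one_fin_three]; simp [H27.PR.V3]
  · change H27.PR.U3 F * H27.PR.V3 F = H27.PR.V3 F * H27.PR.U3 F
    simp [H27.PR.U3, H27.PR.V3]
  · have : (H27.PR.U3 F * H27.PR.V3 F) 0 0 = 1 := congrArg (fun g : SU 3 F q => g.1.1 0 0) e
    simpa [H27.PR.U3, H27.PR.V3] using this

theorem core_psu3 {F : Type} [Field F] [Fintype F] {q : ℕ} (hF : Fintype.card F = q ^ 2)
    (hq : Odd q) (e : G ≃* PSU 3 F q) {t u : G} (ht : Inv t) (hc : u * t = t * u) :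
    θ t ≤ C{u} :=
  H27.PR.core_su3 hF (H15.card_odd_iff.1 (hF ▸ hq.pow)) (H27.PR.surj_quot e)
    (H27.PR.k3_quot e (su3_cube hF)) ht.1 ht.2 hc

end PC
end H0
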