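import Cfsg.Agent.H0.SchC
import Cfsg.Agent.H8.BNPair

/-! Schreier project, block BN: split BN-pairs. -/

set_option autoImplicit false

namespace H0.Sch

open H8.BN

universe u

variable {K : Type u} [Group K] [Finite K]

/-- number of distinguished generators not commuting with `s` in the Weyl group. -/
noncomputable def val (P : Cfsg.BNPair K) (s : K) : ℕ :=
  {t | t ∈ P.S ∧ s * t * s⁻¹ * t⁻¹ ∉ P.B}.ncard

namespace BN8

variable {P : Cfsg.BNPair K} {s t x y : K}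

omit [Finite K]

/-- `X Y ⊆ Y X` -/
def Pm (X Y : Subgroup K) : Prop := ∀ x ∈ X, ∀ y ∈ Y, ∃ y' ∈ Y, ∃ x' ∈ X, x * y = y' * x'

theorem s_mem : s ∈ P.parabolic {s} := subset_parabolic _ rfl

theorem mem_par (hs : s ∈ P.S) : x ∈ P.parabolic {s} ↔ x ∈ P.B ∨ δ P x = δ P s := by
  refine ⟨fun h => ?_, fun h => h.elim (B_le_parabolic _ ·) (mem_of_δ_eq (B_le_parabolic _) · s_mem)⟩
  have := (mem_parabolic_iff_δ {⟨s, hs⟩} x).1 (by simpa using h)
  rw [Set.image_singleton, ← δ_simple] at this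
  rw [← δ_eq_one_iff]
  generalize δ P x = w at this
  have sq : δ P s * δ P s = 1 := by rw [δ_simple ⟨s, hs⟩]; exact (gens P).sq _
  induction this using Subgroup.closure_induction with
  | mem w h => exact Or.inr h
  | one => exact Or.inl rfl
  | mul a b _ _ ha hb => rcases ha with rfl | rfl <;> rcases hb with rfl | rfl <;> simp [sq]
  | inv a _ ha => rcases ha with rfl | rfl <;> simp [inv_eq_of_mul_eq_one_right sq]

theorem par_inj (hs : s ∈ P.S) (ht : t ∈ P.S) (h : s ∈ P.parabolic {t}) : s = t :=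
  mem_of_mem_parabolic (Set.singleton_subset_iff.2 ht) hs h

theorem mul_cases (hs : s ∈ P.S) (ht : t ∈ P.S) (hx : x ∈ P.parabolic {s}) (hy : y ∈ P.parabolic {t}) :
    x * y ∈ P.parabolic {s} ∨ x * y ∈ P.parabolic {t} ∨ δ P (x * y) = δ P (s * t) := by
  rcases (mem_par hs).1 hx with h | h
  · exact Or.inr (Or.inl (mul_mem (B_le_parabolic _ h) hy))
  rcases (mem_par ht).1 hy with h' | h'
  · exact Or.inl (mul_mem hx (B_le_parabolic _ h'))
  obtain ⟨a, ha, b, hb, rfl⟩ := δ_eq_δ_iff.1 h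
  rw [mem_par ht, mul_assoc, mul_assoc, δ_mul_left ha, δ_mul_of_mem (P.subset hs) (P.subset ht), ← h',
    ← δ_mul_left hb y, δ_simple ⟨s, hs⟩]
  exact Or.inr ((δ_simple_mul ⟨s, hs⟩ (b * y)).symm.imp Or.inr id)

theorem pm_iff (hs : s ∈ P.S) (ht : t ∈ P.S) :
    Pm (P.parabolic {s}) (P.parabolic {t}) ↔ s * t * s⁻¹ * t⁻¹ ∈ P.B := by
  have sN := P.subset hs
  have tN := P.subset ht
  have e : s * t * s⁻¹ * t⁻¹ ∈ P.B ↔ δ P (s * t) = δ P (t * s) := by
    rw [← δ_eq_one_iff, show s * t * s⁻¹ * t⁻¹ = s * t * (t * s)⁻¹ by group,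
      δ_mul_of_mem (mul_mem sN tN) (inv_mem (mul_mem tN sN)), δ_inv, mul_inv_eq_one]
  rw [e]
  refine ⟨fun h => ?_, fun h x hx y hy => ?_⟩
  · obtain ⟨y, hy, x, hx, e⟩ := h s s_mem t s_mem
    rcases mul_cases ht hs hy hx with h | h | h <;> rw [← e] at h
    · rw [par_inj hs ht ((Subgroup.mul_mem_cancel_right _ s_mem).1 h)]
    · rw [par_inj ht hs ((Subgroup.mul_mem_cancel_left _ s_mem).1 h)]
    · exact h
  · rcases mul_cases hs ht hx hy with h' | h' | h'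
    · exact ⟨1, one_mem _, _, h', (one_mul _).symm⟩
    · exact ⟨_, h', 1, one_mem _, (mul_one _).symm⟩
    · obtain ⟨a, ha, b, hb, e⟩ := δ_eq_δ_iff.1 (h'.trans h)
      exact ⟨a * t, mul_mem (B_le_parabolic _ ha) s_mem, s * b, mul_mem s_mem (B_le_parabolic _ hb),
        by rw [e]; group⟩

theorem cov_iff {X : Subgroup K} : P.B ⋖ X ↔ ∃ s ∈ P.S, X = P.parabolic {s} := by
  have lt : ∀ s ∈ P.S, P.B < P.parabolic {s} := fun s hs =>
    (B_le_parabolic _).lt_of_ne fun e => notMem_B_of_mem_S P hs (e ▸ s_mem)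
  have ex : ∀ X, P.B < X → ∃ s ∈ P.S, P.parabolic {s} ≤ X := fun X h => by
    obtain ⟨s, hs⟩ : (P.S ∩ X).Nonempty := Set.nonempty_iff_ne_empty.2 fun e =>
      h.ne' (by rw [eq_parabolic h.le, e, parabolic_empty])
    exact ⟨s, hs.1, parabolic_le_iff.2 ⟨h.le, Set.singleton_subset_iff.2 hs.2⟩⟩
  refine ⟨fun h => ?_, ?_⟩
  · obtain ⟨s, hs, h'⟩ := ex X h.lt
    exact ⟨s, hs, ((h.eq_or_eq (lt s hs).le h').resolve_left (lt s hs).ne').symm⟩
  · rintro ⟨s, hs, rfl⟩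
    refine ⟨lt s hs, fun Y h1 h2 => ?_⟩
    obtain ⟨t, ht, h'⟩ := ex Y h1
    obtain rfl := par_inj ht hs (h2.le (h' s_mem))
    exact h2.not_ge h'

theorem val_eq [Finite K] (hs : s ∈ P.S) :
    val P s = {Y | P.B ⋖ Y ∧ ¬ Pm (P.parabolic {s}) Y}.ncard := by
  rw [val, ← Set.ncard_image_of_injOn (f := fun t => P.parabolic {t})
    fun a ha b hb e => par_inj ha.1 hb.1 ((show P.parabolic {a} = P.parabolic {b} from e) ▸ s_mem)]
  congr 1; ext Y
  exact ⟨by rintro ⟨t, ⟨ht, h⟩, rfl⟩; exact ⟨cov_iff.2 ⟨t, ht, rfl⟩, mt (pm_iff hs ht).1 h⟩,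
    fun ⟨h1, h2⟩ => by
      obtain ⟨t, ht, rfl⟩ := cov_iff.1 h1; exact ⟨t, ⟨ht, mt (pm_iff hs ht).2 h2⟩, rfl⟩⟩

theorem pm_map (d : MulAut K) {X Y : Subgroup K} :
    Pm (X.map d.toMonoidHom) (Y.map d.toMonoidHom) ↔ Pm X Y := by
  refine ⟨fun h x hx y hy => ?_, ?_⟩
  · obtain ⟨_, ⟨y', hy', rfl⟩, _, ⟨x', hx', rfl⟩, e⟩ := h _ ⟨x, hx, rfl⟩ _ ⟨y, hy, rfl⟩
    exact ⟨y', hy', x', hx', d.injective (by simpa using e)⟩
  · rintro h _ ⟨x, hx, rfl⟩ _ ⟨y, hy, rfl⟩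
    obtain ⟨y', hy', x', hx', e⟩ := h x hx y hy
    exact ⟨_, ⟨y', hy', rfl⟩, _, ⟨x', hx', rfl⟩, by rw [← map_mul, ← map_mul, e]⟩

theorem inv_par [Finite K] {D : Subgroup (MulAut K)} (hD : Perf D) (hB : Inv D P.B) (hs : s ∈ P.S)
    (h : {t | t ∈ P.S ∧ val P t = val P s}.ncard ≤ 4) : Inv D (P.parabolic {s}) := by
  refine inv_sub hD ((fun t => P.parabolic {t}) '' {t | t ∈ P.S ∧ val P t = val P s}) (Set.toFinite _)
    ((Set.ncard_image_le (Set.toFinite _)).trans h) ?_ _ ⟨s, ⟨hs, rfl⟩, rfl⟩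
  rintro d hd _ ⟨t, ⟨ht, e⟩, rfl⟩
  have cv : ∀ Y, P.B ⋖ Y.map d.toMonoidHom ↔ P.B ⋖ Y := fun Y => by
    conv_lhs => rw [← hB.map_eq hd]
    exact apply_covBy_apply_iff (MulEquiv.mapSubgroup d)
  obtain ⟨r, hr, e'⟩ := cov_iff.1 ((cv _).2 (cov_iff.2 ⟨t, ht, rfl⟩))
  refine ⟨r, ⟨hr, e ▸ ?_⟩, e'.symm⟩
  rw [val_eq hr, val_eq ht, ← e', eq_comm,
    ← Set.ncard_image_of_injective _ (MulEquiv.mapSubgroup d).injective]
  congr 1; ext Y
  obtain ⟨Y, rfl⟩ := (MulEquiv.mapSubgroup d).surjective Y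
  rw [(MulEquiv.mapSubgroup d).injective.mem_set_image]
  exact (and_congr (cv Y) (pm_map d).not).symm

theorem tr_of_reg {D : Subgroup (MulAut K)} (hD : Perf D) {U W B : Subgroup K}
    (hU : Group.IsSolvable U) (hn : Nm U W) (htr : Tr D U W) (hB : Inv D B) (hWU : W ≤ U)
    (hW : ∀ u ∈ U, u ∈ W ↔ s⁻¹ * u * s ∈ B)
    (h : ∀ d ∈ D, ∃ u ∈ U, s⁻¹ * u⁻¹ * d s ∈ B) : ∀ d ∈ D, s⁻¹ * d s ∈ B := by
  choose! u hu h using h
  have := normal_sub hn
  let φ : D →* U ⧸ W.subgroupOf U := MonoidHom.mk' (fun d => (QuotientGroup.mk ⟨u d, hu d d.2⟩)⁻¹)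
    fun d e => by
      have c := htr d d.2 _ (hu e e.2)
      have e1 : (QuotientGroup.mk ⟨u e, hu e e.2⟩ : U ⧸ W.subgroupOf U) =
          QuotientGroup.mk ⟨u e * ((u e)⁻¹ * d.1 (u e)), mul_mem (hu e e.2) (hWU c)⟩ :=
        QuotientGroup.eq.2 (by simpa [Subgroup.mem_subgroupOf] using c)
      rw [← mul_inv_rev, inv_inj, e1, ← QuotientGroup.mk_mul, QuotientGroup.eq,
        Subgroup.mem_subgroupOf, hW _ (SetLike.coe_mem _)]
      have := mul_mem (mul_mem (h _ (d * e).2) (inv_mem (hB d d.2 _ (h e e.2)))) (inv_mem (h d d.2))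
      simp only [Subgroup.coe_mul, MulAut.mul_apply, map_mul, map_inv, InvMemClass.coe_inv] at this ⊢
      convert this using 1
      group
  intro d hd
  have := hom_eq_one_of_solvable hD.commutator_eq_top inferInstance φ ⟨d, hd⟩
  have := (hW _ (hu d hd)).1 ((QuotientGroup.eq_one_iff (⟨u d, hu d hd⟩ : U)).1 (inv_eq_one.1 this))
  convert mul_mem this (h d hd) using 1
  group

theorem dec {U : Subgroup K} (hsplit : P.B = U ⊔ (P.B ⊓ P.N)) (hBU : Nm P.B U) (hs : s ∈ P.N)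
    {a : K} (ha : a ∈ P.B) : ∃ u ∈ U, ∃ b ∈ P.B, a * s = u * s * b := by
  have : a ∈ ((U ⊔ (P.B ⊓ P.N) : Subgroup K) : Set K) := hsplit ▸ ha
  rw [Subgroup.coe_mul_of_right_le_normalizer_left _ _ (inf_le_left.trans hBU)] at this
  obtain ⟨u, hu, h, hh, rfl⟩ := this
  exact ⟨u, hu, _, P.conj_mem _ (inv_mem hs) h hh, by group⟩

theorem norm_eq [Finite K] {U : Subgroup K} (hsplit : P.B = U ⊔ (P.B ⊓ P.N)) (hBU : Nm P.B U) :
    Subgroup.normalizer (U : Set K) = P.B := by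
  rw [eq_parabolic hBU, Set.eq_empty_of_forall_notMem (s := P.S ∩ _), parabolic_empty]
  rintro s ⟨hs, h⟩
  refine notMem_B_of_mem_S P hs (normalizer_eq_self (P := P) le_rfl ▸
    H27.SC.nm_of (X := Subgroup.zpowers s) ?_ (Subgroup.mem_zpowers s))
  intro x hx
  have hN : x ∈ P.N := Subgroup.zpowers_le.2 (P.subset hs) hx
  have hU : x ∈ Subgroup.normalizer (U : Set K) := Subgroup.zpowers_le.2 h hx
  have : U ⊔ (P.B ⊓ P.N) ≤ P.B.comap (MulAut.conj x).toMonoidHom := sup_le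
    (fun u hu => (le_sup_left.trans hsplit.ge) ((Subgroup.mem_normalizer_iff.1 hU u).1 hu))
    fun u hu => P.conj_mem x hN u hu
  exact fun y hy => this (hsplit ▸ hy)

theorem mem_cj {U : Subgroup K} : x ∈ U.map (MulAut.conj s).toMonoidHom ↔ s⁻¹ * x * s ∈ U :=
  ⟨by rintro ⟨y, hy, rfl⟩; simpa [mul_assoc] using hy, fun h => ⟨_, h, by simp [mul_assoc]⟩⟩

theorem le_syl {p : ℕ} (U : Sylow p K) {R : Subgroup K} (hR : IsPGroup p R) (h : Nm R U ∨ Nm U R) :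
    R ≤ U :=
  le_sup_left.trans (U.3 (h.elim (hR.to_sup_of_normal_right' U.2) (hR.to_sup_of_normal_left' U.2))
    le_sup_right).le

theorem tr_par [Finite K] {p : ℕ} [Fact p.Prime] {U : Sylow p K} {D : Subgroup (MulAut K)}
    (hD : Perf D) (hsplit : P.B = (U : Subgroup K) ⊔ (P.B ⊓ P.N)) (hBU : Nm P.B U) (hs : s ∈ P.S)
    (hB : Inv D P.B)
    (hP : Inv D (P.parabolic {s})) {W : Subgroup K} (hWU : W ≤ U) (hn : Nm (P.parabolic {s}) W)
    (hW : ∀ u ∈ U, u ∈ W ↔ s⁻¹ * u * s ∈ P.B) (htr : Tr D U W) :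
    Tr D ((U : Subgroup K).map (MulAut.conj s).toMonoidHom) W := by
  have UB : (U : Subgroup K) ≤ P.B := le_sup_left.trans hsplit.ge
  have BP := B_le_parabolic (P := P) {s}
  have dc : ∀ g ∈ P.parabolic {s}, g ∉ P.B → ∃ u ∈ (U : Subgroup K), ∃ b ∈ P.B, g = u * s * b :=
    fun g hg h => by
      obtain ⟨a, ha, b, hb, rfl⟩ := δ_eq_δ_iff.1 (((mem_par hs).1 hg).resolve_left h)
      obtain ⟨u, hu, c, hc, e⟩ := dec hsplit hBU (P.subset hs) ha
      exact ⟨u, hu, _, mul_mem hc hb, by rw [e, mul_assoc]⟩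
  have h1 := tr_of_reg (s := s) hD (H27.SC.solv_of_p U.2) ((UB.trans BP).trans hn) htr hB hWU hW
    fun d hd => by
      obtain ⟨u, hu, b, hb, e⟩ := dc _ (hP d hd s s_mem)
        (mt (hB.mem_iff hd).1 (notMem_B_of_mem_S P hs))
      exact ⟨u, hu, by simpa [e, mul_assoc] using hb⟩
  rintro d hd _ ⟨u, hu, rfl⟩
  have h2 : ∀ g ∈ P.parabolic {s}, g⁻¹ * d g ∈ P.B := fun g hg => by
    by_cases h : g ∈ P.B
    · exact mul_mem (inv_mem h) (hB d hd g h)
    obtain ⟨u, hu, b, hb, rfl⟩ := dc g hg h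
    have c := htr d hd u hu
    convert mul_mem (mul_mem (mul_mem (inv_mem hb) ((hW _ (hWU c)).1 c)) (h1 d hd)) (hB d hd b hb)
      using 1
    simp only [map_mul]; group
  have h3 : ∀ g ∈ P.parabolic {s}, g⁻¹ * (s⁻¹ * d s) * g ∈ P.B := fun g hg => by
    convert mul_mem (h2 _ (mul_mem s_mem hg)) (inv_mem (h2 g hg)) using 1
    simp only [map_mul]; group
  have nc := fun {g} (hg : g ∈ P.parabolic {s}) {w} (hw : w ∈ W) =>
    (Subgroup.mem_normalizer_iff.1 (hn hg) w).1 hw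
  have h4 : u⁻¹ * (s⁻¹ * d s * u * (s⁻¹ * d s)⁻¹) ∈ W := by
    refine (hW _ (mul_mem (inv_mem hu) ((Subgroup.mem_normalizer_iff.1 (hBU (h1 d hd)) u).1 hu))).2 ?_
    convert mul_mem (h3 _ (mul_mem (BP (UB hu)) s_mem)) (inv_mem (h3 s s_mem)) using 1
    simp [mul_assoc]
  convert nc s_mem (mul_mem h4 (nc (BP (h1 d hd)) (htr d hd u hu))) using 1
  simp only [MulEquiv.coe_toMonoidHom, MulAut.conj_apply, map_mul, map_inv]; group

end BN8

open BN8 in
theorem outS_of_bn [IsSimpleGroup K] {p : ℕ} [Fact p.Prime] (P : Cfsg.BNPair K) (hS : P.S.Nonempty)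
    (U : Sylow p K) (hsplit : P.B = (U : Subgroup K) ⊔ (P.B ⊓ P.N)) (hBU : Nm P.B U)
    (hval : ∀ s ∈ P.S, {t | t ∈ P.S ∧ val P t = val P s}.ncard ≤ 4)
    (hn : ∀ s ∈ P.S, Nm P.B ((U : Subgroup K) ⊓ (U : Subgroup K).map (MulAut.conj s).toMonoidHom))
    (hs : ∀ s ∈ P.S, ∀ D : Subgroup (MulAut K), Perf D → Inv D U → Inv D P.B →
      Inv D ((U : Subgroup K) ⊓ (U : Subgroup K).map (MulAut.conj s).toMonoidHom) →
      Tr D U ((U : Subgroup K) ⊓ (U : Subgroup K).map (MulAut.conj s).toMonoidHom)) : OutS K := by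
  refine outS_of_sylow_p U fun D hD hU => ?_
  have NU := norm_eq hsplit hBU
  have hB : Inv D P.B := NU ▸ hU.normalizer
  have UB : (U : Subgroup K) ≤ P.B := le_sup_left.trans hsplit.ge
  have BP := fun s => B_le_parabolic (P := P) {s}
  have nU := fun {g} (hg : g ∈ P.B) {w} (hw : w ∈ (U : Subgroup K)) =>
    (Subgroup.mem_normalizer_iff.1 (hBU hg) w).1 hw
  have pU := fun s : K => U.2.map (MulAut.conj s).toMonoidHom
  have LP : ∀ s, (U : Subgroup K).map (MulAut.conj s).toMonoidHom ≤ P.parabolic {s} := by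
    rintro s _ ⟨u, hu, rfl⟩
    exact mul_mem (mul_mem s_mem (BP s (UB hu))) (inv_mem s_mem)
  have nP : ∀ s ∈ P.S, Nm (P.parabolic {s})
      ((U : Subgroup K) ⊓ (U : Subgroup K).map (MulAut.conj s).toMonoidHom) := fun s h => by
    refine parabolic_le_iff.2 ⟨hn s h, Set.singleton_subset_iff.2 ?_⟩
    refine Subgroup.mem_normalizer_fintype fun x hx => ?_
    obtain ⟨b, hb, e⟩ : ∃ b ∈ P.B, s * x * s⁻¹ = b * (s⁻¹ * x * s) * b⁻¹ := ⟨_, P.sq_mem s h, by group⟩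
    exact ⟨e ▸ nU hb (mem_cj.1 hx.2), x, hx.1, rfl⟩
  have iP := fun s h => inv_par hD hB h (hval s h)
  have iW := fun s h => inv_of_max_normal_p (iP s h) (inf_le_left.trans (UB.trans (BP s))) (nP s h)
    (U.2.to_le inf_le_left) fun R _ n hR => by
      have := le_syl U hR (Or.inr ((UB.trans (BP s)).trans n))
      exact fun x hx => ⟨this hx, mem_cj.2 (this (by
        simpa using (Subgroup.mem_normalizer_iff.1 (n (inv_mem s_mem)) x).1 hx))⟩
  have nB : P.B ≠ ⊤ := fun e => notMem_B_of_mem_S P hS.some_mem (e ▸ Subgroup.mem_top _)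
  let L := fun s : P.S => (U : Subgroup K) ⊔ (U : Subgroup K).map (MulAut.conj s.1).toMonoidHom
  rw [eq_bot_of_amalgam hD L (fun s => (U : Subgroup K) ⊓ (U : Subgroup K).map (MulAut.conj s.1).toMonoidHom)
    U.2 hU (fun _ => le_sup_left) (fun _ => inf_le_left)
    (fun s => (sup_le (UB.trans (BP s)) (LP s)).trans (nP s s.2)) (fun s => iW s s.2) ?_ ?_ ?_]
  · exact bot_le
  · rintro ⟨s, h⟩
    have t := hs s h D hD hU hB (iW s h)
    refine t.sup (tr_par hD hsplit hBU h hB (iP s h) inf_le_left (nP s h) (fun u hu => ?_) t)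
      ((UB.trans (BP s)).trans (nP s h)) ((LP s).trans (nP s h))
    refine ⟨fun h => UB (mem_cj.1 h.2), fun h' => ⟨hu, mem_cj.2 ?_⟩⟩
    refine le_syl U ((pU s⁻¹).to_le (Subgroup.zpowers_le.2 (mem_cj.2 ?_)))
      (Or.inl (Subgroup.zpowers_le.2 (hBU h'))) (Subgroup.mem_zpowers _)
    rwa [show s⁻¹⁻¹ * (s⁻¹ * u * s) * s⁻¹ = u by group]
  · have hBM : Nm P.B (⨆ s, L s) := H27.SC.nm_of fun x hx => by
      refine show (⨆ s, L s) ≤ (⨆ s, L s).comap (MulAut.conj x).toMonoidHom from iSup_le fun s y hy =>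
        le_iSup L s ((show L s ≤ (L s).comap (MulAut.conj x).toMonoidHom from sup_le
          (fun u hu => Subgroup.mem_sup_left (nU hx hu)) ?_) hy)
      rintro _ ⟨u, hu, rfl⟩
      obtain ⟨v, hv, b, hb, e⟩ := dec hsplit hBU (P.subset s.2) hx
      have : x * (s * u * s.1⁻¹) * x⁻¹ = v * (s * (b * u * b⁻¹) * s.1⁻¹) * v⁻¹ := by
        rw [show x = v * s * b * s.1⁻¹ by rw [← e]; group]; group
      change x * (s * u * s.1⁻¹) * x⁻¹ ∈ L s
      exact this ▸ mul_mem (mul_mem (Subgroup.mem_sup_left hv)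
        (Subgroup.mem_sup_right ⟨_, nU hb hu, rfl⟩)) (inv_mem (Subgroup.mem_sup_left hv))
    have : (⨆ s, L s).Normal := by
      rw [← Subgroup.normalizer_eq_top_iff, eq_top_iff, ← parabolic_S P]
      refine parabolic_le_iff.2 ⟨hBM, fun s h => ?_⟩
      rcases (cov_iff.2 ⟨s, h, rfl⟩).eq_or_eq (le_sup_left (b := (U : Subgroup K).map
        (MulAut.conj s).toMonoidHom)) (sup_le (BP s) (LP s)) with e | e
      · have := le_syl U (pU s) (Or.inl ((le_sup_right.trans e.le).trans hBU))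
        exact absurd (NU ▸ Subgroup.mem_normalizer_fintype fun x hx => this ⟨x, hx, rfl⟩)
          (notMem_B_of_mem_S P h)
      · exact (e.ge.trans (sup_le hBM ((le_sup_right.trans (le_iSup L ⟨s, h⟩)).trans
          Subgroup.le_normalizer))) s_mem
    refine (this.eq_bot_or_eq_top).resolve_left fun e => nB ?_
    have : (U : Subgroup K) = ⊥ := le_bot_iff.1 ((le_sup_left.trans (le_iSup L ⟨_, hS.some_mem⟩)).trans e.le)
    rw [← NU, this, Subgroup.normalizer_eq_top]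
  · refine fun T hT hp => hT.eq_bot_or_eq_top.resolve_right fun e => nB (eq_top_iff.2 ?_)
    exact (e.ge.trans (le_syl U hp (Or.inr (by rw [Nm, Subgroup.normalizer_eq_top]; exact le_top)))).trans UB

end H0.Sch
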