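import Cfsg.Agent.H0.SchBN
import Cfsg.Agent.H20.SC3

set_option autoImplicit false

namespace H0.Sch

universe u

theorem outS_twF4 {K : Type u} [Group K] [Finite K] [IsSimpleGroup K] (hna : ¬ IsMulCommutative K)
    (h : Cfsg.Lie.Iso2F4 K) : OutS K := by
  obtain ⟨F, _, _, m, -, hF, ⟨e⟩⟩ := h
  have := e.symm.isSimpleGroup
  exact (H20.outS_F4 hF).congr e.symm

end H0.Sch
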