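import Cfsg.Agent.H0.SchD
import Cfsg.Agent.S0014

/-! Schreier project, block A: calculus of `Inv` / `Tr` (no deep theorems). -/

set_option autoImplicit false

namespace H0.Sch

universe u v

variable {K : Type u} [Group K] {D : Subgroup (MulAut K)}

theorem Perf.map {G H : Type*} [Group G] [Group H] {E : Subgroup G} (h : Perf E) (f : G →* H) :
    Perf (E.map f) := by
  unfold Perf at *
  rw [← Subgroup.map_commutator, h]

theorem OutS.congr {L : Type v} [Group L] (e : K ≃* L) (h : OutS K) : OutS L := by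
  intro E hE d hd
  obtain ⟨g, hg⟩ := h _ (hE.map (MulAut.congr e).symm.toMonoidHom) ⟨d, hd, rfl⟩
  refine ⟨e g, ?_⟩
  ext x
  have h1 := MulEquiv.congr_fun hg (e.symm x)
  have h2 : ((MulAut.congr e).symm.toMonoidHom d) (e.symm x) = e.symm (d x) := by
    simp [MulAut.congr]
  rw [h2, MulAut.conj_apply] at h1
  rw [MulAut.conj_apply, ← e.apply_symm_apply (d x), ← h1]
  simp

theorem inv_top : Inv D ⊤ := fun _ _ _ _ => Subgroup.mem_top _
theorem inv_bot : Inv D ⊥ := fun d _ x hx => by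
  rw [Subgroup.mem_bot] at hx ⊢
  rw [hx, map_one]
theorem Inv.inf {X Y : Subgroup K} (hX : Inv D X) (hY : Inv D Y) : Inv D (X ⊓ Y) :=
  fun d hd x hx => Subgroup.mem_inf.2
    ⟨hX d hd x (Subgroup.mem_inf.1 hx).1, hY d hd x (Subgroup.mem_inf.1 hx).2⟩

theorem Inv.mem_iff {X : Subgroup K} (hX : Inv D X) {d : MulAut K} (hd : d ∈ D) {x : K} :
    d x ∈ X ↔ x ∈ X :=
  ⟨fun h => by simpa using hX d⁻¹ (D.inv_mem hd) _ h, hX d hd x⟩

theorem Inv.map_eq {X : Subgroup K} (hX : Inv D X) {d : MulAut K} (hd : d ∈ D) :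
    X.map d.toMonoidHom = X := by
  apply le_antisymm
  · rintro _ ⟨x, hx, rfl⟩
    exact hX d hd x hx
  · intro x hx
    exact ⟨d⁻¹ x, hX _ (D.inv_mem hd) x hx, by simp⟩
theorem inv_of_map_eq {X : Subgroup K} (h : ∀ d ∈ D, X.map d.toMonoidHom = X) : Inv D X :=
  fun d hd x hx => by
    rw [← h d hd]
    exact ⟨x, hx, rfl⟩
theorem Inv.sup {X Y : Subgroup K} (hX : Inv D X) (hY : Inv D Y) : Inv D (X ⊔ Y) :=
  inv_of_map_eq fun d hd => by rw [Subgroup.map_sup, hX.map_eq hd, hY.map_eq hd]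
theorem Inv.normalizer {X : Subgroup K} (hX : Inv D X) : Inv D (Subgroup.normalizer (X : Set K)) := by
  intro d hd x hx
  rw [Subgroup.mem_normalizer_iff] at hx ⊢
  intro h
  have h1 : d x * h * (d x)⁻¹ = d (x * d⁻¹ h * x⁻¹) := by simp
  rw [h1, hX.mem_iff hd, ← hx, hX.mem_iff (D.inv_mem hd)]
theorem Inv.centralizer {X : Subgroup K} (hX : Inv D X) :
    Inv D (Subgroup.centralizer (X : Set K)) := by
  intro d hd x hx
  rw [Subgroup.mem_centralizer_iff] at hx ⊢
  intro h hh
  have h1 := congrArg d (hx _ (hX _ (D.inv_mem hd) h hh))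
  simpa using h1
theorem Inv.commutator {X Y : Subgroup K} (hX : Inv D X) (hY : Inv D Y) : Inv D ⁅X, Y⁆ :=
  inv_of_map_eq fun d hd => by rw [Subgroup.map_commutator, hX.map_eq hd, hY.map_eq hd]
theorem Inv.cm {A B C : Subgroup K} (hA : Inv D A) (hB : Inv D B) (hC : Inv D C) :
    Inv D (cm A B C) := by
  intro d hd x hx
  rw [mem_cm] at hx ⊢
  refine ⟨hA d hd x hx.1, hC.normalizer d hd x hx.2.1, fun b hb => ?_⟩
  have h1 := hC d hd _ (hx.2.2 _ (hB _ (D.inv_mem hd) b hb))
  simpa using h1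

/-- restriction of an automorphism to an invariant subgroup. -/
def Inv.res {X : Subgroup K} (hX : Inv D X) (d : D) : MulAut X where
  toFun x := ⟨d.1 x, hX d.1 d.2 x x.2⟩
  invFun x := ⟨d.1⁻¹ x, hX _ (D.inv_mem d.2) x x.2⟩
  left_inv x := Subtype.ext (by simp)
  right_inv x := Subtype.ext (by simp)
  map_mul' x y := Subtype.ext (by simp)

/-- characteristic subgroups of invariant subgroups. -/
theorem Inv.char {X : Subgroup K} (hX : Inv D X) (Y : Subgroup X) [Y.Characteristic] :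
    Inv D (Y.map X.subtype) := by
  rintro d hd _ ⟨y, hy, rfl⟩
  have h1 := Subgroup.characteristic_iff_map_le.1 ‹Y.Characteristic› (hX.res ⟨d, hd⟩) ⟨y, hy, rfl⟩
  exact ⟨_, h1, rfl⟩
theorem inv_closure {s : Set K} (h : ∀ d ∈ D, ∀ x ∈ s, d x ∈ s) : Inv D (Subgroup.closure s) := by
  intro d hd x hx
  have : Subgroup.closure s ≤ (Subgroup.closure s).comap d.toMonoidHom :=
    (Subgroup.closure_le _).2 fun y hy => Subgroup.subset_closure (h d hd y hy)
  exact this hx
theorem inv_centralizer_of_fix {x : K} (h : ∀ d ∈ D, d x = x) :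
    Inv D (Subgroup.centralizer ({x} : Set K)) := by
  intro d hd y hy
  rw [Subgroup.mem_centralizer_singleton_iff] at hy ⊢
  have h1 := congrArg d hy
  rwa [map_mul, map_mul, h d hd] at h1
/-- the largest normal `p`-subgroup of an invariant subgroup. -/
theorem inv_of_max_normal_p {p : ℕ} {H Q : Subgroup K} (hH : Inv D H) (hQH : Q ≤ H) (hn : Nm H Q)
    (hQ : IsPGroup p Q) (hmax : ∀ R : Subgroup K, R ≤ H → Nm H R → IsPGroup p R → R ≤ Q) :
    Inv D Q := by
  intro d hd x hx
  refine hmax (Q.map d.toMonoidHom) ?_ ?_ (hQ.map _) ⟨x, hx, rfl⟩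
  · rintro _ ⟨y, hy, rfl⟩
    exact hH d hd y (hQH hy)
  · intro g hg
    have hg' := hn (hH _ (D.inv_mem hd) g hg)
    rw [Subgroup.mem_normalizer_iff] at hg' ⊢
    intro y
    have e1 : ∀ z : K, z ∈ Q.map d.toMonoidHom ↔ d⁻¹ z ∈ Q := fun z =>
      ⟨by rintro ⟨w, hw, rfl⟩; simpa using hw, fun hz => ⟨_, hz, by simp⟩⟩
    rw [e1, e1, hg', map_mul, map_mul, map_inv]

theorem tr_bot_iff {X : Subgroup K} : Tr D X ⊥ ↔ ∀ d ∈ D, ∀ x ∈ X, d x = x := by
  refine forall₂_congr fun d _ => forall₂_congr fun x _ => ?_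
  rw [Subgroup.mem_bot, inv_mul_eq_one, eq_comm]
theorem Tr.mono {X X' Y Y' : Subgroup K} (h : Tr D X Y) (hX : X' ≤ X) (hY : Y ≤ Y') : Tr D X' Y' :=
  fun d hd x hx => hY (h d hd x (hX hx))
theorem Tr.inv {X Y : Subgroup K} (h : Tr D X Y) {Z : Subgroup K} (hY : Y ≤ Z) (hZ : Z ≤ X) :
    Inv D Z := fun d hd x hx => by
  have := Z.mul_mem hx (hY (h d hd x (hZ hx)))
  simpa using this
theorem Tr.inf_right {X Y : Subgroup K} (h : Tr D X Y) (hX : Inv D X) : Tr D X (Y ⊓ X) :=
  fun d hd x hx => Subgroup.mem_inf.2 ⟨h d hd x hx, X.mul_mem (X.inv_mem hx) (hX d hd x hx)⟩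

/-- the elements of `N(W)` whose coset is fixed by `D`. -/
def fixc (D : Subgroup (MulAut K)) (W : Subgroup K) : Subgroup K where
  carrier := {x | x ∈ Subgroup.normalizer (W : Set K) ∧ ∀ d ∈ D, x⁻¹ * d x ∈ W}
  one_mem' := ⟨Subgroup.one_mem _, fun d _ => by simp⟩
  mul_mem' := by
    rintro x y ⟨hxN, hx⟩ ⟨hyN, hy⟩
    refine ⟨Subgroup.mul_mem _ hxN hyN, fun d hd => ?_⟩
    have h1 : y⁻¹ * (x⁻¹ * d x) * y⁻¹⁻¹ ∈ W :=
      (Subgroup.mem_normalizer_iff.mp (Subgroup.inv_mem _ hyN) _).mp (hx d hd)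
    have h2 : (x * y)⁻¹ * d (x * y) = (y⁻¹ * (x⁻¹ * d x) * y⁻¹⁻¹) * (y⁻¹ * d y) := by
      rw [map_mul]; group
    rw [h2]; exact W.mul_mem h1 (hy d hd)
  inv_mem' := by
    rintro x ⟨hxN, hx⟩
    refine ⟨Subgroup.inv_mem _ hxN, fun d hd => ?_⟩
    have h1 : x * (x⁻¹ * d x)⁻¹ * x⁻¹ ∈ W :=
      (Subgroup.mem_normalizer_iff.mp hxN _).mp (W.inv_mem (hx d hd))
    have h2 : x⁻¹⁻¹ * d x⁻¹ = x * (x⁻¹ * d x)⁻¹ * x⁻¹ := by rw [map_inv]; group
    rw [h2]; exact h1

theorem nm_bot (X : Subgroup K) : Nm X ⊥ := by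
  intro x _
  rw [Subgroup.mem_normalizer_iff]
  intro h
  simp

/-- generators modulo a normal subgroup. -/
theorem Tr.sup {X Y W : Subgroup K} (hX : Tr D X W) (hY : Tr D Y W) (hXW : Nm X W) (hYW : Nm Y W) :
    Tr D (X ⊔ Y) W := by
  have : X ⊔ Y ≤ fixc D W :=
    sup_le (fun x hx => ⟨hXW hx, fun d hd => hX d hd x hx⟩)
      (fun x hx => ⟨hYW hx, fun d hd => hY d hd x hx⟩)
  exact fun d hd x hx => (this hx).2 d hd
theorem tr_closure_bot {s : Set K} (h : ∀ d ∈ D, ∀ x ∈ s, d x = x) : Tr D (Subgroup.closure s) ⊥ := by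
  have : Subgroup.closure s ≤ fixc D ⊥ := (Subgroup.closure_le _).2 fun x hx =>
    ⟨nm_bot ⊤ (Subgroup.mem_top x), fun d hd => by rw [h d hd x hx]; simp⟩
  exact fun d hd x hx => (this hx).2 d hd
theorem Tr.sup_bot {X Y : Subgroup K} (hX : Tr D X ⊥) (hY : Tr D Y ⊥) : Tr D (X ⊔ Y) ⊥ :=
  hX.sup hY (nm_bot _) (nm_bot _)
theorem eq_bot_of_tr_top (h : Tr D ⊤ ⊥) : D = ⊥ := by
  rw [eq_bot_iff]
  intro d hd
  rw [Subgroup.mem_bot]
  ext x
  exact tr_bot_iff.1 h d hd x (Subgroup.mem_top x)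

theorem solvable_perm_four : Group.IsSolvable (Equiv.Perm (Fin 4)) := by
  have h := alternatingGroup.kleinFour_isKleinFour (α := Fin 4) (by simp)
  rw [alternatingGroup.kleinFour_eq_commutator (by simp), ← Abelianization.ker_of] at h
  have := Group.isSolvable_of_comm (IsKleinFour.isMulCommutative (G := (Abelianization.of
    (G := alternatingGroup (Fin 4))).ker)).is_comm.comm
  have h4 : Group.IsSolvable (alternatingGroup (Fin 4)) :=
    Group.isSolvable_of_ker_le_range (Abelianization.of (G := alternatingGroup (Fin 4))).ker.subtype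
      Abelianization.of (by simp)
  have : Group.IsSolvable (Equiv.Perm.sign (α := Fin 4)).ker := h4
  exact Group.isSolvable_of_ker_le_range (Equiv.Perm.sign (α := Fin 4)).ker.subtype Equiv.Perm.sign
    (by simp)

theorem Perf.eq_bot_of_solvable {G : Type*} [Group G] {E : Subgroup G} (h : Perf E)
    (hs : IsSolvable E) : E = ⊥ := by
  by_contra hne
  have : Nontrivial E := (Subgroup.nontrivial_iff_ne_bot E).2 hne
  have : Group.IsSolvable E := hs
  have h1 := Group.IsSolvable.commutator_lt_top_of_nontrivial (G := E)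
  apply h1.ne
  apply Subgroup.map_injective E.subtype_injective
  rw [commutator_def, Subgroup.map_commutator, ← MonoidHom.range_eq_map, Subgroup.range_subtype]
  exact h

theorem Perf.eq_bot_of_solv {G : Type*} [Group G] {E : Subgroup G} (h : Perf E)
    [hs : Group.IsSolvable E] : E = ⊥ := h.eq_bot_of_solvable hs

theorem Perf.commutator_eq_top {G : Type*} [Group G] {E : Subgroup G} (h : Perf E) :
    commutator E = ⊤ := by
  apply Subgroup.map_injective E.subtype_injective
  rw [commutator_def, Subgroup.map_commutator, ← MonoidHom.range_eq_map, Subgroup.range_subtype]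
  exact h

theorem perf_top {G : Type*} [Group G] (hG : commutator G = ⊤) : Perf (⊤ : Subgroup G) := hG

theorem hom_eq_one_of_solvable {G H : Type*} [Group G] [Group H] (hG : commutator G = ⊤)
    (hH : Group.IsSolvable H) (f : G →* H) (g : G) : f g = 1 := by
  have h1 : (⊤ : Subgroup G).map f = ⊥ :=
    ((perf_top hG).map f).eq_bot_of_solv
  have h2 : f g ∈ (⊤ : Subgroup G).map f := ⟨g, Subgroup.mem_top g, rfl⟩
  rwa [h1, Subgroup.mem_bot] at h2

/-- a perfect group acting on a set fixes every member of an invariant finite set of size `≤ 4`. -/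
theorem fix_of_ncard_le_four {G : Type*} [Group G] (hG : commutator G = ⊤) {Ω : Type*}
    [MulAction G Ω] (s : Set Ω) (hfin : s.Finite) (hs : s.ncard ≤ 4) (hinv : ∀ g : G, ∀ x ∈ s, g • x ∈ s) :
    ∀ g : G, ∀ x ∈ s, g • x = x := by
  classical
  intro g x hx
  let _ : MulAction G s :=
    { smul := fun g x => ⟨g • x.1, hinv g _ x.2⟩
      one_smul := fun x => Subtype.ext (one_smul G x.1)
      mul_smul := fun g k x => Subtype.ext (mul_smul g k x.1) }
  have := hfin.fintype
  obtain ⟨ι⟩ : Nonempty (s ↪ Fin 4) := Function.Embedding.nonempty_of_card_le (by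
    rwa [← Nat.card_eq_fintype_card, Fintype.card_fin])
  have h1 := hom_eq_one_of_solvable hG solvable_perm_four
    ((Equiv.Perm.viaEmbeddingHom ι).comp (MulAction.toPermHom G s)) g
  rw [MonoidHom.comp_apply, map_eq_one_iff _ (Equiv.Perm.viaEmbeddingHom_injective ι)] at h1
  exact congrArg Subtype.val (Equiv.ext_iff.1 h1 ⟨x, hx⟩)

theorem fix_elt (hD : Perf D) (s : Set K) (hfin : s.Finite) (hs : s.ncard ≤ 4)
    (hinv : ∀ d ∈ D, ∀ x ∈ s, d x ∈ s) : ∀ d ∈ D, ∀ x ∈ s, d x = x := fun d hd x hx =>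
  fix_of_ncard_le_four hD.commutator_eq_top s hfin hs (fun g y hy => hinv g.1 g.2 y hy) ⟨d, hd⟩ x hx

theorem inv_sub (hD : Perf D) (s : Set (Subgroup K)) (hfin : s.Finite) (hs : s.ncard ≤ 4)
    (hinv : ∀ d ∈ D, ∀ X ∈ s, X.map d.toMonoidHom ∈ s) : ∀ X ∈ s, Inv D X := by
  intro X hX
  let _ : MulAction D (Subgroup K) :=
    { smul := fun d Y => Y.map d.1.toMonoidHom
      one_smul := fun Y => Subgroup.map_id Y
      mul_smul := fun d e Y => (Subgroup.map_map Y d.1.toMonoidHom e.1.toMonoidHom).symm }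
  exact inv_of_map_eq fun d hd => fix_of_ncard_le_four hD.commutator_eq_top s hfin hs
    (fun g Y hY => hinv g.1 g.2 Y hY) ⟨d, hd⟩ X hX

/-- the action induced on a section `X / ker f ≅ L`. -/
theorem exists_induced (hD : Perf D) {X : Subgroup K} (hX : Inv D X) {L : Type v} [Group L]
    (f : X →* L) (hf : Function.Surjective f) (hk : Inv D (f.ker.map X.subtype)) :
    ∃ E : Subgroup (MulAut L), Perf E ∧
      (∀ d (hd : d ∈ D), ∃ e ∈ E, ∀ x : X, e (f x) = f ⟨d x, hX d hd x x.2⟩) ∧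
      (∀ e ∈ E, ∃ d, ∃ hd : d ∈ D, ∀ x : X, e (f x) = f ⟨d x, hX d hd x x.2⟩) := by
  classical
  let g : D → L → L := fun d l => f (hX.res d (Function.surjInv hf l))
  have hg : ∀ d x, g d (f x) = f (hX.res d x) := by
    intro d x
    have h1 : x⁻¹ * Function.surjInv hf (f x) ∈ f.ker := by
      rw [MonoidHom.mem_ker, map_mul, map_inv, Function.surjInv_eq hf, inv_mul_cancel]
    obtain ⟨y, hy, hy'⟩ := hk d.1 d.2 _ ⟨_, h1, rfl⟩
    have h2 : y = hX.res d (x⁻¹ * Function.surjInv hf (f x)) := Subtype.ext hy'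
    rw [h2, SetLike.mem_coe, MonoidHom.mem_ker, map_mul, map_mul, map_inv, map_inv,
      inv_mul_eq_one] at hy
    exact hy.symm
  let _ : MulDistribMulAction D L :=
    { smul := g
      one_smul := fun l => by
        obtain ⟨x, rfl⟩ := hf l
        exact hg 1 x
      mul_smul := fun d e l => by
        obtain ⟨x, rfl⟩ := hf l
        change g (d * e) (f x) = g d (g e (f x))
        rw [hg e, hg, hg]
        rfl
      smul_mul := fun d l m => by
        obtain ⟨x, rfl⟩ := hf l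
        obtain ⟨y, rfl⟩ := hf m
        change g d (f x * f y) = g d (f x) * g d (f y)
        rw [← map_mul, hg, hg, hg, map_mul, map_mul]
      smul_one := fun d => by
        change g d 1 = 1
        rw [← map_one f, hg, map_one] }
  refine ⟨(⊤ : Subgroup D).map (MulDistribMulAction.toMulAut D L),
    (perf_top hD.commutator_eq_top).map _, fun d hd => ⟨_, ⟨⟨d, hd⟩, Subgroup.mem_top _, rfl⟩,
      fun x => hg ⟨d, hd⟩ x⟩, ?_⟩
  rintro _ ⟨d, -, rfl⟩
  exact ⟨d.1, d.2, fun x => hg d x⟩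

theorem normal_sub {X Y : Subgroup K} (hn : Nm X Y) : (Y.subgroupOf X).Normal :=
  ⟨fun y hy x => (Subgroup.mem_normalizer_iff.mp (hn x.2) _).mp hy⟩

/-- stability series of length two. -/
theorem Tr.trans (hD : Perf D) {X Y W : Subgroup K} (hXY : Tr D X Y) (hYW : Tr D Y W)
    (hY : Y ≤ X) (hW : W ≤ Y) (hWi : Inv D W) (hnY : Nm X Y) (hnW : Nm X W) : Tr D X W := by
  intro d hd x hx
  have := normal_sub (hY.trans hnW)
  let y : D → Y := fun d => ⟨x⁻¹ * d.1 x, hXY d.1 d.2 x hx⟩
  let π := QuotientGroup.mk' (W.subgroupOf Y)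
  have hπ : ∀ a b : Y, π a = π b ↔ (a : K)⁻¹ * b ∈ W := fun a b => QuotientGroup.eq
  let φ : D →* Y ⧸ W.subgroupOf Y := MonoidHom.mk' (fun d => π (y d)) fun d e => by
    rw [← map_mul, eq_comm, hπ]
    have h1 := hYW d.1 d.2 _ (y e).2
    have h2 : (((y d * y e : Y) : K))⁻¹ * (y (d * e) : K) = (y e : K)⁻¹ * d.1 (y e) := by
      simp only [y, Subgroup.coe_mul, MulAut.mul_apply, map_mul, map_inv]
      group
    rw [h2]; exact h1
  have hc : ∀ (d : D) (a : Y), π (y d) * π a = π a * π (y d) := by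
    intro d a
    rw [← map_mul, ← map_mul, hπ]
    have ha : x * a * x⁻¹ ∈ Y := (Subgroup.mem_normalizer_iff.mp (hnY hx) _).mp a.2
    have h1 := hYW d.1 d.2 _ ha
    have h2 := hYW d.1 d.2 _ a.2
    have h3 : (d.1 x)⁻¹ * ((x * a * x⁻¹)⁻¹ * d.1 (x * a * x⁻¹))⁻¹ * (d.1 x)⁻¹⁻¹ ∈ W := by
      have hdx : d.1 x ∈ X := by
        have := X.mul_mem hx (hY (y d).2)
        simpa [y] using this
      exact (Subgroup.mem_normalizer_iff.mp (hnW (X.inv_mem hdx)) _).mp (W.inv_mem h1)
    have h4 : (((y d * a : Y) : K))⁻¹ * ((a * y d : Y) : K) = ((a : K)⁻¹ * d.1 a) *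
        ((d.1 x)⁻¹ * ((x * a * x⁻¹)⁻¹ * d.1 (x * a * x⁻¹))⁻¹ * (d.1 x)⁻¹⁻¹) := by
      simp only [y, Subgroup.coe_mul, map_mul, map_inv]
      group
    rw [h4]; exact W.mul_mem h2 h3
  have hk : _root_.commutator D ≤ φ.ker := by
    rw [commutator_def, Subgroup.commutator_le]
    intro a _ b _
    rw [MonoidHom.mem_ker, map_commutatorElement, commutatorElement_eq_one_iff_mul_comm]
    exact hc a (y b)
  rw [hD.commutator_eq_top] at hk
  have h1 : π (y ⟨d, hd⟩) = 1 := hk (Subgroup.mem_top (⟨d, hd⟩ : D))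
  exact (QuotientGroup.eq_one_iff (N := W.subgroupOf Y) (y ⟨d, hd⟩)).1 h1

/-- if every perfect group of automorphisms induced on `L` is trivial. -/
theorem tr_of_induced (hD : Perf D) {X : Subgroup K} (hX : Inv D X) {L : Type v} [Group L]
    (f : X →* L) (hf : Function.Surjective f) (hk : Inv D (f.ker.map X.subtype))
    (h : ∀ E : Subgroup (MulAut L), Perf E →
      (∀ e ∈ E, ∃ d, ∃ hd : d ∈ D, ∀ x : X, e (f x) = f ⟨d x, hX d hd x x.2⟩) → E = ⊥) :
    Tr D X (f.ker.map X.subtype) := by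
  obtain ⟨E, hE, h1, h2⟩ := exists_induced hD hX f hf hk
  intro d hd x hx
  obtain ⟨e, he, he'⟩ := h1 d hd
  rw [h E hE h2, Subgroup.mem_bot] at he
  have h3 := he' ⟨x, hx⟩
  rw [he, MulAut.one_apply] at h3
  refine ⟨(⟨x, hx⟩ : X)⁻¹ * ⟨d x, hX d hd x hx⟩, ?_, rfl⟩
  rw [SetLike.mem_coe, MonoidHom.mem_ker, map_mul, map_inv, h3, inv_mul_cancel]

theorem tr_of_solvable_aut (hD : Perf D) {X : Subgroup K} (hX : Inv D X) {L : Type v} [Group L]
    (f : X →* L) (hf : Function.Surjective f) (hk : Inv D (f.ker.map X.subtype))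
    (hs : IsSolvable (MulAut L)) : Tr D X (f.ker.map X.subtype) :=
  haveI : Group.IsSolvable (MulAut L) := hs
  tr_of_induced hD hX f hf hk fun _ hE _ => hE.eq_bot_of_solv

/-- at most five cosets (no normality needed). -/
theorem tr_of_relIndex_le_five (hD : Perf D) {X Y : Subgroup K} (hX : Inv D X) (hY : Inv D Y)
    (h0 : Y.relIndex X ≠ 0) (h5 : Y.relIndex X ≤ 5) : Tr D X Y := by
  intro d hd x hx
  let _ : MulAction D (X ⧸ Y.subgroupOf X) :=
    { smul := fun d => Quotient.map' (hX.res d) fun a b hab => by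
        rw [QuotientGroup.leftRel_apply, Subgroup.mem_subgroupOf] at hab ⊢
        have := hY d.1 d.2 _ hab
        simpa [Inv.res] using this
      one_smul := fun c => by
        induction c using QuotientGroup.induction_on
        rfl
      mul_smul := fun d e c => by
        induction c using QuotientGroup.induction_on
        rfl }
  have hs : ∀ (d : D) (a : X), d • (a : X ⧸ Y.subgroupOf X) = (hX.res d a : X) := fun _ _ => rfl
  have hfin : Finite (X ⧸ Y.subgroupOf X) := Nat.finite_of_card_ne_zero h0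
  have h1 : ∀ d : D, d • ((1 : X) : X ⧸ Y.subgroupOf X) = (1 : X) := fun d => by rw [hs, map_one]
  have h2 := fix_of_ncard_le_four hD.commutator_eq_top
    ({((1 : X) : X ⧸ Y.subgroupOf X)}ᶜ : Set (X ⧸ Y.subgroupOf X)) (Set.toFinite _) (by
      have h3 := Set.ncard_add_ncard_compl ({((1 : X) : X ⧸ Y.subgroupOf X)} :
        Set (X ⧸ Y.subgroupOf X))
      rw [Set.ncard_singleton] at h3
      have h4 : Nat.card (X ⧸ Y.subgroupOf X) ≤ 5 := h5
      omega)
    (fun g c hc h => hc (by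
      rw [Set.mem_singleton_iff] at h ⊢
      rw [← h1 g] at h
      exact smul_left_cancel g h))
  have h3 : (⟨d, hd⟩ : D) • ((⟨x, hx⟩ : X) : X ⧸ Y.subgroupOf X) = (⟨x, hx⟩ : X) := by
    by_cases h : ((⟨x, hx⟩ : X) : X ⧸ Y.subgroupOf X) = (1 : X)
    · rw [h, h1]
    · exact h2 _ _ h
  rw [hs, eq_comm, QuotientGroup.eq] at h3
  exact h3

theorem ker_mk_map {X Y : Subgroup K} [(Y.subgroupOf X).Normal] :
    (QuotientGroup.mk' (Y.subgroupOf X)).ker.map X.subtype = Y ⊓ X := by
  rw [QuotientGroup.ker_mk', Subgroup.subgroupOf_map_subtype]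

theorem solvable_aut_of_cyclic (L : Type v) [Group L] [hL : IsCyclic L] :
    Group.IsSolvable (MulAut L) :=
  Group.isSolvable_of_isSolvable_injective (f := (IsCyclic.mulAutMulEquiv L).toMonoidHom)
    (IsCyclic.mulAutMulEquiv L).injective

theorem eq_bot_of_char {L : Type v} [Group L] [Finite L] (h8 : Nat.card L = 8)
    {E : Subgroup (MulAut L)} (hE : Perf E) (M : Subgroup L) [M.Normal] (hM : Inv E M)
    (h1 : M ≠ ⊥) (h2 : M ≠ ⊤) : E = ⊥ := by
  have hc := M.card_mul_index
  have c1 : Nat.card M ≠ 1 := fun h => h1 (Subgroup.card_eq_one.1 h)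
  have c2 : M.index ≠ 1 := fun h => h2 (Subgroup.index_eq_one.1 h)
  have c3 : Nat.card M ≠ 0 := Nat.card_pos.ne'
  have c4 : M.index ≠ 0 := Subgroup.index_ne_zero_of_finite
  have c5 : M.index ≤ 5 := by nlinarith [Nat.pos_of_ne_zero c3, Nat.two_le_iff _ |>.2 ⟨c3, c1⟩]
  have c6 : Nat.card M ≤ 5 := by nlinarith [Nat.two_le_iff _ |>.2 ⟨c4, c2⟩]
  have t1 : Tr E ⊤ M := tr_of_relIndex_le_five hE inv_top hM
    (by rwa [Subgroup.relIndex_top_right]) (by rwa [Subgroup.relIndex_top_right])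
  have t2 : Tr E M ⊥ := tr_of_relIndex_le_five hE hM inv_bot
    (by rwa [Subgroup.relIndex_bot_left]) (by rwa [Subgroup.relIndex_bot_left])
  exact eq_bot_of_tr_top (t1.trans hE t2 le_top bot_le inv_bot
    (Subgroup.normalizer_eq_top M).ge (nm_bot _))

theorem eq_bot_of_card_le_eight {L : Type v} [Group L] [Finite L]
    (h8 : Nat.card L < 8 ∨ (Nat.card L = 8 ∧ ∃ x : L, x ^ 2 ≠ 1)) {E : Subgroup (MulAut L)}
    (hE : Perf E) : E = ⊥ := by
  classical
  by_cases h5 : Nat.card L ≤ 5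
  · refine eq_bot_of_tr_top (tr_of_relIndex_le_five hE inv_top inv_bot ?_ ?_)
    · rw [Subgroup.relIndex_bot_left]; exact Nat.card_pos.ne'
    · rw [Subgroup.relIndex_bot_left, Subgroup.card_top]; exact h5
  by_cases h7 : Nat.card L = 7
  · have : Fact (Nat.Prime 7) := ⟨by norm_num⟩
    have := isCyclic_of_prime_card h7
    have := solvable_aut_of_cyclic L
    exact hE.eq_bot_of_solv
  by_cases h6 : Nat.card L = 6
  · obtain ⟨a, ha⟩ := exists_prime_orderOf_dvd_card' (G := L) 2 (by rw [h6]; norm_num)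
    obtain ⟨b, hb⟩ := exists_prime_orderOf_dvd_card' (G := L) 3 (by rw [h6]; norm_num)
    have ha1 : a ≠ 1 := by rintro rfl; simp at ha
    have hb1 : b ≠ 1 := by rintro rfl; simp at hb
    have key : ∀ (s : Set L) (c : L), c ≠ 1 → 1 ∉ s → c ∉ s → s.ncard ≤ 4 := by
      intro s c hc h1 h2
      have h3 := Set.ncard_add_ncard_compl s
      have h4 : ({1, c} : Set L).ncard ≤ sᶜ.ncard := Set.ncard_le_ncard (by
        rintro x (rfl | rfl)
        exacts [h1, h2]) (Set.toFinite _)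
      rw [Set.ncard_pair hc.symm] at h4
      omega
    have f1 := fix_elt hE {x | orderOf x = 2} (Set.toFinite _)
      (key _ b hb1 (by simp) (by simp [hb])) (fun d _ x hx => by simpa using hx)
    have f2 := fix_elt hE {x | x ≠ 1 ∧ orderOf x ≠ 2} (Set.toFinite _)
      (key _ a ha1 (by simp) (by simp [ha])) (fun d _ x hx => by simpa using hx)
    refine eq_bot_of_tr_top (tr_bot_iff.2 fun d hd x _ => ?_)
    by_cases hx : x = 1
    · rw [hx, map_one]
    by_cases hx2 : orderOf x = 2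
    · exact f1 d hd x hx2
    · exact f2 d hd x ⟨hx, hx2⟩
  obtain ⟨h8, x, hx⟩ : Nat.card L = 8 ∧ ∃ x : L, x ^ 2 ≠ 1 := by
    rcases h8 with h | h
    · omega
    · exact h
  by_cases hZ : Subgroup.center L = ⊤
  · have hc : ∀ a b : L, a * b = b * a := fun a b =>
      Subgroup.mem_center_iff.1 (hZ ▸ Subgroup.mem_top b) a
    let M : Subgroup L :=
      { carrier := {y | y ^ 2 = 1}
        one_mem' := by simp
        mul_mem' := fun {a b} ha hb => by
          have : (a * b) ^ 2 = a ^ 2 * b ^ 2 := Commute.mul_pow (hc a b) 2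
          simp only [Set.mem_ofPred_eq] at ha hb ⊢
          rw [this, ha, hb, one_mul]
        inv_mem' := fun {a} ha => by simpa using ha }
    have : M.Normal := ⟨fun a ha g => by rw [hc g a, mul_inv_cancel_right]; exact ha⟩
    obtain ⟨a, ha⟩ := exists_prime_orderOf_dvd_card' (G := L) 2 (by rw [h8]; norm_num)
    refine eq_bot_of_char h8 hE M (fun d _ y hy => ?_) (fun h => ?_) (fun h => hx ?_)
    · change d y ^ 2 = 1
      rw [← map_pow, show y ^ 2 = 1 from hy, map_one]
    · have : a ∈ M := by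
        change a ^ 2 = 1
        rw [← ha, pow_orderOf_eq_one]
      rw [h, Subgroup.mem_bot] at this
      simp [this] at ha
    · have : x ∈ M := h ▸ Subgroup.mem_top x
      exact this
  · have hp : IsPGroup 2 L := IsPGroup.of_card (n := 3) (by rw [h8]; norm_num)
    have : Nontrivial L := Finite.one_lt_card_iff_nontrivial.1 (by omega)
    have h1 := hp.center_nontrivial
    refine eq_bot_of_char h8 hE (Subgroup.center L) (fun d _ y hy => ?_)
      ((Subgroup.nontrivial_iff_ne_bot _).1 h1) hZ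
    exact Subgroup.characteristic_iff_map_le.1 inferInstance d ⟨y, hy, rfl⟩

/-- normal sections of order `< 8`, or of order `8` and not of exponent `2`. -/
theorem tr_of_relIndex_le_eight (hD : Perf D) {X Y : Subgroup K} (hX : Inv D X) (hY : Inv D Y)
    (hn : Nm X Y) (h0 : Y.relIndex X ≠ 0)
    (h8 : Y.relIndex X < 8 ∨ (Y.relIndex X = 8 ∧ ∃ x ∈ X, x ^ 2 ∉ Y)) : Tr D X Y := by
  have := normal_sub hn
  have hfin : Finite (X ⧸ Y.subgroupOf X) := Nat.finite_of_card_ne_zero h0
  have h := tr_of_induced hD hX (QuotientGroup.mk' (Y.subgroupOf X))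
    (QuotientGroup.mk'_surjective _) (by rw [ker_mk_map]; exact hY.inf hX) fun E hE _ => by
      refine eq_bot_of_card_le_eight ?_ hE
      rcases h8 with h | ⟨h, x, hx, hx2⟩
      · exact Or.inl h
      · refine Or.inr ⟨h, ((⟨x, hx⟩ : X) : X ⧸ Y.subgroupOf X), fun h1 => hx2 ?_⟩
        rw [← QuotientGroup.mk_pow, QuotientGroup.eq_one_iff] at h1
        exact h1
  rw [ker_mk_map] at h
  exact h.mono le_rfl inf_le_left

/-- cyclic sections. -/
theorem tr_of_cyclic (hD : Perf D) {X Y : Subgroup K} (hX : Inv D X) (hY : Inv D Y) (hYX : Y ≤ X)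
    (hn : Nm X Y) {x : K} (hx : X ≤ Subgroup.zpowers x ⊔ Y) (hxX : x ∈ X) : Tr D X Y := by
  have := normal_sub hn
  have hc : IsCyclic (X ⧸ Y.subgroupOf X) := by
    refine ⟨((⟨x, hxX⟩ : X) : X ⧸ Y.subgroupOf X), fun c => ?_⟩
    induction c using QuotientGroup.induction_on with
    | H g =>
      let Z : Subgroup K := ((Subgroup.zpowers ((⟨x, hxX⟩ : X) : X ⧸ Y.subgroupOf X)).comap
        (QuotientGroup.mk' (Y.subgroupOf X))).map X.subtype
      have h1 : Subgroup.zpowers x ⊔ Y ≤ Z := by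
        refine sup_le (Subgroup.zpowers_le.2 ⟨⟨x, hxX⟩, Subgroup.mem_zpowers _, rfl⟩) fun y hy => ?_
        refine ⟨⟨y, hYX hy⟩, ?_, rfl⟩
        have : QuotientGroup.mk' (Y.subgroupOf X) ⟨y, hYX hy⟩ = 1 :=
          (QuotientGroup.eq_one_iff _).2 hy
        rw [SetLike.mem_coe, Subgroup.mem_comap, this]
        exact Subgroup.one_mem _
      obtain ⟨g', hg', e⟩ := h1 (hx g.2)
      have e' : g' = g := Subtype.ext e
      rw [e'] at hg'
      exact hg'
  have h := tr_of_solvable_aut hD hX (QuotientGroup.mk' (Y.subgroupOf X))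
    (QuotientGroup.mk'_surjective _) (by rw [ker_mk_map]; exact hY.inf hX)
    (solvable_aut_of_cyclic _)
  rw [ker_mk_map] at h
  exact h.mono le_rfl inf_le_left

theorem eq_one_of_frattini {L : Type v} [Group L] [Finite L] {p q : ℕ} [Fact p.Prime] [Fact q.Prime]
    (hp : IsPGroup p L) (hq : q ≠ p) {e : MulAut L} (he : orderOf e = q)
    (h : ∀ x, x⁻¹ * e x ∈ frattini L) : e = 1 := by
  have hA : IsPGroup q (Subgroup.zpowers e) :=
    IsPGroup.of_card (n := 1) (by rw [Nat.card_zpowers, he, pow_one])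
  have hf : Tr (Subgroup.zpowers e) ⊤ (frattini L) := by
    intro d hd x _
    let Z : Subgroup (MulAut L) :=
      { carrier := {d | ∀ x, x⁻¹ * d x ∈ frattini L}
        one_mem' := fun x => by simp
        mul_mem' := fun {a b} ha hb x => by
          have := (frattini L).mul_mem (hb x) (ha (b x))
          simpa [mul_assoc] using this
        inv_mem' := fun {a} ha x => by
          have := (frattini L).inv_mem (ha (a⁻¹ x))
          simpa using this }
    exact (Subgroup.zpowers_le (G := MulAut L) (H := Z)).2 h hd x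
  let C : Subgroup L := fixc (Subgroup.zpowers e) ⊥
  have hC : C ⊔ frattini L = ⊤ := by
    rw [eq_top_iff]
    intro x _
    let s : Set L := {y | x⁻¹ * y ∈ frattini L}
    let _ : MulAction (Subgroup.zpowers e) s :=
      { smul := fun d y => ⟨d.1 y.1, by
          have := (frattini L).mul_mem y.2 (hf d.1 d.2 y.1 (Subgroup.mem_top _))
          simpa [s, mul_assoc] using this⟩
        one_smul := fun y => rfl
        mul_smul := fun d d' y => rfl }
    have hs : Nat.card s = Nat.card (frattini L) := Nat.card_congr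
      { toFun := fun y => ⟨x⁻¹ * y.1, y.2⟩
        invFun := fun y => ⟨x * y.1, by simp [s]⟩
        left_inv := fun y => by simp
        right_inv := fun y => by simp }
    obtain ⟨n, hn⟩ := IsPGroup.iff_card.1 (hp.to_subgroup (frattini L))
    obtain ⟨y, hy⟩ := hA.nonempty_fixed_point_of_prime_not_dvd_card s (by
      rw [hs, hn]
      intro h1
      exact hq ((Nat.prime_dvd_prime_iff_eq Fact.out Fact.out).1
        ((Fact.out : q.Prime).dvd_of_dvd_pow h1)))
    have hyC : y.1 ∈ C := ⟨nm_bot ⊤ (Subgroup.mem_top _), fun d hd => by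
      have : d y.1 = y.1 := congrArg Subtype.val (hy ⟨d, hd⟩)
      rw [this]; simp⟩
    have h1 : x = y.1 * (x⁻¹ * y.1)⁻¹ := by group
    rw [h1]
    exact Subgroup.mul_mem_sup hyC ((frattini L).inv_mem y.2)
  have hC' : C = ⊤ := frattini_nongenerating hC
  ext x
  have h1 : x ∈ C := hC' ▸ Subgroup.mem_top x
  have h2 := h1.2 e (Subgroup.mem_zpowers e)
  rw [Subgroup.mem_bot, inv_mul_eq_one] at h2
  exact h2.symm

/-- Burnside: trivial on the Frattini quotient of a `p`-group. -/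
theorem tr_frattini [Finite K] (hD : Perf D) {p : ℕ} [Fact p.Prime] {X : Subgroup K} (hX : Inv D X)
    (hp : IsPGroup p X) (h : Tr D X ((frattini X).map X.subtype)) : Tr D X ⊥ := by
  have hk : (MonoidHom.id X).ker.map X.subtype = ⊥ := by rw [MonoidHom.ker_id, Subgroup.map_bot]
  rw [← hk]
  refine tr_of_induced hD hX (MonoidHom.id X) Function.surjective_id (hk ▸ inv_bot) fun E hE h1 => ?_
  have hP : IsPGroup p E := by
    rw [IsPGroup.iff_card]
    refine ⟨_, Nat.eq_prime_pow_of_unique_prime_dvd Nat.card_pos.ne' fun {q} hq hd => ?_⟩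
    by_contra hne
    have : Fact q.Prime := ⟨hq⟩
    obtain ⟨e, he⟩ := exists_prime_orderOf_dvd_card' q hd
    have he' : orderOf (e : MulAut X) = q := by rw [Subgroup.orderOf_coe, he]
    obtain ⟨d, hd, hde⟩ := h1 e.1 e.2
    have h2 := eq_one_of_frattini hp hne he' fun x => by
      obtain ⟨y, hy, hy'⟩ := h d hd x.1 x.2
      have h3 : y = x⁻¹ * e.1 x := by
        have := hde x
        simp only [MonoidHom.id_apply] at this
        rw [this]
        exact Subtype.ext hy'
      exact h3 ▸ hy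
    rw [h2, orderOf_one] at he'
    exact hq.one_lt.ne he'
  have := hP.isNilpotent
  exact hE.eq_bot_of_solv

/-- two-generated `2`-groups. -/
theorem tr_two_gen [Finite K] (hD : Perf D) {X : Subgroup K} (hX : Inv D X) (hp : IsPGroup 2 X)
    {a b : K} (hab : Subgroup.closure {a, b} = X) : Tr D X ⊥ := by
  classical
  have ha : a ∈ X := hab ▸ Subgroup.subset_closure (by simp)
  have hb : b ∈ X := hab ▸ Subgroup.subset_closure (by simp)
  obtain ⟨n, hn⟩ := hp.index (frattini X)
  have h1 := (Cfsg.Agent.S0014.result 2 n hp hn).2 {⟨a, ha⟩, ⟨b, hb⟩} (by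
    apply Subgroup.map_injective X.subtype_injective
    rw [MonoidHom.map_closure, ← MonoidHom.range_eq_map, Subgroup.range_subtype]
    simpa [Set.image_pair] using hab)
  have h2 : n ≤ 2 := h1.trans Finset.card_le_two
  have h3 : ((frattini X).map X.subtype).relIndex X = 2 ^ n := by
    rw [Subgroup.relIndex, Subgroup.subgroupOf, Subgroup.comap_map_eq_self_of_injective
      X.subtype_injective, hn]
  refine tr_frattini hD hX hp (tr_of_relIndex_le_five hD hX (hX.char _) ?_ ?_)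
  · rw [h3]; positivity
  · rw [h3]; interval_cases n <;> norm_num

/-- three subgroups: trivial on `A / B` gives trivial on `X / C_X(A / B)`. -/
theorem tr_cm {X A B : Subgroup K} (hX : Inv D X) (hAB : Tr D A B) (hBA : B ≤ A) (hnA : Nm X A)
    (hnB : Nm X B) (hAnB : Nm A B) : Tr D X (cm X A B) := by
  intro d hd x hx
  have hy : x⁻¹ * d x ∈ X := X.mul_mem (X.inv_mem hx) (hX d hd x hx)
  refine ⟨hy, hnB hy, fun a ha => ?_⟩
  have h0 := hAB _ (D.inv_mem hd) a ha
  have ha' : d⁻¹ a ∈ A := by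
    have := A.mul_mem ha (hBA h0)
    simpa using this
  have h1 := hAB d hd _ ((Subgroup.mem_normalizer_iff.mp (hnA hx) _).mp ha')
  have h2 := (Subgroup.mem_normalizer_iff.mp (hnB (X.inv_mem hx)) _).mp h1
  have h3 := B.mul_mem h0 h2
  have h4 : a⁻¹ * (x⁻¹ * d x * a * (x⁻¹ * d x)⁻¹) = a⁻¹ * d⁻¹ a *
      (x⁻¹ * ((x * d⁻¹ a * x⁻¹)⁻¹ * d (x * d⁻¹ a * x⁻¹)) * x⁻¹⁻¹) := by
    simp only [map_mul, map_inv, MulAut.apply_inv_self]
    group
  rw [h4]; exact h3

/-- PROPAGATION: if `D` centralises `A` and `C_K(A)`, it centralises `N_K(A)`. -/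
theorem tr_normalizer (hD : Perf D) {A : Subgroup K} (hA : Tr D A ⊥)
    (hC : Tr D (Subgroup.centralizer (A : Set K)) ⊥) : Tr D (Subgroup.normalizer (A : Set K)) ⊥ := by
  have hAi : Inv D A := hA.inv bot_le le_rfl
  have h1 := tr_cm hAi.normalizer hA bot_le le_rfl (nm_bot _) (nm_bot _)
  have h2 : cm (Subgroup.normalizer (A : Set K)) A ⊥ ≤ Subgroup.centralizer (A : Set K) := by
    intro x hx
    rw [Subgroup.mem_centralizer_iff]
    intro a ha
    have := hx.2.2 a ha
    rw [Subgroup.mem_bot, inv_mul_eq_one, eq_mul_inv_iff_mul_eq] at this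
    exact this
  refine (h1.mono le_rfl h2).trans hD hC (Subgroup.centralizer_le_normalizer _) bot_le inv_bot ?_
    (nm_bot _)
  have key : ∀ x ∈ Subgroup.normalizer (A : Set K), ∀ c ∈ Subgroup.centralizer (A : Set K),
      x * c * x⁻¹ ∈ Subgroup.centralizer (A : Set K) := by
    intro x hx c hc
    rw [Subgroup.mem_centralizer_iff] at hc ⊢
    intro a ha
    have h3 := hc _ ((Subgroup.mem_normalizer_iff.mp (Subgroup.inv_mem _ hx) _).mp ha)
    calc a * (x * c * x⁻¹) = x * (x⁻¹ * a * x⁻¹⁻¹ * c) * x⁻¹ := by group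
      _ = x * (c * (x⁻¹ * a * x⁻¹⁻¹)) * x⁻¹ := by rw [h3]
      _ = x * c * x⁻¹ * a := by group
  intro x hx
  rw [Subgroup.mem_normalizer_iff]
  intro c
  refine ⟨key x hx c, fun hc => ?_⟩
  have := key _ (Subgroup.inv_mem _ hx) _ hc
  simpa [mul_assoc] using this

/-- a section `X / ker f ≅ L` with the Schreier property and trivial centre, and an invariant
subgroup whose image has solvable normaliser. -/
theorem tr_of_outS (hD : Perf D) {X : Subgroup K} (hX : Inv D X) {L : Type v} [Group L]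
    (f : X →* L) (hf : Function.Surjective f) (hk : Inv D (f.ker.map X.subtype)) (hL : OutS L)
    (hZ : Subgroup.center L = ⊥) {W : Subgroup K} (hW : Inv D W)
    (hs : IsSolvable (Subgroup.normalizer (((W.subgroupOf X).map f : Subgroup L) : Set L))) :
    Tr D X (f.ker.map X.subtype) := by
  refine tr_of_induced hD hX f hf hk fun E hE h1 => ?_
  have hi : Inv E ((W.subgroupOf X).map f) := by
    rintro e he _ ⟨x, hx, rfl⟩
    obtain ⟨d, hd, h2⟩ := h1 e he
    rw [h2]
    exact ⟨_, hW d hd x.1 hx, rfl⟩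
  have h2 : E ≤ (Subgroup.normalizer (((W.subgroupOf X).map f : Subgroup L) : Set L)).map
      (MulAut.conj : L →* MulAut L) := by
    intro e he
    obtain ⟨g, rfl⟩ := hL E hE he
    refine ⟨g, ?_, rfl⟩
    rw [SetLike.mem_coe, Subgroup.mem_normalizer_iff]
    intro y
    exact (hi.mem_iff he).symm
  have : Group.IsSolvable (Subgroup.normalizer (((W.subgroupOf X).map f : Subgroup L) : Set L)) := hs
  have h3 : Group.IsSolvable ((Subgroup.normalizer (((W.subgroupOf X).map f : Subgroup L) :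
      Set L)).map (MulAut.conj : L →* MulAut L)) :=
    Group.isSolvable_of_surjective (MonoidHom.subgroupMap_surjective _ _)
  exact hE.eq_bot_of_solvable
    (Group.isSolvable_of_isSolvable_injective (Subgroup.inclusion_injective h2))

/-- from a normal subgroup `M` of `X` to `X`, when `C_X(M / Y) ≤ M`. -/
theorem tr_of_tr_normal (hD : Perf D) {X M Y : Subgroup K} (hX : Inv D X) (hM : Tr D M Y)
    (hYi : Inv D Y) (hYM : Y ≤ M) (hMX : M ≤ X) (hnM : Nm X M) (hnY : Nm X Y) (hc : cm X M Y ≤ M) :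
    Tr D X Y :=
  ((tr_cm hX hM hYM hnM hnY (hMX.trans hnY)).mono le_rfl hc).trans hD hM hMX hYM hYi hnM hnY

end H0.Sch
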