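import Cfsg.Agent.H0.SchA
import Cfsg.Prelude.Def_Transfer
import Cfsg.Agent.H3.SB1

/-! Schreier project, block B: module lemmas (a perfect group commuting with `H` on a section). -/

set_option autoImplicit false
set_option linter.unusedSectionVars false
set_option linter.unusedVariables false

namespace H0.Sch

universe u v

open Subgroup H24 H3.SB H3.XP

variable {K : Type u} [Group K] [Finite K] {D : Subgroup (MulAut K)}

/-- `D` commutes with `H` on the abelian section `A / W`: `D` is trivial on `H / C`, where `C`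
centralises `A / W`. -/
structure Sec (D : Subgroup (MulAut K)) (H C A W : Subgroup K) : Prop where
  perf : Perf D
  invA : Inv D A
  invW : Inv D W
  le : W ≤ A
  nA : Nm H A
  nW : Nm H W
  nAW : Nm A W
  ab : ⁅A, A⁆ ≤ W
  tr : Tr D H C
  nC : Nm C W
  cen : ∀ c ∈ C, ∀ a ∈ A, a⁻¹ * (c * a * c⁻¹) ∈ W

/-- the section `A / W` with the induced actions -/
structure Red (D : Subgroup (MulAut K)) (H A W : Subgroup K) (V : Type u) [CommGroup V] (π : K → V)
    (E : Subgroup (MulAut V)) (ψ : H →* MulAut V) : Prop where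
  perf : Perf E
  mul : ∀ a ∈ A, ∀ b ∈ A, π (a * b) = π a * π b
  one : ∀ a ∈ A, π a = 1 ↔ a ∈ W
  surj : ∀ v, ∃ a ∈ A, π a = v
  ex : ∀ d ∈ D, ∃ e ∈ E, ∀ a ∈ A, e (π a) = π (d a)
  ex' : ∀ e ∈ E, ∃ d ∈ D, ∀ a ∈ A, e (π a) = π (d a)
  act : ∀ x : H, ∀ a ∈ A, ψ x (π a) = π (x * a * (x : K)⁻¹)
  comm : ∀ e ∈ E, ∀ x : H, e * ψ x = ψ x * e
  card : Nat.card V = W.relIndex A

namespace Red

variable {H A W : Subgroup K} {V : Type u} [CommGroup V] {π : K → V} {E : Subgroup (MulAut V)}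
  {ψ : H →* MulAut V} (r : Red D H A W V π E ψ) {a b : K}
include r

theorem π_one : π 1 = 1 := by simpa using r.mul 1 (one_mem _) 1 (one_mem _)

theorem π_inv (ha : a ∈ A) : π a⁻¹ = (π a)⁻¹ :=
  eq_inv_of_mul_eq_one_left (by rw [← r.mul _ (inv_mem ha) a ha, inv_mul_cancel, r.π_one])

theorem π_pow (ha : a ∈ A) (n : ℕ) : π (a ^ n) = π a ^ n := by
  induction n with
  | zero => simp [r.π_one]
  | succ n ih => rw [pow_succ, r.mul _ (pow_mem ha n) a ha, ih, pow_succ]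

theorem eq_iff (ha : a ∈ A) (hb : b ∈ A) : π b = π a ↔ a⁻¹ * b ∈ W := by
  rw [← r.one _ (mul_mem (inv_mem ha) hb), r.mul _ (inv_mem ha) b hb, r.π_inv ha, inv_mul_eq_one, eq_comm]

theorem fin (hA : Inv D A) (e : E = ⊥) : Tr D A W := fun d hd a ha => by
  obtain ⟨k, k1, k2⟩ := r.ex d hd
  rw [← r.eq_iff ha (hA d hd a ha), ← k2 a ha, show k = 1 from mem_bot.1 (e.le k1), MulAut.one_apply]

theorem pg {p : ℕ} (hp : ∀ a ∈ A, ∃ n : ℕ, a ^ p ^ n ∈ W) : IsPGroup p V := fun v => by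
  obtain ⟨a, ha, rfl⟩ := r.surj v
  obtain ⟨n, hn⟩ := hp a ha
  exact ⟨n, by rw [← r.π_pow ha, r.one _ (pow_mem ha _)]; exact hn⟩

end Red

open Classical in
theorem Sec.red {H C A W : Subgroup K} (h : Sec D H C A W) : ∃ (V : Type u) (_ : CommGroup V) (_ : Finite V)
    (π : K → V) (E : Subgroup (MulAut V)) (ψ : H →* MulAut V), Red D H A W V π E ψ := by
  have nW : (W.subgroupOf A).Normal := normal_subgroupOf_of_le_normalizer h.nAW
  let _ : CommGroup (A ⧸ W.subgroupOf A) :=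
    { (inferInstance : Group (A ⧸ W.subgroupOf A)) with
      mul_comm := fun u v => by
        obtain ⟨a, rfl⟩ := QuotientGroup.mk_surjective u
        obtain ⟨b, rfl⟩ := QuotientGroup.mk_surjective v
        rw [← QuotientGroup.mk_mul, ← QuotientGroup.mk_mul, QuotientGroup.eq, mem_subgroupOf]
        have := h.ab (commutator_mem_commutator (inv_mem b.2) (inv_mem a.2))
        simpa [commutatorElement_def, mul_assoc] using this }
  have kr : (QuotientGroup.mk' (W.subgroupOf A)).ker.map A.subtype = W := by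
    rw [QuotientGroup.ker_mk', subgroupOf_map_subtype, inf_eq_left.2 h.le]
  obtain ⟨E, e1, e2, e3⟩ := exists_induced h.perf h.invA (QuotientGroup.mk' (W.subgroupOf A))
    (QuotientGroup.mk'_surjective _) (kr.symm ▸ h.invW)
  let π : K → A ⧸ W.subgroupOf A := fun a => if c : a ∈ A then (⟨a, c⟩ : A) else 1
  have pi : ∀ a (c : a ∈ A), π a = (⟨a, c⟩ : A) := fun a c => dif_pos c
  let cj : H →* MulAut A := (normalizerMonoidHom A).comp (inclusion h.nA)
  have cjW : ∀ x : H, ∀ a : A, a ∈ W.subgroupOf A → cj x a ∈ W.subgroupOf A := fun x a ha =>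
    conj_mem (h.nW x.2) ha
  let ψ : H →* MulAut (A ⧸ W.subgroupOf A) :=
    { toFun := fun x => QuotientGroup.congr _ _ (cj x) (le_antisymm (map_le_iff_le_comap.2 (cjW x))
        fun a ha => ⟨cj x⁻¹ a, cjW _ a ha, by
          change cj x (cj x⁻¹ a) = a
          rw [← MulAut.mul_apply, ← map_mul, mul_inv_cancel, map_one, MulAut.one_apply]⟩)
      map_one' := MulEquiv.ext fun v => by
        obtain ⟨a, rfl⟩ := QuotientGroup.mk_surjective v
        simp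
      map_mul' := fun x y => MulEquiv.ext fun v => by
        obtain ⟨a, rfl⟩ := QuotientGroup.mk_surjective v
        simp }
  have act : ∀ x : H, ∀ a ∈ A, ψ x (π a) = π (x * a * (x : K)⁻¹) := fun x a ha => by
    rw [pi a ha, pi _ (conj_mem (h.nA x.2) ha)]; rfl
  have ex' : ∀ e ∈ E, ∃ d ∈ D, ∀ a ∈ A, e (π a) = π (d a) := fun e he => by
    obtain ⟨d, hd, k⟩ := e3 e he
    exact ⟨d, hd, fun a ha => by rw [pi a ha, pi _ (h.invA d hd a ha)]; exact k ⟨a, ha⟩⟩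
  have surj : ∀ v, ∃ a ∈ A, π a = v := fun v => by
    obtain ⟨a, rfl⟩ := QuotientGroup.mk_surjective v
    exact ⟨a, a.2, pi a a.2⟩
  refine ⟨_, inferInstance, inferInstance, π, E, ψ, e1, fun a ha b hb => ?_, fun a ha => ?_, surj,
    fun d hd => ?_, ex', act, fun e he x => MulEquiv.ext fun v => ?_, rfl⟩
  · rw [pi a ha, pi b hb, pi _ (mul_mem ha hb)]; rfl
  · rw [pi a ha, QuotientGroup.eq_one_iff, mem_subgroupOf]
  · obtain ⟨e, he, k⟩ := e2 d hd
    exact ⟨e, he, fun a ha => by rw [pi a ha, pi _ (h.invA d hd a ha)]; exact k ⟨a, ha⟩⟩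
  · obtain ⟨d, hd, k⟩ := ex' e he
    obtain ⟨a, ha, rfl⟩ := surj v
    have m1 := conj_mem (h.nA x.2) ha
    have m2 := h.invA d hd a ha
    rw [MulAut.mul_apply, MulAut.mul_apply, act x a ha, k _ m1, k a ha, act x _ m2, pi _ (h.invA d hd _ m1),
      pi _ (conj_mem (h.nA x.2) m2), eq_comm, QuotientGroup.eq, mem_subgroupOf]
    have := conj_mem (h.nW x.2) (h.cen _ (h.tr d hd x x.2) _ m2)
    convert this using 1
    simp only [coe_mul, coe_inv, map_mul, map_inv]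
    group

/-- Lemma B: fixed points of a `p`-subgroup `T ≤ H` on the abelian `p`-section `A / W`. -/
theorem Sec.of_fix {H C A W : Subgroup K} (h : Sec D H C A W) {p : ℕ} [Fact p.Prime]
    (hp : ∀ a ∈ A, ∃ n : ℕ, a ^ p ^ n ∈ W) {T : Subgroup K} (hT : T ≤ H) (hTp : IsPGroup p T)
    (hfix : ∀ d ∈ D, ∀ a ∈ A, (∀ t ∈ T, a⁻¹ * (t * a * t⁻¹) ∈ W) → a⁻¹ * d a ∈ W) : Tr D A W := by
  obtain ⟨V, _, _, π, E, ψ, r⟩ := h.red
  refine r.fin h.invA (ab_fix r.perf (r.pg hp) (hTp.comap_subtype.map ψ (H := T.subgroupOf H)) ?_ fun e he v hv => ?_)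
  · rintro _ ⟨t, -, rfl⟩ e he
    exact (r.comm e he t).symm
  obtain ⟨a, ha, rfl⟩ := r.surj v
  obtain ⟨d, hd, k⟩ := r.ex' e he
  rw [k a ha, r.eq_iff ha (h.invA d hd a ha)]
  refine hfix d hd a ha fun t ht => ?_
  rw [← r.eq_iff ha (conj_mem (h.nA (hT ht)) ha), ← r.act ⟨t, hT ht⟩ a ha]
  exact hv _ ⟨⟨t, hT ht⟩, ht, rfl⟩

/-- Lemma B, counting form: at most five `T`-fixed cosets. -/
theorem Sec.of_fix_le_five {H C A W : Subgroup K} (h : Sec D H C A W) {p : ℕ} [Fact p.Prime]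
    (hp : ∀ a ∈ A, ∃ n : ℕ, a ^ p ^ n ∈ W) {T : Subgroup K} (hT : T ≤ H) (hTp : IsPGroup p T)
    (hfix : W.relIndex (cm A T W) ≤ 5) : Tr D A W := by
  have k : ∀ a ∈ A, a ∈ cm A T W ↔ ∀ t ∈ T, a⁻¹ * (t * a * t⁻¹) ∈ W := fun a ha => by
    refine ⟨fun c t ht => ?_, fun c => ⟨ha, h.nAW ha, fun t ht => ?_⟩⟩
    · convert conj_mem' (h.nAW ha) (c.2.2 t⁻¹ (inv_mem ht)) using 1; group
    · convert conj_mem (h.nAW ha) (c t⁻¹ (inv_mem ht)) using 1; group
  obtain ⟨V, _, _, π, E, ψ, r⟩ := h.red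
  have i : Inv D (cm A T W) := fun d hd a ha => by
    obtain ⟨e, he, e1⟩ := r.ex d hd
    have m := h.invA d hd a ha.1
    refine (k _ m).2 fun t ht => ?_
    have := (k a ha.1).1 ha t ht
    rw [← r.eq_iff ha.1 (conj_mem (h.nA (hT ht)) ha.1), ← r.act ⟨t, hT ht⟩ a ha.1] at this
    rw [← r.eq_iff m (conj_mem (h.nA (hT ht)) m), ← r.act ⟨t, hT ht⟩ _ m, ← e1 a ha.1, ← MulAut.mul_apply,
      ← r.comm e he, MulAut.mul_apply, this]
  exact h.of_fix hp hT hTp fun d hd a ha c =>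
    tr_of_relIndex_le_five h.perf i h.invW (index_ne_zero_of_finite (H := W.subgroupOf _)) hfix d hd a ((k a ha).2 c)

/-- Lemma I: an irreducible `2`-section (uses the odd order theorem S0205). -/
theorem Sec.of_irred {H C A W : Subgroup K} (h : Sec D H C A W)
    (hp : ∀ a ∈ A, ∃ n : ℕ, a ^ 2 ^ n ∈ W)
    (hirr : ∀ Y : Subgroup K, W ≤ Y → Y ≤ A → Nm H Y → Y = W ∨ Y = A) : Tr D A W := by
  obtain ⟨V, _, _, π, E, ψ, r⟩ := h.red
  refine r.fin h.invA (ab_inv r.perf fun e he e2 => by_contra fun n => ?_)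
  let Y : Subgroup K :=
    { carrier := {a | a ∈ A ∧ e (π a) = π a}
      one_mem' := ⟨one_mem _, by rw [r.π_one, map_one]⟩
      mul_mem' := fun {a b} ha hb => ⟨mul_mem ha.1 hb.1, by rw [r.mul a ha.1 b hb.1, map_mul, ha.2, hb.2]⟩
      inv_mem' := fun {a} ha => ⟨inv_mem ha.1, by rw [r.π_inv ha.1, map_inv, ha.2]⟩ }
  rcases hirr Y (fun a ha => ⟨h.le ha, by rw [(r.one a (h.le ha)).2 ha, map_one]⟩) (fun a ha => ha.1)
    (fun x hx => mem_N_of_finite fun a ha => ⟨conj_mem (h.nA hx) ha.1, by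
      rw [← r.act ⟨x, hx⟩ a ha.1, ← MulAut.mul_apply, r.comm e he, MulAut.mul_apply, ha.2]⟩) with c | c
  · obtain ⟨v, -, v2, v3⟩ := fixpt1 Nat.prime_two e2 (Y := ⊤) (fun _ _ => mem_top _)
      (((r.pg hp).to_subgroup ⊤).card_eq_or_dvd.resolve_left fun c => n (MulEquiv.ext fun v => by
        rw [mem_bot.1 ((eq_bot_of_card_eq _ c).le (mem_top v)), map_one, map_one]))
    obtain ⟨a, ha, rfl⟩ := r.surj v
    exact v2 ((r.one a ha).2 (c.le ⟨ha, v3⟩))
  · refine n (MulEquiv.ext fun v => ?_)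
    obtain ⟨a, ha, rfl⟩ := r.surj v
    exact (c.ge ha).2

/-- Lemma X: an element `x ∈ H` of odd prime order `r` acting non-trivially on `A / W` of order
`2 ^ n`, `n ≤ k + 2`, `k ≥ 3` the order of `2` modulo `r`. -/
theorem Sec.of_prime {H C A W : Subgroup K} (h : Sec D H C A W) {n r : ℕ} (hn : W.relIndex A = 2 ^ n)
    (hr : r.Prime) {x : K} (hx : x ∈ H) (hxr : orderOf x = r)
    (hnt : ∃ a ∈ A, a⁻¹ * (x * a * x⁻¹) ∉ W) (hk : 3 ≤ orderOf (2 : ZMod r))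
    (hnk : n ≤ orderOf (2 : ZMod r) + 2) : Tr D A W := by
  obtain ⟨V, _, _, π, E, ψ, r⟩ := h.red
  refine r.fin h.invA (ab_prime (x := ψ ⟨x, hx⟩) (r.card.trans hn) hr ?_ hk r.perf (fun e he => r.comm e he _)
    (fun c => ?_) hnk)
  · rw [← map_pow, ← ψ.map_one]
    exact congrArg ψ (Subtype.ext (hxr ▸ pow_orderOf_eq_one x))
  · obtain ⟨a, ha, n⟩ := hnt
    rw [← r.eq_iff ha (conj_mem (h.nA hx) ha), ← r.act ⟨x, hx⟩ a ha, c] at n
    exact n rfl

/-- Lemma X': the same for `Q / Z(Q)`, `Q` extraspecial of order `2 ^ (n + 1)`, `k` odd,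
`n ≤ 2 k + 2`. -/
theorem tr_xs_of_prime (hD : Perf D) {H Q : Subgroup K} (hQ : Inv D Q) (hQH : Q ≤ H) (hn : Nm H Q)
    (hE : Cfsg.IsExtraspecial 2 Q) (htr : Tr D H Q) {n r : ℕ} (hcard : Nat.card Q = 2 ^ (n + 1))
    (hr : r.Prime) {x : K} (hx : x ∈ H) (hxr : orderOf x = r)
    (hnt : x ∉ Subgroup.centralizer (Q : Set K)) (hk : 3 ≤ orderOf (2 : ZMod r))
    (hnk : n ≤ orderOf (2 : ZMod r) + 2 ∨
      (Odd (orderOf (2 : ZMod r)) ∧ n ≤ 2 * orderOf (2 : ZMod r) + 2)) : Tr D H ⊥ := by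
  classical
  obtain ⟨z, X, -, hz⟩ := H3.IsExtraspecial.exists_xs hE
  have z1 := X.z_ne_one
  have z2 : z * z = 1 := by rw [← pow_two]; exact X.z_pow
  have iZ : Inv D (zpowers z) := hz ▸ hQ.inf hQ.centralizer
  have le : zpowers z ≤ Q := zpowers_le.2 X.mem
  have nZ : Nm H (zpowers z) := hz ▸ norm_inf hn (norm_C hn)
  have cZ : Nat.card (zpowers z) = 2 := card_zp z2 z1
  have mz : ∀ {c}, c ∈ zpowers z → c = 1 ∨ c = z := fun hc => H15.XP.mem_zp X.ord hc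
  have k0 : ∀ a ∈ Q, ∀ b ∈ Q, a * b * a⁻¹ * b⁻¹ ∈ zpowers z := X.comm
  have s : Sec D H Q Q (zpowers z) := ⟨hD, hQ, iZ, le, hn, nZ, hQH.trans nZ, commutator_le.2 X.comm, htr,
    hQH.trans nZ, fun c hc a ha => by
      convert X.comm a⁻¹ (inv_mem ha) c hc using 1; rw [commutatorElement_def]; group⟩
  have tZ : Tr D (zpowers z) ⊥ := tr_bot_iff.2 (fix_elt hD (zpowers z : Set K) (Set.toFinite _)
    (by change Nat.card (zpowers z) ≤ 4; omega) iZ)
  have ri : (zpowers z).relIndex Q = 2 ^ n := by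
    have := card_mul_relIndex le
    rw [cZ, hcard, pow_succ] at this
    omega
  have r2 : r ≠ 2 := by
    rintro rfl
    rw [show (2 : ZMod 2) = 0 from rfl, orderOf_zero] at hk
    omega
  have nt : ∃ a ∈ Q, a⁻¹ * (x * a * x⁻¹) ∉ zpowers z := by
    by_contra c
    push Not at c
    refine hnt (mem_C.2 fun a ha => (mz (c a ha)).elim (fun e => ?_) fun e => ?_)
    · rw [inv_mul_eq_one, eq_mul_inv_iff_mul_eq] at e; exact e
    · exfalso
      have e1 : x * z * x⁻¹ = z := (mz (conj_mem (nZ hx) (mem_zpowers z))).resolve_left (cjne x z1)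
      rw [inv_mul_eq_iff_eq_mul] at e
      have e2 : x ^ 2 ∈ C{a} := mem_C1_iff_conj.2 (by
        rw [show x ^ 2 * a * (x ^ 2)⁻¹ = x * (x * a * x⁻¹) * x⁻¹ by rw [pow_two]; group, e, cjm, e, e1, mmr z2])
      obtain ⟨m, hm⟩ := hr.odd_of_ne_two r2
      have e3 := pow_mem e2 (m + 1)
      rw [← pow_mul, show 2 * (m + 1) = r + 1 by omega, pow_succ, ← hxr, pow_orderOf_eq_one, one_mul] at e3
      rw [cj1 e3, left_eq_mul] at e
      exact z1 e
  have tQ : Tr D Q (zpowers z) := by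
    rcases hnk with c | ⟨c1, c2⟩
    · exact s.of_prime ri hr hx hxr nt hk c
    obtain ⟨V, _, _, π, E, ψ, R⟩ := s.red
    choose σ σ1 σ2 using R.surj
    let β : K → K → Multiplicative (ZMod 2) := fun a b => if a * b = b * a then 1 else Multiplicative.ofAdd 1
    have b1 : ∀ a b, β a b = β b a := fun a b => if_congr eq_comm rfl rfl
    have b2 : ∀ a ∈ Q, ∀ b ∈ Q, ∀ c ∈ Q, β a (b * c) = β a b * β a c := fun a ha b hb c hc => by
      have k : ∀ b ∈ Q, (a * b * a⁻¹ = b ∧ β a b = 1) ∨ (a * b * a⁻¹ = z * b ∧ β a b = Multiplicative.ofAdd 1) :=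
        fun b hb => (mz (k0 a ha b hb)).imp (fun e => ⟨mul_inv_eq_one.1 e, if_pos (by
          rw [mul_inv_eq_one, mul_inv_eq_iff_eq_mul] at e; exact e)⟩) fun e => ⟨mul_inv_eq_iff_eq_mul.1 e,
            if_neg fun e' => z1 (by rw [← e, e']; group)⟩
      have zb := (X.central b hb).eq
      rcases k b hb with ⟨e1, f1⟩ | ⟨e1, f1⟩ <;> rcases k c hc with ⟨e2, f2⟩ | ⟨e2, f2⟩ <;>
        rcases k _ (mul_mem hb hc) with ⟨e3, f3⟩ | ⟨e3, f3⟩ <;> rw [f1, f2, f3] <;>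
        first
        | rfl
        | (exfalso; rw [cjm, e1, e2] at e3; apply z1; simpa [mul_assoc] using e3)
    have b3 : ∀ a ∈ Q, ∀ b ∈ Q, ∀ c ∈ Q, π c = π b → β a c = β a b := fun a ha b hb c hc e => by
      rw [R.eq_iff hb hc] at e
      rw [← mul_inv_cancel_left b c, b2 a ha b hb _ (le e),
        show β a (b⁻¹ * c) = 1 from if_pos (X.commute_of_mem e ha).eq.symm, mul_one]
    have b4 : ∀ a ∈ Q, ∀ b ∈ Q, β (σ (π a)) (σ (π b)) = β a b := fun a ha b hb => by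
      rw [b3 _ (σ1 _) b hb _ (σ1 _) (σ2 _), b1, b3 b hb a ha _ (σ1 _) (σ2 _), b1]
    have b5 : ∀ (φ : MulAut K) (e : MulAut V), (∀ a ∈ Q, φ a ∈ Q) → (∀ a ∈ Q, e (π a) = π (φ a)) → ∀ u v,
        β (σ (e u)) (σ (e v)) = β (σ u) (σ v) := fun φ e h1 h2 u v => by
      conv_lhs => rw [← σ2 u, ← σ2 v, h2 _ (σ1 u), h2 _ (σ1 v), b4 _ (h1 _ (σ1 u)) _ (h1 _ (σ1 v))]
      exact if_congr (by rw [← map_mul, ← map_mul, φ.injective.eq_iff]) rfl rfl
    refine R.fin hQ (ab_xs (x := ψ ⟨x, hx⟩) (R.card.trans ri) hr ?_ hk R.perf (fun e he => R.comm e he _)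
      (fun c => ?_) c1 c2 (fun u => MonoidHom.mk' (fun v => β (σ u) (σ v)) fun v w => ?_) (fun u v => b1 _ _)
      (fun v => if_pos rfl) (fun u hu => ?_) (b5 (MulAut.conj x) _ (fun a => conj_mem (hn hx)) (R.act ⟨x, hx⟩))
      fun e he => ?_)
    · rw [← map_pow, ← ψ.map_one]
      exact congrArg ψ (Subtype.ext (hxr ▸ pow_orderOf_eq_one x))
    · obtain ⟨a, ha, n⟩ := nt
      rw [← R.eq_iff ha (conj_mem (hn hx) ha), ← R.act ⟨x, hx⟩ a ha, c] at n
      exact n rfl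
    · rw [← b2 _ (σ1 u) _ (σ1 v) _ (σ1 w)]
      exact b3 _ (σ1 u) _ (mul_mem (σ1 v) (σ1 w)) _ (σ1 _) (by rw [R.mul _ (σ1 v) _ (σ1 w), σ2, σ2, σ2])
    · rw [← σ2 u, R.one _ (σ1 u)]
      refine X.center_le _ (σ1 u) fun y hy => by_contra fun c => ?_
      have := (b3 _ (σ1 u) y hy _ (σ1 _) (σ2 _)).symm.trans (hu (π y))
      rw [show β (σ u) y = Multiplicative.ofAdd 1 from if_neg c] at this
      exact absurd this (by decide)
    · obtain ⟨d, hd, k⟩ := R.ex' e he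
      exact b5 d e (hQ d hd) k
  exact htr.trans hD (tQ.trans hD tZ le bot_le inv_bot (hQH.trans nZ) le_normalizer_of_normal) hQH bot_le inv_bot hn
    le_normalizer_of_normal

/-- torus lemma: `A / W` is the additive group of a finite field on which `H` acts by scalars that
span the field additively. -/
theorem tr_of_field (hD : Perf D) {H A W : Subgroup K} (hH : Inv D H) (hA : Inv D A) (hW : Inv D W)
    (hWA : W ≤ A) (hnA : Nm H A) {F : Type v} [Field F] [Finite F] (f : A →* Multiplicative F)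
    (hf : Function.Surjective f) (hk : f.ker = W.subgroupOf A) (χ : K → F)
    (hχ : ∀ h ∈ H, ∀ a b : A, (b : K) = h * a * h⁻¹ →
      Multiplicative.toAdd (f b) = χ h * Multiplicative.toAdd (f a))
    (hspan : AddSubgroup.closure (χ '' (H : Set K)) = ⊤) : Tr D A W := by
  have kr : f.ker.map A.subtype = W := by rw [hk, subgroupOf_map_subtype, inf_eq_left.2 hWA]
  obtain ⟨E, e1, e2, e3⟩ := exists_induced hD hA f hf (kr.symm ▸ hW)
  have : E = ⊥ := ab_field e1 fun e he c => by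
    obtain ⟨d, hd, k⟩ := e3 e he
    have hc : c ∈ AddSubgroup.closure (χ '' (H : Set K)) := hspan.ge trivial
    induction hc using AddSubgroup.closure_induction with
    | mem c hc =>
      obtain ⟨h, hh, rfl⟩ := hc
      refine ⟨χ (d h), fun v => ?_⟩
      obtain ⟨a, e⟩ := hf (Multiplicative.ofAdd v)
      have e' : v = (f a).toAdd := by rw [e]; rfl
      rw [← e, e', ← hχ h hh a ⟨_, conj_mem (hnA hh) a.2⟩ rfl, ofAdd_toAdd, k, k]
      exact hχ _ (hH d hd h hh) _ _ (by simp)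
    | zero => exact ⟨0, fun v => by simp⟩
    | add c c' _ _ h1 h2 =>
      obtain ⟨s, h1⟩ := h1
      obtain ⟨t, h2⟩ := h2
      exact ⟨s + t, fun v => by rw [add_mul, ofAdd_add, map_mul, toAdd_mul, h1, h2, add_mul]⟩
    | neg c _ h1 =>
      obtain ⟨s, h1⟩ := h1
      exact ⟨-s, fun v => by rw [neg_mul, ofAdd_neg, map_inv, toAdd_inv, h1, neg_mul]⟩
  intro d hd a ha
  obtain ⟨e, he, k⟩ := e2 d hd
  have := k ⟨a, ha⟩
  rw [show e = 1 from mem_bot.1 (‹E = ⊥›.le he), MulAut.one_apply, ← inv_mul_eq_one, ← map_inv, ← map_mul, ← MonoidHom.mem_ker,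
    hk] at this
  exact this

/-- amalgam lemma: `K` generated by subgroups `L i ≥ U` with normal `p`-subgroups `Q i ≤ U`. -/
theorem eq_bot_of_amalgam (hD : Perf D) {p : ℕ} [Fact p.Prime] {ι : Type*} (L Q : ι → Subgroup K)
    {U : Subgroup K} (hU : IsPGroup p U) (hUi : Inv D U) (hUL : ∀ i, U ≤ L i) (hQU : ∀ i, Q i ≤ U)
    (hn : ∀ i, Nm (L i) (Q i)) (hQi : ∀ i, Inv D (Q i)) (htr : ∀ i, Tr D (L i) (Q i))
    (hgen : ⨆ i, L i = ⊤) (hO : ∀ T : Subgroup K, T.Normal → IsPGroup p T → T = ⊥) : D = ⊥ := by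
  by_contra n
  obtain ⟨d, hd, d1, d2⟩ := ex_prime hD n p
  have dec : ∀ i, ∀ x ∈ L i, ∃ c, d c = c ∧ c⁻¹ * x ∈ Q i ∧ c ∈ L i := fun i x hx => by
    have h1 := card_mod1 d1 (pow_orderOf_eq_one d) {c | x⁻¹ * c ∈ Q i} fun c hc => by
      have := mul_mem (htr i d hd x hx) (hQi i d hd _ hc)
      rwa [map_mul, map_inv, mul_assoc, mul_inv_cancel_left] at this
    obtain ⟨m, hm⟩ := IsPGroup.iff_card.1 (hU.to_le (hQU i))
    rw [show {c | x⁻¹ * c ∈ Q i} = (x * ·) '' (Q i : Set K) from Set.ext fun c =>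
      ⟨fun h => ⟨_, h, mul_inv_cancel_left x c⟩, by rintro ⟨y, hy, rfl⟩; simpa using hy⟩,
      Set.ncard_image_of_injective _ (mul_right_injective x), show (Q i : Set K).ncard = p ^ m from hm] at h1
    obtain ⟨_, ⟨y, hy, rfl⟩, c2⟩ := Set.nonempty_of_ncard_ne_zero fun c => by
      rw [c] at h1
      exact d2 ((Nat.prime_dvd_prime_iff_eq d1 Fact.out).1 (d1.dvd_of_dvd_pow (Nat.modEq_zero_iff_dvd.1 h1)))
    exact ⟨x * y, c2, by simpa using hy, mul_mem hx (hUL i (hQU i hy))⟩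
  have eq : ∀ i, {t | ∃ u ∈ U, t = u⁻¹ * d u} = {t | ∃ u ∈ Q i, t = u⁻¹ * d u} := fun i => Set.ext fun t =>
    ⟨by
      rintro ⟨u, hu, rfl⟩
      obtain ⟨c, c1, c2, -⟩ := dec i u (hUL i hu)
      exact ⟨_, c2, by rw [map_mul, map_inv, c1]; group⟩, fun ⟨u, hu, e⟩ => ⟨u, hQU i hu, e⟩⟩
  have nT : ∀ i, L i ≤ N[closure {t | ∃ u ∈ U, t = u⁻¹ * d u}] := fun i => eq i ▸ fun x hx => by
    obtain ⟨c, c1, c2, c3⟩ := dec i x hx
    rw [← mul_inv_cancel_left c x]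
    refine mul_mem (norm_closure (X := zpowers c ⊓ L i ⊓ (d.toMonoidHom.eqLocus (MonoidHom.id K))) ?_ ⟨⟨mem_zpowers c, c3⟩, c1⟩)
      (norm_closure (X := Q i) ?_ c2)
    · rintro a ha _ ⟨u, hu, rfl⟩
      exact subset_closure ⟨_, conj_mem (hn i ha.1.2) hu, by
        rw [map_mul, map_mul, map_inv, show d a = a from ha.2]; group⟩
    · rintro a ha _ ⟨u, hu, rfl⟩
      have := mul_mem (subset_closure (k := {t | ∃ u ∈ Q i, t = u⁻¹ * d u}) ⟨_, mul_mem hu (inv_mem ha), rfl⟩)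
        (inv_mem (subset_closure ⟨_, inv_mem ha, rfl⟩))
      convert this using 1
      rw [map_mul]; group
  have T0 := hO _ (normalizer_eq_top_iff.1 (eq_top_iff.2 (hgen.ge.trans (iSup_le nT)))) (hU.to_le ((closure_le _).2 (by
    rintro _ ⟨u, hu, rfl⟩; exact mul_mem (inv_mem hu) (hUi d hd u hu))))
  have fx : ⨆ i, L i ≤ d.toMonoidHom.eqLocus (MonoidHom.id K) := iSup_le fun i x hx => by
    obtain ⟨c, c1, c2, -⟩ := dec i x hx
    rw [← mul_inv_cancel_left c x]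
    exact mul_mem c1 (inv_mul_eq_one.1 (mem_bot.1 (T0.le (subset_closure ⟨_, hQU i c2, rfl⟩)))).symm
  exact d1.one_lt.ne' (orderOf_eq_one_iff.2 (MulEquiv.ext fun x => fx (hgen.ge (mem_top x))))

end H0.Sch
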