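import Cfsg.Agent.H0.SchB
import Cfsg.Agent.H2.Frattini
import Cfsg.Agent.H24.Base2
import Cfsg.Agent.S0205
import Cfsg.Agent.S0227
import Cfsg.Agent.S0481

/-! Schreier project, block C: Frattini argument, Glauberman (S0227), climbing, packaged criteria. -/

set_option autoImplicit false

namespace H27.SC

open H0.Sch Subgroup

universe u v

theorem exists_perf {G Q : Type*} [Group G] [Finite G] [Group Q] (π : G →* Q) (N : Subgroup G)
    {P : Subgroup Q} (hP : Perf P) (h : P ≤ N.map π) : ∃ E ≤ N, Perf E ∧ P ≤ E.map π := by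
  obtain ⟨E, -, hE⟩ := Finite.exists_le_minimal (p := fun E : Subgroup G => E ≤ N ∧ P ≤ E.map π)
    (a := N) ⟨le_rfl, h⟩
  have h1 : ⁅E, E⁆ ≤ E := commutator_le.2 fun a ha b hb =>
    mul_mem (mul_mem (mul_mem ha hb) (inv_mem ha)) (inv_mem hb)
  refine ⟨E, hE.prop.1, le_antisymm h1 (hE.le_of_le ⟨h1.trans hE.prop.1, ?_⟩ h1), hE.prop.2⟩
  rw [map_commutator, ← show ⁅P, P⁆ = P from hP]
  exact commutator_mono hE.prop.2 hE.prop.2

variable {K : Type u} [Group K]

instance innNormal : (Inn K).Normal := ⟨by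
  rintro _ ⟨g, rfl⟩ φ
  exact ⟨φ g, by ext x; simp⟩⟩

theorem outS_of_surj [Finite K] (N : Subgroup (MulAut K))
    (hN : ∀ φ : MulAut K, ∃ g : K, (MulAut.conj g)⁻¹ * φ ∈ N)
    (h : ∀ D : Subgroup (MulAut K), Perf D → D ≤ N → D ≤ Inn K) : OutS K := by
  intro D hD
  let π := QuotientGroup.mk' (Inn K)
  have hk : ∀ φ, π φ = 1 ↔ φ ∈ Inn K := fun φ => QuotientGroup.eq_one_iff φ
  obtain ⟨E, h1, h2, h3⟩ := exists_perf π N (hD.map π) (by
    rintro _ ⟨φ, -, rfl⟩
    obtain ⟨g, hg⟩ := hN φ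
    exact ⟨_, hg, by rw [map_mul, map_inv, (hk _).2 ⟨g, rfl⟩]; simp⟩)
  intro d hd
  obtain ⟨e, he, h4⟩ := h3 ⟨d, hd, rfl⟩
  exact (hk d).1 (h4 ▸ (hk e).2 (h E h2 h1 he))

/-- the stabiliser of a subgroup in the automorphism group -/
def stab (R : Subgroup K) : Subgroup (MulAut K) where
  carrier := {φ | ∀ x, φ x ∈ R ↔ x ∈ R}
  one_mem' := fun _ => Iff.rfl
  mul_mem' := fun {a b} ha hb x => (ha (b x)).trans (hb x)
  inv_mem' := fun {a} ha x => by
    have := ha (a⁻¹ x)
    simpa using this.symm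

theorem inv_of_le_stab {D : Subgroup (MulAut K)} {R : Subgroup K} (h : D ≤ stab R) : Inv D R :=
  fun d hd x hx => (h hd x).2 hx

theorem mem_stab_of {R : Subgroup K} {φ ψ : MulAut K}
    (h : R.map φ.toMonoidHom = R.map ψ.toMonoidHom) : ψ⁻¹ * φ ∈ stab R := fun x => by
  have e1 : φ x ∈ R.map φ.toMonoidHom ↔ x ∈ R := mem_map_iff_mem φ.injective
  have e2 : ψ ((ψ⁻¹ * φ) x) ∈ R.map ψ.toMonoidHom ↔ (ψ⁻¹ * φ) x ∈ R := mem_map_iff_mem ψ.injective
  rw [← e1, ← e2, h]; simp

theorem map_eq_of_stab {R : Subgroup K} {φ : MulAut K} (h : φ ∈ stab R) :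
    R.map φ.toMonoidHom = R := by
  ext x
  obtain ⟨x, rfl⟩ := φ.surjective x
  exact (mem_map_iff_mem (f := φ.toMonoidHom) φ.injective).trans (h x).symm

theorem conj_mem_stab {R : Subgroup K} {g : K} (h : g ∈ normalizer (R : Set K)) :
    MulAut.conj g ∈ stab R := fun x => (mem_normalizer_iff.1 h x).symm

theorem stab_norm {R : Subgroup K} {φ : MulAut K} (h : φ ∈ stab R) :
    φ ∈ stab (normalizer (R : Set K)) := by
  have key : ∀ ψ ∈ stab R, ∀ x ∈ normalizer (R : Set K), ψ x ∈ normalizer (R : Set K) :=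
    Inv.normalizer (D := stab R) (inv_of_le_stab le_rfl)
  exact fun x => ⟨fun hx => by simpa using key _ (inv_mem h) _ hx, key φ h x⟩

theorem sylow_conj [Finite K] {p : ℕ} [Fact p.Prime] (R : Sylow p K) (φ : MulAut K) :
    ∃ g : K, (R : Subgroup K).map φ.toMonoidHom = (R : Subgroup K).map (MulAut.conj g).toMonoidHom := by
  obtain ⟨g, hg⟩ := MulAction.exists_smul_eq K R (R.mapSurjective (f := φ.toMonoidHom) φ.surjective)
  exact ⟨g, (congrArg (fun P : Sylow p K => (P : Subgroup K)) hg).symm⟩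

theorem not_solvable [IsSimpleGroup K] (hna : ¬ IsMulCommutative K) : ¬ Group.IsSolvable K :=
  fun h => hna ⟨⟨IsSimpleGroup.comm_iff_isSolvable.2 h⟩⟩

theorem solv_of_p [Finite K] {p : ℕ} [Fact p.Prime] (h : IsPGroup p K) : Group.IsSolvable K :=
  have := h.isNilpotent; inferInstance

theorem center_bot [IsSimpleGroup K] (hna : ¬ IsMulCommutative K) : center K = ⊥ :=
  (IsSimpleGroup.eq_bot_or_eq_top_of_normal (center K) inferInstance).resolve_right fun h =>
    hna ⟨⟨fun a b => mem_center_iff.1 (h ▸ mem_top b) a⟩⟩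

theorem nm_bot (X : Subgroup K) : Nm X ⊥ := by
  intro x _
  rw [normalizer_eq_top]; trivial

theorem nm_of [Finite K] {X Y : Subgroup K} (h : ∀ x ∈ X, ∀ y ∈ Y, x * y * x⁻¹ ∈ Y) : Nm X Y :=
  fun x hx => mem_normalizer_iff.2 fun y =>
    ⟨h x hx y, fun hy => by simpa [mul_assoc] using h x⁻¹ (inv_mem hx) _ hy⟩

theorem modEq_fix [Finite K] {p : ℕ} [Fact p.Prime] {P Y : Subgroup K} (hP : IsPGroup p P)
    (hn : Nm P Y) : Nat.card Y ≡ Nat.card ↥(Y ⊓ centralizer (P : Set K)) [MOD p] := by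
  have h := (hP.comap_subtype (K := normalizer (Y : Set K))).card_modEq_card_fixedPoints Y
  convert h using 1
  refine Nat.card_congr ⟨fun x => ⟨⟨x, x.2.1⟩, fun g => Subtype.ext ?_⟩,
    fun x => ⟨x.1, x.1.2, fun g hg => ?_⟩, fun _ => rfl, fun _ => rfl⟩
  · change (g.1 : K) * x * (g.1 : K)⁻¹ = x
    exact mul_inv_eq_iff_eq_mul.2 (x.2.2 _ g.2)
  · have : g * x.1 * g⁻¹ = x.1 := congrArg Subtype.val (x.2 ⟨⟨g, hn hg⟩, hg⟩)
    exact mul_inv_eq_iff_eq_mul.1 this

theorem map_center {A B : Type*} [Group A] [Group B] (e : A ≃* B) :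
    (center A).map e.toMonoidHom = center B := by
  ext y
  obtain ⟨x, rfl⟩ := e.surjective y
  refine (mem_map_iff_mem (f := e.toMonoidHom) e.injective).trans ?_
  rw [mem_center_iff, mem_center_iff, e.surjective.forall]
  simp only [← map_mul, e.injective.eq_iff]

theorem xs_congr {A B : Type*} [Group A] [Group B] [Finite A] {p : ℕ} [Fact p.Prime] (e : A ≃* B)
    (h : Cfsg.IsExtraspecial p A) : Cfsg.IsExtraspecial p B := by
  obtain ⟨⟨h1, h2, h3⟩, h4⟩ := h
  refine ⟨⟨h1.of_equiv e, ?_, ?_⟩, ?_⟩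
  · rw [← map_center e, ← h2, H2.IsPGroup.map_frattini_eq h1 e.surjective]
  · rw [← map_center e, ← h3, map_commutator_eq, MonoidHom.range_eq_top.2 e.surjective]; rfl
  · rw [← map_center e, card_map_of_injective e.injective, h4]

theorem eq_of_card_two {Z : Subgroup K} (h : Nat.card Z = 2) {a b : K} (ha : a ∈ Z) (hb : b ∈ Z)
    (ha1 : a ≠ 1) (hb1 : b ≠ 1) : a = b := by
  obtain ⟨y, -, hy⟩ := (Nat.card_eq_two_iff' (1 : Z)).1 h
  have e1 := hy ⟨a, ha⟩ fun e => ha1 (congrArg Subtype.val e)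
  have e2 := hy ⟨b, hb⟩ fun e => hb1 (congrArg Subtype.val e)
  exact congrArg Subtype.val (e1.trans e2.symm)

end H27.SC

namespace H0.Sch

open H27.SC Subgroup

universe u v

variable {K : Type u} [Group K] [Finite K]

/-- Frattini argument for an `Aut K`-invariant conjugacy class of subgroups. -/
theorem outS_of_frattini (R : Subgroup K)
    (hR : ∀ φ : MulAut K, ∃ g : K, R.map φ.toMonoidHom = R.map (MulAut.conj g).toMonoidHom)
    (h : ∀ D : Subgroup (MulAut K), Perf D → Inv D R → D ≤ Inn K) : OutS K :=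
  outS_of_surj (stab R) (fun φ => (hR φ).imp fun _ hg => mem_stab_of hg)
    fun D hD hle => h D hD (inv_of_le_stab hle)

theorem outS_of_sylow_p {p : ℕ} [Fact p.Prime] (R : Sylow p K)
    (h : ∀ D : Subgroup (MulAut K), Perf D → Inv D R → D ≤ Inn K) : OutS K :=
  outS_of_frattini R (sylow_conj R) h

/-- Sylow subgroup of prime order: `D` may be assumed to fix the generator. -/
theorem outS_of_prime {r : ℕ} (hr : r.Prime) (h2 : ¬ r ^ 2 ∣ Nat.card K) {x : K} (hx : orderOf x = r)
    (h : ∀ D : Subgroup (MulAut K), Perf D → (∀ d ∈ D, d x = x) → D ≤ Inn K) : OutS K := by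
  have := Fact.mk hr
  have hc : Nat.card (zpowers x) = r := by rw [Nat.card_zpowers, hx]
  have hp : IsPGroup r (zpowers x) := IsPGroup.of_card (n := 1) (by rw [hc, pow_one])
  refine outS_of_sylow_p (hp.toSylow fun hd => h2 ?_) fun D hD hi => h D hD fun d hd => ?_
  · rw [← (zpowers x).card_mul_index, hc, pow_two]; exact mul_dvd_mul_left r hd
  · exact tr_bot_iff.1 (tr_of_cyclic hD hi inv_bot bot_le (nm_bot _) (x := x) le_sup_left
      (mem_zpowers x)) d hd x (mem_zpowers x)

variable [IsSimpleGroup K]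

/-- Glauberman. -/
theorem eq_bot_of_tr_sylow (hna : ¬ IsMulCommutative K) {D : Subgroup (MulAut K)} (hD : Perf D)
    (S : Sylow 2 K) (h : Tr D S ⊥) : D = ⊥ := by
  let C : Subgroup (MulAut K) :=
    { carrier := {φ | ∀ s ∈ S, φ s = s}
      one_mem' := fun _ _ => rfl
      mul_mem' := fun {a b} ha hb s hs => by rw [MulAut.mul_apply, hb s hs, ha s hs]
      inv_mem' := fun {a} ha s hs => by
        have := congrArg (a⁻¹ ·) (ha s hs)
        simpa using this.symm }
  have h1 := (Cfsg.Agent.S0227.result (fun N hN ho => (IsSimpleGroup.eq_bot_or_eq_top_of_normal N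
    hN).resolve_right fun e => not_solvable hna (Cfsg.Agent.S0205.result (by
      rwa [e, card_top] at ho))) S C fun _ => Iff.rfl).2
  have h2 : D ≤ C := fun d hd s hs => tr_bot_iff.1 h d hd s hs
  exact hD.eq_bot_of_solvable (Group.isSolvable_of_isSolvable_injective (inclusion_injective h2))

theorem eq_bot_of_tr_odd_index (hna : ¬ IsMulCommutative K) {D : Subgroup (MulAut K)} (hD : Perf D)
    {H : Subgroup K} (hH : Odd H.index) (h : Tr D H ⊥) : D = ⊥ := by
  obtain ⟨P⟩ : Nonempty (Sylow 2 H) := inferInstance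
  refine eq_bot_of_tr_sylow hna hD ((P.2.map H.subtype).toSylow ?_) (h.mono (map_subtype_le _) le_rfl)
  rw [index_map_subtype]
  exact Nat.prime_two.not_dvd_mul P.not_dvd_index hH.not_two_dvd_nat

/-- CLIMB: `D` centralises a `2`-subgroup `T` and its centraliser. -/
theorem eq_bot_of_climb (hna : ¬ IsMulCommutative K) {D : Subgroup (MulAut K)} (hD : Perf D)
    {T : Subgroup K} (hT : IsPGroup 2 T) (h : Tr D T ⊥)
    (hC : Tr D (Subgroup.centralizer (T : Set K)) ⊥) : D = ⊥ := by
  obtain ⟨U, hTU, hU⟩ := Finite.exists_le_maximal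
    (p := fun U : Subgroup K => IsPGroup 2 U ∧ Tr D U ⊥) (a := T) ⟨hT, h⟩
  obtain ⟨S, hS⟩ := hU.prop.1.exists_le_sylow
  have hN := tr_normalizer hD hU.prop.2 (hC.mono (centralizer_le hTU) le_rfl)
  have h1 : (S : Subgroup K) ⊓ normalizer (U : Set K) ≤ U := hU.le_of_ge
    ⟨S.2.to_inf_left, hN.mono inf_le_right le_rfl⟩ (le_inf hS le_normalizer)
  have := S.2.isNilpotent
  have h2 : U.subgroupOf S = ⊤ :=
    normalizerCondition_iff_only_full_group_self_normalizing.1
      Group.normalizerCondition_of_isNilpotent _ (le_antisymm (fun x hx => h1 ⟨x.2, by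
        rw [← subgroupOf_normalizer_eq hS] at hx; exact hx⟩) le_normalizer)
  exact eq_bot_of_tr_sylow hna hD S (hU.prop.2.mono (subgroupOf_eq_top.1 h2) le_rfl)

theorem outS_of_sylow (hna : ¬ IsMulCommutative K) (S : Sylow 2 K)
    (h : ∀ D : Subgroup (MulAut K), Perf D → Inv D S → Tr D S ⊥) : OutS K :=
  outS_of_sylow_p S fun D hD hi => by rw [eq_bot_of_tr_sylow hna hD S (h D hD hi)]; exact bot_le

/-- the normaliser of a Sylow `2`-subgroup of any finite group is solvable (S0205). -/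
theorem solvable_normalizer_sylow_two {L : Type v} [Group L] [Finite L] (S : Sylow 2 L) :
    IsSolvable (Subgroup.normalizer ((S : Subgroup L) : Set L)) := by
  let T := (S : Subgroup L).subgroupOf (normalizer ((S : Subgroup L) : Set L))
  have h1 : Group.IsSolvable T := solv_of_p (S.2.comap_subtype)
  have h2 : Group.IsSolvable (_ ⧸ T) := Cfsg.Agent.S0205.result (Nat.not_even_iff_odd.1 fun h =>
    S.not_dvd_index (h.two_dvd.trans (relIndex_dvd_index_of_le le_normalizer)))
  exact Group.isSolvable_of_ker_le_range T.subtype (QuotientGroup.mk' T) (by simp)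

/-- Sylow `2`-subgroups of order at most `8`. -/
theorem outS_of_not_sixteen_dvd (hna : ¬ IsMulCommutative K) (h : ¬ 16 ∣ Nat.card K) : OutS K := by
  obtain ⟨S⟩ : Nonempty (Sylow 2 K) := inferInstance
  obtain ⟨n, hn⟩ := S.2.exists_card_eq
  have hn3 : n ≤ 3 := by
    by_contra hc
    exact h (((pow_dvd_pow 2 (show 4 ≤ n by omega)).trans hn.symm.dvd).trans
      (card_subgroup_dvd_card _))
  by_cases h8 : Nat.card S < 8 ∨ (Nat.card S = 8 ∧ ∃ x ∈ (S : Subgroup K), x ^ 2 ∉ (⊥ : Subgroup K))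
  · exact outS_of_sylow hna S fun D hD hi => tr_of_relIndex_le_eight hD hi inv_bot (nm_bot _)
      (by rw [relIndex_bot_left]; exact Nat.card_pos.ne') (by rwa [relIndex_bot_left])
  have c8 : Nat.card (S : Subgroup K) = 8 := by
    have : 2 ^ n ≤ 2 ^ 3 := Nat.pow_le_pow_right (by norm_num) hn3
    have h9 : ¬ Nat.card (S : Subgroup K) < 8 := fun e => h8 (Or.inl e)
    omega
  have sq : ∀ x ∈ (S : Subgroup K), x * x = 1 := fun x hx => by
    by_contra hc
    exact h8 (Or.inr ⟨c8, x, hx, by rwa [mem_bot, pow_two]⟩)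
  have ab : ∀ x ∈ (S : Subgroup K), ∀ y ∈ (S : Subgroup K), x * y = y * x := fun x hx y hy => by
    rw [← inv_eq_of_mul_eq_one_right (sq _ (mul_mem hx hy)), mul_inv_rev,
      inv_eq_of_mul_eq_one_right (sq x hx), inv_eq_of_mul_eq_one_right (sq y hy)]
  set N := normalizer ((S : Subgroup K) : Set K) with hN
  set C := centralizer ((S : Subgroup K) : Set K) with hC
  have hNC : ¬ N ≤ C := fun hle => by
    have hc := MonoidHom.ker_transferSylow_isComplement' S hle
    rcases IsSimpleGroup.eq_bot_or_eq_top_of_normal (MonoidHom.transferSylow S hle).ker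
      inferInstance with e | e <;> rw [e] at hc
    · have := S.2
      rw [isComplement'_bot_left.1 hc] at this
      exact not_solvable hna (solv_of_p (this.of_equiv topEquiv))
    · rw [isComplement'_top_left.1 hc, card_bot] at c8; omega
  obtain ⟨p, hp, hpd⟩ := Nat.exists_prime_and_dvd (mt relIndex_eq_one.1 hNC)
  have := Fact.mk hp
  obtain ⟨P, hP⟩ := H24.Sylow_exists hp N
  have hPp : IsPGroup p P := hP.pi.isPGroup hp
  have hPN : Nm P S := hP.le
  have hPC : ¬ P ≤ C := fun hle => hP.not_dvd hp (hpd.trans (relIndex_dvd_of_le_left N hle))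
  refine outS_of_surj (stab (S : Subgroup K) ⊓ stab P) (fun φ => ?_) fun D hD hle => ?_
  · obtain ⟨g, hg⟩ := sylow_conj S φ
    have h1 := mem_stab_of hg
    have h2 := hP.map ((MulAut.conj g)⁻¹ * φ).toMonoidHom
    rw [map_eq_of_stab (stab_norm h1)] at h2
    obtain ⟨m, hm, h3⟩ := H24.Sylow_trans hp hP h2
    refine ⟨g * m, ?_⟩
    rw [map_mul, mul_inv_rev, mul_assoc]
    exact mem_inf.2 ⟨mul_mem (inv_mem (conj_mem_stab hm)) h1, mem_stab_of h3⟩
  have iS : Inv D S := inv_of_le_stab (hle.trans inf_le_left)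
  have iP : Inv D P := inv_of_le_stab (hle.trans inf_le_right)
  rw [eq_bot_of_tr_sylow hna hD S ?_]
  · exact bot_le
  set Z := (S : Subgroup K) ⊓ centralizer (P : Set K) with hZ
  by_cases z0 : Z = ⊥
  · have h7 : p = 7 := by
      have h1 := modEq_fix hPp hPN
      rw [← hZ, z0, card_bot, c8] at h1
      exact (Nat.prime_dvd_prime_iff_eq hp (by norm_num)).1 ((Nat.modEq_iff_dvd' (by norm_num)).1 h1.symm)
    subst h7
    refine Sec.of_irred (H := P) (C := P ⊓ C) ⟨hD, iS, inv_bot, bot_le, hPN, nm_bot _, nm_bot _,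
      commutator_le.2 fun a ha b hb => commutatorElement_eq_one_iff_mul_comm.2 (ab a ha b hb), ?_,
      nm_bot _, fun c hc a ha => ?_⟩ (fun a ha => ⟨1, by rw [pow_one, pow_two, sq a ha]; rfl⟩)
      fun Y _ hY hPY => ?_
    · let f : P →* Equiv.Perm (S : Subgroup K) :=
        (MulAut.toPerm _).comp ((S : Subgroup K).normalizerMonoidHom.comp (inclusion hPN))
      have hk : f.ker = (P ⊓ C).subgroupOf P := by
        ext x
        have : f x = 1 ↔ inclusion hPN x ∈ (S : Subgroup K).normalizerMonoidHom.ker :=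
          ⟨fun e => MulEquiv.ext fun y => DFunLike.congr_fun e y,
            fun e => Equiv.ext fun y => DFunLike.congr_fun (MonoidHom.mem_ker.1 e) y⟩
        rw [MonoidHom.mem_ker, this, normalizerMonoidHom_ker]
        exact ⟨fun e => ⟨x.2, e⟩, fun e => e.2⟩
      have h1 : (P ⊓ C).relIndex P ∣ 40320 := by
        rw [relIndex, ← hk, index_ker]
        have := card_subgroup_dvd_card f.range
        rwa [Nat.card_perm, c8] at this
      obtain ⟨k, h2⟩ := hPp.index ((P ⊓ C).subgroupOf P)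
      change (P ⊓ C).relIndex P = _ at h2
      have h3 : k ≤ 1 := by
        by_contra hc
        have := (pow_dvd_pow 7 (show 2 ≤ k by omega)).trans (h2 ▸ h1)
        norm_num at this
      refine tr_of_relIndex_le_eight hD iP (iP.inf iS.centralizer) (nm_of fun x hx y hy =>
        mem_inf.2 ⟨mul_mem (mul_mem hx (mem_inf.1 hy).1) (inv_mem hx), fun s hs => ?_⟩) (by rw [h2]; positivity) (Or.inl ?_)
      · have := hy.2 _ ((mem_normalizer_iff.1 (inv_mem (hPN hx)) s).1 hs)
        calc s * (x * y * x⁻¹) = x * (x⁻¹ * s * x⁻¹⁻¹ * y) * x⁻¹ := by group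
          _ = _ := by rw [this]; group
      · rw [h2]; interval_cases k <;> norm_num
    · rw [← hc.2 a ha]; simp
    · have h1 := modEq_fix hPp hPY
      have h2 : Y ⊓ centralizer (P : Set K) = ⊥ := le_bot_iff.1 (z0 ▸ inf_le_inf_right _ hY)
      rw [h2, card_bot] at h1
      have h3 := card_le_of_le hY
      have h4 := Nat.card_pos (α := Y)
      unfold Nat.ModEq at h1
      by_cases h5 : Nat.card Y = 1
      · exact Or.inl (card_eq_one.1 h5)
      · exact Or.inr (eq_of_le_of_card_ge hY (by omega))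
  · have iZ : Inv D Z := iS.inf iP.centralizer
    have h1 : Nat.card Z * Z.relIndex S = 8 := by
      rw [← c8, ← relIndex_bot_left, ← relIndex_bot_left, relIndex_mul_relIndex _ _ _ bot_le inf_le_left]
    have h2 : Nat.card Z ≠ 1 := mt card_eq_one.1 z0
    have h3 : Z.relIndex S ≠ 1 := fun e => hPC fun x hx y hy =>
      ((relIndex_eq_one.1 e hy).2 x hx).symm
    have h4 : Nat.card Z ≤ 8 := Nat.le_of_dvd (by norm_num) ⟨_, h1.symm⟩
    have h5 : Z.relIndex S ≠ 0 ∧ Z.relIndex S ≤ 5 ∧ Nat.card Z ≠ 0 ∧ Nat.card Z ≤ 5 := by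
      generalize Nat.card Z = a at *
      interval_cases a <;> omega
    exact (tr_of_relIndex_le_five hD iS iZ h5.1 h5.2.1).trans hD
      (tr_of_relIndex_le_five hD iZ inv_bot (by rw [relIndex_bot_left]; exact h5.2.2.1)
        (by rw [relIndex_bot_left]; exact h5.2.2.2)) inf_le_left bot_le inv_bot
      (nm_of fun x hx y hy => by rwa [ab x hx y hy.1, mul_inv_cancel_right]) (nm_bot _)

/-- large extraspecial criterion, general top. -/
theorem outS_xs (hna : ¬ IsMulCommutative K) {z : K} (hz : orderOf z = 2) {Q : Subgroup K}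
    (hQ : Q ≤ Subgroup.centralizer ({z} : Set K)) (hn : Nm (Subgroup.centralizer ({z} : Set K)) Q)
    (hE : Cfsg.IsExtraspecial 2 Q) (hC : Subgroup.centralizer (Q : Set K) ≤ Q)
    (hmax : ∀ R : Subgroup K, R ≤ Subgroup.centralizer ({z} : Set K) →
      Nm (Subgroup.centralizer ({z} : Set K)) R → IsPGroup 2 R → R ≤ Q)
    (h : ∀ D : Subgroup (MulAut K), Perf D → (∀ d ∈ D, d z = z) → Inv D Q →
      ∀ S : Sylow 2 K, (S : Subgroup K) ≤ Subgroup.centralizer ({z} : Set K) → Inv D S → Tr D S ⊥) :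
    OutS K := by
  obtain ⟨S, hS⟩ := (Cfsg.Agent.S0481.result z hz Q hQ
    (fun g hg q hq => (mem_normalizer_iff.1 (hn hg) q).1 hq) hE.1.1 hE.2
    (fun x => hE.1.2.1 ▸ H2.IsPGroup.pow_mem_frattini hE.1.1 x) hC).1
  have hQS : Q ≤ S := sup_eq_left.1
    (S.is_maximal' (IsPGroup.to_sup_of_normal_right' S.2 hE.1.1 (hS.trans hn)) le_sup_left)
  have z1 : z ≠ 1 := fun e => by simp [e] at hz
  have zc : z ∈ centralizer ((S : Subgroup K) : Set K) := fun s hs =>
    mem_centralizer_singleton_iff.1 (hS hs)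
  have key : ∀ y ∈ centralizer ((S : Subgroup K) : Set K), y ∈ (center Q).map Q.subtype := fun y hy =>
    ⟨⟨y, hC (centralizer_le hQS hy)⟩, mem_center_iff.2 fun q => Subtype.ext (hy q (hQS q.2)), rfl⟩
  refine outS_of_sylow hna S fun D hD hi => ?_
  have hf : ∀ d ∈ D, d z = z := fun d hd => eq_of_card_two
    ((card_map_of_injective Q.subtype_injective).trans hE.2) (key _ (hi.centralizer d hd z zc))
    (key z zc) (by simpa using z1) z1
  exact h D hD hf (inv_of_max_normal_p (inv_centralizer_of_fix hf) hQ hn hE.1.1 hmax) S hS hi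

/-- large extraspecial criterion, `C(z) / Q ≅ L` simple. -/
theorem outS_xs_simple (hna : ¬ IsMulCommutative K) {z : K} (hz : orderOf z = 2) {L : Type v}
    [Group L] [IsSimpleGroup L] (hLna : ¬ IsMulCommutative L) (hL : OutS L)
    (f : Subgroup.centralizer ({z} : Set K) →* L) (hf : Function.Surjective f)
    (hE : Cfsg.IsExtraspecial 2 f.ker)
    (hC : Subgroup.centralizer ((f.ker.map (Subgroup.centralizer ({z} : Set K)).subtype : Subgroup K) :
      Set K) ≤ f.ker.map (Subgroup.centralizer ({z} : Set K)).subtype)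
    {n r : ℕ} (hcard : Nat.card f.ker = 2 ^ (n + 1)) (hr : r.Prime) (hrL : r ∣ Nat.card L)
    (hk : 3 ≤ orderOf (2 : ZMod r))
    (hnk : n ≤ orderOf (2 : ZMod r) + 2 ∨
      (Odd (orderOf (2 : ZMod r)) ∧ n ≤ 2 * orderOf (2 : ZMod r) + 2)) : OutS K := by
  let H := centralizer ({z} : Set K)
  have : Finite L := Finite.of_surjective f hf
  have hE' := xs_congr (f.ker.equivMapOfInjective H.subtype H.subtype_injective) hE
  have hn : Nm H (f.ker.map H.subtype) := nm_of (by
    rintro x hx _ ⟨y, hy, rfl⟩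
    exact ⟨_, (MonoidHom.normal_ker f).conj_mem y hy ⟨x, hx⟩, rfl⟩)
  refine outS_xs hna hz (map_subtype_le _) hn hE' hC (fun R hR hRn hRp => ?_)
    fun D hD hf1 hQ S hS hi => ?_
  · have : (R.subgroupOf H).Normal := (normal_subgroupOf_iff_le_normalizer hR).2 hRn
    have hp := (hRp.comap_subtype (K := H)).map f
    rcases IsSimpleGroup.eq_bot_or_eq_top_of_normal ((R.subgroupOf H).map f) (this.map f hf)
      with e | e
    · exact fun x hx => ⟨⟨x, hR hx⟩, (Subgroup.map_eq_bot_iff _).1 e hx, rfl⟩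
    · change IsPGroup 2 ((R.subgroupOf H).map f) at hp
      rw [e] at hp
      exact absurd (solv_of_p (hp.of_equiv topEquiv)) (not_solvable hLna)
  · have := Fact.mk hr
    have h1 := tr_of_outS hD (inv_centralizer_of_fix hf1) f hf hQ hL (center_bot hLna) hi
      (solvable_normalizer_sylow_two ((S.subtype hS).mapSurjective hf))
    obtain ⟨x, hx⟩ := exists_prime_orderOf_dvd_card' r
      (hrL.trans (card_dvd_of_surjective f hf))
    have hx' : orderOf (x : K) = r := by rw [orderOf_coe, hx]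
    refine (tr_xs_of_prime hD hQ (map_subtype_le _) hn hE' h1
      ((card_map_of_injective H.subtype_injective).trans hcard) hr x.2 hx' (fun hc => ?_) hk
      hnk).mono hS le_rfl
    obtain ⟨k, hk2⟩ := hE'.1.1 ⟨x, hC hc⟩
    have h2 : r ∣ 2 ^ k := hx' ▸ orderOf_dvd_of_pow_eq_one (congrArg Subtype.val hk2)
    obtain rfl := (Nat.prime_dvd_prime_iff_eq hr Nat.prime_two).1 (hr.dvd_of_dvd_pow h2)
    rw [show (2 : ZMod 2) = 0 from rfl, orderOf_zero] at hk
    omega

/-- component criterion: `C(z) / ⟨z⟩ ≅ L` simple, `z` `2`-central, centre of a Sylow `2`-subgroup of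
`L` of order `2`. -/
theorem outS_cc (hna : ¬ IsMulCommutative K) {z : K} (hz : orderOf z = 2) {L : Type v}
    [Group L] [Finite L] [IsSimpleGroup L] (hLna : ¬ IsMulCommutative L) (hL : OutS L)
    (f : Subgroup.centralizer ({z} : Set K) →* L) (hf : Function.Surjective f)
    (hk : Nat.card f.ker = 2) (hodd : Odd (Subgroup.centralizer ({z} : Set K)).index)
    (S : Sylow 2 L) (hZ : Nat.card (Subgroup.center S) = 2) : OutS K := by
  let H := centralizer ({z} : Set K)
  have hkp : IsPGroup 2 f.ker := IsPGroup.of_card (n := 1) hk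
  set T₀ : Subgroup H := (S : Subgroup L).comap f with hT₀
  have hT₀p : IsPGroup 2 T₀ := S.2.comap_of_ker_isPGroup f hkp
  set T : Subgroup K := T₀.map H.subtype with hT
  have hTi : ¬ 2 ∣ T.index := by
    rw [index_map_subtype, index_comap_of_surjective _ hf]
    exact Nat.prime_two.not_dvd_mul S.not_dvd_index hodd.not_two_dvd_nat
  have zH : z ∈ H := mem_centralizer_singleton_iff.2 rfl
  have z1 : z ≠ 1 := fun e => by simp [e] at hz
  have zk : f ⟨z, zH⟩ = 1 := by
    rw [← mem_bot, ← center_bot hLna, mem_center_iff, hf.forall]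
    intro x
    rw [← map_mul, ← map_mul]
    exact congrArg f (Subtype.ext (mem_centralizer_singleton_iff.1 x.2))
  have ck : Nat.card (f.ker.map H.subtype) = 2 := (card_map_of_injective H.subtype_injective).trans hk
  have zk' : z ∈ f.ker.map H.subtype := ⟨_, zk, rfl⟩
  have hkz : ∀ y ∈ f.ker.map H.subtype, y = 1 ∨ y = z := fun y hy =>
    or_iff_not_imp_left.2 fun h1 => eq_of_card_two ck hy zk' h1 z1
  refine outS_of_sylow_p ((hT₀p.map H.subtype).toSylow hTi) fun D hD hi => ?_
  change Inv D T at hi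
  set Z := T ⊓ centralizer (T : Set K) with hZ'
  have hZ4 : Nat.card Z ≤ 4 := by
    let g : Z →* L := f.comp (inclusion (inf_le_left.trans (map_subtype_le T₀)))
    have hm : ∀ x : H, (x : K) ∈ T ↔ f x ∈ S := fun x =>
      mem_map_iff_mem (f := H.subtype) H.subtype_injective
    have e1 : g.range ≤ (center S).map (S : Subgroup L).subtype := by
      rintro _ ⟨y, rfl⟩
      refine ⟨⟨g y, (hm _).1 y.2.1⟩, mem_center_iff.2 fun s => Subtype.ext ?_, rfl⟩
      obtain ⟨x, hx⟩ := hf s
      change (s : L) * f _ = f _ * s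
      rw [← hx, ← map_mul, ← map_mul]
      exact congrArg f (Subtype.ext (y.2.2 x ((hm x).2 (hx ▸ s.2))))
    have e2 : g.ker.map Z.subtype ≤ f.ker.map H.subtype := by
      rintro _ ⟨y, hy, rfl⟩
      exact ⟨_, hy, rfl⟩
    have e3 := card_le_of_le e1
    have e4 := card_le_of_le e2
    rw [card_map_of_injective (subtype_injective _)] at e3 e4
    have e5 := g.ker.card_mul_index
    rw [index_ker] at e5
    rw [hZ] at e3; rw [ck] at e4
    rw [← e5]
    exact Nat.mul_le_mul e4 e3
  have zZ : z ∈ Z := ⟨⟨⟨z, zH⟩, by change f _ ∈ (S : Subgroup L); rw [zk]; exact one_mem _, rfl⟩,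
    fun t ht => mem_centralizer_singleton_iff.1 (map_subtype_le T₀ ht)⟩
  have hf1 : ∀ d ∈ D, d z = z := fun d hd => tr_bot_iff.1 (tr_of_relIndex_le_five hD
    (hi.inf hi.centralizer) inv_bot (by rw [relIndex_bot_left]; exact Nat.card_pos.ne')
    (by rw [relIndex_bot_left]; exact hZ4.trans (by norm_num))) d hd z zZ
  have hkt : Tr D (f.ker.map H.subtype) ⊥ := tr_bot_iff.2 fun d hd y hy => by
    rcases hkz y hy with rfl | rfl
    exacts [map_one d, hf1 d hd]
  have h1 := tr_of_outS hD (inv_centralizer_of_fix hf1) f hf (hkt.inv bot_le le_rfl) hL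
    (center_bot hLna) hi (by
      rw [show T.subgroupOf H = T₀ from comap_map_eq_self_of_injective H.subtype_injective T₀,
        map_comap_eq_self_of_surjective hf]
      exact solvable_normalizer_sylow_two S)
  have hn : Nm H (f.ker.map H.subtype) := nm_of (by
    rintro x hx _ ⟨y, hy, rfl⟩
    exact ⟨_, (MonoidHom.normal_ker f).conj_mem y hy ⟨x, hx⟩, rfl⟩)
  rw [eq_bot_of_tr_odd_index hna hD hodd
    (h1.trans hD hkt (map_subtype_le _) bot_le inv_bot hn (nm_bot _))]
  exact bot_le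

end H0.Sch
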