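import Cfsg.Agent.H0.SchBN
import Cfsg.Agent.H20.SC1

set_option autoImplicit false

namespace H0.Sch

universe u

theorem outS_g2 {K : Type u} [Group K] [Finite K] [IsSimpleGroup K] (hna : ¬ IsMulCommutative K)
    (h : Cfsg.Lie.IsoChevG2 K) : OutS K := by
  obtain ⟨F, _, _, -, ⟨e⟩⟩ := h
  exact (H19.matG2 F).outS (by decide) (by decide +kernel) e

theorem outS_f4 {K : Type u} [Group K] [Finite K] [IsSimpleGroup K] (hna : ¬ IsMulCommutative K)
    (h : Cfsg.Lie.IsoF4 K) : OutS K := by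
  obtain ⟨F, _, _, ⟨e⟩⟩ := h
  exact (H19.matF4 F).outS (by decide) (by decide +kernel) e

theorem outS_e6 {K : Type u} [Group K] [Finite K] [IsSimpleGroup K] (hna : ¬ IsMulCommutative K)
    (h : Cfsg.Lie.IsoChevE6 K) : OutS K := by
  obtain ⟨F, _, _, ⟨e⟩⟩ := h
  exact (H19.matE6 F).outS (by decide) (by decide +kernel) e

theorem outS_e7 {K : Type u} [Group K] [Finite K] [IsSimpleGroup K] (hna : ¬ IsMulCommutative K)
    (h : Cfsg.Lie.IsoE7 K) : OutS K := by
  obtain ⟨F, _, _, ⟨e⟩⟩ := h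
  exact (H19.matE7 F).outS (by decide) (by decide +kernel) e

theorem outS_e8 {K : Type u} [Group K] [Finite K] [IsSimpleGroup K] (hna : ¬ IsMulCommutative K)
    (h : Cfsg.Lie.IsoE8 K) : OutS K := by
  obtain ⟨F, _, _, ⟨e⟩⟩ := h
  exact (H19.matE8 F).outS (by decide) (by decide +kernel) e

end H0.Sch
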