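import Cfsg.Agent.H0.SchBN
import Cfsg.Agent.H27.SCo

set_option autoImplicit false

namespace H0.Sch

universe u

theorem outS_co1 {K : Type u} [Group K] [Finite K] [IsSimpleGroup K] (hna : ¬ IsMulCommutative K)
    (h : Cfsg.Spor.IsoCo1 K) : OutS K := H27.SCo.outS_co1 hna h

theorem outS_co2 {K : Type u} [Group K] [Finite K] [IsSimpleGroup K] (hna : ¬ IsMulCommutative K)
    (h : Cfsg.Spor.IsoCo2 K) : OutS K := H27.SCo.outS_co2 hna h

theorem outS_co3 {K : Type u} [Group K] [Finite K] [IsSimpleGroup K] (hna : ¬ IsMulCommutative K)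
    (h : Cfsg.Spor.IsoCo3 K) : OutS K := H27.SCo.outS_co3 hna h

end H0.Sch
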