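import Mathlib
import Cfsg.Prelude.Def_Classification2
import Cfsg.Prelude.Def_LieExceptional

/-! Schreier project: definitions. -/

set_option autoImplicit false

namespace H0.Sch

universe u

variable {K : Type u} [Group K]

/-- the inner automorphisms. -/
abbrev Inn (K : Type u) [Group K] : Subgroup (MulAut K) := (MulAut.conj : K →* MulAut K).range

/-- `D` is perfect. -/
def Perf {G : Type*} [Group G] (D : Subgroup G) : Prop := ⁅D, D⁆ = D

/-- the Schreier property: every perfect group of automorphisms is inner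
(for finite `K`: the outer automorphism group is solvable). -/
def OutS (K : Type u) [Group K] : Prop := ∀ D : Subgroup (MulAut K), Perf D → D ≤ Inn K

/-- `D` stabilises the subgroup `X`. -/
def Inv (D : Subgroup (MulAut K)) (X : Subgroup K) : Prop := ∀ d ∈ D, ∀ x ∈ X, d x ∈ X

/-- `D` fixes every coset `x Y`, `x ∈ X` (acts trivially on the section `X / Y`). -/
def Tr (D : Subgroup (MulAut K)) (X Y : Subgroup K) : Prop := ∀ d ∈ D, ∀ x ∈ X, x⁻¹ * d x ∈ Y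

/-- `X` normalises `Y`. -/
abbrev Nm (X Y : Subgroup K) : Prop := X ≤ Subgroup.normalizer (Y : Set K)

/-- the elements of `A` that normalise `C` and centralise `B` modulo `C`. -/
def cm (A B C : Subgroup K) : Subgroup K where
  carrier := {x | x ∈ A ∧ x ∈ Subgroup.normalizer (C : Set K) ∧ ∀ b ∈ B, b⁻¹ * (x * b * x⁻¹) ∈ C}
  one_mem' := ⟨A.one_mem, Subgroup.one_mem _, fun b _ => by simp⟩
  mul_mem' := by
    rintro x y ⟨hxA, hxN, hx⟩ ⟨hyA, hyN, hy⟩
    refine ⟨A.mul_mem hxA hyA, Subgroup.mul_mem _ hxN hyN, fun b hb => ?_⟩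
    have h1 : x * (b⁻¹ * (y * b * y⁻¹)) * x⁻¹ ∈ C :=
      (Subgroup.mem_normalizer_iff.mp hxN _).mp (hy b hb)
    have h2 : b⁻¹ * (x * y * b * (x * y)⁻¹)
        = (b⁻¹ * (x * b * x⁻¹)) * (x * (b⁻¹ * (y * b * y⁻¹)) * x⁻¹) := by group
    rw [h2]; exact C.mul_mem (hx b hb) h1
  inv_mem' := by
    rintro x ⟨hxA, hxN, hx⟩
    refine ⟨A.inv_mem hxA, Subgroup.inv_mem _ hxN, fun b hb => ?_⟩
    have h1 : x⁻¹ * (b⁻¹ * (x * b * x⁻¹))⁻¹ * x⁻¹⁻¹ ∈ C :=
      (Subgroup.mem_normalizer_iff.mp (Subgroup.inv_mem _ hxN) _).mp (C.inv_mem (hx b hb))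
    have h2 : b⁻¹ * (x⁻¹ * b * x⁻¹⁻¹) = x⁻¹ * (b⁻¹ * (x * b * x⁻¹))⁻¹ * x⁻¹⁻¹ := by group
    rw [h2]; exact h1

theorem mem_cm {A B C : Subgroup K} {x : K} : x ∈ cm A B C ↔
    x ∈ A ∧ x ∈ Subgroup.normalizer (C : Set K) ∧ ∀ b ∈ B, b⁻¹ * (x * b * x⁻¹) ∈ C := Iff.rfl

end H0.Sch
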