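import Cfsg.Agent.H0.SchBN
import Cfsg.Agent.H0.SchPSU
import Cfsg.Agent.H26.SF3

set_option autoImplicit false

namespace H0.Sch

universe u

theorem outS_fi22_model : OutS H29.Fi22.P.G := by
  have := Cfsg.Agent.S0283.result (F := H9.F4) (q := 2) H9.F4.card 6 (by norm_num) (by norm_num)
  have : Finite (Cfsg.PSU 6 H9.F4 2) :=
    Nat.finite_of_card_ne_zero (by rw [H0.psu_card H9.F4.card]; norm_num)
  exact H26.SF.fi22 (outS_psu (H26.SF.nc_of_center (H0.psu_cen H9.F4.card))
    ⟨H9.F4, inferInstance, inferInstance, 6, 2, H9.F4.card, by norm_num, by norm_num,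
      ⟨MulEquiv.refl _⟩⟩)

theorem outS_fi22 {K : Type u} [Group K] [Finite K] [IsSimpleGroup K] (hna : ¬ IsMulCommutative K)
    (h : Cfsg.Spor.IsoFi22 K) : OutS K :=
  h.elim fun e => outS_fi22_model.congr e.symm

theorem outS_fi23 {K : Type u} [Group K] [Finite K] [IsSimpleGroup K] (hna : ¬ IsMulCommutative K)
    (h : Cfsg.Spor.IsoFi23 K) : OutS K :=
  h.elim fun e => (H26.SF.fi23 outS_fi22_model).congr e.symm

theorem outS_fi24 {K : Type u} [Group K] [Finite K] [IsSimpleGroup K] (hna : ¬ IsMulCommutative K)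
    (h : Cfsg.Spor.IsoFi24' K) : OutS K :=
  h.elim fun e => (H26.SF.fi24 outS_fi22_model).congr e.symm

end H0.Sch
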