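import Cfsg.Agent.H0.SchBN
import Cfsg.Agent.H3.SM2
import Cfsg.Agent.H27.SH1

set_option autoImplicit false

namespace H0.Sch

universe u

theorem outS_mcl {K : Type u} [Group K] [Finite K] [IsSimpleGroup K] (hna : ¬ IsMulCommutative K)
    (h : Cfsg.Spor.IsoMcL K) : OutS K := by
  obtain ⟨e⟩ := h
  obtain ⟨f⟩ := H1.QT.equiv_Mc
  let g := (e.trans f).symm
  refine OutS.congr g (H3.SM.outS_Mc fun c => hna ⟨⟨fun a b => g.symm.injective ?_⟩⟩)
  rw [map_mul, map_mul]
  exact c.1.1 _ _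

theorem outS_hs {K : Type u} [Group K] [Finite K] [IsSimpleGroup K] (hna : ¬ IsMulCommutative K)
    (h : Cfsg.Spor.IsoHS K) : OutS K := H27.SH.outS_hs h

end H0.Sch
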