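import Cfsg.Agent.H0.SchBN
import Cfsg.Agent.H13.PCHe

set_option autoImplicit false

namespace H0.Sch

universe u

theorem outS_he {K : Type u} [Group K] [Finite K] [IsSimpleGroup K] (hna : ¬ IsMulCommutative K)
    (h : Cfsg.Spor.IsoHe K) : OutS K := by
  obtain ⟨e⟩ := h
  exact OutS.congr e.symm (H13.Pc.He.out fun h => hna
    ⟨⟨fun a b => e.injective (by rw [map_mul, map_mul]; exact h.1.1 _ _)⟩⟩)

end H0.Sch
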