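import Cfsg.Agent.H0.SchBN
import Cfsg.Agent.H0.SchAlt
import Cfsg.Agent.H8.SL1
import Cfsg.Agent.H19.Ly.Cent

set_option autoImplicit false

namespace H0.Sch

universe u

theorem outS_ly {K : Type u} [Group K] [Finite K] [IsSimpleGroup K] (hna : ¬ IsMulCommutative K)
    (h : Cfsg.Spor.IsoLy K) : OutS K := by
  obtain ⟨e⟩ := h
  have hs := H19.Ly.simple
  have : Finite H19.Ly.P.G := Nat.finite_of_card_ne_zero (by rw [H19.Ly.card]; norm_num)
  refine OutS.congr (K := H19.Ly.P.G) e.symm ?_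
  obtain ⟨h1, -, h2, ⟨g⟩, -⟩ := H19.Ly.cent_t
  obtain ⟨S, hS⟩ := H8.SL.center_sylow
  have := alternatingGroup.isSimpleGroup (α := Fin 11) (by simp)
  have hA : ¬ IsMulCommutative (alternatingGroup (Fin 11)) := fun h => by
    have := alternatingGroup.isMulCommutative_iff_card_le_three.1 h
    simp at this
  have hk : (g.toMonoidHom.comp (QuotientGroup.mk' _)).ker = Subgroup.center _ := by
    rw [← MonoidHom.comap_ker, (MonoidHom.ker_eq_bot_iff _).2 g.injective, MonoidHom.comap_bot,
      QuotientGroup.ker_mk']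
  refine outS_cc (fun h => hna ⟨⟨fun a b => e.injective ?_⟩⟩) h1 hA (outS_alt hA ⟨11, by norm_num, ⟨.refl _⟩⟩)
    (g.toMonoidHom.comp (QuotientGroup.mk' _)) (g.surjective.comp (QuotientGroup.mk'_surjective _))
    (by rw [hk, h2]) ?_ S hS
  · rw [map_mul, map_mul]; exact h.1.1 _ _
  · have c1 := Subgroup.card_eq_card_quotient_mul_card_subgroup (Subgroup.center
      (Subgroup.centralizer ({H29.ev H19.Ly.P.e [28, 28]} : Set H19.Ly.P.G)))
    rw [h2, Nat.card_congr g.toEquiv, nat_card_alternatingGroup] at c1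
    have c2 := (Subgroup.centralizer ({H29.ev H19.Ly.P.e [28, 28]} : Set H19.Ly.P.G)).index_mul_card
    rw [c1, H19.Ly.card] at c2
    rw [Nat.card_eq_fintype_card, Fintype.card_fin] at c2
    rw [Nat.eq_div_of_mul_eq_left (by decide) c2]
    decide +kernel

end H0.Sch
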