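import Mathlib
import Cfsg.Agent.H0.SchBN
import Cfsg.Agent.H27.SM
import Cfsg.Agent.H10.YMain

set_option autoImplicit false

namespace H0.Sch

universe u

theorem outS_m {K : Type u} [Group K] [Finite K] [IsSimpleGroup K] (hna : ¬ IsMulCommutative K)
    (h : Cfsg.Spor.IsoM K) : OutS K := by
  obtain ⟨f, hf⟩ := H10.Mon.Y.monster_onto
  exact H27.SM.outS_m_of_onto H10.Mon.tri_tau f hf h

end H0.Sch
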