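import Cfsg.Agent.H0.SchBN
import Cfsg.Agent.H3.SM1

set_option autoImplicit false

namespace H0.Sch

universe u

theorem outS_m11 {K : Type u} [Group K] [Finite K] [IsSimpleGroup K] (hna : ¬ IsMulCommutative K)
    (h : Cfsg.Spor.IsoM11 K) : OutS K :=
  h.elim fun e => OutS.congr (e.trans (MulEquiv.subgroupCongr H9.M11_eq)).symm H3.SM.s11

theorem outS_m12 {K : Type u} [Group K] [Finite K] [IsSimpleGroup K] (hna : ¬ IsMulCommutative K)
    (h : Cfsg.Spor.IsoM12 K) : OutS K :=
  h.elim fun e => OutS.congr (e.trans (MulEquiv.subgroupCongr H9.M12_eq)).symm H3.SM.s12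

theorem outS_m22 {K : Type u} [Group K] [Finite K] [IsSimpleGroup K] (hna : ¬ IsMulCommutative K)
    (h : Cfsg.Spor.IsoM22 K) : OutS K :=
  h.elim fun e => OutS.congr (e.trans (MulEquiv.subgroupCongr H9.M22_eq)).symm H3.SM.s22

theorem outS_m23 {K : Type u} [Group K] [Finite K] [IsSimpleGroup K] (hna : ¬ IsMulCommutative K)
    (h : Cfsg.Spor.IsoM23 K) : OutS K :=
  h.elim fun e => OutS.congr (e.trans (MulEquiv.subgroupCongr H9.M23_eq)).symm H3.SM.s23

theorem outS_m24 {K : Type u} [Group K] [Finite K] [IsSimpleGroup K] (hna : ¬ IsMulCommutative K)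
    (h : Cfsg.Spor.IsoM24 K) : OutS K :=
  h.elim fun e => OutS.congr (e.trans (MulEquiv.subgroupCongr H9.Stab_nil.symm)).symm H3.SM.s24

end H0.Sch
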