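import Cfsg.Agent.H0.SchD
import Cfsg.Agent.H16.SCla

set_option autoImplicit false

namespace H0.Sch

universe u

theorem outS_pomegaOdd {K : Type u} [Group K] [Finite K] [IsSimpleGroup K] (hna : ¬ IsMulCommutative K)
    (h : Cfsg.IsPOmegaOdd K) : OutS K := H16.QT.sch_POo h

theorem outS_pomegaPlus {K : Type u} [Group K] [Finite K] [IsSimpleGroup K] (hna : ¬ IsMulCommutative K)
    (h : Cfsg.IsPOmegaPlus K) : OutS K := H16.QT.sch_POp h

theorem outS_pomegaMinus {K : Type u} [Group K] [Finite K] [IsSimpleGroup K] (hna : ¬ IsMulCommutative K)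
    (h : Cfsg.IsPOmegaMinus K) : OutS K := H16.QT.sch_POm h

end H0.Sch
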