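import Cfsg.Agent.H0.SchD
import Cfsg.Agent.H16.SCla

set_option autoImplicit false

namespace H0.Sch

universe u

theorem outS_psp {K : Type u} [Group K] [Finite K] [IsSimpleGroup K] (hna : ¬ IsMulCommutative K)
    (h : Cfsg.IsPSp K) : OutS K := H16.QT.sch_PSp h

end H0.Sch
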