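import Cfsg.Agent.H0.SchBN
import Cfsg.Agent.H8.SzLie
import Cfsg.Agent.S1069
import Cfsg.Agent.S0457

set_option autoImplicit false

namespace H0.Sch

open H8.Sz

universe u

theorem sz_tr {F : Type} [Field F] [Finite F] {m : ℕ} (T : Ctx F m)
    {D : Subgroup (MulAut (Cfsg.Sz F m))} (hD : Perf D) (hU : Inv D T.U) : Tr D T.U ⊥ := by
  have hB : Inv D (B F m) := T.normalizer_U ▸ hU.normalizer
  set Z := T.U ⊓ Subgroup.centralizer (T.U : Set (Cfsg.Sz F m)) with hZ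
  have mZ : ∀ a b, T.u a b ∈ Z ↔ a = 0 := fun a b => by
    rw [← T.mem_center_U (b := b), Subgroup.mem_center_iff]
    exact ⟨fun h x => Subtype.ext (h.2 x x.2), fun h => ⟨T.u_mem_U a b, fun x hx =>
      congrArg Subtype.val (h ⟨x, hx⟩)⟩⟩
  have mZ' : ∀ x ∈ Z, ∃ b, x = T.u 0 b := fun x hx => by
    obtain ⟨a, b, rfl⟩ := T.mem_U.1 hx.1
    exact ⟨b, by rw [(mZ a b).1 hx]⟩
  have hZi : Inv D Z := hU.inf hU.centralizer
  have e1 : ∀ a b, mat (T.u a b) 0 1 = a := fun a b => by simp [T.mat_u]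
  have e2 : ∀ a b, mat (T.u a b) 1 3 = b := fun a b => by simp [T.mat_u]
  have e3 : ∀ a b k, mat (T.u a b * T.h k) 1 1 = k := fun a b k => by
    simp [mat_mul, T.mat_u, T.mat_h, Matrix.mul_apply, Fin.sum_univ_four]
  have cj : ∀ a b k c d, T.u a b * T.h k * T.u c d * (T.u a b * T.h k)⁻¹ =
      T.u a b * T.u (T.σ k * c) (T.σ k * k ^ 2 * d) * (T.u a b)⁻¹ := fun a b k c d => by
    rw [← T.h_conj_u]; group
  have sp : ∀ φ : F →*₀ F, (∀ x, φ x = 1 → x = 1) → AddSubgroup.closure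
      ((fun g => φ (mat g 1 1)) '' (B F m : Set (Cfsg.Sz F m))) = ⊤ := fun φ hφ => eq_top_iff.2 fun x _ => by
    have hi : Function.Injective φ := fun x y e => by
      by_cases hy : y = 0
      · rwa [hy, map_zero, map_eq_zero, ← hy] at e
      · exact (div_eq_one_iff_eq hy).1 (hφ _ (by rw [map_div₀, e, div_self ((map_ne_zero φ).2 hy)]))
    obtain ⟨k, rfl⟩ := Finite.injective_iff_surjective.1 hi x
    by_cases hk : k = 0
    · rw [hk, map_zero]; exact zero_mem _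
    · exact AddSubgroup.subset_closure ⟨_, T.mem_B.2 ⟨0, 0, Units.mk0 k hk, rfl⟩, by simp only [e3]; rfl⟩
  have cz : ∀ a b k d, T.u a b * T.h k * T.u 0 d * (T.u a b * T.h k)⁻¹ = T.u 0 (T.σ k * k ^ 2 * d) :=
    fun a b k d => by rw [cj, mul_zero, T.u_comm_iff.2 (by simp), mul_inv_cancel_right]
  have nZ : Nm (B F m) Z := fun g hg => Subgroup.mem_normalizer_fintype fun x hx => by
    obtain ⟨a, b, k, rfl⟩ := T.mem_B.1 hg
    obtain ⟨d, rfl⟩ := mZ' x hx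
    rw [cz]; exact (mZ _ _).2 rfl
  refine Tr.trans hD (Y := Z) ?_ ?_ inf_le_left bot_le inv_bot (T.U_le_B.trans nZ)
    (le_top.trans (Subgroup.normalizer_eq_top ⊥).ge)
  · refine tr_of_field hD hB hU hZi inf_le_left T.normalizer_U.ge (F := F)
      (MonoidHom.mk' (fun x => Multiplicative.ofAdd (mat x.1 0 1)) ?_)
      (fun a => ⟨⟨_, T.u_mem_U a.toAdd 0⟩, e1 a.toAdd 0⟩)
      ?_ (fun g => T.σ (mat g 1 1)) ?_ (sp T.σ.toMonoidWithZeroHom fun _ => T.eq_one_of_σ_eq_one)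
    · rintro ⟨_, a, b, rfl⟩ ⟨_, c, d, rfl⟩
      simp [T.u_mul, e1, ← ofAdd_add]
    · ext ⟨_, a, b, rfl⟩
      simp [Subgroup.mem_subgroupOf, mZ, e1]
    · rintro g hg ⟨_, c, d, rfl⟩ ⟨y, hy⟩ e
      obtain ⟨a, b, k, rfl⟩ := T.mem_B.1 hg
      obtain rfl : y = _ := e
      simp only [cj, e3, T.u_mul, T.u_inv, e1, MonoidHom.mk'_apply, toAdd_ofAdd]
      linear_combination a * T.two_eq_zero
  · refine tr_of_field hD hB hZi inv_bot bot_le nZ (F := F)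
      (MonoidHom.mk' (fun x => Multiplicative.ofAdd (mat x.1 1 3)) ?_)
      (fun a => ⟨⟨_, (mZ 0 a.toAdd).2 rfl⟩, e2 0 a.toAdd⟩)
      ?_ (fun g => T.σ (mat g 1 1) * mat g 1 1 ^ 2) ?_
      (sp ⟨⟨fun x => T.σ x * x ^ 2, by simp⟩, by simp, fun x y => by simp only [map_mul]; ring⟩
        fun _ => T.eq_one_of_σ_mul_sq)
    · rintro ⟨x, hx⟩ ⟨y, hy⟩
      obtain ⟨a, rfl⟩ := mZ' x hx
      obtain ⟨b, rfl⟩ := mZ' y hy
      simp [T.u_mul, e2, ← ofAdd_add]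
    · ext ⟨x, hx⟩
      obtain ⟨a, rfl⟩ := mZ' x hx
      simp [Subgroup.mem_subgroupOf, e2, ← T.u_zero, T.u_inj]
    · rintro g hg ⟨x, hx⟩ ⟨y, hy⟩ e
      obtain ⟨a, b, k, rfl⟩ := T.mem_B.1 hg
      obtain ⟨d, rfl⟩ := mZ' x hx
      obtain rfl : y = _ := e
      simp only [cz, e3, e2, MonoidHom.mk'_apply, toAdd_ofAdd]

theorem outS_sz {K : Type u} [Group K] [Finite K] [IsSimpleGroup K] (hna : ¬ IsMulCommutative K)
    (h : Cfsg.Lie.IsoSuzuki K) : OutS K := by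
  obtain ⟨F, _, _, m, hm, hF, ⟨e⟩⟩ := h
  obtain ⟨T⟩ := nonempty_ctx hm hF
  have := T.isSimpleGroup
  have e' := T.lieEquiv.trans e.symm
  exact (outS_of_sylow (fun h => hna ⟨⟨fun a b => e'.symm.injective (by
    rw [map_mul, map_mul, h.1.1])⟩⟩) T.sylowU fun D hD hU => sz_tr T hD hU).congr e'

theorem outS_ree {K : Type u} [Group K] [Finite K] [IsSimpleGroup K] (hna : ¬ IsMulCommutative K)
    (h : Cfsg.Lie.IsoRee K) : OutS K := by
  obtain ⟨F, _, _, m, -, hF, ⟨e⟩⟩ := h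
  refine outS_of_not_sixteen_dvd hna ?_
  rw [Nat.card_congr e.toEquiv, Cfsg.Agent.S1069.result hF]
  obtain ⟨k, hk⟩ : ∃ k, 3 ^ (2 * m + 1) = 8 * k + 3 := ⟨3 ^ (2 * m + 1) / 8, by
    have : 3 ^ (2 * m + 1) % 8 = 3 := by simp [pow_succ, pow_mul, Nat.mul_mod, Nat.pow_mod]
    omega⟩
  rw [hk, show (8 * k + 3) ^ 3 * (8 * k + 3 - 1) * ((8 * k + 3) ^ 3 + 1) =
    8 * ((8 * k + 3) ^ 3 * (4 * k + 1) * (2 * (64 * k ^ 3 + 72 * k ^ 2 + 27 * k + 3) + 1)) by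
      rw [show 8 * k + 3 - 1 = 8 * k + 2 by omega]; ring]
  intro h
  have h2 : Even _ := even_iff_two_dvd.2 (Nat.dvd_of_mul_dvd_mul_left (k := 8) (by norm_num) h)
  exact Nat.not_even_iff_odd.2 (((Odd.pow ⟨4 * k + 1, by ring⟩).mul ⟨2 * k, by ring⟩).mul ⟨_, rfl⟩) h2

theorem outS_j1 {K : Type u} [Group K] [Finite K] [IsSimpleGroup K] (hna : ¬ IsMulCommutative K)
    (h : Cfsg.Spor.IsoJ1 K) : OutS K := by
  obtain ⟨e⟩ := h
  obtain ⟨x, y, hx, hy, -, h⟩ := Cfsg.Agent.S0457.result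
  obtain rfl : x = Cfsg.Spor.jankoX := Units.ext hx
  obtain rfl : y = Cfsg.Spor.jankoY := Units.ext hy
  refine outS_of_not_sixteen_dvd hna ?_
  rw [Nat.card_congr e.toEquiv, show Nat.card Cfsg.Spor.J1 = 175560 from h]
  norm_num

end H0.Sch
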