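import Cfsg.Agent.H0.SchBN
import Cfsg.Agent.H13.PCTits

set_option autoImplicit false

namespace H0.Sch

universe u

theorem outS_tits_aux {K : Type u} [Group K] {G : Type} [Group G] {Γ : Subgroup G}
    (hna : ¬ IsMulCommutative K) (e : K ≃* commutator Γ)
    (h : ¬ IsMulCommutative (commutator Γ) → OutS (commutator Γ)) : OutS K :=
  OutS.congr e.symm (h fun h => hna
    ⟨⟨fun a b => e.injective (by rw [map_mul, map_mul]; exact h.1.1 _ _)⟩⟩)

theorem outS_tits {K : Type u} [Group K] [Finite K] [IsSimpleGroup K] (hna : ¬ IsMulCommutative K)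
    (h : Cfsg.Lie.IsoTits K) : OutS K := by
  obtain ⟨e⟩ := h
  exact outS_tits_aux hna e H13.Pc.Tits.out

end H0.Sch
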