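import Cfsg.Agent.H0.SchAlt
import Cfsg.Agent.H0.SchPSL
import Cfsg.Agent.H0.SchPSp
import Cfsg.Agent.H0.SchPSU
import Cfsg.Agent.H0.SchO
import Cfsg.Agent.H0.SchChev
import Cfsg.Agent.H0.Sch2E6
import Cfsg.Agent.H0.Sch3D4
import Cfsg.Agent.H0.Sch2F4
import Cfsg.Agent.H0.SchSz
import Cfsg.Agent.H0.SchTits
import Cfsg.Agent.H0.SchMat
import Cfsg.Agent.H0.SchJ23
import Cfsg.Agent.H0.SchJ4
import Cfsg.Agent.H0.SchCo
import Cfsg.Agent.H0.SchHS
import Cfsg.Agent.H0.SchSuz
import Cfsg.Agent.H0.SchHe
import Cfsg.Agent.H0.SchRu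
import Cfsg.Agent.H0.SchON
import Cfsg.Agent.H0.SchLy
import Cfsg.Agent.H0.SchFi
import Cfsg.Agent.H0.SchHN
import Cfsg.Agent.H0.SchTh
import Cfsg.Agent.H0.SchBM
import Cfsg.Agent.H0.SchM

set_option autoImplicit false

namespace H0.Sch

universe u

theorem outS_known {K : Type u} [Group K] [Finite K] [IsSimpleGroup K] (hna : ¬ IsMulCommutative K)
    (h : Cfsg.IsKnownSimple' K) : OutS K := by
  rcases h with h | h | h | h | h | h | h | h | (h | h | h | h | h | h | h | h | h | h | h) | (h | h | h | h | h | h | h | h | h | h | h | h | h | h | h | h | h | h | h | h | h | h | h | h | h | h)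
  · haveI : Fact (Nat.card K).Prime := ⟨h⟩
    haveI : IsCyclic K := isCyclic_of_prime_card rfl
    exact absurd (inferInstance : IsMulCommutative K) hna
  · exact outS_alt hna h
  · exact outS_psl hna h
  · exact outS_psp hna h
  · exact outS_psu hna h
  · exact outS_pomegaOdd hna h
  · exact outS_pomegaPlus hna h
  · exact outS_pomegaMinus hna h
  · exact outS_g2 hna h
  · exact outS_f4 hna h
  · exact outS_e6 hna h
  · exact outS_e7 hna h
  · exact outS_e8 hna h
  · exact outS_twE6 hna h
  · exact outS_twD4 hna h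
  · exact outS_sz hna h
  · exact outS_ree hna h
  · exact outS_twF4 hna h
  · exact outS_tits hna h
  · exact outS_m11 hna h
  · exact outS_m12 hna h
  · exact outS_m22 hna h
  · exact outS_m23 hna h
  · exact outS_m24 hna h
  · exact outS_j1 hna h
  · exact outS_j2 hna h
  · exact outS_j3 hna h
  · exact outS_j4 hna h
  · exact outS_co1 hna h
  · exact outS_co2 hna h
  · exact outS_co3 hna h
  · exact outS_mcl hna h
  · exact outS_hs hna h
  · exact outS_suz hna h
  · exact outS_he hna h
  · exact outS_ru hna h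
  · exact outS_on hna h
  · exact outS_ly hna h
  · exact outS_fi22 hna h
  · exact outS_fi23 hna h
  · exact outS_fi24 hna h
  · exact outS_hn hna h
  · exact outS_th hna h
  · exact outS_b hna h
  · exact outS_m hna h

end H0.Sch
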