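import Cfsg.Agent.H0.SchA
import Cfsg.Prelude.Def_Local
import Cfsg.Agent.H23.Balance

/-! Schreier project, block LB: `L_{p'}`-balance from the Schreier property. -/

set_option autoImplicit false

namespace H0.Sch

universe u

/-- every non-abelian composition factor has the Schreier property. -/
def CompS (X : Type u) [Group X] : Prop :=
  Cfsg.IsCompositionKGroupWith (fun (L : Type u) [Group L] => OutS L) X

section aux

open Cfsg Subgroup H23
open scoped commutatorElement

variable {G : Type u} [Group G]

/-- a perfect group normalising a quasisimple group with the Schreier property acts innerly. -/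
theorem lb_inner {L K : Subgroup G} (hL : ⁅L, L⁆ = L) (hS : OutS (L ⧸ center L))
    (hK : ⁅K, K⁆ = K) (hn : K ≤ normalizer (L : Set G)) : K ≤ L ⊔ centralizer (L : Set G) := by
  have hD : Perf (K.map (MulAut.conj : G →* MulAut G)) := Perf.map hK _
  have hX : Inv (K.map (MulAut.conj : G →* MulAut G)) L := by
    rintro d ⟨k, hk, rfl⟩ x hx
    exact H23.conj_mem hn hk hx
  have hk : Inv (K.map (MulAut.conj : G →* MulAut G))
      ((QuotientGroup.mk' (center L)).ker.map L.subtype) := by
    rw [QuotientGroup.ker_mk']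
    exact hX.char _
  obtain ⟨E, hE, h1, -⟩ := exists_induced hD hX (QuotientGroup.mk' (center L))
    (QuotientGroup.mk'_surjective _) hk
  intro k hkK
  obtain ⟨e, he, h2⟩ := h1 (MulAut.conj k) ⟨k, hkK, rfl⟩
  obtain ⟨lb, rfl⟩ := hS E hE he
  obtain ⟨l, rfl⟩ := QuotientGroup.mk'_surjective (center L) lb
  have hNC : normalizer (L : Set G) ≤
      normalizer ((centralizer (L : Set G) : Subgroup G) : Set G) :=
    le_normalizer_centralizer le_rfl
  have hc : (l : G)⁻¹ * k ∈ cm ⊤ L (centralizer (L : Set G)) := by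
    refine ⟨mem_top _, hNC (mul_mem (inv_mem (le_normalizer l.2)) (hn hkK)), fun x hx => ?_⟩
    have h3 := h2 ⟨x, hx⟩
    rw [MulAut.conj_apply, ← map_inv, ← map_mul, ← map_mul, QuotientGroup.mk'_apply,
      QuotientGroup.mk'_apply, QuotientGroup.eq] at h3
    have h4 : ((l : G) * x * (l : G)⁻¹)⁻¹ * (k * x * k⁻¹) ∈ centralizer (L : Set G) := by
      have : (((l * ⟨x, hx⟩ * l⁻¹)⁻¹ * ⟨MulAut.conj k x, hX _ ⟨k, hkK, rfl⟩ x hx⟩ : L) : G)
          ∈ (center L).map L.subtype := ⟨_, h3, rfl⟩
      rw [map_subtype_center] at this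
      exact this.2
    have h5 : x⁻¹ * ((l : G)⁻¹ * k * x * ((l : G)⁻¹ * k)⁻¹) = (l : G)⁻¹ *
        (((l : G) * x * (l : G)⁻¹)⁻¹ * (k * x * k⁻¹)) * (l : G) := by group
    rw [h5]
    exact H23.conj_mem' hNC (le_normalizer l.2) h4
  have h6 : ⁅cm ⊤ L (centralizer (L : Set G)), L⁆ = ⊥ := by
    apply comm_bot_of_comm_comm_bot hL
    apply comm_bot_of_le_centralizer
    rw [commutator_le]
    intro g hg b hb
    have h7 : ⁅g, b⁆ = b * (b⁻¹ * (g * b * g⁻¹)) * b⁻¹ := by
      simp only [commutatorElement_def]; group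
    rw [h7]
    exact H23.conj_mem hNC (le_normalizer hb) (hg.2.2 b hb)
  have h8 : k = (l : G) * ((l : G)⁻¹ * k) := by group
  rw [h8]
  exact mul_mem (mem_sup_left l.2) (mem_sup_right (le_centralizer_of_comm_bot h6 hc))

/-- an element inducing inner automorphisms on all components lies in `E(G) C(E(G))`. -/
theorem lb_mem_layer_sup [Finite G] {k : G}
    (h : ∀ L : Subgroup G, IsComponent L → k ∈ L ⊔ centralizer (L : Set G)) :
    ∃ e ∈ layer G, e⁻¹ * k ∈ centralizer ((layer G : Subgroup G) : Set G) := by
  classical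
  have hE : ∀ L : Subgroup G, IsComponent L → layer G ≤ L ⊔ centralizer (L : Set G) := by
    intro L hL
    refine layer_le fun M hM => ?_
    rcases IsComponent.eq_or_comm hM hL with h1 | h1
    · rw [h1]; exact le_sup_left
    · exact (le_centralizer_of_comm_bot h1).trans le_sup_right
  have key : ∀ s : Finset (Subgroup G), (∀ L ∈ s, IsComponent L) →
      ∃ e ∈ layer G, ∀ L ∈ s, e⁻¹ * k ∈ centralizer (L : Set G) := by
    intro s
    induction s using Finset.induction_on with
    | empty => exact fun _ => ⟨1, one_mem _, fun L hL => absurd hL (Finset.notMem_empty L)⟩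
    | insert M s hM ih =>
      intro hs
      obtain ⟨e, he, h1⟩ := ih fun L hL => hs L (Finset.mem_insert_of_mem hL)
      have hMc := hs M (Finset.mem_insert_self M s)
      have h2 : e⁻¹ * k ∈ M ⊔ centralizer (M : Set G) :=
        mul_mem (inv_mem (hE M hMc he)) (h M hMc)
      obtain ⟨a, ha, b, hb, hab⟩ := mem_sup_of_le_normalizer_left
        (centralizer_le_normalizer (M : Set G)) h2
      refine ⟨e * a, mul_mem he (le_layer hMc ha), fun L hL => ?_⟩
      have h3 : (e * a)⁻¹ * k = a⁻¹ * (e⁻¹ * k) := by group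
      rcases Finset.mem_insert.1 hL with rfl | hL'
      · rw [h3, ← hab, inv_mul_cancel_left]; exact hb
      · rw [h3]
        refine mul_mem (inv_mem ?_) (h1 L hL')
        rcases IsComponent.eq_or_comm hMc (hs L hL) with h4 | h4
        · exact absurd (h4 ▸ hL') hM
        · exact le_centralizer_of_comm_bot h4 ha
  obtain ⟨e, he, h1⟩ := key (Set.toFinite {L : Subgroup G | IsComponent L}).toFinset
    fun L hL => by simpa using hL
  refine ⟨e, he, ?_⟩
  have h2 : ⁅layer G, zpowers (e⁻¹ * k)⁆ = ⊥ := layer_comm fun L hL =>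
    comm_bot_symm (comm_bot_of_le_centralizer (zpowers_le.2 (h1 L (by simpa using hL))))
  exact le_centralizer_of_comm_bot (comm_bot_symm h2) (mem_zpowers _)

theorem lb_core [Finite G] {p : ℕ} [Fact p.Prime] (hO : pPrimeCore p G = ⊥)
    (hS : ∀ L : Subgroup G, IsComponent L → OutS (L ⧸ center L)) {P : Subgroup G}
    (hP : IsPGroup p P) : play p (centralizer (P : Set G)) ≤ layer G := by
  set K := play p (centralizer (P : Set G)) with hKdef
  have hK : ⁅K, K⁆ = K := play_perfect _
  have h1 : K ≤ compKer G := le_sup_left.trans (oppE_centralizer_le_compKer hO hP)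
  have h2 : K ≤ centralizer (pCore p G : Set G) :=
    le_sup_left.trans (oppE_centralizer_le_centralizer_pCore hP)
  have h3 : fittingSubgroup G = pCore p G := H2.fitting_eq_pCore_of_pPrimeCore_eq_bot hO
  have h4 : K ≤ layer G ⊔ pCore p G := by
    intro k hk
    obtain ⟨e, he, h5⟩ := lb_mem_layer_sup (k := k) fun L hL =>
      lb_inner (IsComponent.perfect hL) (hS L hL) hK (fun x hx => mem_compKer.1 (h1 hx) L hL) hk
    have h6 : e⁻¹ * k ∈ centralizer (pCore p G : Set G) :=
      mul_mem (inv_mem (le_centralizer_of_comm_bot (layer_comm_pCore p G) he)) (h2 hk)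
    have h7 : zpowers (e⁻¹ * k) ≤ fittingSubgroup G :=
      le_fitting_of_comm (comm_bot_of_le_centralizer (zpowers_le.2 h5))
        (by rw [h3]; exact comm_bot_of_le_centralizer (zpowers_le.2 h6))
    rw [h3] at h7
    have h8 : k = e * (e⁻¹ * k) := by group
    rw [h8]
    exact mul_mem (mem_sup_left he) (mem_sup_right (h7 (mem_zpowers _)))
  have h9 : K.map (QuotientGroup.mk' (layer G)) = ⊥ := by
    apply eq_bot_of_perfect_of_isPGroup (p := p)
    · rw [← map_commutator, hK]
    · refine ((H2.pCore_isPGroup p G).map (QuotientGroup.mk' (layer G))).to_le ?_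
      refine (map_mono h4).trans ?_
      rw [Subgroup.map_sup]
      refine sup_le ?_ le_rfl
      rw [map_le_iff_le_comap]
      intro x hx
      rw [mem_comap, QuotientGroup.mk'_apply, (QuotientGroup.eq_one_iff x).2 hx]
      exact one_mem _
  rwa [Subgroup.map_eq_bot_iff, QuotientGroup.ker_mk'] at h9

theorem CompS.component_quot (hK : CompS G) (N : Subgroup G) [N.Normal] (L : Subgroup (G ⧸ N))
    (hL : IsComponent L) : OutS (L ⧸ center L) := by
  let H : Subgroup G := L.comap (QuotientGroup.mk' N)
  let f0 : H →* L := ((QuotientGroup.mk' N).comp H.subtype).codRestrict L fun x => x.2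
  have hf0 : Function.Surjective f0 := by
    rintro ⟨y, hy⟩
    obtain ⟨x, rfl⟩ := QuotientGroup.mk'_surjective N y
    exact ⟨⟨x, hy⟩, rfl⟩
  let f : H →* L ⧸ center L := (QuotientGroup.mk' (center L)).comp f0
  have hf : Function.Surjective f := (QuotientGroup.mk'_surjective _).comp hf0
  let e : H ⧸ f.ker ≃* L ⧸ center L := QuotientGroup.quotientKerEquivOfSurjective f hf
  have := hL.2.2
  refine OutS.congr e (hK H (hL.1.comap _) f.ker e.isSimpleGroup fun hc => ?_)
  apply IsQuasisimple.not_isSolvable hL.2
  have : IsMulCommutative (L ⧸ center L) := ⟨⟨fun a b => by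
    obtain ⟨a, rfl⟩ := e.surjective a
    obtain ⟨b, rfl⟩ := e.surjective b
    rw [← map_mul, ← map_mul, hc.1.1 a b]⟩⟩
  have : Group.IsSolvable (L ⧸ center L) :=
    Group.isSolvable_of_comm fun a b => (this.1.1 a b)
  have : Group.IsSolvable (center L) :=
    Group.isSolvable_of_comm fun a b => Subtype.ext (mem_center_iff.1 b.2 a)
  exact Group.isSolvable_of_ker_le_range (center L).subtype (QuotientGroup.mk' (center L))
    (by rw [QuotientGroup.ker_mk', range_subtype])

end aux

open H23 in
theorem l_balance_of_compS {X : Type u} [Group X] [Finite X] (hK : CompS X) (p : ℕ) [Fact p.Prime]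
    (P : Subgroup X) (hP : IsPGroup p P) :
    (Cfsg.pLayer p (Subgroup.centralizer (P : Set X))).map (Subgroup.centralizer (P : Set X)).subtype
      ≤ Cfsg.pLayer p X := by
  have h1 : (play p (Subgroup.centralizer (P : Set X))).map (piO p X) ≤
      Cfsg.layer (X ⧸ Cfsg.pPrimeCore p X) := by
    rw [map_play_of_cop_ker _ (cop_ker_piO p X),
      map_centralizer_of_cop_ker (piO_surj p X) (cop_ker_piO p X) hP]
    exact lb_core (H2.pPrimeCore_quotient_pPrimeCore p X) (hK.component_quot _) (hP.map _)
  rw [Subgroup.map_le_iff_le_comap, comap_layer_piO] at h1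
  change play p (Subgroup.centralizer (P : Set X)) ≤ _
  rw [← pGen_play]
  exact pGen_le_iff.2 fun Q hQ hQp => le_of_isSubnormal_of_le_sup
    (Subgroup.Normal.isSubnormal inferInstance) (H2.pPrimeCore_coprime p X) hQp (hQ.trans h1)

open H23 Subgroup in
theorem lb_play_eq {G : Type u} [Group G] [Finite G] (p : ℕ) [Fact p.Prime] {a b : G}
    (hK : CompS ↥(normalizer ((zpowers a : Subgroup G) : Set G))) (ha : orderOf a = p)
    (hb : orderOf b = p) (hab : a * b = b * a) :
    play p (play p (centralizer ({a} : Set G)) ⊓ centralizer ({b} : Set G)) =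
      play p (centralizer ({a} : Set G) ⊓ centralizer ({b} : Set G)) := by
  set N := normalizer ((zpowers a : Subgroup G) : Set G) with hN
  have hA : centralizer ({a} : Set G) ≤ N := by
    rw [← centralizer_zpowers]; exact centralizer_le_normalizer _
  have hNA : N ≤ normalizer ((centralizer ({a} : Set G) : Subgroup G) : Set G) := by
    rw [← centralizer_zpowers]; exact normalizer_le_normalizer_centralizer _
  have hbN : zpowers b ≤ N := zpowers_le.2 (hA (mem_centralizer_singleton_iff.2 hab.symm))
  have h1 : play p (N ⊓ centralizer ({b} : Set G)) ≤ play p N := by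
    have h := map_mono (f := N.subtype) (l_balance_of_compS hK p ((zpowers b).subgroupOf N)
      (isPGroup_zpowers_of_orderOf hb).comap_subtype)
    change (play p _).map N.subtype ≤ play p N at h
    rwa [map_play_of_cop_ker _ (cop_ker_of_injective N.subtype_injective),
      subgroupOf_centralizer hbN, subgroupOf_map_subtype, inf_comm, centralizer_zpowers] at h
  have h2 : play p N = play p (centralizer ({a} : Set G)) := by
    rw [hN, play_normalizer_eq_play_centralizer (isPGroup_zpowers_of_orderOf ha),
      centralizer_zpowers]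
  have h3 : play p (centralizer ({a} : Set G) ⊓ centralizer ({b} : Set G)) ≤
      play p (N ⊓ centralizer ({b} : Set G)) :=
    play_mono (inf_le_inf_right _ hA) (isSubnormal_subgroupOf_of_le_normalizer
      (le_normalizer_inf (inf_le_left.trans hNA) (le_normalizer_of_le inf_le_right)))
  apply le_antisymm
  · exact play_mono (inf_le_inf_right _ (play_le p _)) (isSubnormal_subgroupOf_of_le_normalizer
      (le_normalizer_inf (inf_le_left.trans (le_normalizer.trans (normalizer_le_normalizer_play _)))
        (le_normalizer_of_le inf_le_right)))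
  · exact play_mono_of_le (le_inf (h3.trans (h1.trans h2.le)) ((play_le p _).trans inf_le_right))
      (inf_le_inf_right _ (play_le p _))

theorem l_balance_comm_of_compS {G : Type u} [Group G] [Finite G] (p : ℕ) [Fact p.Prime]
    (hK : ∀ T : Subgroup G, IsPGroup p ↥T → T ≠ ⊥ → CompS ↥(Subgroup.normalizer (T : Set G)))
    (a b : G) (ha : orderOf a = p) (hb : orderOf b = p) (hab : a * b = b * a) :
    (Cfsg.pLayer p ↥((Cfsg.pLayer p ↥(Subgroup.centralizer ({a} : Set G))).map (Subgroup.centralizer ({a} : Set G)).subtype ⊓ Subgroup.centralizer ({b} : Set G))).map ((Cfsg.pLayer p ↥(Subgroup.centralizer ({a} : Set G))).map (Subgroup.centralizer ({a} : Set G)).subtype ⊓ Subgroup.centralizer ({b} : Set G)).subtype = (Cfsg.pLayer p ↥((Cfsg.pLayer p ↥(Subgroup.centralizer ({b} : Set G))).map (Subgroup.centralizer ({b} : Set G)).subtype ⊓ Subgroup.centralizer ({a} : Set G))).map ((Cfsg.pLayer p ↥(Subgroup.centralizer ({b} : Set G))).map (Subgroup.centralizer ({b} : Set G)).subtype ⊓ Subgroup.centralizer ({a} : Set G)).subtype :=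 by
  have hne : ∀ x : G, orderOf x = p → Subgroup.zpowers x ≠ ⊥ := fun x hx h => by
    rw [Subgroup.zpowers_eq_bot] at h
    rw [h, orderOf_one] at hx
    exact (Fact.out : p.Prime).one_lt.ne hx
  have h1 := lb_play_eq p (hK _ (H23.isPGroup_zpowers_of_orderOf ha) (hne a ha)) ha hb hab
  have h2 := lb_play_eq p (hK _ (H23.isPGroup_zpowers_of_orderOf hb) (hne b hb)) hb ha hab.symm
  rw [inf_comm (Subgroup.centralizer ({b} : Set G))] at h2
  exact h1.trans h2.symm

end H0.Sch
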