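import Mathlib
import Cfsg.Agent.H0.F23b

/-! Primitive Fischer spaces without an ambient class. -/

set_option autoImplicit false
set_option linter.unusedSectionVars false
set_option maxRecDepth 100000

namespace H0

open H15 H15.Form Module H29

variable {G : Type*} [Group G]

/-- `E` is a primitive Fischer space -/
structure LQ (E : Set G) : Prop where
  ptt : PTT (sub E)

def F22q (E : Set G) : Prop := ∀ x ∈ E, LQ (Dx E x) ∧ MU (Dx E x) 6

namespace LQ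

variable {E : Set G} (h : LQ E)
include h

theorem cj_image (g : G) : LQ (cj g '' E) := by
  refine ⟨?_⟩
  have hm : (Subgroup.closure E).map (MulAut.conj g).toMonoidHom = Subgroup.closure (cj g '' E) :=
    MonoidHom.map_closure _ _
  let f : Subgroup.closure E →* Subgroup.closure (cj g '' E) :=
    ((MulAut.conj g).toMonoidHom.comp (Subgroup.closure E).subtype).codRestrict _ fun x => by
      rw [← hm]; exact ⟨x, x.2, rfl⟩
  have hf : Function.Surjective f := by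
    rintro ⟨y, hy⟩
    rw [← hm] at hy
    obtain ⟨x, hx, rfl⟩ := hy
    exact ⟨⟨x, hx⟩, rfl⟩
  have := h.ptt.map f hf fun x _ y _ e =>
    Subtype.ext (cj_injective g (congrArg Subtype.val e))
  convert this using 1
  ext y
  constructor
  · rintro ⟨x, hx, e⟩
    exact ⟨⟨x, Subgroup.subset_closure hx⟩, hx, Subtype.ext e⟩
  · rintro ⟨x, hx, rfl⟩
    exact ⟨x, hx, rfl⟩

theorem sq {x : G} (hx : x ∈ E) : x * x = 1 :=
  congrArg Subtype.val (h.ptt.sq ⟨x, Subgroup.subset_closure hx⟩ hx)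

theorem inv {x : G} (hx : x ∈ E) : x⁻¹ = x := inv_eq_of_sq (h.sq hx)

theorem braid {x y : G} (hx : x ∈ E) (hy : y ∈ E) (hxy : ¬ Commute x y) : cj x y = cj y x :=
  congrArg Subtype.val (h.ptt.braid (d := ⟨x, Subgroup.subset_closure hx⟩)
    (e := ⟨y, Subgroup.subset_closure hy⟩) hx hy fun e => hxy (commute_coe.2 e))

theorem cj_mul_adj {x y : G} (hx : x ∈ E) (hy : y ∈ E) (hxy : ¬ Commute x y) :
    cj (x * y) x = y :=
  congrArg Subtype.val (h.ptt.cj_mul_adj (d := ⟨x, Subgroup.subset_closure hx⟩)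
    (e := ⟨y, Subgroup.subset_closure hy⟩) hx hy fun e => hxy (commute_coe.2 e))

theorem cj_cj_same {x : G} (hx : x ∈ E) (y : G) : cj x (cj x y) = y := by
  rw [cj_cj, h.sq hx, cj_one]

theorem conj {x g : G} (hx : x ∈ E) (hg : g ∈ Subgroup.closure E) : cj g x ∈ E :=
  h.ptt.conj ⟨x, Subgroup.subset_closure hx⟩ hx ⟨g, hg⟩

theorem cj_mem {x y : G} (hx : x ∈ E) (hy : y ∈ E) : cj x y ∈ E :=
  h.conj hy (Subgroup.subset_closure hx)

theorem mem_cj {x g : G} (hg : g ∈ Subgroup.closure E) : cj g x ∈ E ↔ x ∈ E :=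
  ⟨fun h1 => by simpa using h.conj h1 (inv_mem hg), fun h1 => h.conj h1 hg⟩

theorem image_self {g : G} (hg : g ∈ Subgroup.closure E) : cj g '' E = E := by
  ext x
  rw [mem_image_cj', h.mem_cj (inv_mem hg)]

theorem image_Dx {g : G} (hg : g ∈ Subgroup.closure E) (d : G) :
    cj g '' Dx E d = Dx E (cj g d) := by
  rw [image_Dx', h.image_self hg]

theorem mem_Dx_cj {g d y : G} (hg : g ∈ Subgroup.closure E) :
    cj g y ∈ Dx E (cj g d) ↔ y ∈ Dx E d := by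
  rw [← h.image_Dx hg, mem_image_cj]

theorem mem_Ln_cj {g p q z : G} (hg : g ∈ Subgroup.closure E) :
    cj g z ∈ Ln E (cj g p) (cj g q) ↔ z ∈ Ln E p q := by
  conv_lhs => rw [← h.image_self hg]
  exact mem_Ln_cj'

theorem cj_mem_Dx {d x y : G} (hx : x ∈ Dx E d) (hy : y ∈ Dx E d) : cj x y ∈ Dx E d := by
  have := (h.mem_Dx_cj (Subgroup.subset_closure hx.1)).2 hy
  rwa [cj_of_commute hx.2.2.symm] at this

theorem trans {x y : G} (hx : x ∈ E) (hy : y ∈ E) : ∃ g ∈ Subgroup.closure E, cj g x = y := by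
  obtain ⟨g, hg⟩ := h.ptt.trans ⟨x, Subgroup.subset_closure hx⟩ hx
    ⟨y, Subgroup.subset_closure hy⟩ hy
  exact ⟨g, g.2, congrArg Subtype.val hg⟩

theorem nonempty : E.Nonempty := by
  obtain ⟨d, hd, -⟩ := h.ptt.comm
  exact ⟨d, hd⟩

theorem Dx_ne {d : G} (hd : d ∈ E) : (Dx E d).Nonempty := by
  obtain ⟨y, hy⟩ := h.ptt.Dx_ne (d := ⟨d, Subgroup.subset_closure hd⟩) hd
  exact ⟨y, mem_Dx_sub.1 hy⟩

theorem adj_ne {d : G} (hd : d ∈ E) : ∃ y ∈ E, ¬ Commute d y := by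
  obtain ⟨y, hy, h1⟩ := h.ptt.adj_ne (d := ⟨d, Subgroup.subset_closure hd⟩) hd
  exact ⟨y, hy, fun h2 => h1 (commute_coe.1 h2)⟩

theorem comm_closed {U : Set G} (hU : ∀ x ∈ U, x ∈ E → ∀ y ∈ E, Commute x y → y ∈ U) {u : G}
    (hu : u ∈ U) (huE : u ∈ E) : E ⊆ U := fun x hx =>
  (h.ptt.comm_closed (U := {x | (x : G) ∈ U ∧ (x : G) ∈ E})
    (fun x hx y hy hc => ⟨hU x hx.1 hx.2 y hy (commute_coe.2 hc), hy⟩)
    (u := ⟨u, Subgroup.subset_closure huE⟩) ⟨hu, huE⟩ huE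
    (a := ⟨x, Subgroup.subset_closure hx⟩) hx).1

theorem adj_closed {U : Set G} (hU : ∀ x ∈ U, x ∈ E → ∀ y ∈ E, ¬ Commute x y → y ∈ U) {u : G}
    (hu : u ∈ U) (huE : u ∈ E) : E ⊆ U := fun x hx =>
  (h.ptt.adj_closed (U := {x | (x : G) ∈ U ∧ (x : G) ∈ E})
    (fun x hx y hy hc => ⟨hU x hx.1 hx.2 y hy (fun h' => hc (commute_coe.1 h')), hy⟩)
    (u := ⟨u, Subgroup.subset_closure huE⟩) ⟨hu, huE⟩ huE
    (a := ⟨x, Subgroup.subset_closure hx⟩) hx).1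

variable [Finite G]

theorem sep {x y : G} (hx : x ∈ E) (hy : y ∈ E) (hxy : x ≠ y) :
    ∃ f ∈ Dx E x, ¬ Commute f y := by
  obtain ⟨f, hf, h1⟩ := h.ptt.sep (x := ⟨x, Subgroup.subset_closure hx⟩)
    (y := ⟨y, Subgroup.subset_closure hy⟩) hx hy (fun e => hxy (congrArg Subtype.val e))
  exact ⟨f, mem_Dx_sub.1 hf, fun h2 => h1 (commute_coe.1 h2)⟩

/-- a point is determined by the points commuting with it -/
theorem eq_of_comm {x y : G} (hx : x ∈ E) (hy : y ∈ E)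
    (hc : ∀ f ∈ E, f ≠ x → Commute f x → Commute f y) : x = y := by
  by_contra hne
  obtain ⟨f, hf, h1⟩ := h.sep hx hy hne
  exact h1 (hc f hf.1 hf.2.1 hf.2.2.symm)

theorem Dx_connected {d x y : G} (hd : d ∈ E) (hx : x ∈ Dx E d) (hy : y ∈ Dx E d) :
    y ∈ Comp E d x := by
  have := h.ptt.Dx_connected (d := ⟨d, Subgroup.subset_closure hd⟩)
    (x := ⟨x, Subgroup.subset_closure hx.1⟩) (y := ⟨y, Subgroup.subset_closure hy.1⟩) hd
    (mem_Dx_sub.2 hx) (mem_Dx_sub.2 hy)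
  exact rtg_lift' (R := AdjIn (sub E) ⟨d, Subgroup.subset_closure hd⟩) (S := AdjIn E d)
    (fun z : Subgroup.closure E => (z : G))
    (fun a b hab => ⟨mem_Dx_sub.1 hab.1, mem_Dx_sub.1 hab.2.1,
      fun h' => hab.2.2 (commute_coe.1 h')⟩) this

theorem Dx_trans {d x y : G} (hd : d ∈ E) (hx : x ∈ Dx E d) (hy : y ∈ Dx E d) :
    ∃ g ∈ Subgroup.closure (Dx E d), cj g x = y := by
  have h1 := h.Dx_connected hd hx hy
  clear hy
  induction h1 with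
  | refl => exact ⟨1, one_mem _, cj_one _⟩
  | tail _ hbc ih =>
    obtain ⟨g, hg, rfl⟩ := ih
    refine ⟨_ * _ * g, mul_mem (mul_mem (Subgroup.subset_closure hbc.1)
      (Subgroup.subset_closure hbc.2.1)) hg, ?_⟩
    rw [← cj_cj]
    exact h.cj_mul_adj hbc.1.1 hbc.2.1.1 hbc.2.2

theorem comm_pair_trans {a b c d : G} (ha : a ∈ E) (hc : c ∈ E) (hb : b ∈ Dx E a)
    (hd : d ∈ Dx E c) : ∃ g ∈ Subgroup.closure E, cj g a = c ∧ cj g b = d := by
  obtain ⟨g, h1, h2⟩ := h.ptt.comm_pair_trans (a := ⟨a, Subgroup.subset_closure ha⟩)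
    (b := ⟨b, Subgroup.subset_closure hb.1⟩) (c := ⟨c, Subgroup.subset_closure hc⟩)
    (d := ⟨d, Subgroup.subset_closure hd.1⟩) ha hc (mem_Dx_sub.2 hb) (mem_Dx_sub.2 hd)
  exact ⟨g, g.2, congrArg Subtype.val h1, congrArg Subtype.val h2⟩

theorem adj_pair_trans {a b c d : G} (ha : a ∈ E) (hb : b ∈ E) (hc : c ∈ E) (hd : d ∈ E)
    (hab : ¬ Commute a b) (hcd : ¬ Commute c d) :
    ∃ g ∈ Subgroup.closure E, cj g a = c ∧ cj g b = d := by
  obtain ⟨g, h1, h2⟩ := h.ptt.adj_pair_trans (a := ⟨a, Subgroup.subset_closure ha⟩)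
    (b := ⟨b, Subgroup.subset_closure hb⟩) (c := ⟨c, Subgroup.subset_closure hc⟩)
    (d := ⟨d, Subgroup.subset_closure hd⟩) ha hb hc hd (fun e => hab (commute_coe.2 e))
    (fun e => hcd (commute_coe.2 e))
  exact ⟨g, g.2, congrArg Subtype.val h1, congrArg Subtype.val h2⟩

/-- `μ > 0` -/
theorem mu_pos {x y : G} (hx : x ∈ E) (hy : y ∈ E) (hxy : ¬ Commute x y) :
    (Dx E x ∩ Dx E y).Nonempty := by
  obtain ⟨p, hp⟩ := h.Dx_ne hx
  obtain ⟨e, he, hep⟩ := h.sep hp.1 hx hp.2.1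
  obtain ⟨g, hg, h1, h2⟩ := h.adj_pair_trans hx he.1 hx hy (fun h' => hep h'.symm) hxy
  refine ⟨cj g p, ?_, ?_⟩
  · rw [← h1]; exact (h.mem_Dx_cj hg).2 hp
  · rw [← h2]; exact (h.mem_Dx_cj hg).2 ⟨hp.1, he.2.1.symm, he.2.2.symm⟩

/-- an `A₄` diagram `x - y - n - m` on any edge -/
theorem exists_A4 {x y : G} (hx : x ∈ E) (hy : y ∈ E) (hxy : ¬ Commute x y) :
    ∃ n ∈ E, ∃ m ∈ E, ¬ Commute y n ∧ ¬ Commute n m ∧ Commute x n ∧ Commute x m ∧
      Commute y m := by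
  obtain ⟨m0, hm0⟩ := h.mu_pos hx hy hxy
  obtain ⟨f, hf, hfy⟩ := h.sep hx hy (fun e => hxy (e ▸ Commute.refl x))
  by_contra hcon
  push Not at hcon
  have := rtg_closed (R := AdjIn E x) (U := {z | Commute y z}) (fun a ha b hab => by
    by_contra hb
    exact hcon b hab.2.1.1 a hab.1.1 hb (fun e => hab.2.2 e.symm) hab.2.1.2.2 hab.1.2.2 ha)
    (h.Dx_connected hx hm0.1 hf) hm0.2.2.2
  exact hfy (Commute.symm this)

theorem line_eq {L : Set G} (hL : IsLine E L) {a b : G} (ha : a ∈ L) (hb : b ∈ L) (hne : a ≠ b) :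
    Ln E a b = L := by
  obtain ⟨p, hp, q, hq, hpq, hc, rfl⟩ := hL
  have hl := isLine_Ln (D := sub E) (p := ⟨p, Subgroup.subset_closure hp⟩)
    (q := ⟨q, Subgroup.subset_closure hq⟩) hp hq (fun e => hpq (congrArg Subtype.val e))
    (commute_coe.1 hc)
  have := h.ptt.line_eq hl (a := ⟨a, Subgroup.subset_closure ha.1⟩)
    (b := ⟨b, Subgroup.subset_closure hb.1⟩) (mem_Ln_sub.2 ha) (mem_Ln_sub.2 hb)
    (fun e => hne (congrArg Subtype.val e))
  ext z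
  constructor
  · intro hz
    have h1 := (mem_Ln_sub (p := ⟨a, Subgroup.subset_closure ha.1⟩)
      (q := ⟨b, Subgroup.subset_closure hb.1⟩) (z := ⟨z, Subgroup.subset_closure hz.1⟩)).2 hz
    rw [this] at h1
    exact mem_Ln_sub.1 h1
  · intro hz
    have h1 := (mem_Ln_sub (p := ⟨p, Subgroup.subset_closure hp⟩)
      (q := ⟨q, Subgroup.subset_closure hq⟩) (z := ⟨z, Subgroup.subset_closure hz.1⟩)).2 hz
    rw [← this] at h1
    exact mem_Ln_sub.1 h1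

theorem all_of_two {L : Set G} (hL : IsLine E L) {a b w z : G} (ha : a ∈ L) (hb : b ∈ L)
    (hne : a ≠ b) (hw : w ∈ E) (h1 : Commute w a) (h2 : Commute w b) (hz : z ∈ L) :
    Commute w z := by
  rw [← h.line_eq hL ha hb hne] at hz
  exact hz.2 w hw h1 h2

theorem pol (ht : Thick E) : Pol (sub E) := by
  obtain ⟨d, hd, a, ha, b, hb, h1, h2⟩ := ht
  exact ⟨h.ptt, ⟨d, Subgroup.subset_closure hd⟩, hd, ⟨a, Subgroup.subset_closure ha.1⟩,
    mem_Dx_sub.2 ha, ⟨b, Subgroup.subset_closure hb.1⟩, mem_Ln_sub.2 hb,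
    fun e => h1 (congrArg Subtype.val e), fun e => h2 (congrArg Subtype.val e)⟩

theorem exists_third (ht : Thick E) {p q : G} (hp : p ∈ E) (hq : q ∈ Dx E p) :
    ∃ c ∈ Ln E p q, c ≠ p ∧ c ≠ q := by
  obtain ⟨d, hd, a, ha, b, hb, h1, h2⟩ := ht
  obtain ⟨g, hg, rfl, rfl⟩ := h.comm_pair_trans hd hp ha hq
  exact ⟨cj g b, (h.mem_Ln_cj hg).2 hb, fun e => h1 (cj_inj.1 e), fun e => h2 (cj_inj.1 e)⟩

theorem exists_mu (ht : Thick E) {p q y : G} (hp : p ∈ E) (hq : q ∈ Dx E p) (hy : y ∈ E) :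
    ∃ m ∈ Ln E p q, Commute y m := by
  obtain ⟨m, hm, h1⟩ := (h.pol ht).exists_mu (isLine_Ln (D := sub E)
    (p := ⟨p, Subgroup.subset_closure hp⟩) (q := ⟨q, Subgroup.subset_closure hq.1⟩) hp hq.1
    (fun e => hq.2.1 (congrArg Subtype.val e).symm) (commute_coe.1 hq.2.2))
    (y := ⟨y, Subgroup.subset_closure hy⟩) hy
  exact ⟨m, mem_Ln_sub.1 hm, commute_coe.2 h1⟩

theorem exists_adj_M (ht : Thick E) {x y m : G} (hx : x ∈ E) (hy : y ∈ E) (hm : m ∈ E)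
    (hxy : ¬ Commute x y) (hmx : Commute m x) (hmy : Commute m y) :
    ∃ e ∈ E, Commute e x ∧ Commute e y ∧ ¬ Commute e m := by
  obtain ⟨e, he, h1, h2, h3⟩ := (h.pol ht).exists_adj_M (x := ⟨x, Subgroup.subset_closure hx⟩)
    (y := ⟨y, Subgroup.subset_closure hy⟩) (m := ⟨m, Subgroup.subset_closure hm⟩) hx hy hm
    (fun e => hxy (commute_coe.2 e)) (commute_coe.1 hmx) (commute_coe.1 hmy)
  exact ⟨e, he, commute_coe.2 h1, commute_coe.2 h2, fun e => h3 (commute_coe.1 e)⟩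

theorem hyp_line (ht : Thick E) {x y z : G} (hx : x ∈ E) (hy : y ∈ E) (hxy : ¬ Commute x y)
    (hz : z ∈ Ln E x y) : z = x ∨ z = y ∨ z = cj x y := by
  have := (h.pol ht).hyp_line (x := ⟨x, Subgroup.subset_closure hx⟩)
    (y := ⟨y, Subgroup.subset_closure hy⟩) hx hy (fun e => hxy (commute_coe.2 e))
    (z := ⟨z, Subgroup.subset_closure hz.1⟩) (mem_Ln_sub.2 hz)
  simpa only [Subtype.ext_iff, coe_cj] using this

/-- thick spaces are symplectic or unitary -/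
theorem model (ht : Thick E) : (∃ m, 2 ≤ m ∧ MSp E m) ∨ ∃ n, 4 ≤ n ∧ MU E n := by
  classical
  have P := h.ptt
  set K := Subgroup.closure E
  let π := QuotientGroup.mk' (Subgroup.center K)
  have hπ : Function.Surjective π := QuotientGroup.mk'_surjective _
  have hi : Set.InjOn π (sub E) := by
    intro x hx y hy e
    by_contra hne
    obtain ⟨f, hf, h1⟩ := P.sep hx hy hne
    apply h1
    have hz : x⁻¹ * y ∈ Subgroup.center K := QuotientGroup.eq.1 e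
    have : y = x * (x⁻¹ * y) := by group
    rw [this]
    exact hf.2.2.symm.mul_right (Subgroup.mem_center_iff.1 hz f)
  have hc : ∀ g : K, ∀ x ∈ sub E, Commute (π g) (π x) ↔ Commute g x := by
    refine fun g x hx => ⟨fun e => ?_, fun e => e.map π⟩
    rw [← cj_eq_self] at e ⊢
    exact hi (P.conj x hx g) hx (by rw [map_cj, e])
  have hZ : Subgroup.center (K ⧸ Subgroup.center K) = ⊥ := by
    rw [eq_bot_iff]
    intro g hg
    obtain ⟨g, rfl⟩ := hπ g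
    rw [Subgroup.mem_bot]
    apply (QuotientGroup.eq_one_iff g).2
    rw [Subgroup.mem_center_iff]
    intro k
    have hk : k ∈ Subgroup.closure (sub E) := by rw [P.gen]; trivial
    have : Commute g k := by
      induction hk using Subgroup.closure_induction with
      | mem z hz => exact (hc g z hz).1 (Subgroup.mem_center_iff.1 hg _).symm
      | one => exact Commute.one_right _
      | mul p q _ _ hp hq => exact hp.mul_right hq
      | inv p _ hp => exact hp.inv_right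
    exact this.symm.eq
  have hpol : Pol (π '' sub E) := by
    obtain ⟨d, hd, a, ha, b, hb, h1, h2⟩ := (h.pol ht).thick
    refine ⟨P.map π hπ hi, _, ⟨d, hd, rfl⟩, π a, ⟨⟨a, ha.1, rfl⟩,
      fun e => ha.2.1 (hi ha.1 hd e), ha.2.2.map π⟩, π b, ⟨⟨b, hb.1, rfl⟩, ?_⟩,
      fun e => h1 (hi hb.1 hd e), fun e => h2 (hi hb.1 ha.1 e)⟩
    rintro _ ⟨w, hw, rfl⟩ e1 e2
    exact (hb.2 w hw ((hc w d hd).1 e1) ((hc w a ha.1).1 e2)).map π
  have key : ∀ {F : Type} [Field F] {σ : F →+* F} {V : Type} [AddCommGroup V] [Module F V]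
      (Φ : Form σ V) (φ : _ → V), Model (π '' sub E) Φ φ → ∃ ψ, Model E Φ ψ := by
    intro F _ σ V _ _ Φ φ hφ
    refine ⟨fun x => if hx : x ∈ K then φ (π ⟨x, hx⟩) else 0, fun x hx z hz => ?_, fun p hp => ?_⟩
    · have hx' : x ∈ K := Subgroup.subset_closure hx
      have hz' : z ∈ K := Subgroup.subset_closure hz
      simp only [dif_pos hx', dif_pos hz']
      rw [← hφ.1 _ ⟨⟨x, hx'⟩, hx, rfl⟩ _ ⟨⟨z, hz'⟩, hz, rfl⟩, hc _ _ hz, commute_mk]
    · obtain ⟨_, ⟨x, hx, rfl⟩, c, hc0, e⟩ := hφ.2 p hp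
      exact ⟨x, hx, c, hc0, by simp only [dif_pos x.2]; exact e⟩
  rcases hpol.model hZ with ⟨m, hm, φ, hφ⟩ | ⟨n, hn, φ, hφ⟩
  · exact Or.inl ⟨m, hm, key _ φ hφ⟩
  · exact Or.inr ⟨n, hn, key _ φ hφ⟩

section Model

variable {F : Type*} [Field F] {σ : F →+* F} {V : Type*} [AddCommGroup V] [Module F V]
  [FiniteDimensional F V] {Φ : Form σ V} (hΦ : TF Φ) (hQ : ∀ v, Φ.Q v = Φ.τ) {φ : G → V}
  (M : Model E Φ φ)
include hΦ hQ M

theorem model_pt {x : G} (hx : x ∈ E) : Pt Φ (φ x) := by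
  obtain ⟨y, hy, hxy⟩ := h.adj_ne hx
  exact ⟨fun h0 => hxy ((M.1 x hx y hy).2 (by simp [h0])), (M.1 x hx x hx).1 (Commute.refl x), hQ _⟩

theorem model_Ln {x y z : G} (hx : x ∈ E) (hy : y ∈ E) (hz : z ∈ E) {a b : F}
    (e : φ z = a • φ x + b • φ y) : z ∈ Ln E x y := by
  refine ⟨hz, fun w hw h1 h2 => ?_⟩
  rw [M.1 w hw _ ‹_›] at h1 h2 ⊢
  simp [e, h1, h2]

theorem model_inj {x y : G} (hx : x ∈ E) (hy : y ∈ E) {c : F} (e : φ x = c • φ y) : x = y := by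
  refine (h.eq_of_comm hy hx fun f hf _ h1 => ?_).symm
  rw [M.1 f hf _ ‹_›] at h1 ⊢
  simp [e, h1]

/-- every isotropic vector is a nonzero multiple of a point, in the convenient direction -/
theorem model_surj {p : V} (hp : p ≠ 0) (hpp : Φ.B p p = 0) :
    ∃ x ∈ E, ∃ c : F, c ≠ 0 ∧ φ x = c • p := by
  obtain ⟨x, hx, c, hc, e⟩ := M.2 p ⟨hp, hpp, hQ _⟩
  exact ⟨x, hx, c⁻¹, inv_ne_zero hc, by rw [e, smul_smul, inv_mul_cancel₀ hc, one_smul]⟩

theorem model_cj (ht : Thick E) {x y : G} (hx : x ∈ E) (hy : y ∈ E) :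
    ∃ c : F, c ≠ 0 ∧ φ (cj x y) = c • (φ y + Φ.B (φ x) (φ y) • φ x) := by
  by_cases hb : Φ.B (φ x) (φ y) = 0
  · exact ⟨1, one_ne_zero, by rw [cj_of_commute ((M.1 x hx y hy).2 hb)]; simp [hb]⟩
  have hp := h.model_pt hΦ hQ M hx
  have hq := h.model_pt hΦ hQ M hy
  have hr := hq.map (hΦ.T ⟨_, hp⟩)
  rw [hΦ.T_apply] at hr
  obtain ⟨z, hz, c, hc, e⟩ := h.model_surj hΦ hQ M hr.1 hr.2.1
  have hm : z ∈ Ln E x y := h.model_Ln hΦ hQ M hx hy hz (a := c * Φ.B (φ x) (φ y)) (b := c)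
    (by rw [e, smul_add, smul_smul, add_comm])
  rcases h.hyp_line ht hx hy (fun h' => hb ((M.1 x hx y hy).1 h')) hm with h1 | h1 | h1
  · exfalso
    have := (M.1 x hx z hz).1 (h1 ▸ Commute.refl _)
    simp [e, hp.2.1, hb, hc] at this
  · exfalso
    have := (M.1 y hy z hz).1 (h1 ▸ Commute.refl _)
    simp [e, hq.2.1, hb, hc, hΦ.symm (φ x) (φ y)] at this
  · exact ⟨c, hc, h1 ▸ e⟩

theorem model_span {x y z : G} (hx : x ∈ E) (hy : y ∈ E) (hc : Commute x y) (hz : z ∈ Ln E x y) :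
    ∃ a b : F, φ z = a • φ x + b • φ y := by
  by_contra hcon
  have hτ : Φ.τ = 0 := by rw [← hQ 0, Φ.Q_zero]
  have hn : φ z ∉ Submodule.span F {φ x, φ y} := fun e => by
    obtain ⟨a, b, e⟩ := Submodule.mem_span_pair.1 e
    exact hcon ⟨a, b, e.symm⟩
  have h1 := (M.1 x hx z hz.1).1 (hz.2 x hx (Commute.refl x) hc)
  have h2 := (M.1 y hy z hz.1).1 (hz.2 y hy hc.symm (Commute.refl y))
  obtain ⟨r, k1, k2, k3, -⟩ := hΦ.nd.exists_hyp_partner hn (h.model_pt hΦ hQ M hz.1).2.1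
    (by rw [hQ, hτ]) (fun v hv => by
      obtain ⟨a, b, rfl⟩ := Submodule.mem_span_pair.1 hv
      simp [h1, h2])
  obtain ⟨w, hw, c, hc0, e⟩ := h.model_surj hΦ hQ M (p := r) (by rintro rfl; simp at k2) k3
  have := hz.2 w hw ((M.1 x hx w hw).2 (by
      simp [e, k1 _ (Submodule.subset_span (Set.mem_insert _ _))])).symm
    ((M.1 y hy w hw).2 (by
      simp [e, k1 _ (Submodule.subset_span (Set.mem_insert_of_mem _ rfl))])).symm
  have := (M.1 z hz.1 w hw).1 this.symm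
  simp [e, k2, hc0] at this

theorem model_thick : Thick E := by
  obtain ⟨d, hd⟩ := h.nonempty
  obtain ⟨a, ha⟩ := h.Dx_ne hd
  have hp := h.model_pt hΦ hQ M hd
  have hq := h.model_pt hΦ hQ M ha.1
  have h1 := (M.1 d hd a ha.1).1 ha.2.2
  have h2 := (M.1 a ha.1 d hd).1 ha.2.2.symm
  have hne : ∀ s t : F, s • φ d + t • φ a = 0 → s = 0 ∧ t = 0 := by
    intro s t e
    have ht : t = 0 := by
      by_contra ht
      refine ha.2.1 (h.model_inj hΦ hQ M ha.1 hd (c := -(t⁻¹ * s)) ?_)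
      rw [neg_smul, ← smul_smul, eq_neg_of_add_eq_zero_left e, smul_neg, neg_neg, smul_smul,
        inv_mul_cancel₀ ht, one_smul]
    rw [ht, zero_smul, add_zero, smul_eq_zero] at e
    exact ⟨e.resolve_right hp.1, ht⟩
  obtain ⟨b, hb, c, hc, e⟩ := h.model_surj hΦ hQ M (p := φ d + φ a)
    (fun e => one_ne_zero (hne 1 1 (by simpa using e)).1) (by simp [hp.2.1, hq.2.1, h1, h2])
  refine ⟨d, hd, a, ha, b, h.model_Ln hΦ hQ M hd ha.1 hb (a := c) (b := c) (by rw [e, smul_add]),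
    ?_, ?_⟩
  · rintro rfl
    exact hc (hne (c - 1) c (by rw [sub_smul, one_smul, sub_add_eq_add_sub, ← smul_add, ← e, sub_self])).2
  · rintro rfl
    exact hc (hne c (c - 1) (by rw [sub_smul, one_smul, ← add_sub_assoc, ← smul_add, ← e, sub_self])).1

end Model

theorem thick_of_MU {n : ℕ} (hu : MU E n) : Thick E :=
  let ⟨_, M⟩ := hu; h.model_thick (tf_un F4.card n) (fun _ => rfl) M

theorem thick_of_MSp {m : ℕ} (hu : MSp E m) : Thick E :=
  let ⟨_, M⟩ := hu; h.model_thick (tf_sp m) (fun _ => rfl) M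

omit h in
theorem Ln_swap {d y z w : G} (hd : d ∈ E) (hy : y ∈ Dx E d) (hz : z ∈ Dx (Dx E d) y)
    (hw : w ∈ Ln (Dx E y) d z) (hwd : w ≠ d) : w ∈ Ln (Dx E d) y z := by
  have hd' : d ∈ Dx E y := ⟨hd, hy.2.1.symm, hy.2.2.symm⟩
  refine ⟨⟨hw.1.1, hwd, hw.2 d hd' (Commute.refl d) hz.1.2.2⟩, fun v hv h1 h2 => ?_⟩
  by_cases hvy : v = y
  · rw [hvy]; exact hw.1.2.2
  · exact hw.2 v ⟨hv.1, hvy, h1.symm⟩ hv.2.2.symm h2

omit h in
theorem sect (hr : ∀ d ∈ E, LQ (Dx E d) ∧ Thick (Dx E d)) {d a y z : G}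
    (hd : d ∈ E) (ha : a ∈ E) (hda : ¬ Commute d a) (hy : y ∈ Dx E d) (hya : Commute y a)
    (hz : z ∈ Dx (Dx E d) y) : ∃! m, m ∈ Ln (Dx E d) y z ∧ m ≠ y ∧ Commute m a := by
  have hd' : d ∈ Dx E y := ⟨hd, hy.2.1.symm, hy.2.2.symm⟩
  have ha' : a ∈ Dx E y := ⟨ha, fun e => hda (e ▸ hy.2.2), hya⟩
  have hz' : z ∈ Dx (Dx E y) d := ⟨⟨hz.1.1, hz.2.1, hz.2.2⟩, hz.1.2.1, hz.1.2.2⟩
  obtain ⟨H, ht⟩ := hr y hy.1
  obtain ⟨m, hm, hma⟩ := H.exists_mu ht hd' hz' ha'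
  have hmd : m ≠ d := fun e => hda (e ▸ hma.symm)
  refine ⟨m, ⟨Ln_swap hd hy hz hm hmd, hm.1.2.1, hma.symm⟩, fun m' hm' => ?_⟩
  by_contra hne
  have h1 := Ln_swap hy.1 hd' hz' hm'.1 hm'.2.1
  exact hda (H.all_of_two (isLine_Ln hd' hz'.1 hz'.2.1.symm hz'.2.2) h1 hm hne ha' hm'.2.2.symm
    hma (left_mem_Ln hd')).symm

end LQ

theorem LQ.exists_um [Finite G] {H : Set G} (h : LQ H) (hu : MU H 6) : ∃ π, UM H π := by
  classical
  have ht := h.thick_of_MU hu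
  obtain ⟨φ, M⟩ := hu
  have hΦ := tf_un F4.card 6
  have hQ : ∀ v, (unForm F4.card 6).Q v = (unForm F4.card 6).τ := fun _ => rfl
  have hs : ∀ v, ∃ x, Iso v → x ∈ H ∧ ∃ c : F4, c ≠ 0 ∧ φ x = c • v := fun v => by
    by_cases hv : Iso v
    · obtain ⟨x, hx, e⟩ := h.model_surj hΦ hQ M hv.1 ((hb_eq _ _).trans hv.2)
      exact ⟨x, fun _ => ⟨hx, e⟩⟩
    · exact ⟨1, fun e => absurd e hv⟩
  choose π hπ using hs
  have key : ∀ {x v}, x ∈ H → Iso v → ∀ {c : F4}, φ x = c • v → x = π v := by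
    intro x v hx hv c e
    obtain ⟨h1, c', hc', e'⟩ := hπ v hv
    exact h.model_inj hΦ hQ M hx h1 (c := c * c'⁻¹)
      (by rw [e, e', smul_smul, inv_mul_cancel_right₀ hc'])
  refine ⟨π, fun hv => (hπ _ hv).1, fun {x} hx => ?_, fun {v w} hv hw => ?_,
    fun {v c} hv hc => ?_, fun {v w} hv hw => ?_, fun {v w} hv hw e => ?_,
    fun {v w z} hv hw hz hvw => ?_⟩
  · have := h.model_pt hΦ hQ M hx
    have hi : Iso (φ x) := ⟨this.1, (hb_eq _ _).symm.trans this.2.1⟩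
    exact ⟨_, hi, (key hx hi (one_smul _ _).symm).symm⟩
  · obtain ⟨h1, c, hc, e⟩ := hπ v hv
    obtain ⟨h2, c', hc', e'⟩ := hπ w hw
    rw [M.1 _ h1 _ h2, hb_eq, e, e', hb_smul_left, hb_smul_right]
    simp [hc, hc']
  · obtain ⟨h1, c', hc', e'⟩ := hπ _ (hv.smul hc)
    exact key h1 hv (by rw [e', smul_smul])
  · obtain ⟨h1, c, hc, e⟩ := hπ v hv
    obtain ⟨h2, c', hc', e'⟩ := hπ w hw
    obtain ⟨k, -, e2⟩ := h.model_cj hΦ hQ M ht h1 h2
    refine key (h.cj_mem h1 h2) (hv.tv hw) (c := k * c') ?_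
    rw [e2, hb_eq, e, e', hb_smul_left, hb_smul_right, tv, smul_smul, mul_smul k c', smul_add c',
      smul_smul c']
    congr 3
    linear_combination (c' * hb v w) * F4.cube c hc
  · obtain ⟨h1, c, hc, e1⟩ := hπ v hv
    obtain ⟨h2, c', hc', e2⟩ := hπ w hw
    exact ⟨c⁻¹ * c', by rw [mul_smul, ← e2, ← e, e1, smul_smul, inv_mul_cancel₀ hc, one_smul]⟩
  · obtain ⟨h1, c1, hc1, e1⟩ := hπ v hv
    obtain ⟨h2, c2, hc2, e2⟩ := hπ w hw
    obtain ⟨h3, c3, hc3, e3⟩ := hπ z hz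
    constructor
    · intro hm
      obtain ⟨a, b, e⟩ := h.model_span hΦ hQ M h1 h2 ((M.1 _ h1 _ h2).2 (by
        rw [hb_eq, e1, e2, hb_smul_left, hb_smul_right, hvw]; simp)) hm
      refine ⟨c3⁻¹ * (a * c1), c3⁻¹ * (b * c2), ?_⟩
      rw [mul_smul, mul_smul c3⁻¹, ← smul_add, mul_smul, mul_smul, ← e1, ← e2, ← e, e3, smul_smul,
        inv_mul_cancel₀ hc3, one_smul]
    · rintro ⟨a, b, e⟩
      refine h.model_Ln hΦ hQ M h1 h2 h3 (a := c3 * a * c1⁻¹) (b := c3 * b * c2⁻¹) ?_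
      rw [e3, e1, e2, e, smul_smul, smul_smul, inv_mul_cancel_right₀ hc1, inv_mul_cancel_right₀ hc2,
        smul_add, smul_smul, smul_smul]

theorem HO.cjq {H : Set G} (hL : LQ H) {b : G} (h : HO H b) {g : G}
    (hg : g ∈ Subgroup.closure H) : HO H (H0.cj g b) := by
  obtain ⟨⟨y, hy, h1⟩, h2⟩ := h
  refine ⟨⟨_, hL.conj hy hg, commute_cj.2 h1⟩, fun y hy hyb z hz => ?_⟩
  obtain ⟨y, rfl⟩ : ∃ w, H0.cj g w = y := ⟨_, cj_cj_inv g y⟩
  obtain ⟨z, rfl⟩ : ∃ w, H0.cj g w = z := ⟨_, cj_cj_inv g z⟩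
  obtain ⟨m, ⟨k1, k2, k3⟩, k4⟩ := h2 y ((hL.mem_cj hg).1 hy) (commute_cj.1 hyb) z
    ((hL.mem_Dx_cj hg).1 hz)
  refine ⟨H0.cj g m, ⟨(hL.mem_Ln_cj hg).2 k1, fun e => k2 (cj_inj.1 e), commute_cj.2 k3⟩,
    fun m' hm' => ?_⟩
  obtain ⟨m', rfl⟩ : ∃ w, H0.cj g w = m' := ⟨_, cj_cj_inv g m'⟩
  rw [k4 m' ⟨(hL.mem_Ln_cj hg).1 hm'.1, fun e => hm'.2.1 (by rw [e]), commute_cj.1 hm'.2.2⟩]

theorem F22q.ho [Finite G] {E : Set G} (hr : F22q E) {x b : G} (hx : x ∈ E)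
    (hb : b ∈ E) (hxb : ¬ Commute x b) (hy : ∃ y ∈ Dx E x, Commute y b) : HO (Dx E x) b :=
  ⟨hy, fun _ hy hyb _ hz =>
    LQ.sect (fun d hd => ⟨(hr d hd).1, (hr d hd).1.thick_of_MU (hr d hd).2⟩) hx hb hxb hy hyb hz⟩

theorem LQ.ho [Finite G] {E : Set G} (h : LQ E) (hr : F22q E) {x b : G} (hx : x ∈ E)
    (hb : b ∈ E) (hxb : ¬ Commute x b) : HO (Dx E x) b := by
  obtain ⟨y, hy⟩ := h.mu_pos hx hb hxb
  exact hr.ho hx hb hxb ⟨y, hy.1, hy.2.2.2.symm⟩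

theorem UM.normq [Finite G] {H : Set G} (hL : LQ H) {π : V6 → G} (h : UM H π) {b : G}
    (hb : HO H b) : ∃ g ∈ Subgroup.closure H, ∃ k : F4, k ≠ 0 ∧
      Std (fun v => π (H0.sc k v)) (H0.cj g b) := by
  obtain ⟨y, hy, hyb⟩ := hb.1
  obtain ⟨g0, hg0, e0⟩ := hL.trans hy (h.mem (v := dec 1280) (by decide))
  have a0 : Commute (H0.cj g0 b) (π (dec 1280)) := e0 ▸ commute_cj.2 hyb.symm
  have b0 := hb.cjq hL hg0
  obtain ⟨g1, hg1, a1, t⟩ := h.shift_step b0 a0 (u := dec 5) (v := dec 20) (by decide) (by decide)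
    (by decide)
  have a0 := t _ (by decide) (by decide) (by decide) a0
  have b0 := b0.cjq hL hg1
  obtain ⟨g2, hg2, a2, t⟩ := h.shift_step b0 a0 (u := dec 20) (v := dec 80) (by decide) (by decide)
    (by decide)
  have a0 := t _ (by decide) (by decide) (by decide) a0
  have a1 := t _ (by decide) (by decide) (by decide) a1
  have b0 := b0.cjq hL hg2
  obtain ⟨g3, hg3, a3, t⟩ := h.shift_step b0 a0 (u := dec 80) (v := dec 149) (by decide) (by decide)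
    (by decide)
  have a0 := t _ (by decide) (by decide) (by decide) a0
  have a1 := t _ (by decide) (by decide) (by decide) a1
  have a2 := t _ (by decide) (by decide) (by decide) a2
  have b0 := b0.cjq hL hg3
  obtain ⟨g4, hg4, a4, t⟩ := h.shift_step b0 a0 (u := dec 9) (v := dec 85) (by decide) (by decide)
    (by decide)
  have a0 := t _ (by decide) (by decide) (by decide) a0
  have a1 := t _ (by decide) (by decide) (by decide) a1
  have a2 := t _ (by decide) (by decide) (by decide) a2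
  have a3 := t _ (by decide) (by decide) (by decide) a3
  have b0 := b0.cjq hL hg4
  obtain ⟨k, hk⟩ := h.s1 b0 (y := dec 1280) (z := dec 85) (by decide) a0
  have hk0 : k ≠ 0 := by
    rintro rfl
    refine absurd (h.s2 b0 (y := dec 5) (z := dec 80) (by decide) a1 a3 (c := 1) ?_) one_ne_zero
    rwa [show dec 80 + (1 : F4) • dec 5 = dec 85 + (0 : F4) • dec 1280 by decide]
  refine ⟨g4 * (g3 * (g2 * (g1 * g0))), mul_mem hg4 (mul_mem hg3 (mul_mem hg2 (mul_mem hg1 hg0))),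
    k, hk0, ?_⟩
  simp only [← cj_cj]
  have e : ∀ k : F4, H0.sc k (dec 1280) = k • dec 1280 ∧ H0.sc k (dec 5) = dec 5 ∧
      H0.sc k (dec 20) = dec 20 ∧ H0.sc k (dec 80) = dec 80 ∧ H0.sc k (dec 9) = dec 9 ∧
      H0.sc k (dec 1365) = dec 85 + k • dec 1280 := by decide
  obtain ⟨e0, e1, e2, e3, e4, e5⟩ := e k
  refine (h.sc hk0).std_z b0 ?_ ?_ ?_ ?_ ?_ ?_
  · rwa [e0, h.smul (by decide) hk0]
  · rwa [e1]
  · rwa [e2]
  · rwa [e3]
  · rwa [e4]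
  · rwa [e5]

end H0
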