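import Mathlib
import Cfsg.Agent.H0.W1

/-! The endgame: a subgroup containing the centraliser of a transposition is everything. -/

set_option autoImplicit false
set_option linter.unusedSectionVars false

namespace H0

variable {G : Type*} [Group G]

theorem cj_pow_inv {i r : G} (h : cj i r = r⁻¹) (k : ℕ) : cj (r ^ k) i = r ^ (2 * k) * i := by
  have h1 : cj i (r ^ k) = (r ^ k)⁻¹ := by
    rw [cj, ← conj_pow, ← cj, h, inv_pow]
  have h2 : cj i (r ^ k)⁻¹ = r ^ k := by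
    rw [cj, ← conj_inv, ← cj, h1, inv_inv]
  rw [two_mul, pow_add, mul_assoc]
  nth_rw 3 [← h2]
  simp only [cj]; group

theorem conj_of_odd {c w : G} {n : ℕ} (hn : Odd n) (hw : w ^ n = 1) (h : cj c w = w⁻¹) :
    ∃ k : ℕ, cj (w ^ k) c = w * c := by
  obtain ⟨k, rfl⟩ := hn
  exact ⟨k + 1, by rw [cj_pow_inv h, show 2 * (k + 1) = 2 * k + 1 + 1 by ring, pow_succ, hw, one_mul]⟩

theorem eq_one_of_odd {w : G} {n : ℕ} (hn : Odd n) (hw : w ^ n = 1) (h : w * w = 1) : w = 1 := by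
  obtain ⟨k, rfl⟩ := hn
  rwa [pow_succ, pow_mul, pow_two, h, one_pow, one_mul] at hw

/-- elements centralised by everything centralising `x` and `y` -/
def CC (x y k : G) : Prop := ∀ j, Commute j x → Commute j y → Commute j k

theorem dih [Finite G] {x y : G} (hx : x * x = 1) (hy : y * y = 1) :
    (∃ k, CC x y k ∧ cj k x = y) ∨
    ∃ z k l, z ≠ 1 ∧ z * z = 1 ∧ Commute z x ∧ Commute z y ∧ CC x y z ∧ CC x y k ∧ CC x y l ∧
      ((z * x = cj k x ∧ z * y = cj l y) ∨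
        (z * x = cj k y ∧ z * y = cj l x ∧ ∃ n, Odd n ∧ (x * (z * y)) ^ n = 1)) := by
  set r := x * y with hr
  have hc : ∀ k : ℕ, CC x y (r ^ k) := fun k j h1 h2 => (h1.mul_right h2).pow_right k
  have e1 : cj x r = r⁻¹ := by
    rw [hr, cj, ← mul_assoc, hx, one_mul, mul_inv_rev, inv_eq_of_sq hy]
  have e2 : cj y r = r⁻¹ := by
    rw [hr, cj, mul_inv_rev, inv_eq_of_sq hy, inv_eq_of_sq hx, mul_assoc, mul_assoc, hy, mul_one]
  have e3 : r * y = x := by rw [hr, mul_assoc, hy, mul_one]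
  have hN := pow_orderOf_eq_one r
  have hpos := orderOf_pos r
  rcases Nat.even_or_odd' (orderOf r) with ⟨n, hn | hn⟩
  · right
    rw [hn] at hN
    have hz : r ^ n * r ^ n = 1 := by rw [← pow_add, ← two_mul, hN]
    have cz : ∀ i, cj i r = r⁻¹ → Commute (r ^ n) i := fun i hi => by
      rw [← cj_eq_self, cj_pow_inv hi, hN, one_mul]
    have hne : r ^ n ≠ 1 := pow_ne_one_of_lt_orderOf (by omega) (by omega)
    rcases Nat.even_or_odd' n with ⟨k, rfl | rfl⟩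
    · exact ⟨_, r ^ k, r ^ k, hne, hz, cz x e1, cz y e2, hc _, hc _, hc _,
        Or.inl ⟨(cj_pow_inv e1 k).symm, (cj_pow_inv e2 k).symm⟩⟩
    · refine ⟨_, r ^ (k + 1), r ^ k, hne, hz, cz x e1, cz y e2, hc _, hc _, hc _,
        Or.inr ⟨?_, ?_, 2 * k + 1, ⟨k, rfl⟩, ?_⟩⟩
      · rw [cj_pow_inv e2, show 2 * (k + 1) = 2 * k + 1 + 1 by ring, pow_succ _ (2 * k + 1),
          mul_assoc, e3]
      · rw [cj_pow_inv e1, pow_succ, mul_assoc, e3]
      · rw [← mul_assoc, ← (cz x e1).eq, mul_assoc, ← hr, ← pow_succ, ← pow_mul,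
          show (2 * k + 1 + 1) * (2 * k + 1) = 2 * (2 * k + 1) * (k + 1) by ring, pow_mul, hN,
          one_pow]
  · left
    refine ⟨r ^ n, hc _, ?_⟩
    rw [cj_pow_inv e1, ← e3, ← mul_assoc, ← pow_succ, ← hn, hN, one_mul]

theorem com2 {a b e : G} (ha : a * a = 1) (hb : b * b = 1)
    (da : ¬ Commute e a → cj e a = cj a e) (db : ¬ Commute e b → cj e b = cj b e) (hab : a ≠ b)
    (h : Commute e (a * b)) (hc : Commute a b) : Commute e a ∧ Commute e b := by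
  have key : Commute e a ↔ Commute e b := by
    constructor
    · intro h1
      have := h1.mul_right h
      rwa [← mul_assoc, ha, one_mul] at this
    · intro h1
      have := h.mul_right h1
      rwa [mul_assoc, hb, mul_one] at this
  by_cases h1 : Commute e a
  · exact ⟨h1, key.1 h1⟩
  exfalso
  have h2 : ¬ Commute e b := fun h => h1 (key.2 h)
  have k3 : cj a e = cj b e := by
    have := cj_of_commute h.symm
    rw [← cj_cj] at this
    have h4 := congrArg (cj a) this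
    rw [cj_cj, ha, cj_one] at h4
    exact h4.symm
  rw [← da h1, ← db h2, cj_inj] at k3
  exact hab k3

theorem com3 {a b c e : G} (ha : a * a = 1) (hb : b * b = 1) (hc : c * c = 1)
    (da : ¬ Commute e a → cj e a = cj a e) (db : ¬ Commute e b → cj e b = cj b e)
    (dc : ¬ Commute e c → cj e c = cj c e)
    (hab : a ≠ b) (hac : a ≠ c) (h₁ : Commute a b) (h₂ : Commute a c)
    (h₃ : Commute b c) (h : Commute e (a * b * c)) : Commute e a := by
  by_contra h1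
  by_cases h2 : Commute e b
  · have := h2.mul_right h
    rw [h₁.eq, mul_assoc b a c, ← mul_assoc, hb, one_mul] at this
    exact h1 (com2 ha hc da dc hac this h₂).1
  by_cases h3 : Commute e c
  · have := h.mul_right h3
    rw [mul_assoc, hc, mul_one] at this
    exact h1 (com2 ha hb da db hab this h₁).1
  have k4 : cj c e = cj a (cj b e) := by
    have h5 : cj (a * b * c) e = e := cj_of_commute h.symm
    have h6 := congrArg (cj c) h5
    rw [cj_cj, ← mul_assoc, ← ((h₂.mul_left h₃).eq), mul_assoc, mul_assoc, hc, mul_one,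
      ← cj_cj] at h6
    exact h6.symm
  have k5 : Commute (cj a (cj b e)) e := by
    rw [← commute_cj (g := a), cj_cj a a, ha, cj_one, ← da h1, ← db h2, commute_cj]
    exact h₁.symm
  rw [← k4, ← dc h3, commute_cj_left (Commute.refl e)] at k5
  exact h3 k5.symm

structure End3 (D : Set G) (d : G) (M : Subgroup G) : Prop where
  cls : ∀ x, x ∈ D ↔ ∃ g, cj g d = x
  sq : d * d = 1
  cen : ∀ g, Commute g d → g ∈ M
  tt : ∀ m ∈ M, ¬ Commute d (cj m d) → cj d (cj m d) = cj (cj m d) d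
  loc : ∀ y ∈ D, Commute d y → ∃ m ∈ M, cj m d = y
  par : ∀ t ∈ M, t * t = 1 → ∃ m ∈ M, Commute t (cj m d)
  lq : LQ (Dx D d)
  perf : ∀ w, (∀ c ∈ Dx D d, cj c w = w⁻¹) → w * w = 1
  f0 : ∀ e ∈ Dx D d, d * e ∉ D
  f3 : ∀ e ∈ Dx D d, ∀ f ∈ Dx (Dx D d) e, d * e * f ∉ D
  f6 : ∀ e ∈ Dx D d, ∀ f ∈ Dx (Dx D d) e, ∃ g ∈ Dx (Dx (Dx D d) e) f,
    ∃ g' ∈ Dx (Dx (Dx D d) e) f, ¬ Commute g g'

/-- same component -/
def SC (d : G) (M : Subgroup G) (a b : G) : Prop := ∃ g, ∃ m ∈ M, a = cj g d ∧ b = cj (g * m) d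

namespace End3

variable [Finite G] {D : Set G} {d : G} {M : Subgroup G} (h : End3 D d M)
include h

theorem conj {x : G} (hx : x ∈ D) (g : G) : cj g x ∈ D := by
  obtain ⟨k, rfl⟩ := (h.cls x).1 hx
  exact (h.cls _).2 ⟨g * k, (cj_cj _ _ _).symm⟩

theorem mem_cj {x g : G} : cj g x ∈ D ↔ x ∈ D :=
  ⟨fun h1 => by simpa using h.conj h1 g⁻¹, fun h1 => h.conj h1 g⟩

theorem sq' {x : G} (hx : x ∈ D) : x * x = 1 := by
  obtain ⟨k, rfl⟩ := (h.cls x).1 hx
  rw [← cj_mul, h.sq, cj, mul_one, mul_inv_cancel]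

theorem image (g : G) : cj g '' D = D := by
  ext x; rw [mem_image_cj', h.mem_cj]

theorem imageDx (g : G) : cj g '' Dx D d = Dx D (cj g d) := by rw [image_Dx', h.image]

theorem lq' {a : G} (ha : a ∈ D) : LQ (Dx D a) := by
  obtain ⟨g, rfl⟩ := (h.cls a).1 ha
  rw [← h.imageDx]; exact h.lq.cj_image g

theorem f0' {a b : G} (ha : a ∈ D) (hb : b ∈ D) (hne : b ≠ a) (hc : Commute a b) : a * b ∉ D := by
  obtain ⟨g, rfl⟩ := (h.cls a).1 ha
  obtain ⟨b, rfl⟩ : ∃ w, cj g w = b := ⟨_, cj_cj_inv g b⟩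
  rw [← cj_mul, h.mem_cj]
  exact h.f0 b ⟨h.mem_cj.1 hb, fun e => hne (by rw [e]), commute_cj.1 hc⟩

theorem f3' {a b c : G} (ha : a ∈ D) (hb : b ∈ Dx D a) (hc : c ∈ Dx (Dx D a) b) :
    a * b * c ∉ D := by
  obtain ⟨g, rfl⟩ := (h.cls a).1 ha
  obtain ⟨b, rfl⟩ : ∃ w, cj g w = b := ⟨_, cj_cj_inv g b⟩
  obtain ⟨c, rfl⟩ : ∃ w, cj g w = c := ⟨_, cj_cj_inv g c⟩
  rw [← h.imageDx] at hb hc
  rw [← image_Dx', mem_image_cj] at hc
  rw [← cj_mul, ← cj_mul, h.mem_cj]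
  exact h.f3 b (mem_image_cj.1 hb) c hc

theorem f6' {a b c : G} (ha : a ∈ D) (hb : b ∈ Dx D a) (hc : c ∈ Dx (Dx D a) b) :
    ∃ g ∈ Dx (Dx (Dx D a) b) c, ∃ g' ∈ Dx (Dx (Dx D a) b) c, ¬ Commute g g' := by
  obtain ⟨g, rfl⟩ := (h.cls a).1 ha
  obtain ⟨b, rfl⟩ : ∃ w, cj g w = b := ⟨_, cj_cj_inv g b⟩
  obtain ⟨c, rfl⟩ : ∃ w, cj g w = c := ⟨_, cj_cj_inv g c⟩
  rw [← h.imageDx] at hb hc ⊢
  rw [← image_Dx', mem_image_cj] at hc
  obtain ⟨x, hx, y, hy, hxy⟩ := h.f6 b (mem_image_cj.1 hb) c hc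
  rw [← image_Dx', ← image_Dx']
  exact ⟨_, ⟨x, hx, rfl⟩, _, ⟨y, hy, rfl⟩, fun e => hxy (commute_cj.1 e)⟩

theorem perf' {a w : G} (ha : a ∈ D) (hw : ∀ c ∈ Dx D a, cj c w = w⁻¹) : w * w = 1 := by
  obtain ⟨g, rfl⟩ := (h.cls a).1 ha
  obtain ⟨w, rfl⟩ : ∃ v, cj g v = w := ⟨_, cj_cj_inv g w⟩
  rw [← cj_mul, h.perf w fun c hc => ?_, cj, mul_one, mul_inv_cancel]
  have := hw (cj g c) (h.imageDx g ▸ ⟨c, hc, rfl⟩)
  rw [← cj_cj_conj] at this
  apply cj_injective g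
  rw [this]; simp [cj, mul_assoc]

omit h in
theorem symm {a b : G} (h1 : SC d M a b) : SC d M b a := by
  obtain ⟨g, m, hm, rfl, rfl⟩ := h1
  exact ⟨g * m, m⁻¹, inv_mem hm, rfl, by simp⟩

theorem iff {g k : G} : SC d M (cj g d) (cj k d) ↔ g⁻¹ * k ∈ M := by
  constructor
  · rintro ⟨g', m, hm, e1, e2⟩
    have k1 : g⁻¹ * g' ∈ M := h.cen _ (by rw [← cj_eq_self, ← cj_cj, ← e1, cj_inv_cj])
    have k2 : (g' * m)⁻¹ * k ∈ M := h.cen _ (by rw [← cj_eq_self, ← cj_cj, e2, cj_inv_cj])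
    have := mul_mem (mul_mem k1 hm) k2
    rwa [show g⁻¹ * g' * m * ((g' * m)⁻¹ * k) = g⁻¹ * k by group] at this
  · exact fun h1 => ⟨g, _, h1, rfl, by rw [mul_inv_cancel_left]⟩

omit h in
theorem left {a b : G} (h : End3 D d M) (h1 : SC d M a b) : a ∈ D := by
  obtain ⟨g, m, hm, rfl, rfl⟩ := h1
  exact (h.cls _).2 ⟨_, rfl⟩

theorem right {a b : G} (h1 : SC d M a b) : b ∈ D := h.left (symm h1)

theorem trans {a b c : G} (h1 : SC d M a b) (h2 : SC d M b c) : SC d M a c := by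
  obtain ⟨g, rfl⟩ := (h.cls a).1 (h.left h1)
  obtain ⟨k, rfl⟩ := (h.cls b).1 (h.left h2)
  obtain ⟨l, rfl⟩ := (h.cls c).1 (h.right h2)
  rw [h.iff] at h1 h2 ⊢
  have := mul_mem h1 h2
  rwa [show g⁻¹ * k * (k⁻¹ * l) = g⁻¹ * l by group] at this

omit h in
theorem inv {a b : G} (h1 : SC d M a b) (g : G) : SC d M (cj g a) (cj g b) := by
  obtain ⟨k, m, hm, rfl, rfl⟩ := h1
  exact ⟨g * k, m, hm, cj_cj _ _ _, by rw [cj_cj, mul_assoc]⟩

theorem of_comm {a b : G} (ha : a ∈ D) (hb : b ∈ D) (hc : Commute a b) : SC d M a b := by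
  obtain ⟨g, rfl⟩ := (h.cls a).1 ha
  obtain ⟨b, rfl⟩ : ∃ w, cj g w = b := ⟨_, cj_cj_inv g b⟩
  obtain ⟨m, hm, rfl⟩ := h.loc b (h.mem_cj.1 hb) (commute_cj.1 hc)
  exact ⟨g, m, hm, rfl, cj_cj _ _ _⟩

theorem braid {a b : G} (h1 : SC d M a b) (hc : ¬ Commute a b) : cj a b = cj b a := by
  obtain ⟨k, m, hm, rfl, rfl⟩ := h1
  rw [← cj_cj] at hc ⊢
  rw [← cj_cj_conj, ← cj_cj_conj, h.tt m hm fun e => hc (commute_cj.2 e)]

/-- `t` fixes the component of `a` -/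
theorem fix_of {t a x : G} (h1 : SC d M a x) (hc : Commute t x) : SC d M a (cj t a) :=
  h.trans h1 (by have := inv (symm h1) t; rwa [cj_of_commute hc] at this)

theorem exists_comm {t a : G} (ht : t * t = 1) (h1 : SC d M a (cj t a)) :
    ∃ x, SC d M a x ∧ Commute t x := by
  obtain ⟨g, rfl⟩ := (h.cls a).1 (h.left h1)
  rw [cj_cj, h.iff] at h1
  obtain ⟨m, hm, h2⟩ := h.par _ h1 (by
    rw [show g⁻¹ * (t * g) * (g⁻¹ * (t * g)) = g⁻¹ * (t * t) * g by group, ht]; simp)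
  refine ⟨_, ⟨g, m, hm, rfl, rfl⟩, ?_⟩
  rw [← commute_cj (g := g), cj_cj] at h2
  rwa [show cj g (g⁻¹ * (t * g)) = t by simp [cj]] at h2

theorem claimA {t a : G} (ht : t ∈ D) (h1 : SC d M a (cj t a)) : SC d M a t := by
  obtain ⟨x, h2, h3⟩ := h.exists_comm (h.sq' ht) h1
  exact h.trans h2 (h.of_comm (h.right h2) ht h3.symm)

theorem mem_pair {a b x : G} (ha : a ∈ D) (hb : b ∈ Dx D a) (hx : SC d M a x)
    (hc : Commute x (a * b)) (hm : x * (a * b) ∈ D) : x = a ∨ x = b := by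
  have hxa := symm hx
  obtain ⟨k1, k2⟩ := com2 (h.sq' ha) (h.sq' hb.1) (h.braid hxa)
    (h.braid (h.trans hxa (h.of_comm ha hb.1 hb.2.2))) hb.2.1.symm hc hb.2.2
  by_contra hcon
  push Not at hcon
  rw [hc.eq] at hm
  exact h.f3' ha hb ⟨⟨h.right hx, hcon.1, k1.symm⟩, hcon.2, k2.symm⟩ hm

theorem b1 {a b f : G} (ha : a ∈ D) (hb : b ∈ Dx D a) (hf : f ∈ D) (hc : Commute f (a * b))
    (hn : f * (a * b) ∉ D) (hs : ¬ SC d M a f) :
    ∃ a' ∈ D, Commute a' f ∧ Commute a' (a * b) ∧ a' * (a * b) ∈ D ∧ cj f (a * a') = (a * a')⁻¹ ∧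
      ∃ n, Odd n ∧ (a * a') ^ n = 1 := by
  have hja : Commute (a * b) a := (Commute.refl a).mul_left hb.2.2.symm
  have key : ∀ k, CC a f k → Commute (cj k a) (a * b) ∧ cj k a * (a * b) ∈ D := fun k hk => by
    have := cj_of_commute (hk _ hja hc.symm).symm
    constructor
    · rw [← this, commute_cj]; exact hja.symm
    · rw [← this, ← cj_mul, h.mem_cj, ← mul_assoc, h.sq' ha, one_mul]; exact hb.1
  rcases dih (h.sq' ha) (h.sq' hf) with ⟨k, hk, e⟩ | ⟨z, k, l, z1, z2, za, zf, -, hk, hl, e | e⟩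
  · exact absurd (e ▸ (key k hk).2) hn
  · exfalso
    obtain ⟨k1, k2⟩ := key k hk
    rw [← e.1] at k1 k2
    have m1 : z * a ∈ D := e.1 ▸ h.conj ha k
    rcases h.mem_pair ha hb (h.of_comm ha m1 (za.symm.mul_right (Commute.refl a))) k1 k2 with e1 | e1
    · exact z1 (mul_eq_right.1 e1)
    · apply hn
      have : a * b = z := by rw [← e1, ← mul_assoc, ← za.eq, mul_assoc, h.sq' ha, mul_one]
      rw [this, ← zf.eq, e.2]
      exact h.conj hf l
  · obtain ⟨k1, k2⟩ := key l hl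
    rw [← e.2.1] at k1 k2
    refine ⟨z * f, e.2.1 ▸ h.conj ha l, zf.mul_left (Commute.refl f), k1, k2, ?_, e.2.2⟩
    rw [cj, mul_assoc, mul_assoc, mul_assoc, mul_inv_cancel, mul_one, mul_inv_rev, mul_inv_rev,
      inv_eq_of_sq z2, inv_eq_of_sq (h.sq' ha), inv_eq_of_sq (h.sq' hf), mul_assoc, za.eq]

theorem claimB {a b x : G} (ha : a ∈ D) (hb : b ∈ Dx D a) (hx : SC d M x (cj (a * b) x)) :
    SC d M a x := by
  by_contra hs
  have jsq : ∀ {a b : G}, a ∈ D → b ∈ Dx D a → a * b * (a * b) = 1 := fun {a b} ha hb => by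
    rw [mul_assoc, ← mul_assoc b, ← hb.2.2.eq, mul_assoc, h.sq' hb.1, mul_one, h.sq' ha]
  obtain ⟨f, hf, hc, hn, hsf⟩ : ∃ f ∈ D, Commute f (a * b) ∧ f * (a * b) ∉ D ∧ ¬ SC d M a f := by
    obtain ⟨y, h1, h2⟩ := h.exists_comm (jsq ha hb) hx
    have hy := h.right h1
    have h3 : ¬ SC d M a y := fun e => hs (h.trans e (symm h1))
    by_cases h4 : y * (a * b) ∈ D
    · have h5 : y * (a * b) ∈ Dx D y := ⟨h4, fun e => hb.2.1 (by
        rw [← one_mul b, ← h.sq' ha, mul_assoc, mul_eq_left.1 e, mul_one]),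
        (Commute.refl y).mul_right h2.symm⟩
      obtain ⟨g, hg⟩ := (h.lq' hy).Dx_ne h5
      have e : a * b = y * (y * (a * b)) := by rw [← mul_assoc, h.sq' hy, one_mul]
      have h6 : Commute g (a * b) := e ▸ hg.1.2.2.symm.mul_right hg.2.2.symm
      exact ⟨g, hg.1.1, h6, by rw [h6.eq, e]; exact h.f3' hy h5 hg,
        fun e => h3 (h.trans e (h.of_comm hg.1.1 hy hg.1.2.2.symm))⟩
    · exact ⟨y, hy, h2.symm, h4, h3⟩
  obtain ⟨a', ha', k1, k2, k3, -, n, hn1, hn2⟩ := h.b1 ha hb hf hc hn hsf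
  have hsa : ¬ SC d M a a' := fun e => hsf (h.trans e (h.of_comm ha' hf k1))
  set w := a * a' with hw
  have ia : cj a' w = w⁻¹ := by
    rw [hw, cj, mul_assoc, mul_assoc, mul_inv_cancel, mul_one, mul_inv_rev,
      inv_eq_of_sq (h.sq' ha), inv_eq_of_sq (h.sq' ha')]
  have hja : Commute (a * b) a := (Commute.refl a).mul_left hb.2.2.symm
  have hall := (h.lq' ha').comm_closed (U := {c | cj c w = w⁻¹}) (u := a' * (a * b))
    (fun c (hc : cj c w = w⁻¹) hc' c' hc'' hcc => by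
      by_cases hne : c' = c
      · rwa [hne]
      obtain ⟨k, hk⟩ := conj_of_odd hn1 hn2 hc
      have e1 : a * (w * c) = a' * c := by rw [hw, ← mul_assoc, ← mul_assoc, h.sq' ha, one_mul]
      have m1 : w * c ∈ D := hk ▸ h.conj hc'.1 _
      have cw : Commute (a' * c) w := by
        rw [← cj_eq_self, ← cj_cj, hc, cj, ← conj_inv, ← cj, ia, inv_inv]
      have m2 : w * c ∈ Dx D a := by
        refine ⟨m1, fun e => hc'.2.1 ?_, ?_⟩
        · rw [e, h.sq' ha] at e1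
          rw [← one_mul c, ← h.sq' ha', mul_assoc, ← e1, mul_one]
        · have := jsq ha' hc'
          rw [← e1, mul_eq_one_iff_eq_inv, mul_inv_rev, inv_eq_of_sq (h.sq' ha),
            inv_eq_of_sq (h.sq' m1)] at this
          exact this
      have c1 : Commute c' (a' * c) := hc''.2.2.symm.mul_right hcc.symm
      obtain ⟨a2, ha2, l1, l2, l3, l4, n', hn3, hn4⟩ := h.b1 ha m2 hc''.1 (e1 ▸ c1)
        (by rw [e1, c1.eq]; exact h.f3' ha' hc' ⟨hc'', hne, hcc⟩)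
        fun e => hsa (h.trans e (h.of_comm hc''.1 ha' hc''.2.2.symm))
      rw [e1] at l2 l3
      rcases h.mem_pair ha' hc' (h.trans (h.of_comm ha' hc''.1 hc''.2.2)
        (h.of_comm hc''.1 ha2 l1.symm)) l2 l3 with rfl | rfl
      · exact l4
      · exfalso
        have e2 : a' * a2 = w⁻¹ * (a * a2) := by
          rw [hw, mul_inv_rev, inv_eq_of_sq (h.sq' ha'), mul_assoc, inv_mul_cancel_left]
        have e3 : Commute w⁻¹ (a * a2) := by
          have := (Commute.refl w).mul_right cw.symm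
          rw [e2, mul_inv_cancel_left] at this
          exact this.inv_left
        have := eq_one_of_odd (hn1.mul hn3) (by
          rw [e2, e3.mul_pow, inv_pow, pow_mul, hn2, one_pow, mul_comm n, pow_mul, hn4, one_pow,
            inv_one, one_mul]) (jsq ha' hc')
        exact hc'.2.1 (by rw [← one_mul a2, ← h.sq' ha', mul_assoc, this, mul_one]))
    (by
      change cj _ w = _
      rw [← cj_cj, cj_of_commute (hja.mul_right k2.symm), ia])
    ⟨k3, fun e => hb.2.1 (by rw [← one_mul b, ← h.sq' ha, mul_assoc, mul_eq_left.1 e, mul_one]),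
      (Commute.refl a').mul_right k2⟩
  have := eq_one_of_odd hn1 hn2 (h.perf' ha' fun c hc => hall hc)
  rw [hw, mul_eq_one_iff_eq_inv, inv_eq_of_sq (h.sq' ha')] at this
  exact hsa (h.of_comm ha ha' (this ▸ Commute.refl a))

theorem odd_pair {a b : G} (ha : a ∈ D) (hb : b ∈ D) (hs : ¬ SC d M a b) :
    ∃ k, CC a b k ∧ cj k a = b := by
  refine (dih (h.sq' ha) (h.sq' hb)).resolve_right ?_
  rintro ⟨z, k, l, z1, -, za, zb, -, -, -, e⟩
  have m : z * a ∈ Dx D a := ⟨e.elim (fun e => e.1 ▸ h.conj ha k) fun e => e.1 ▸ h.conj hb k,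
    fun e => z1 (mul_eq_right.1 e), za.symm.mul_right (Commute.refl a)⟩
  refine hs (h.claimB ha m ?_)
  rw [← mul_assoc, ← za.eq, mul_assoc, h.sq' ha, mul_one, cj_of_commute zb]
  exact h.of_comm hb hb (Commute.refl b)

theorem all {a b : G} (ha : a ∈ D) (hb : b ∈ D) : SC d M a b := by
  by_contra hs
  obtain ⟨e, he⟩ := (h.lq' ha).nonempty
  have hu : a * e * (a * e) = 1 := by
    rw [mul_assoc, ← mul_assoc e, ← he.2.2.eq, mul_assoc, h.sq' he.1, mul_one, h.sq' ha]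
  have hua : Commute (a * e) a := (Commute.refl a).mul_left he.2.2.symm
  have raa := h.of_comm ha ha (Commute.refl a)
  rcases dih hu (h.sq' hb) with ⟨k, -, e1⟩ | ⟨z, k, l, z1, z2, zu, zb, -, -, -, e1⟩
  · exact h.f0' ha he.1 he.2.1 he.2.2 (h.mem_cj.1 (e1 ▸ hb))
  have fa : SC d M a (cj z a) := symm (h.claimB (h.conj ha z) (b := cj z e)
    ⟨h.conj he.1 z, fun e => he.2.1 (cj_inj.1 e), commute_cj.2 he.2.2⟩
    (by rwa [← cj_mul, cj_of_commute zu, cj_of_commute hua]))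
  rcases e1 with e1 | e1
  · refine hs (symm (h.claimB hb (b := z * b) ⟨e1.2 ▸ h.conj hb l, fun e => z1 (mul_eq_right.1 e),
      zb.symm.mul_right (Commute.refl b)⟩ ?_))
    rwa [← mul_assoc, ← zb.eq, mul_assoc, h.sq' hb, mul_one]
  have m2 : z * (a * e) ∈ D := e1.1 ▸ h.conj hb k
  have s2 : SC d M a (z * (a * e)) := h.claimA m2 (by rwa [← cj_cj, cj_of_commute hua])
  obtain ⟨c1, c2⟩ := com2 (h.sq' ha) (h.sq' he.1) (h.braid (symm s2))
    (h.braid (h.trans (symm s2) (h.of_comm ha he.1 he.2.2))) he.2.1.symm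
    (zu.mul_left (Commute.refl _)) he.2.2
  have ez : z = a * e * (z * (a * e)) := by rw [← mul_assoc, ← zu.eq, mul_assoc, hu, mul_one]
  have nz : z ∉ D := fun hz => hs (h.trans (h.claimA hz fa) (h.of_comm hz hb zb))
  have m3 : z * (a * e) ∈ Dx (Dx D a) e := by
    refine ⟨⟨m2, fun e2 => nz ?_, c1.symm⟩, fun e2 => nz ?_, c2.symm⟩
    · rw [ez, e2, he.2.2.eq, mul_assoc, h.sq' ha, mul_one]; exact he.1
    · rw [ez, e2, mul_assoc, h.sq' he.1, mul_one]; exact ha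
  generalize z * (a * e) = f at m3 ez
  obtain ⟨g, hg, g', hg', hgg⟩ := h.f6' ha he m3
  have cz : ∀ x ∈ Dx (Dx (Dx D a) e) f, Commute z x := fun x hx =>
    ez ▸ (hx.1.1.2.2.mul_left hx.1.2.2).mul_left hx.2.2
  have za : Commute z a := ez ▸ hua.mul_left m3.1.2.2.symm
  have sg := h.of_comm ha hg.1.1.1 hg.1.1.2.2
  have sg' := h.of_comm ha hg'.1.1.1 hg'.1.1.2.2
  obtain ⟨k1, hk1, e2⟩ := h.odd_pair ha hb hs
  obtain ⟨k2, hk2, e3⟩ := h.odd_pair hg.1.1.1 hb fun e => hs (h.trans sg e)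
  have e4 : cj (k2⁻¹ * k1) a = g := by rw [← cj_cj, e2, ← e3, cj_inv_cj]
  have e5 : cj (k2⁻¹ * k1) z = z :=
    cj_of_commute (((hk2 z (cz g hg) zb).inv_right.mul_right (hk1 z za zb)).symm)
  generalize k2⁻¹ * k1 = k at e4 e5
  have e6 : z = g * cj k e * cj k f := by rw [← e4, ← cj_mul, ← cj_mul, ← ez, e5]
  have s3 := h.trans (symm sg') sg
  have c3 : Commute g (cj k e) := e4 ▸ commute_cj.2 he.2.2
  have c4 : Commute g (cj k f) := e4 ▸ commute_cj.2 m3.1.2.2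
  have m4 := h.conj he.1 k
  have m5 := h.conj m3.1.1 k
  exact hgg (com3 (h.sq' hg.1.1.1) (h.sq' m4) (h.sq' m5) (h.braid s3)
    (h.braid (h.trans s3 (h.of_comm hg.1.1.1 m4 c3)))
    (h.braid (h.trans s3 (h.of_comm hg.1.1.1 m5 c4)))
    (e4 ▸ fun e => he.2.1 (cj_inj.1 e).symm) (e4 ▸ fun e => m3.1.2.1 (cj_inj.1 e).symm) c3 c4
    (commute_cj.2 m3.2.2) (e6 ▸ (cz g' hg').symm)).symm

theorem eq_top : M = ⊤ := by
  refine eq_top_iff.2 fun g _ => ?_
  have := h.iff.1 (h.all ((h.cls _).2 ⟨1, rfl⟩) ((h.cls _).2 ⟨g, rfl⟩))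
  simpa using this

end End3

end H0
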