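import Mathlib
import Cfsg.Agent.H0.W1

/-! The `Fi₂₂` configuration under local hypotheses. -/

set_option autoImplicit false
set_option linter.unusedSectionVars false
set_option maxRecDepth 100000

namespace H0

open H29

variable {G : Type*} [Group G]

/-- a space is generated by a residue, its base point and one adjacent point -/
theorem LQ.gen_res [Finite G] {E : Set G} (h : LQ E) {p j : G} (hp : p ∈ E) (hj : j ∈ E)
    (hpj : ¬ Commute p j) {K : Subgroup G} (h1 : Dx E p ⊆ K) (h2 : p ∈ K) (h3 : j ∈ K) :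
    E ⊆ K := by
  let K' := Subgroup.closure (Dx E p ∪ {p, j})
  have hK' : K' ≤ K := by
    rw [Subgroup.closure_le]
    rintro x (hx | rfl | rfl)
    exacts [h1 hx, h2, h3]
  have hE : K' ≤ Subgroup.closure E := Subgroup.closure_mono (by
    rintro x (hx | rfl | rfl)
    exacts [hx.1, hp, hj])
  have hD : Subgroup.closure (Dx E p) ≤ K' := Subgroup.closure_mono Set.subset_union_left
  have hpK : p ∈ K' := Subgroup.subset_closure (Or.inr (Or.inl rfl))
  have hjK : j ∈ K' := Subgroup.subset_closure (Or.inr (Or.inr rfl))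
  have horb : ∀ y ∈ Dx E p, ∃ g ∈ K', cj g p = y := by
    intro y hy
    obtain ⟨f, hf, hfj⟩ := h.sep hp hj (fun e => hpj (e ▸ Commute.refl p))
    obtain ⟨g, hg, rfl⟩ := h.Dx_trans hp hf hy
    refine ⟨g * (j * f * (p * j)), mul_mem (hD hg) (mul_mem (mul_mem hjK
      (hD (Subgroup.subset_closure hf))) (mul_mem hpK hjK)), ?_⟩
    rw [← cj_cj, ← cj_cj, h.cj_mul_adj hp hj hpj,
      h.cj_mul_adj hj hf.1 (fun e => hfj e.symm)]
  have := h.comm_closed (U := {y | ∃ g ∈ K', cj g p = y}) (by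
    rintro _ ⟨g, hg, rfl⟩ - y hy hc
    obtain ⟨y, rfl⟩ : ∃ w, cj g w = y := ⟨_, cj_cj_inv g y⟩
    by_cases hyp : y = p
    · exact ⟨g, hg, by rw [hyp]⟩
    obtain ⟨k, hk, rfl⟩ := horb y ⟨(h.mem_cj (hE hg)).1 hy, hyp, commute_cj.1 hc⟩
    exact ⟨g * k, mul_mem hg hk, (cj_cj _ _ _).symm⟩) ⟨1, one_mem _, cj_one p⟩ hp
  intro x hx
  obtain ⟨g, hg, rfl⟩ := this hx
  exact hK' (mul_mem (mul_mem hg hpK) (inv_mem hg))

theorem LQ.cen_res [Finite G] {E : Set G} (h : LQ E) {p j : G} (hp : p ∈ E) (hj : j ∈ E)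
    (hpj : ¬ Commute p j) {z : G} (h1 : ∀ x ∈ Dx E p, Commute z x) (h2 : Commute z p)
    (h3 : Commute z j) : ∀ x ∈ E, Commute z x := fun x hx =>
  (Subgroup.mem_centralizer_singleton_iff.1 (h.gen_res hp hj hpj (K := Subgroup.centralizer {z})
    (fun x hx => Subgroup.mem_centralizer_singleton_iff.2 (h1 x hx).symm.eq)
    (Subgroup.mem_centralizer_singleton_iff.2 h2.symm.eq)
    (Subgroup.mem_centralizer_singleton_iff.2 h3.symm.eq) hx)).symm

/-- a conjugation closed set of involutions -/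
structure WS (E : Set G) : Prop where
  sq : ∀ {x}, x ∈ E → x * x = 1
  conj : ∀ {x g}, x ∈ E → g ∈ Subgroup.closure E → cj g x ∈ E

theorem WS.same {E : Set G} (h : WS E) {x : G} (hx : x ∈ E) (y : G) : cj x (cj x y) = y := by
  rw [cj_cj, h.sq hx, cj_one]

theorem LQ.ws {E : Set G} (h : LQ E) : WS E := ⟨h.sq, h.conj⟩

/-- standard configuration -/
structure Cq (E : Set G) (π : V6 → G) (x b : G) : Prop where
  ws : WS E
  f22 : F22q E
  hx : x ∈ E
  hb : b ∈ E
  adj : ¬ Commute x b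
  um : UM (Dx E x) π
  std : Std π b

structure Yq (E S : Set G) (y : ℕ → G) : Prop where
  mem : ∀ c < 9, y c ∈ E
  one : ∀ c, 9 ≤ c → y c = 1
  dg : Dg y 9 A332
  gen : ∀ K : Subgroup G, (∀ c < 9, y c ∈ K) → S ⊆ K
  cen : ∀ r ∈ [rS, rA, rG], ∀ z ∈ S, Commute (ev y r) z

namespace Cq

variable [Finite G] {E : Set G} {π : V6 → G} {x b : G} (h : Cq E π x b)
include h

theorem mem_lt {c : ℕ} (hc : c < 8) : let22 π x b c ∈ Dx E x := by
  rw [Cfg.let_lt hc]; exact h.um.mem (isoL.nth (by decide) c)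

theorem mem {c : ℕ} (hc : c < 10) : let22 π x b c ∈ E := by
  by_cases h8 : c < 8
  · exact (h.mem_lt h8).1
  · obtain rfl | rfl : c = 8 ∨ c = 9 := by omega
    exacts [h.hx, h.hb]

theorem iv : IvOK (let22 π x b) (ivOf []) := by
  intro c
  by_cases hc : c < 10
  · exact (inv_eq_of_sq (h.ws.sq (h.mem hc))).symm
  · have : let22 π x b c = 1 := by
      rw [let22, if_neg (by omega), if_neg (by omega), if_neg (by omega)]
    change let22 π x b c = _
    rw [this, inv_one]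

theorem ho : HO (Dx E x) b := h.f22.ho h.hx h.hb h.adj
  ⟨_, h.um.mem (v := dec 1280) (by decide), (h.std _ (by decide)).symm⟩

theorem comm_iff : ∀ s < 10, ∀ t < 10,
    Commute (let22 π x b s) (let22 π x b t) ↔ (s, t) ∉ A22 ∧ (t, s) ∉ A22 := by
  have k1 : ∀ s < 8, ∀ t < 8, H0.hb (dec (nth 5 gens8 s)) (dec (nth 5 gens8 t)) = 0 ↔
      (s, t) ∉ A22 ∧ (t, s) ∉ A22 := by decide +kernel
  have k2 : ∀ s < 7, nth 5 gens8 s ∈ gens7 := by decide +kernel
  have k7 : ¬ Commute b (π (dec 2645)) :=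
    h.um.no_om h.ho (h.std _ (by decide)) (h.std _ (by decide))
  have k3 : ∀ s < 10, ∀ t < 10, t ≤ s → (Commute (let22 π x b s) (let22 π x b t) ↔
      (s, t) ∉ A22 ∧ (t, s) ∉ A22) := by
    intro s hs t ht hts
    by_cases h8 : s < 8
    · rw [Cfg.let_lt h8, Cfg.let_lt (hts.trans_lt h8), h.um.comm (isoL.nth (by decide) _)
        (isoL.nth (by decide) _), k1 s h8 t (hts.trans_lt h8)]
    obtain rfl | rfl : s = 8 ∨ s = 9 := by omega
    · by_cases h9 : t < 8
      · refine iff_of_true (h.mem_lt h9).2.2 ?_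
        clear ht hts; revert t; decide
      · obtain rfl : t = 8 := by omega
        exact iff_of_true (Commute.refl _) (by decide)
    · by_cases h9 : t < 7
      · refine iff_of_true (by rw [Cfg.let_lt (c := t) (by omega)]; exact h.std _ (k2 t h9)) ?_
        clear ht hts; revert t; decide
      obtain rfl | rfl | rfl : t = 7 ∨ t = 8 ∨ t = 9 := by omega
      · exact iff_of_false k7 (by decide)
      · exact iff_of_false (fun e => h.adj e.symm) (by decide)
      · exact iff_of_true (Commute.refl _) (by decide)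
  intro s hs t ht
  rcases le_total t s with h1 | h1
  · exact k3 s hs t ht h1
  · rw [Commute.symm_iff, k3 t ht s hs h1, and_comm]

theorem m4 : ∀ c ∈ [0, 1, 2, 5, 7, 8, 9], let22 π x b c ∈ Dx E (let22 π x b 4) := by
  have k : ∀ c ∈ [0, 1, 2, 5, 7, 8, 9], c < 10 ∧ ((4, c) ∉ A22 ∧ (c, 4) ∉ A22) ∧
    ∃ d < 10, ((c, d) ∈ A22 ∨ (d, c) ∈ A22) ≠ ((4, d) ∈ A22 ∨ (d, 4) ∈ A22) := by decide
  intro c hc
  obtain ⟨k1, k2, d, hd, k3⟩ := k c hc
  refine ⟨h.mem k1, fun e => k3 ?_, (h.comm_iff 4 (by decide) c k1).2 k2⟩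
  have := h.comm_iff c k1 d hd
  rw [e, h.comm_iff 4 (by decide) d hd] at this
  simp only [eq_iff_iff]
  tauto

theorem dg : Dg (let22 π x b) 10 A22 := fun s hs t ht => by
  refine ⟨fun hA => ?_, fun h1 h2 => (h.comm_iff s hs t ht).2 ⟨h1, h2⟩⟩
  have hn : ¬ Commute (let22 π x b s) (let22 π x b t) := fun e => ((h.comm_iff s hs t ht).1 e).1 hA
  rcases (by decide : ∀ p ∈ A22, (p.1 < 8 ∧ p.2 < 8) ∨
    (p.1 ∈ [0, 1, 2, 5, 7, 8, 9] ∧ p.2 ∈ [0, 1, 2, 5, 7, 8, 9])) _ hA with k | k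
  · exact (h.f22 x h.hx).1.braid (h.mem_lt k.1) (h.mem_lt k.2) hn
  · exact (h.f22 _ (h.mem (c := 4) (by decide))).1.braid (h.m4 _ k.1) (h.m4 _ k.2) hn

/-- words in the first eight letters are computed in the model -/
theorem word {w : List ℕ} (hw : ∀ c ∈ w, c < 8) {c : ℕ} (hc : c < 8) {k : F4} {z : V6}
    (e : dec (evN gens8 w (nth 5 gens8 c)) = k • z) (hz : Iso z) :
    cj (ev (let22 π x b) w) (let22 π x b c) = π z := by
  obtain ⟨h1, h2⟩ := h.um.ev (gs := gens8) (by decide) (isoL.nth (gs := gens8) (by decide) c) w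
  rw [Cfg.let_lt hc, ev_congr (e' := fun c => π (dec (nth 5 gens8 c))) fun c hc => Cfg.let_lt (hw c hc), h2,
    e, h.um.smul hz]
  rintro rfl
  exact h1.1 (by rw [e, zero_smul])

theorem r3 : cj (ev (let22 π x b) [1, 7, 9, 5, 7, 1]) (let22 π x b 0) =
    cj (ev (let22 π x b) [8, 9, 7, 5]) (let22 π x b 2) := by
  obtain ⟨hL, hU⟩ := h.f22 _ (h.mem (c := 4) (by decide))
  obtain ⟨ρ, hρ⟩ := hL.exists_um hU
  have m := h.m4
  simp only [ev_cons, ev_nil, mul_one, ← cj_cj]
  refine hρ.e6t (m 0 (by decide)) (m 1 (by decide)) (m 2 (by decide)) (m 5 (by decide))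
    (m 7 (by decide)) (m 8 (by decide)) (m 9 (by decide)) ?_ ?_ ?_ ?_ ?_ ?_ ?_ ?_ ?_ ?_ ?_ ?_ ?_ ?_
    ?_ ?_ ?_ ?_ ?_ ?_ ?_ <;> rw [h.comm_iff _ (by decide) _ (by decide)] <;> decide

theorem rels : ∀ r ∈ P22T.R0, ev (let22 π x b) r = 1 := by
  refine rels_sub (R := coxW 10 A22 ++ [cw [0, 1, 6, 5, 4, 3] 2 ++ cw [7, 5, 6, 3, 5, 7] 1,
    cw [1, 7, 9, 5, 7, 1] 0 ++ cw [8, 9, 7, 5] 2,
    cw [0, 1, 6, 5, 7, 2, 5] 3 ++ cw [5, 3, 2, 5, 7, 6] 1]) (rels_append (cox_ok h.iv h.dg) ?_)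
    (by decide +kernel)
  simp only [List.forall_mem_cons]
  refine ⟨rel_of_eq h.iv ?_, rel_of_eq h.iv h.r3, rel_of_eq h.iv ?_, by simp⟩
  · rw [h.word (by decide) (by decide) (k := ob) (z := dec 3801) (by decide +kernel) (by decide),
      h.word (by decide) (by decide) (k := 1) (z := dec 3801) (by decide +kernel) (by decide)]
  · rw [h.word (by decide) (by decide) (k := om) (z := dec 3733) (by decide +kernel) (by decide),
      h.word (by decide) (by decide) (k := 1) (z := dec 3733) (by decide +kernel) (by decide)]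

theorem exists_tab : ∃ T, Tab (let22 π x b) T := by
  let C := Subgroup.centralizer ({x} : Set G)
  have hC : ∀ c ∈ P22T.T.hcols, let22 π x b c ∈ C := by
    intro c hc
    have : c < 10 ∧ (c, 8) ∉ A22 ∧ (8, c) ∉ A22 := by
      revert c; decide +kernel
    exact Subgroup.mem_centralizer_singleton_iff.2 ((h.comm_iff c this.1 8 (by decide)).2 this.2)
  let f : G ⧸ C → G := Quotient.lift (fun g => cj g x) fun a b hab => by
    have := Subgroup.mem_centralizer_singleton_iff.1 (QuotientGroup.leftRel_apply.1 hab)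
    rw [← mul_inv_cancel_left a b, ← cj_cj, cj_of_commute this]
  have hf : ∀ (g : G) q, f (g • q) = cj g (f q) := by
    intro g q
    induction q using QuotientGroup.induction_on with
    | H a => exact (cj_cj g a x).symm
  refine ⟨fun i => f (TCData.coset (let22 π x b) C P22T.T i), fun {w} hw {i} hi => ?_, ?_⟩
  · have hc : ∀ c < 10, c ∈ P22T.T.cols := by decide +kernel
    rw [← hf, P22T.ok.ev_smul h.iv h.rels hC (fun c h1 => hc c (hw c h1)) hi]
    rfl
  · simp only [TCData.coset_zero]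
    exact cj_one x

theorem gen_all {K : Subgroup G} (hK : ∀ c < 10, let22 π x b c ∈ K) : Dx E x ∪ {x, b} ⊆ K := by
  refine Set.union_subset (h.um.gen693 fun g hg => ?_) ?_
  · have : ∀ g ∈ gens8, ∃ c < 8, nth 5 gens8 c = g := by decide +kernel
    obtain ⟨c, hc, rfl⟩ := this g hg
    rw [← Cfg.let_lt (π := π) (x := x) (b := b) hc]
    exact hK c (by omega)
  · rintro _ (rfl | rfl)
    exacts [hK 8 (by decide), hK 9 (by decide)]

end Cq

namespace Cq

variable [Finite G] {E : Set G} {π : V6 → G} {x b : G} (h : Cq E π x b) {T : ℕ → G}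
  (hT : Tab (let22 π x b) T)
include h hT

theorem ix_step {s t : ℕ} (hs : s < 10) (ht : t < 10) (hA : (s, t) ∈ A22 ∨ (t, s) ∈ A22)
    (e : T (ix s) = let22 π x b s) (hc : chkM [s, t] (ix s) (ix t) = true) :
    T (ix t) = let22 π x b t := by
  rw [← hT.map hc, e, ev_cons, ev_cons, ev_nil, mul_one]
  have : cj (let22 π x b s) (let22 π x b t) = cj (let22 π x b t) (let22 π x b s) :=
    hA.elim (h.dg s hs t ht).1 fun k => ((h.dg t ht s hs).1 k).symm
  rw [← cj_cj, ← this, cj_cj, h.ws.sq (h.mem hs), cj_one]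

theorem ix_eq : ∀ c < 10, T (ix c) = let22 π x b c := by
  have e8 : T (ix 8) = let22 π x b 8 := hT.zero
  have e9 := h.ix_step hT (t := 9) (by decide) (by decide) (by decide) e8 (by decide +kernel)
  have e7 := h.ix_step hT (t := 7) (by decide) (by decide) (by decide) e9 (by decide +kernel)
  have e1 := h.ix_step hT (t := 1) (by decide) (by decide) (by decide) e7 (by decide +kernel)
  have e5 := h.ix_step hT (t := 5) (by decide) (by decide) (by decide) e7 (by decide +kernel)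
  have e0 := h.ix_step hT (t := 0) (by decide) (by decide) (by decide) e1 (by decide +kernel)
  have e6 := h.ix_step hT (t := 6) (by decide) (by decide) (by decide) e1 (by decide +kernel)
  have e2 := h.ix_step hT (t := 2) (by decide) (by decide) (by decide) e5 (by decide +kernel)
  have e3 := h.ix_step hT (t := 3) (by decide) (by decide) (by decide) e5 (by decide +kernel)
  have e4 := h.ix_step hT (t := 4) (by decide) (by decide) (by decide) e3 (by decide +kernel)
  intro c hc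
  interval_cases c <;> assumption

theorem pt {w : List ℕ} {c i : ℕ} (hc : c < 10) (e : chkM w (ix c) i = true) :
    T i = cj (ev (let22 π x b) w) (let22 π x b c) := by
  rw [← hT.map e, h.ix_eq hT c hc]

theorem y22 {iy : List ℕ} {yw gw : List (List ℕ × ℕ)} (hc : chkY iy yw gw = true) :
    Yq E (Dx E x ∪ {x, b}) (Yf T iy) ∧ ∀ c < 9, Yf T iy c = ev (let22 π x b) (XW yw c) := by
  simp only [chkY, and2_true, allN_true, allL_true, ble_true] at hc
  obtain ⟨k1, k2, k3, k4⟩ := hc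
  have hy : ∀ c < 9, Yf T iy c = T (iy.getD c 0) := fun c hc => if_pos hc
  have hX : ∀ c < 9, Yf T iy c = ev (let22 π x b) (XW yw c) := fun c hc => by
    rw [hy c hc, XW, ev_cw h.iv, h.pt hT (Nat.lt_succ_of_le (k1 c hc).1) (k1 c hc).2.2]
  have hm : ∀ c < 9, Yf T iy c ∈ E := fun c hc => by
    rw [hX c hc, XW, ev_cw h.iv]
    exact h.ws.conj (h.mem (Nat.lt_succ_of_le (k1 c hc).1)) (ev_mem fun a ha =>
      Subgroup.subset_closure (h.mem (Nat.lt_succ_of_le ((k1 c hc).2.1 a ha))))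
  refine ⟨⟨hm, fun c hc => if_neg (by omega), fun s hs t ht => ⟨fun hA => ?_, fun h1 h2 => ?_⟩,
    fun K hK => h.gen_all fun c hc => ?_, fun r hr z hz => ?_⟩, hX⟩
  · have := k2 s hs t ht
    rw [if_pos hA] at this
    have := hT.map this
    rw [ev_append, ← hX s hs, ← hX t ht, ← hy s hs, ← hy t ht, ← cj_cj] at this
    rw [← this, h.ws.same (hm t ht), this]
  · have := k2 s hs t ht
    rw [if_neg h1, if_neg h2] at this
    have := hT.map this
    rwa [← hX s hs, ← hy t ht, cj_eq_self] at this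
  · obtain ⟨l1, l2, l3⟩ := k3 c hc
    have := hT.map l3
    rw [← ev_flatMap fun a ha => hX a (Nat.lt_succ_of_le (l2 a ha)), h.ix_eq hT c hc,
      ← hy _ (Nat.lt_succ_of_le l1)] at this
    rw [← this]
    have h1 := ev_mem (e := Yf T iy) (H := K) fun a ha => hK a (Nat.lt_succ_of_le (l2 a ha))
    exact mul_mem (mul_mem h1 (hK _ (Nat.lt_succ_of_le l1))) (inv_mem h1)
  · obtain ⟨l1, l2⟩ := k4 r hr
    refine (Subgroup.mem_centralizer_singleton_iff.1 (h.gen_all
      (K := Subgroup.centralizer {ev (Yf T iy) r}) (fun c hc => ?_) hz)).symm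
    have := hT.map (l2 c hc)
    rw [← ev_flatMap fun a ha => hX a (Nat.lt_succ_of_le (l1 a ha)), h.ix_eq hT c hc,
      cj_eq_self] at this
    exact Subgroup.mem_centralizer_singleton_iff.2 this.symm.eq

omit hT in
theorem vbar : π (dec 3925) = cj (ev (let22 π x b) [1, 7, 6, 1]) (let22 π x b 0) :=
  (h.word (by decide) (by decide) (k := om) (by decide +kernel) (by decide)).symm

omit hT in
theorem lb_eq {v : G} {W : List ℕ} (hv : v = ev (let22 π x b) W) (w : List ℕ) :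
    ev (Cfg.lb π x b v) w = ev (let22 π x b) (w.flatMap (Cfg.lbW W)) :=
  ev_flatMap fun c _ => by
    simp only [Cfg.lb, Cfg.lbW]
    split_ifs
    · exact hv
    · simp

/-- the subspace `N_ω` -/
theorem nom {j : G} (hj : ∀ c ∈ [0, 1, 2, 3, 4, 5, 7, 8, 9], Commute j (let22 π x b c)) :
    ∀ c ∈ [0, 1, 2, 3, 4, 5, 7, 8], Commute j (Yf T iy1 c) := by
  intro c hc
  have : ∀ c ∈ [0, 1, 2, 3, 4, 5, 7, 8], c < 9 ∧ ∀ a ∈ XW yw1 c, a ∈ [0, 1, 2, 3, 4, 5, 7, 8, 9] := by
    decide +kernel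
  rw [(h.y22 hT chk1).2 c (this c hc).1]
  exact commute_ev fun a ha => hj a ((this c hc).2 a ha)

/-- the subspace `N_ω²` -/
theorem nob {j : G} (hj : ∀ c ∈ [0, 1, 2, 3, 4, 5, 8, 9], Commute j (let22 π x b c))
    (hv : Commute j (π (dec 3925))) : ∀ c ∈ [1, 2, 3, 4, 5, 6, 7, 8], Commute j (Yf T iy1 c) := by
  have hl : ∀ c ∈ [0, 1, 2, 3, 4, 5, 6, 8, 9], Commute j (Cfg.lb π x b (π (dec 3925)) c) := by
    simp only [List.forall_mem_cons] at hj ⊢
    obtain ⟨h0, h1, h2, h3, h4, h5, h8, h9, -⟩ := hj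
    exact ⟨h0, h1, h2, h3, h4, h5, hv, h8, h9, by simp⟩
  have hv' : π (dec 3925) = ev (let22 π x b) (cw [1, 7, 6, 1] 0) := by rw [ev_cw h.iv, h.vbar]
  have key : ∀ (w : List ℕ) (c i : ℕ), (∀ a ∈ w, a ∈ [0, 1, 2, 3, 4, 5, 6, 8, 9]) →
      c ∈ [0, 1, 2, 3, 4, 5, 8, 9] → c < 10 →
      chkM (w.flatMap (Cfg.lbW (cw [1, 7, 6, 1] 0))) (ix c) i = true → Commute j (T i) := by
    intro w c i h1 h2 h3 h4
    rw [h.pt hT h3 h4, ← h.lb_eq hv']
    exact commute_cj_ev (fun a ha => hl a (h1 a ha)) (hj c h2)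
  simp only [List.forall_mem_cons]
  refine ⟨key [4, 3] 5 _ ?_ ?_ ?_ ?_, key [] 2 _ ?_ ?_ ?_ ?_, key [] 3 _ ?_ ?_ ?_ ?_,
    key [6, 5, 4, 2, 3, 5, 0, 6] 1 _ ?_ ?_ ?_ ?_, key [] 1 _ ?_ ?_ ?_ ?_, key [8, 5, 3, 2, 5, 6] 9 _ ?_ ?_ ?_ ?_,
    key [8, 6, 5, 4, 3, 2, 5, 6] 9 _ ?_ ?_ ?_ ?_, key [] 9 _ ?_ ?_ ?_ ?_, by simp⟩ <;>
    decide +kernel

end Cq

namespace Cq

variable [Finite G] {E : Set G} {π : V6 → G} {x b : G} (h : Cq E π x b)
include h

theorem wrong1 {T : ℕ → G} (hT : Tab (let22 π x b) T) {j : G} {X : List (List ℕ)} {w wc : List ℕ}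
    {kc : ℕ} (hk : kc < 10)
    (hj : ∀ W ∈ X, Commute j (ev (let22 π x b) W))
    (hc : Commute j (cj (ev (let22 π x b) wc) (let22 π x b kc)))
    (e : chkM (w.flatMap (fun c => (X ++ [cw wc kc]).getD c []) ++ wc) (ix kc) (ix 6) = true) :
    Commute j (let22 π x b 6) := by
  rw [← h.ix_eq hT 6 (by decide), h.pt hT hk e, ev_append, ← cj_cj,
    ← ev_flatMap (y := fun c => ev (let22 π x b) ((X ++ [cw wc kc]).getD c [])) fun _ _ => rfl]
  refine commute_cj_ev (fun c _ => ?_) hc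
  rw [List.getD_eq_getElem?_getD]
  cases e : (X ++ [cw wc kc])[c]? with
  | none => exact Commute.one_right j
  | some W =>
    rcases List.mem_append.1 (List.mem_of_getElem? e) with h1 | h1
    · exact hj W h1
    · rw [List.mem_singleton.1 h1, Option.getD_some, ev_cw h.iv]; exact hc

theorem wrong {j : G} (hj : ∀ c ∈ [0, 1, 2, 3, 4, 5, 8], Commute j (let22 π x b c))
    (hv : Commute j (π (dec 2645)) ∨ Commute j (π (dec 3925))) {c : F4} (hc0 : c ≠ 0)
    (hc : Commute j (cj b (π (dec 5 + c • dec 1280)))) : Commute j (π (dec 1365)) := by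
  obtain ⟨T, hT⟩ := h.exists_tab
  have hX : ∀ W, Commute j (ev (let22 π x b) W) →
      ∀ W' ∈ [[0], [1], [2], [3], [4], [5], W, [8]], Commute j (ev (let22 π x b) W') := by
    intro W hW
    simp only [List.forall_mem_cons, ev_cons, ev_nil, mul_one] at hj ⊢
    obtain ⟨h0, h1, h2, h3, h4, h5, h8, -⟩ := hj
    exact ⟨h0, h1, h2, h3, h4, h5, hW, h8, by simp⟩
  have e9 : ∀ (w : List ℕ) (k : ℕ), cj (ev (let22 π x b) (9 :: w)) (let22 π x b k) =
      cj b (cj (ev (let22 π x b) w) (let22 π x b k)) := fun w k => by rw [ev_cons, cj_cj]; rfl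
  have w1 : cj (ev (let22 π x b) [3, 2, 5, 7, 6, 5]) (let22 π x b 3) = π (dec 5 + (1 : F4) • dec 1280) :=
    h.word (by decide) (by decide) (k := 1) (by decide +kernel) (by decide)
  have w2 : cj (ev (let22 π x b) [3, 5, 7, 6, 5, 3]) (let22 π x b 2) = π (dec 5 + om • dec 1280) :=
    h.word (by decide) (by decide) (k := 1) (by decide +kernel) (by decide)
  have w3 : cj (ev (let22 π x b) [5, 7, 6, 5]) (let22 π x b 2) = π (dec 5 + ob • dec 1280) :=
    h.word (by decide) (by decide) (k := 1) (by decide +kernel) (by decide)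
  rcases hv with hv | hv
  · have hX := hX [7] (by rw [ev_cons, ev_nil, mul_one]; exact hv)
    rcases F4.cases c with rfl | rfl | rfl | rfl
    · exact absurd rfl hc0
    · exact h.wrong1 hT (wc := 9 :: [3, 2, 5, 7, 6, 5]) (kc := 3) (by decide) hX
        (by rwa [e9, w1]) (w := [1, 8, 3, 4, 2, 3, 0, 1])
        (by decide +kernel)
    · exact h.wrong1 hT (wc := 9 :: [3, 5, 7, 6, 5, 3]) (kc := 2) (by decide) hX
        (by rwa [e9, w2]) (w := [5, 1, 6, 8, 2, 5, 6, 0, 1])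
        (by decide +kernel)
    · exact h.wrong1 hT (wc := 9 :: [5, 7, 6, 5]) (kc := 2) (by decide) hX
        (by rwa [e9, w3]) (w := [5, 6, 1, 8, 7, 5, 0, 1])
        (by decide +kernel)
  · have hX := hX (cw [1, 7, 6, 1] 0) (by rwa [ev_cw h.iv, ← h.vbar])
    rcases F4.cases c with rfl | rfl | rfl | rfl
    · exact absurd rfl hc0
    · exact h.wrong1 hT (wc := 9 :: [3, 2, 5, 7, 6, 5]) (kc := 3) (by decide) hX
        (by rwa [e9, w1]) (w := [1, 8, 3, 4, 2, 3, 0, 1])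
        (by decide +kernel)
    · exact h.wrong1 hT (wc := 9 :: [3, 5, 7, 6, 5, 3]) (kc := 2) (by decide) hX
        (by rwa [e9, w2]) (w := [5, 6, 1, 8, 7, 5, 0, 1])
        (by decide +kernel)
    · exact h.wrong1 hT (wc := 9 :: [5, 7, 6, 5]) (kc := 2) (by decide) hX
        (by rwa [e9, w3]) (w := [5, 1, 6, 8, 2, 5, 6, 0, 1])
        (by decide +kernel)

end Cq

end H0
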