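import Mathlib
import Cfsg.Agent.H0.W2

/-! The `Fi₂₃` configuration under local hypotheses. -/

set_option autoImplicit false
set_option linter.unusedSectionVars false
set_option maxRecDepth 100000

namespace H0

open H29

variable {G : Type*} [Group G]

def F23q (E : Set G) : Prop := ∀ x ∈ E, LQ (Dx E x) ∧ F22q (Dx E x)

theorem Cq.y22' [Finite G] {E : Set G} (hL : LQ E) {π : V6 → G} {x b : G} (h : Cq E π x b)
    {y : ℕ → G} (hy : Yq E (Dx E x ∪ {x, b}) y) : Y22 E y :=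
  ⟨hy.mem, hy.one, hy.dg, fun K hK => hL.gen_res h.hx h.hb h.adj
    (fun _ hz => hy.gen K hK (Or.inl hz)) (hy.gen K hK (Or.inr (Or.inl rfl)))
    (hy.gen K hK (Or.inr (Or.inr rfl))), fun r hr => hL.cen_res h.hx h.hb h.adj
    (fun z hz => hy.cen r hr z (Or.inl hz)) (hy.cen r hr _ (Or.inr (Or.inl rfl)))
    (hy.cen r hr _ (Or.inr (Or.inr rfl)))⟩

/-- `Y₃₄₂` generators -/
structure Y3q (E : Set G) (p : G) (y : ℕ → G) (j : G) : Prop where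
  hp : p ∈ E
  y22 : Y22 (Dx E p) y
  hj : j ∈ E
  adj : ¬ Commute p j
  comm : ∀ c ∈ [0, 1, 2, 3, 4, 5, 7, 8], Commute j (y c)

theorem LQ.cfg [Finite G] {E : Set G} (h : LQ E) (hr : F22q E) {x b : G} (hx : x ∈ E)
    (hb : b ∈ E) (hxb : ¬ Commute x b) {π : V6 → G} (hπ : UM (Dx E x) π) :
    ∃ g ∈ Subgroup.closure (Dx E x), ∃ k : F4, k ≠ 0 ∧
      Cq E (fun v => π (sc k v)) x (cj g b) := by
  obtain ⟨g, hg, k, hk, hs⟩ := hπ.normq (hr x hx).1 (h.ho hr hx hb hxb)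
  refine ⟨g, hg, k, hk, h.ws, hr, hx, h.conj hb (Subgroup.closure_mono (Dx_subset E x) hg), ?_,
    hπ.sc hk, hs⟩
  rwa [commute_cj_right (PTT.commute_of_mem_closure hg)]

theorem LQ.y22 [Finite G] {E : Set G} (h : LQ E) (hr : F22q E) : ∃ y, Y22 E y := by
  obtain ⟨x, hx⟩ := h.nonempty
  obtain ⟨b, hb, hxb⟩ := h.adj_ne hx
  obtain ⟨π, hπ⟩ := (hr x hx).1.exists_um (hr x hx).2
  obtain ⟨g, -, k, -, C⟩ := h.cfg hr hx hb hxb hπ
  obtain ⟨T, hT⟩ := C.exists_tab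
  exact ⟨_, C.y22' h (C.y22 hT chk1).1⟩

theorem F23q.distinct [Finite G] {E : Set G} (hr : F23q E) {p x b j : G} (hp : p ∈ E)
    (hx : x ∈ Dx E p) {π : V6 → G} (hπ : UM (Dx (Dx E p) x) π) (hb : b ∈ Dx E p)
    (hxb : ¬ Commute x b) (hj : j ∈ E) (hpj : ¬ Commute p j) (sb : Std π b) (sj : Std π j) :
    False := by
  obtain ⟨hL, hF⟩ := hr p hp
  have m0 := hπ.mem (v := dec 1280) (by decide)
  have m1 := hπ.mem_Dx (y := dec 1280) (z := dec 5) (by decide)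
  have m3 := hπ.mem_Dx (y := dec 1280) (z := dec 80) (by decide)
  have m13 := hπ.mem_Dx (y := dec 5) (z := dec 80) (by decide)
  obtain ⟨L1, U1⟩ := hF _ m0.1
  obtain ⟨o, ho, o1, o3⟩ := L1.exists_third (L1.thick_of_MU U1) (p := π (dec 5)) (q := π (dec 80))
    ⟨m1.1.1, m1.2⟩ ⟨⟨m3.1.1, m3.2⟩, m13.2⟩
  have ox : Commute x o := ho.2 x (Dx_symm hx m0) m1.1.2.2 m3.1.2.2
  have ob : Commute b o := ho.2 b ⟨hb, fun e => hxb (e ▸ m0.2.2), (sb 1280 (by decide)).symm⟩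
    (sb _ (by decide)) (sb _ (by decide))
  have o1c : Commute (π (dec 5)) o := ho.2 _ ⟨m1.1.1, m1.2⟩ (Commute.refl _) m13.2.2
  have o3c : Commute (π (dec 80)) o := ho.2 _ ⟨m3.1.1, m3.2⟩ m13.2.2.symm (Commute.refl _)
  obtain ⟨v, hv, rfl⟩ := hπ.surj (x := o) ⟨ho.1.1, fun e => hxb (e ▸ ob.symm), ox⟩
  have oj : Commute j (π v) := by
    rcases plane_pts v hv ((hπ.comm (by decide) hv).1 ho.1.2.2) ((hπ.comm (by decide) hv).1 o1c)
      ((hπ.comm (by decide) hv).1 o3c) with ⟨c, hc, rfl⟩ | ⟨z, hz, c, g, hc, rfl⟩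
    · exact absurd (hπ.smul (by decide) hc) ho.1.2.1
    · have hi : Ind (dec 1280) (dec z) :=
        (by decide : ∀ z ∈ [5, 80, 1365, 4005, 2805], Ind (dec 1280) (dec z)) z hz
      rw [hπ.smul (hi.iso g) hc] at ob ⊢
      rw [hπ.s2 (hL.ho hF hx hb hxb) hi (sb _ (by decide)) (sb.more hπ z hz) ob, zero_smul, add_zero]
      exact sj.more hπ z hz
  have a3 : π (dec 80) ∈ Dx E (π (dec 5)) := ⟨m3.1.1.1, m13.2⟩
  obtain ⟨L2, U2⟩ := (hr _ m1.1.1.1).2 _ a3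
  have mem : ∀ w ∈ E, w ≠ π (dec 5) → w ≠ π (dec 80) → Commute (π (dec 5)) w →
      Commute (π (dec 80)) w → w ∈ Dx (Dx E (π (dec 5))) (π (dec 80)) :=
    fun w h1 h2 h3 h4 h5 => ⟨⟨h1, h2, h4⟩, h3, h5⟩
  have mp := mem p hp m1.1.1.2.1.symm m3.1.1.2.1.symm m1.1.1.2.2.symm m3.1.1.2.2.symm
  have mq := mem _ m0.1.1 m1.2.1.symm m3.2.1.symm m1.2.2.symm m3.2.2.symm
  have mo := mem _ ho.1.1.1 o1 o3 o1c o3c
  have mj := mem j hj (fun e => hpj (e ▸ m1.1.1.2.2)) (fun e => hpj (e ▸ m3.1.1.2.2))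
    (sj _ (by decide)).symm (sj _ (by decide)).symm
  refine hpj (L2.all_of_two (isLine_Ln mp mq m0.1.2.1.symm m0.1.2.2) (right_mem_Ln mq)
    ⟨mo, fun w hw e1 e2 => ?_⟩ ho.1.2.1.symm mj (sj _ (by decide)) oj (left_mem_Ln mp)).symm
  by_cases h1 : w = p
  · rw [h1]; exact ho.1.1.2.2
  by_cases h2 : w = π (dec 1280)
  · rw [h2]; exact ho.1.2.2
  exact ho.2 w ⟨⟨hw.1.1, h1, e1.symm⟩, h2, e2.symm⟩ hw.1.2.2.symm hw.2.2.symm

theorem F23q.jb [Finite G] {E : Set G} (hr : F23q E) {p x b j : G} (hp : p ∈ E)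
    {π : V6 → G} (C : Cq (Dx E p) π x b) (hj : j ∈ Dx E x) (hpj : ¬ Commute p j) {k : F4}
    (hk : k = om ∨ k = ob) (sj : Std (fun v => π (sc k v)) j) :
    ∀ c ∈ [0, 1, 2, 3, 4, 5, 8, 9], Commute j (let22 π x b c) := by
  have hk0 : k ≠ 0 := by rcases hk with rfl | rfl <;> decide
  obtain ⟨s1, s2⟩ := std_sc C.um hk0 sj
  have l1 : ∀ c ∈ [0, 1, 2, 3, 4, 5, 8], Commute j (let22 π x b c) := by
    simp only [List.forall_mem_cons] at s1 ⊢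
    obtain ⟨h0, h1, h2, h3, h4, h5, -⟩ := s1
    exact ⟨h0, h1, h2, h3, h4, h5, hj.2.2.symm, by simp⟩
  suffices Commute j b by
    simp only [List.forall_mem_cons] at l1 ⊢
    obtain ⟨h0, h1, h2, h3, h4, h5, h8, -⟩ := l1
    exact ⟨h0, h1, h2, h3, h4, h5, h8, this, by simp⟩
  have hx := C.hx
  have hb := C.hb
  have m0 := C.um.mem (v := dec 1280) (by decide)
  have m1 := C.um.mem_Dx (y := dec 1280) (z := dec 5) (by decide)
  have b0 := C.std 1280 (by decide)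
  have b1 := C.std 5 (by decide)
  obtain ⟨L1, F1⟩ := hr _ m1.1.1.1
  have hp1 : p ∈ Dx E (π (dec 5)) := Dx_symm hp m1.1.1
  have ho := L1.ho F1 hp1 (b := j) ⟨hj.1, fun e => hpj (e ▸ m1.1.1.2.2), (s1 _ (by decide)).symm⟩ hpj
  obtain ⟨L2, -⟩ := F1 p hp1
  rw [Dx_comm] at ho L2
  have n0 : π (dec 1280) ∈ Dx (Dx E p) (π (dec 5)) := ⟨m0.1, m1.2.1.symm, m1.2.2.symm⟩
  have nx : x ∈ Dx (Dx E p) (π (dec 5)) := Dx_symm hx m1.1
  have nb : b ∈ Dx (Dx E p) (π (dec 5)) := ⟨hb, fun e => C.adj (e ▸ m1.1.2.2), b1.symm⟩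
  have hg := Subgroup.subset_closure nb
  have nz : cj b x ∈ Dx (Dx (Dx E p) (π (dec 5))) (π (dec 1280)) := by
    rw [← cj_of_commute b0]
    exact (L2.mem_Dx_cj hg).2 ⟨nx, m0.2.1.symm, m0.2.2.symm⟩
  obtain ⟨m, ⟨k1, k2, k3⟩, -⟩ := ho.2 _ n0 (s1 _ (by decide)).symm _ nz
  obtain ⟨m, rfl⟩ : ∃ w, cj b w = m := ⟨_, cj_cj_inv b m⟩
  rw [← cj_of_commute b0, L2.mem_Ln_cj hg] at k1
  by_cases hm : m = x
  · rw [hm, ← (hr p hp).1.braid hx hb C.adj, commute_cj_left hj.2.2] at k3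
    exact k3.symm
  exfalso
  have k4 := LQ.Ln_swap hx m1.1 (z := π (dec 1280)) ⟨m0, m1.2.1.symm, m1.2.2.symm⟩
    (by rw [Ln_symm]; exact k1) hm
  obtain ⟨c, rfl⟩ := C.um.ln_pt (y := dec 1280) (z := dec 5) (by decide) (by rw [Ln_symm]; exact k4)
    (fun e => k2 (by rw [e, cj_of_commute b0]))
  have hc0 : c ≠ 0 := by
    rintro rfl
    exact k1.1.2.1 (by rw [zero_smul, add_zero])
  have hv : Commute j (π (dec 2645)) ∨ Commute j (π (dec 3925)) := by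
    rcases hk with rfl | rfl
    · exact Or.inl (by rwa [show dec 85 + om • dec 1280 = dec 2645 by decide] at s2)
    · exact Or.inr (by rwa [show dec 85 + ob • dec 1280 = dec 3925 by decide] at s2)
  have k5 := C.wrong l1 hv hc0 k3.symm
  obtain ⟨L3, F3⟩ := hr x hx.1
  have ho := L3.ho F3 (Dx_symm hp hx) hj hpj
  rw [Dx_comm] at ho
  have := C.um.s2 ho (y := dec 1280) (z := dec 1365) (by decide) (s1 _ (by decide)) k5 (c := k + 1)
    (by rwa [show dec 1365 + (k + 1) • dec 1280 = dec 85 + k • dec 1280 by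
      rcases hk with rfl | rfl <;> decide])
  rcases hk with rfl | rfl <;> exact absurd this (by decide)

theorem F23q.y23 [Finite G] {E : Set G} (hr : F23q E) {p x b j : G} (hp : p ∈ E)
    {π : V6 → G} (C : Cq (Dx E p) π x b) (hj : j ∈ Dx E x) (hpj : ¬ Commute p j)
    (sj : Std (fun v => π (sc om v)) j) {T : ℕ → G} (hT : Tab (let22 π x b) T) :
    Y3q E p (Yf T iy1) j := by
  refine ⟨hp, C.y22' (hr p hp).1 (C.y22 hT chk1).1, hj.1, hpj, C.nom hT ?_⟩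
  have := hr.jb hp C hj hpj (Or.inl rfl) sj
  have s2 := (std_sc C.um (by decide) sj).2
  rw [show dec 85 + om • dec 1280 = dec 2645 by decide] at s2
  simp only [List.forall_mem_cons] at this ⊢
  obtain ⟨h0, h1, h2, h3, h4, h5, h8, h9, -⟩ := this
  exact ⟨h0, h1, h2, h3, h4, h5, s2, h8, h9, by simp⟩

theorem F23q.y23' [Finite G] {E : Set G} (hr : F23q E) {p x b j : G} (hp : p ∈ E)
    {π : V6 → G} (C : Cq (Dx E p) π x b) (hj : j ∈ Dx E x) (hpj : ¬ Commute p j)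
    (sj : Std (fun v => π (sc ob v)) j) {T : ℕ → G} (hT : Tab (let22 π x b) T) :
    Y3q E p (Yf T iy2) j ∧ ∀ c ∈ [1, 2, 3, 4, 5, 6, 7, 8], Commute j (Yf T iy1 c) := by
  have s2 := (std_sc C.um (by decide) sj).2
  rw [show dec 85 + ob • dec 1280 = dec 3925 by decide] at s2
  have := C.nob hT (hr.jb hp C hj hpj (Or.inr rfl) sj) s2
  refine ⟨⟨hp, C.y22' (hr p hp).1 (C.y22 hT chk2).1, hj.1, hpj, ?_⟩, this⟩
  simp only [List.forall_mem_cons] at this ⊢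
  obtain ⟨h1, h2, h3, h4, h5, h6, h7, h8, -⟩ := this
  exact ⟨h6, h5, h4, h3, h2, h1, h7, h8, by simp⟩

/-- a standard external point for the base point `x` of the residue `E` -/
theorem LQ.exists_std [Finite G] {E : Set G} (h : LQ E) (hr : F22q E) {x : G} (hx : x ∈ E)
    {π : V6 → G} (hπ : UM (Dx E x) π) :
    ∃ b ∈ E, ¬ Commute x b ∧ ∃ k : F4, k ≠ 0 ∧ Std (fun v => π (sc k v)) b := by
  obtain ⟨b, hb, hxb⟩ := h.adj_ne hx
  obtain ⟨g, -, k, hk, C⟩ := h.cfg hr hx hb hxb hπ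
  exact ⟨_, C.hb, C.adj, k, hk, C.std⟩

theorem F23q.exists_y23 [Finite G] {E : Set G} (hr : F23q E) {p : G} (hp : p ∈ E) :
    ∃ y j, Y3q E p y j := by
  obtain ⟨L1, F1⟩ := hr p hp
  obtain ⟨x, hx⟩ := L1.nonempty
  obtain ⟨L2, F2⟩ := hr x hx.1
  obtain ⟨π, hπ⟩ := (F1 x hx).1.exists_um (F1 x hx).2
  obtain ⟨b, hb, hxb, k, hk, sb⟩ := L1.exists_std F1 hx hπ
  obtain ⟨j, hj, hpj, l, hl, sj⟩ := L2.exists_std F2 (Dx_symm hp hx) (Dx_comm E p x ▸ hπ)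
  have C : Cq (Dx E p) _ x b := ⟨L1.ws, F1, hx, hb, hxb, hπ.sc hk, sb⟩
  obtain ⟨T, hT⟩ := C.exists_tab
  have : ∀ k l : F4, k ≠ 0 → l ≠ 0 → k = l ∨ k * om = l ∨ k * ob = l := by decide
  rcases this k l hk hl with rfl | e | e
  · exact (hr.distinct hp hx (hπ.sc hk) hb hxb hj.1 hpj sb sj).elim
  · exact ⟨_, _, hr.y23 hp C hj hpj (std_congr e sj) hT⟩
  · exact ⟨_, _, (hr.y23' hp C hj hpj (std_congr e sj) hT).1⟩

end H0
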