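import Mathlib
import Cfsg.Agent.H0.W3

/-! Isomorphisms of Fischer spaces and lifting through a central extension of order two. -/

set_option autoImplicit false
set_option linter.unusedSectionVars false

namespace H0

variable {G G' : Type*} [Group G] [Group G']

structure FIso (β : G → G') (E : Set G) : Prop where
  inj : Set.InjOn β E
  cl : ∀ x ∈ E, ∀ y ∈ E, cj x y ∈ E
  hom : ∀ x ∈ E, ∀ y ∈ E, β (cj x y) = cj (β x) (β y)
  sq : ∀ x ∈ E, x * x = 1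
  sq' : ∀ x ∈ E, β x * β x = 1

namespace FIso

variable {β : G → G'} {E : Set G} (h : FIso β E)
include h

theorem comm {x y : G} (hx : x ∈ E) (hy : y ∈ E) : Commute (β x) (β y) ↔ Commute x y := by
  rw [← cj_eq_self, ← cj_eq_self, ← h.hom x hx y hy, h.inj.eq_iff (h.cl x hx y hy) hy]

theorem image_Dx {x : G} (hx : x ∈ E) : β '' Dx E x = Dx (β '' E) (β x) := by
  ext z
  constructor
  · rintro ⟨y, hy, rfl⟩
    exact ⟨⟨y, hy.1, rfl⟩, fun e => hy.2.1 (h.inj hy.1 hx e), (h.comm hx hy.1).2 hy.2.2⟩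
  · rintro ⟨⟨y, hy, rfl⟩, h1, h2⟩
    exact ⟨y, ⟨hy, fun e => h1 (by rw [e]), (h.comm hx hy).1 h2⟩, rfl⟩

theorem res (x : G) : FIso β (Dx E x) :=
  ⟨h.inj.mono (Dx_subset E x), fun y hy z hz => ⟨h.cl y hy.1 z hz.1, fun e => hz.2.1 (by
      rw [← cj_of_commute hy.2.2.symm, cj_inj] at e; exact e),
      (commute_cj_right hy.2.2.symm).2 hz.2.2⟩,
    fun y hy z hz => h.hom y hy.1 z hz.1, fun y hy => h.sq y hy.1, fun y hy => h.sq' y hy.1⟩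

theorem ln {x y z : G} (hx : x ∈ E) (hy : y ∈ E) (hz : z ∈ E) :
    β z ∈ Ln (β '' E) (β x) (β y) ↔ z ∈ Ln E x y := by
  constructor
  · exact fun k => ⟨hz, fun w hw h1 h2 => (h.comm hw hz).1
      (k.2 _ ⟨w, hw, rfl⟩ ((h.comm hw hx).2 h1) ((h.comm hw hy).2 h2))⟩
  · refine fun k => ⟨⟨z, hz, rfl⟩, ?_⟩
    rintro _ ⟨w, hw, rfl⟩ h1 h2
    exact (h.comm hw hz).2 (k.2 w hw ((h.comm hw hx).1 h1) ((h.comm hw hy).1 h2))

theorem act : (∀ g ∈ Subgroup.closure E, ∃ g' ∈ Subgroup.closure (β '' E),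
      ∀ x ∈ E, cj g x ∈ E ∧ β (cj g x) = cj g' (β x)) ∧
    ∀ g' ∈ Subgroup.closure (β '' E), ∃ g ∈ Subgroup.closure E,
      ∀ x ∈ E, cj g x ∈ E ∧ β (cj g x) = cj g' (β x) := by
  constructor
  · intro g hg
    induction hg using Subgroup.closure_induction_left with
    | one => exact ⟨1, one_mem _, fun x hx => by simpa using hx⟩
    | mul_left a ha g _ ih =>
      obtain ⟨g', h1, h2⟩ := ih
      exact ⟨β a * g', mul_mem (Subgroup.subset_closure ⟨a, ha, rfl⟩) h1, fun x hx => by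
        rw [← cj_cj, ← cj_cj, h.hom a ha _ (h2 x hx).1, (h2 x hx).2]
        exact ⟨h.cl a ha _ (h2 x hx).1, rfl⟩⟩
    | inv_mul_cancel a ha g _ ih =>
      obtain ⟨g', h1, h2⟩ := ih
      exact ⟨β a * g', mul_mem (Subgroup.subset_closure ⟨a, ha, rfl⟩) h1, fun x hx => by
        rw [inv_eq_of_sq (h.sq a ha), ← cj_cj, ← cj_cj, h.hom a ha _ (h2 x hx).1, (h2 x hx).2]
        exact ⟨h.cl a ha _ (h2 x hx).1, rfl⟩⟩
  · intro g hg
    induction hg using Subgroup.closure_induction_left with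
    | one => exact ⟨1, one_mem _, fun x hx => by simpa using hx⟩
    | mul_left a ha g _ ih =>
      obtain ⟨a, ha, rfl⟩ := ha
      obtain ⟨g', h1, h2⟩ := ih
      exact ⟨a * g', mul_mem (Subgroup.subset_closure ha) h1, fun x hx => by
        rw [← cj_cj, ← cj_cj, h.hom a ha _ (h2 x hx).1, (h2 x hx).2]
        exact ⟨h.cl a ha _ (h2 x hx).1, rfl⟩⟩
    | inv_mul_cancel a ha g _ ih =>
      obtain ⟨a, ha, rfl⟩ := ha
      obtain ⟨g', h1, h2⟩ := ih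
      exact ⟨a * g', mul_mem (Subgroup.subset_closure ha) h1, fun x hx => by
        rw [inv_eq_of_sq (h.sq' a ha), ← cj_cj, ← cj_cj, h.hom a ha _ (h2 x hx).1, (h2 x hx).2]
        exact ⟨h.cl a ha _ (h2 x hx).1, rfl⟩⟩

theorem lq (L : LQ E) : LQ (β '' E) := by
  have mk : ∀ {x}, x ∈ E → β x ∈ Subgroup.closure (β '' E) := fun hx =>
    Subgroup.subset_closure ⟨_, hx, rfl⟩
  refine ⟨⟨⟨?_, ?_, ?_, ?_, closure_sub _⟩, fun r hr => ?_, ?_⟩⟩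
  · rintro ⟨_, _⟩ ⟨x, hx, rfl⟩
    exact Subtype.ext (h.sq' x hx)
  · rintro ⟨_, _⟩ ⟨x, hx, rfl⟩ ⟨_, _⟩ ⟨y, hy, rfl⟩
    by_cases hc : Commute x y
    · exact Or.inl (commute_coe.1 ((h.comm hx hy).2 hc))
    · refine Or.inr (Subtype.ext ?_)
      change cj (β x) (β y) = cj (β y) (β x)
      rw [← h.hom x hx y hy, ← h.hom y hy x hx, L.braid hx hy hc]
  · rintro ⟨_, _⟩ ⟨x, hx, rfl⟩ ⟨g', hg'⟩
    obtain ⟨g, -, h2⟩ := h.act.2 g' hg'
    exact ⟨_, (h2 x hx).1, (h2 x hx).2⟩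
  · rintro ⟨_, _⟩ ⟨x, hx, rfl⟩ ⟨_, _⟩ ⟨y, hy, rfl⟩
    obtain ⟨g, hg, rfl⟩ := L.trans hx hy
    obtain ⟨g', h1, h2⟩ := h.act.1 g hg
    exact ⟨⟨g', h1⟩, Subtype.ext (h2 x hx).2.symm⟩
  · have : InvEq (sub E) fun x y => ∃ (hx : (x : G) ∈ E) (hy : (y : G) ∈ E),
        r ⟨β x, mk hx⟩ ⟨β y, mk hy⟩ := by
      refine ⟨fun x hx => ⟨hx, hx, hr.refl _ ⟨x, hx, rfl⟩⟩, fun x y ⟨a, b, c⟩ => ⟨b, a, hr.symm _ _ c⟩,
        fun x y z ⟨a, _, c⟩ ⟨_, b, c'⟩ => ⟨a, b, hr.tr _ _ _ c c'⟩, fun g x y ⟨a, b, c⟩ => ?_⟩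
      obtain ⟨g', h1, h2⟩ := h.act.1 g g.2
      refine ⟨(h2 x a).1, (h2 y b).1, ?_⟩
      have := hr.inv ⟨g', h1⟩ _ _ c
      convert this using 1
      exacts [Subtype.ext (h2 x a).2, Subtype.ext (h2 y b).2]
    rcases L.ptt.prim _ this with k | k
    · left
      rintro ⟨_, _⟩ ⟨x, hx, rfl⟩ ⟨_, _⟩ ⟨y, hy, rfl⟩ e
      have := k ⟨x, Subgroup.subset_closure hx⟩ hx ⟨y, Subgroup.subset_closure hy⟩ hy ⟨hx, hy, e⟩
      exact Subtype.ext (congrArg β (congrArg Subtype.val this))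
    · right
      rintro ⟨_, _⟩ ⟨x, hx, rfl⟩ ⟨_, _⟩ ⟨y, hy, rfl⟩
      exact (k ⟨x, Subgroup.subset_closure hx⟩ hx ⟨y, Subgroup.subset_closure hy⟩ hy).2.2
  · obtain ⟨d, hd⟩ := L.nonempty
    obtain ⟨a, ha⟩ := L.Dx_ne hd
    exact ⟨⟨β d, mk hd⟩, ⟨d, hd, rfl⟩, ⟨β a, mk ha.1⟩,
      mem_Dx_sub.2 (h.image_Dx hd ▸ ⟨a, ha, rfl⟩)⟩

theorem mu {n : ℕ} (U : MU E n) : MU (β '' E) n := by
  obtain ⟨φ, M⟩ := U
  have k : ∀ x ∈ E, Function.invFunOn β E (β x) = x := fun x hx => h.inj.leftInvOn_invFunOn hx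
  refine ⟨fun z => φ (Function.invFunOn β E z), ?_, fun p hp => ?_⟩
  · rintro _ ⟨x, hx, rfl⟩ _ ⟨y, hy, rfl⟩
    simp only [k x hx, k y hy, h.comm hx hy]
    exact M.1 x hx y hy
  · obtain ⟨x, hx, c, hc, e⟩ := M.2 p hp
    exact ⟨_, ⟨x, hx, rfl⟩, c, hc, by simp only [k x hx]; exact e⟩

theorem f22 (U : F22q E) : F22q (β '' E) := by
  rintro _ ⟨x, hx, rfl⟩
  rw [← h.image_Dx hx]
  exact ⟨(h.res x).lq (U x hx).1, (h.res x).mu (U x hx).2⟩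

end FIso

theorem LQ.fiso {E : Set G} (L : LQ E) (f : G →* G') (hf : Set.InjOn f E) : FIso f E :=
  ⟨hf, fun _ hx _ hy => L.cj_mem hx hy, fun x _ y _ => map_cj f x y, fun _ hx => L.sq hx,
    fun x hx => by rw [← map_mul, L.sq hx, map_one]⟩

theorem cj_cen {δ : G} (hc : ∀ k, Commute δ k) (x y : G) : cj (δ * x) y = cj x y := by
  rw [← cj_cj, cj_of_commute (hc _)]

theorem cj_cen' {δ : G} (hc : ∀ k, Commute δ k) (x y : G) : cj x (δ * y) = δ * cj x y := by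
  rw [cj_mul, cj_of_commute (hc x).symm]

theorem sq_cen {δ x : G} (hc : ∀ k, Commute δ k) (h2 : δ * δ = 1) : δ * x * (δ * x) = x * x := by
  rw [mul_assoc, ← mul_assoc x, ← (hc x).eq, mul_assoc, ← mul_assoc, h2, one_mul]

theorem LQ.fiso_mul {E : Set G} (L : LQ E) {δ : G} (hc : ∀ k, Commute δ k) (h2 : δ * δ = 1) :
    FIso (fun x => δ * x) E :=
  ⟨fun _ _ _ _ e => mul_left_cancel e, fun _ hx _ hy => L.cj_mem hx hy,
    fun x _ y _ => by rw [cj_cen hc, cj_cen' hc], fun _ hx => L.sq hx,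
    fun x hx => by rw [sq_cen hc h2, L.sq hx]⟩

theorem PTT.lq {D : Set G} (P : PTT D) : LQ D := ⟨P.lp.ptt⟩

theorem braid_of_cube {x y : G} (hx : x * x = 1) (hy : y * y = 1) (h : (x * y) ^ 3 = 1) :
    cj x y = cj y x := by
  have h1 : cj x y * cj y x = 1 := by
    rw [← h, cj, cj, inv_eq_of_sq hx, inv_eq_of_sq hy]
    simp only [pow_succ, pow_zero, one_mul, mul_assoc]
  have h2 : cj y x * cj y x = 1 := by rw [← cj_mul, hx, cj, mul_one, mul_inv_cancel]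
  exact mul_right_cancel (h1.trans h2.symm)

theorem cube_of_braid {x y : G} (hx : x * x = 1) (hy : y * y = 1) (h : cj x y = cj y x) :
    (x * y) ^ 3 = 1 := by
  have h2 : cj y x * cj y x = 1 := by rw [← cj_mul, hx, cj, mul_one, mul_inv_cancel]
  nth_rw 1 [← h] at h2
  rw [← h2, cj, cj, inv_eq_of_sq hx, inv_eq_of_sq hy]
  simp only [pow_succ, pow_zero, one_mul, mul_assoc]

end H0
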