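import Mathlib
import Cfsg.Agent.H0.W6

/-! Lifting a class of 3-transpositions to a perfect central extension of order two. -/

set_option autoImplicit false
set_option linter.unusedSectionVars false

namespace H0

open scoped commutatorElement

variable {K X : Type*} [Group K] [Group X]

theorem top_of_perf {δ : K} (hc : ∀ k, Commute δ k) (h2 : δ * δ = 1) (hp : commutator K = ⊤)
    {N : Subgroup K} (h : ∀ k, k ∈ N ∨ δ * k ∈ N) : N = ⊤ := by
  have h1 : ∀ a b : K, ⁅δ * a, b⁆ = ⁅a, b⁆ := fun a b => by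
    rw [commutatorElement_def, commutatorElement_def, mul_inv_rev, inv_eq_of_sq h2,
      show δ * a * b * (a⁻¹ * δ) = δ * (a * b * a⁻¹) * δ by group, (hc _).eq, mul_assoc _ δ δ, h2,
      mul_one]
  have h3 : ∀ a b : K, ⁅a, δ * b⁆ = ⁅a, b⁆ := fun a b => by
    rw [← commutatorElement_inv, h1, commutatorElement_inv]
  have h4 : ∀ a b : K, a ∈ N → b ∈ N → ⁅a, b⁆ ∈ N := fun a b ha hb =>
    mul_mem (mul_mem (mul_mem ha hb) (inv_mem ha)) (inv_mem hb)
  rw [eq_top_iff, ← hp, commutator_def, Subgroup.commutator_le]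
  intro a _ b _
  rcases h a with ha | ha <;> rcases h b with hb | hb
  · exact h4 _ _ ha hb
  · exact h3 a b ▸ h4 _ _ ha hb
  · exact h1 a b ▸ h4 _ _ ha hb
  · exact h3 a b ▸ h1 a _ ▸ h4 _ _ ha hb

theorem cube_tri {δ a b : K} (hc : ∀ k, Commute δ k) (h2 : δ * δ = 1) (ha : a ^ 3 = 1)
    (hb : b ^ 3 = 1) (h1 : (a * b) ^ 3 = δ) (h3 : (a * b⁻¹) ^ 3 = 1 ∨ (a * b⁻¹) ^ 3 = δ) : δ = 1 := by
  have e1 : a * (b * a * b⁻¹) = δ * (b⁻¹ * a⁻¹ * b) := by
    rw [← h1]
    calc a * (b * a * b⁻¹) = (a * b) ^ 3 * (b⁻¹ * a⁻¹ * b) * (b ^ 3)⁻¹ := by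
          simp only [pow_succ, pow_zero]; group
      _ = _ := by rw [hb, inv_one, mul_one]
  have e2 : b * a * b⁻¹ * a = b * (a * b⁻¹) ^ 3 * b * a⁻¹ * b := by
    simp only [pow_succ, pow_zero]; group
  have hb' : b * b = b⁻¹ := by
    rw [eq_inv_iff_mul_eq_one, ← hb]; simp only [pow_succ, pow_zero, one_mul]
  have c3 : (b⁻¹ * a⁻¹ * b) ^ 3 = 1 := by
    have := conj_pow (a := b⁻¹) (b := a⁻¹) (i := 3)
    rw [inv_inv] at this
    rw [this, inv_pow, ha]; simp
  have d3 : δ ^ 3 = δ := by rw [pow_succ, pow_two, h2, one_mul]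
  have k1 : (a * (b * a * b⁻¹)) ^ 3 = δ := by rw [e1, (hc _).mul_pow, c3, mul_one, d3]
  rcases h3 with h3 | h3
  · have k2 : (b * a * b⁻¹ * a) ^ 3 = 1 := by rw [e2, h3, mul_one, hb', c3]
    rw [← k1, show a * (b * a * b⁻¹) = a * (b * a * b⁻¹ * a) * a⁻¹ by group, conj_pow, k2]
    simp
  · have k2 : Commute a (b * a * b⁻¹) := by
      rw [Commute, SemiconjBy, e1, e2, h3, ← (hc b).eq, mul_assoc δ, hb']
      simp only [mul_assoc]
    rw [← k1, k2.mul_pow, ha, conj_pow, ha]; simp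

/-- `θ` is a perfect central extension with kernel `{1, δ}` -/
structure CE (θ : K →* X) (δ : K) : Prop where
  surj : Function.Surjective θ
  ker : ∀ k, θ k = 1 ↔ k = 1 ∨ k = δ
  cen : ∀ k, Commute δ k
  sq : δ * δ = 1
  ne : δ ≠ 1
  perf : commutator K = ⊤

namespace CE

variable {θ : K →* X} {δ : K} (h : CE θ δ)
include h

theorem map_δ : θ δ = 1 := (h.ker δ).2 (Or.inr rfl)

theorem map_δ_mul (k : K) : θ (δ * k) = θ k := by rw [map_mul, h.map_δ, one_mul]

theorem δδ (k : K) : δ * (δ * k) = k := by rw [← mul_assoc, h.sq, one_mul]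

theorem eq_or {a b : K} (e : θ a = θ b) : a = b ∨ a = δ * b := by
  rcases (h.ker (a * b⁻¹)).1 (by rw [map_mul, map_inv, e, mul_inv_cancel]) with h1 | h1
  · exact Or.inl (mul_inv_eq_one.1 h1)
  · exact Or.inr (by rw [← h1, inv_mul_cancel_right])

theorem top {N : Subgroup K} (hN : ∀ x, ∃ k ∈ N, θ k = x) : N = ⊤ :=
  top_of_perf h.cen h.sq h.perf fun k => by
    obtain ⟨n, hn, e⟩ := hN (θ k)
    rcases h.eq_or e with rfl | rfl
    exacts [Or.inl hn, Or.inr hn]

theorem comm_lift {a b a' b' : K} (ea : θ a = θ a') (eb : θ b = θ b') (hc : Commute a' b') :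
    Commute a b := by
  have : Commute a' b := by
    rcases h.eq_or eb with rfl | rfl
    exacts [hc, (h.cen _).symm.mul_right hc]
  rcases h.eq_or ea with rfl | rfl
  exacts [this, (h.cen _).mul_left this]

theorem cj_list {a : K} : ∀ {l : List K}, (∀ b ∈ l, cj a b = δ * b) →
    cj a l.prod = δ ^ l.length * l.prod
  | [], _ => by simp [cj]
  | b :: l, hl => by
    rw [List.prod_cons, cj_mul, hl b (by simp), cj_list fun c hc => hl c (by simp [hc]),
      List.length_cons, pow_succ', mul_assoc, mul_assoc, ← mul_assoc b,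
      ← ((h.cen b).pow_left _).eq, mul_assoc]

theorem pow_odd {n : ℕ} (hn : Odd n) : δ ^ n = δ := by
  obtain ⟨k, rfl⟩ := hn
  rw [pow_succ, pow_mul, pow_two, h.sq, one_pow, one_mul]

theorem lift_list (l : List X) : ∃ l' : List K, l'.map θ = l := by
  refine ⟨l.map (Function.surjInv h.surj), ?_⟩
  rw [List.map_map]
  simp [Function.comp_def, Function.surjInv_eq]

variable [Finite X] {D : Set X} (P : PTT D)
include P

/-- lifts of commuting transpositions commute -/
theorem L1 {a : X} (ha : a ∈ D) {l : List X} (hl : ∀ b ∈ l, b ∈ Dx D a) (ho : Odd l.length)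
    (hp : l.prod = 1 ∨ l.prod = a) {x y : K} (hx : θ x ∈ D) (hy : θ y ∈ D)
    (hc : Commute (θ x) (θ y)) : Commute x y := by
  by_cases e : θ y = θ x
  · exact h.comm_lift rfl e (Commute.refl x)
  by_contra hn
  obtain ⟨a, rfl⟩ := h.surj a
  obtain ⟨l, rfl⟩ := h.lift_list l
  have k : ∀ b ∈ l, cj a b = δ * b := fun b hb => by
    have hb' := hl _ (List.mem_map_of_mem hb)
    refine (h.eq_or (by rw [map_cj, cj_of_commute hb'.2.2])).resolve_left fun e1 => hn ?_
    obtain ⟨g, g1, g2⟩ := P.comm_pair_trans ha hx hb' ⟨hy, e, hc⟩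
    obtain ⟨g, rfl⟩ := h.surj g
    rw [← map_cj] at g1 g2
    exact h.comm_lift g1.symm g2.symm (commute_cj.2 (cj_eq_self.1 e1))
  have k1 := h.cj_list k
  rw [List.length_map] at ho
  rw [← map_list_prod] at hp
  rw [h.pow_odd ho, cj_of_commute] at k1
  · exact h.ne (by simpa using k1.symm)
  · rcases hp with hp | hp
    · exact h.comm_lift rfl (hp.trans (map_one θ).symm) (Commute.one_right a)
    · exact h.comm_lift rfl hp (Commute.refl a)

/-- lifts of transpositions are involutions -/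
theorem L2 (c1 : ∀ x y : K, θ x ∈ D → θ y ∈ D → Commute (θ x) (θ y) → Commute x y)
    {l : List X} (hl : ∀ b ∈ l, b ∈ D) (hc : l.Pairwise Commute) (ho : Odd l.length)
    (hp : l.prod = 1) {x : K} (hx : θ x ∈ D) : x * x = 1 := by
  by_contra hn
  have k : ∀ y, θ y ∈ D → y * y = δ := fun y hy => by
    refine ((h.ker _).1 (by rw [map_mul, P.sq _ hy])).resolve_left fun e => hn ?_
    obtain ⟨g, hg⟩ := P.trans _ hy _ hx
    obtain ⟨g, rfl⟩ := h.surj g
    rw [← map_cj] at hg
    have e1 : cj g y * cj g y = 1 := by rw [← cj_mul, e, cj, mul_one, mul_inv_cancel]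
    rcases h.eq_or hg.symm with rfl | rfl
    exacts [e1, by rw [sq_cen h.cen h.sq, e1]]
  obtain ⟨l, rfl⟩ := h.lift_list l
  have key : ∀ l : List K, (∀ b ∈ l, θ b ∈ D) → (l.map θ).Pairwise Commute →
      l.prod * l.prod = δ ^ l.length := by
    intro l
    induction l with
    | nil => simp
    | cons b l ih =>
      intro h1 h2
      rw [List.map_cons, List.pairwise_cons] at h2
      have hb : Commute b l.prod := Commute.list_prod_right _ _ fun c hc =>
        c1 _ _ (h1 b (by simp)) (h1 c (by simp [hc])) (h2.1 _ (List.mem_map_of_mem hc))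
      rw [List.prod_cons, mul_assoc, ← mul_assoc l.prod, ← hb.eq, mul_assoc, ← mul_assoc,
        k b (h1 b (by simp)), ih (fun c hc => h1 c (by simp [hc])) h2.2, List.length_cons, pow_succ']
  have k1 := key l (fun b hb => hl _ (List.mem_map_of_mem hb)) hc
  rw [List.length_map] at ho
  rw [← map_list_prod, h.ker] at hp
  rw [h.pow_odd ho] at k1
  apply h.ne
  rcases hp with hp | hp <;> rw [← k1, hp]
  exacts [mul_one _, h.sq]

/-- the data after lifting -/
structure Lift (θ : K →* X) (δ : K) (D : Set X) (Δ : Set K) : Prop where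
  lq : LQ Δ
  gen : Subgroup.closure Δ = ⊤
  inj : Set.InjOn θ Δ
  im : θ '' Δ = D

omit P in
theorem lift_of {s : X → K} (P : PTT D) (hs : ∀ a, θ (s a) = a) (F : FIso s D) :
    Lift θ δ D (s '' D) := by
  refine ⟨F.lq P.lq, h.top fun x => ?_, ?_, ?_⟩
  · have : x ∈ (Subgroup.closure (s '' D)).map θ := by
      rw [MonoidHom.map_closure, Set.image_image]
      simp only [hs, Set.image_id', P.gen, Subgroup.mem_top]
    exact this
  · rintro _ ⟨a, -, rfl⟩ _ ⟨b, -, rfl⟩ e
    rw [hs, hs] at e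
    rw [e]
  · rw [Set.image_image]; simp only [hs, Set.image_id']

variable (c1 : ∀ x y : K, θ x ∈ D → θ y ∈ D → Commute (θ x) (θ y) → Commute x y)
  (c2 : ∀ x : K, θ x ∈ D → x * x = 1)
include c1 c2

theorem cube {x y : K} (hx : θ x ∈ D) (hy : θ y ∈ D) (hc : ¬ Commute (θ x) (θ y)) :
    (x * y) ^ 3 = 1 ∨ (x * y) ^ 3 = δ :=
  (h.ker _).1 (by rw [map_pow, map_mul, cube_of_braid (P.sq _ hx) (P.sq _ hy) (P.braid hx hy hc)])

theorem tri {x y z : K} (hx : θ x ∈ D) (hy : θ y ∈ D) (hz : θ z ∈ D)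
    (h3 : ¬ Commute (θ x) (θ z)) (e1 : (x * y) ^ 3 = 1) (e2 : (y * z) ^ 3 = 1) :
    (x * z) ^ 3 = 1 := by
  have sx := c2 x hx
  have sy := c2 y hy
  have sz := c2 z hz
  have b1 := braid_of_cube sx sy e1
  have b2 := braid_of_cube sy sz e2
  have m1 : θ (cj y x) ∈ D := map_cj θ y x ▸ P.conj _ hx _
  by_cases hw : Commute (θ (cj y x)) (θ z)
  · have hw := c1 _ _ m1 hz hw
    have k1 : (cj y x * y) ^ 3 = 1 := by
      rw [← b1, cj, inv_eq_of_sq sx, show x * y * x * y = (x * y) ^ 2 by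
        simp only [pow_two, mul_assoc], ← pow_mul, mul_comm 2, pow_mul, e1, one_pow]
    have k2 : x * z = cj (y * z) (cj y x * y) := by
      rw [← cj_cj, cj_mul z, cj_of_commute hw.symm, ← b2, cj_mul, cj_cj, cj_cj, sy, cj_one, cj_one]
    rw [k2, cj, conj_pow, k1, mul_one, mul_inv_cancel]
  refine (h.cube P c1 c2 hx hz h3).resolve_right fun e3 => h.ne ?_
  refine cube_tri (a := x * y) (b := y * z) h.cen h.sq e1 e2 (by
    rw [mul_assoc, ← mul_assoc y, sy, one_mul, e3]) ?_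
  have k3 : x * y * (y * z)⁻¹ = x * cj y z := by
    rw [mul_inv_rev, inv_eq_of_sq sz, cj]; simp only [mul_assoc]
  rw [k3]
  refine h.cube P c1 c2 hx (map_cj θ y z ▸ P.conj _ hz _) fun e => hw ?_
  rw [map_cj, ← commute_cj (g := θ y), P.cj_cj_same hy] at e
  rwa [map_cj]

theorem fiso_of {s : X → K} (hs : ∀ a, θ (s a) = a)
    (h3 : ∀ a ∈ D, ∀ b ∈ D, ¬ Commute a b → (s a * s b) ^ 3 = 1) : FIso s D := by
  have m : ∀ a ∈ D, θ (s a) ∈ D := fun a ha => by rwa [hs]
  refine ⟨fun a _ b _ e => by rw [← hs a, e, hs], fun a _ b hb => P.conj b hb a,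
    fun a ha b hb => ?_, P.sq, fun a ha => c2 _ (m a ha)⟩
  by_cases hc : Commute a b
  · rw [cj_of_commute hc, cj_of_commute (c1 _ _ (m a ha) (m b hb) (by rwa [hs, hs]))]
  refine (h.eq_or (by rw [map_cj, hs, hs, hs])).resolve_right fun e => h.ne ?_
  have k := h3 a ha _ (P.conj b hb a) (by rwa [commute_cj_right (Commute.refl a)])
  have k1 : s a * cj (s a) (s b) = cj (s a) (s a * s b) := by
    rw [cj_mul, cj_of_commute (Commute.refl _)]
  rw [e, ← mul_assoc, ← (h.cen _).eq, mul_assoc, (h.cen _).mul_pow, k1, cj, conj_pow,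
    h3 a ha b hb hc, h.pow_odd (by decide)] at k
  simpa using k

/-- splitting of the class via simple connectivity -/
theorem lift_cob (hN : ∀ a ∈ D, ∀ b ∈ D, ∀ c ∈ D, ∀ e ∈ D, ∃ w ∈ D,
    ¬ Commute w a ∧ ¬ Commute w b ∧ ¬ Commute w c ∧ ¬ Commute w e) :
    ∃ Δ, Lift θ δ D Δ := by
  classical
  let s := Function.surjInv h.surj
  have hs : ∀ a, θ (s a) = a := Function.surjInv_eq h.surj
  have m : ∀ a ∈ D, θ (s a) ∈ D := fun a ha => by rwa [hs]
  have d3 : δ ^ 3 = δ := h.pow_odd (by decide)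
  have cl : ∀ x y : K, (δ * x * y) ^ 3 = δ * (x * y) ^ 3 := fun x y => by
    rw [mul_assoc, (h.cen _).mul_pow, d3]
  have cr : ∀ x y : K, (x * (δ * y)) ^ 3 = δ * (x * y) ^ 3 := fun x y => by
    rw [← mul_assoc, ← (h.cen x).eq, cl]
  have sy : ∀ x y : K, (x * y) ^ 3 = 1 → (y * x) ^ 3 = 1 := fun x y e => by
    rw [show y * x = y * (x * y) * y⁻¹ by group, conj_pow, e, mul_one, mul_inv_cancel]
  have cb : ∀ a ∈ D, ∀ b ∈ D, ¬ Commute a b → (s a * s b) ^ 3 ≠ 1 → (s a * s b) ^ 3 = δ :=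
    fun a ha b hb hc => (h.cube P c1 c2 (m a ha) (m b hb) (by rwa [hs, hs])).resolve_left
  obtain ⟨η, hη⟩ := exists_cobdry (S := D) (R := fun a b => ¬ Commute a b)
    (ε := fun a b => if (s a * s b) ^ 3 = 1 then 0 else 1) (fun a b h e => h e.symm)
    (fun a _ b _ _ => if_congr ⟨sy _ _, sy _ _⟩ rfl rfl) (fun a ha b hb c hc hab hbc hac => by
      have t := fun {x y z} (e1 : θ x = a) (e2 : θ y = b) (e3 : θ z = c) =>
        h.tri P c1 c2 (e1 ▸ ha) (e2 ▸ hb) (e3 ▸ hc) (by rwa [e1, e3])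
      have u := fun a => (h.map_δ_mul (s a)).trans (hs a)
      by_cases e1 : (s a * s b) ^ 3 = 1 <;> by_cases e2 : (s b * s c) ^ 3 = 1
      · simp [e1, e2, t (hs a) (hs b) (hs c) e1 e2]
      · have := t (hs a) (hs b) (u c) e1 (by rw [cr, cb b hb c hc hbc e2, h.sq])
        rw [cr] at this
        rw [if_pos e1, if_neg e2, if_neg fun e => h.ne (by simpa [e] using this), zero_add]
      · have := t (u a) (hs b) (hs c) (by rw [cl, cb a ha b hb hab e1, h.sq]) e2
        rw [cl] at this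
        rw [if_neg e1, if_pos e2, if_neg fun e => h.ne (by simpa [e] using this), add_zero]
      · rw [if_neg e1, if_neg e2, if_pos (t (hs a) (u b) (hs c)
          (by rw [cr, cb a ha b hb hab e1, h.sq]) (by rw [cl, cb b hb c hc hbc e2, h.sq]))]
        rfl)
    (fun a h => h (Commute.refl a)) (Or.inr hN)
  have hs' : ∀ a, θ (if η a = 0 then s a else δ * s a) = a := fun a => by
    split_ifs
    exacts [hs a, (h.map_δ_mul _).trans (hs a)]
  refine ⟨_, h.lift_of P hs' (h.fiso_of P c1 c2 hs' fun a ha b hb hc => ?_)⟩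
  have := hη a ha b hb hc
  have z2 : ∀ x : ZMod 2, x ≠ 0 → x = 1 := by decide
  by_cases e : (s a * s b) ^ 3 = 1
  · rw [if_pos e] at this
    by_cases e1 : η a = 0
    · rw [if_pos e1, if_pos (by rw [e1, zero_add] at this; exact this.symm), e]
    · rw [if_neg e1, if_neg fun e2 => e1 (by rw [e2, add_zero] at this; exact this.symm), cl, cr, e,
        h.δδ]
  · rw [if_neg e] at this
    have e' := cb a ha b hb hc e
    by_cases e1 : η a = 0
    · rw [if_pos e1, if_neg fun e2 => by rw [e1, e2] at this; exact absurd this (by decide), cr, e',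
        h.sq]
    · rw [if_neg e1, if_pos (by
        by_contra e2; rw [z2 _ e1, z2 _ e2] at this; exact absurd this (by decide)), cl, e', h.sq]

/-- splitting of the class via generation of the centraliser -/
theorem lift_cen {a : X} (ha : a ∈ D) (hC : ∀ g, Commute g a → g ∈ Subgroup.closure (Dx D a)) :
    ∃ Δ, Lift θ δ D Δ := by
  classical
  obtain ⟨a, rfl⟩ := h.surj a
  have key : ∀ g, Commute (θ g) (θ a) → Commute g a := by
    have : ∀ x ∈ Subgroup.closure (Dx D (θ a)), ∀ g, θ g = x → Commute g a := by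
      intro x hx
      induction hx using Subgroup.closure_induction with
      | mem x hx => exact fun g e => c1 _ _ (e ▸ hx.1) ha (e ▸ hx.2.2.symm)
      | one => exact fun g e => h.comm_lift (e.trans (map_one θ).symm) rfl (Commute.one_left a)
      | mul x y _ _ hx hy =>
        obtain ⟨x, rfl⟩ := h.surj x
        obtain ⟨y, rfl⟩ := h.surj y
        exact fun g e => h.comm_lift (e.trans (map_mul θ x y).symm) rfl
          ((hx x rfl).mul_left (hy y rfl))
      | inv x _ hx =>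
        obtain ⟨x, rfl⟩ := h.surj x
        exact fun g e => h.comm_lift (e.trans (map_inv θ x).symm) rfl (hx x rfl).inv_left
    exact fun g hg => this _ (hC _ hg) g rfl
  have inj : ∀ g k, θ (cj g a) = θ (cj k a) → cj g a = cj k a := fun g k e => by
    have : Commute (k⁻¹ * g) a := key _ (by
      rw [← cj_eq_self, map_mul, ← cj_cj, ← map_cj, e, ← map_cj, cj_inv_cj])
    rw [← cj_eq_self, ← cj_cj] at this
    rw [← cj_cj_inv k (cj g a), this]
  have : ∀ x, ∃ y, θ y = x ∧ (x ∈ D → ∃ g, cj g a = y) := fun x => by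
    by_cases hx : x ∈ D
    · obtain ⟨g, rfl⟩ := P.trans _ ha x hx
      obtain ⟨g, rfl⟩ := h.surj g
      exact ⟨_, map_cj θ g a, fun _ => ⟨g, rfl⟩⟩
    · obtain ⟨y, rfl⟩ := h.surj x
      exact ⟨y, rfl, fun e => absurd e hx⟩
  choose s hs hs2 using this
  refine ⟨_, h.lift_of P hs ⟨fun a _ b _ e => by rw [← hs a, e, hs], fun a _ b hb => P.conj b hb a,
    fun x hx y hy => ?_, P.sq, fun a ha => c2 _ (by rwa [hs])⟩⟩
  obtain ⟨g, hg⟩ := hs2 y hy
  obtain ⟨k, hk⟩ := hs2 _ (P.conj y hy x)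
  rw [← hk, ← hg, cj_cj]
  exact inj _ _ (by rw [hk, ← cj_cj, hg, map_cj, hs, hs, hs])

end CE

end H0
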