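import Mathlib
import Cfsg.Agent.H0.W7

/-! Involutions and word identities in spaces of type `U₆(2)`. -/

set_option autoImplicit false
set_option linter.unusedSectionVars false
set_option maxRecDepth 100000

namespace H0

open H15 H15.Form Module H29

/-- transvection as a linear map -/
noncomputable def tvL (u : V6) : V6 →ₗ[F4] V6 :=
  LinearMap.id + ((unForm F4.card 6).B u).smulRight u

theorem tvL_apply (u w : V6) : tvL u w = tv u w := by simp [tvL, tv, hb_eq]

theorem hb_tv {u : V6} (hu : Iso u) (v w : V6) : hb (tv u v) (tv u w) = hb v w := by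
  simp only [tv, hb_add_left, hb_add_right, hb_smul_left, hb_smul_right, hu.2, hb_symm u v]
  linear_combination F4.two (hb u w * (hb u v * hb u v))

theorem hb_nd {w : V6} (h : ∀ v, hb v w = 0) : w = 0 := by
  ext i
  have := h (Pi.single i 1)
  fin_cases i <;> simpa [hb] using this

theorem u2_step {M : V6 →ₗ[F4] V6} (hM : ∀ v w, hb (M v) (M w) = hb v w) (h2 : ∀ v, M (M v) = v)
    (hne : ¬ ∀ w, M w = w) : ∃ u v, Iso u ∧ hb v u = 1 ∧ u ∈ LinearMap.range (M + LinearMap.id) ∧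
      (∀ w, (tvL u ∘ₗ M) ((tvL u ∘ₗ M) w) = w) ∧
      ∀ w ∈ LinearMap.range (tvL u ∘ₗ M + LinearMap.id),
        w ∈ LinearMap.range (M + LinearMap.id) ∧ hb v w = 0 := by
  have ad : ∀ v w, hb (M v + v) w = hb v (M w + w) := fun v w => by
    rw [hb_add_left, hb_add_right, ← hM v (M w), h2]
  have nn : ∀ v, M (M v + v) = M v + v := fun v => by rw [map_add, h2, add_comm]
  have f2 : ∀ a : F4, a + a * a = 0 → om * a + om * a * (om * a) = 0 → a = 0 := by decide
  have f1 : ∀ a : F4, a = a * a → a ≠ 0 → a = 1 := by decide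
  obtain ⟨v, hv⟩ : ∃ v, hb v (M v + v) ≠ 0 := by
    by_contra hcon
    push Not at hcon
    have k : ∀ v w, hb v (M w + w) + hb v (M w + w) * hb v (M w + w) = 0 := fun v w => by
      have := hcon (v + w)
      rw [map_add, add_add_add_comm, hb_add_left, hb_add_right, hb_add_right w, hcon, hcon, ← ad w v,
        hb_symm v] at this
      linear_combination this
    refine hne fun w => ?_
    have := hb_nd (w := M w + w) fun v => f2 _ (k v w) (by
      have := k v (om • w)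
      rwa [map_smul, ← smul_add, hb_smul_right] at this)
    rw [← add_zero (M w), ← vtwo w, ← add_assoc, this, zero_add]
  have hv1 : hb v (M v + v) = 1 := f1 _ (by rw [← hb_symm, ad]) hv
  have hu : Iso (M v + v) := ⟨fun e => hv (by rw [e, hb_zero_right]), by
    rw [ad, nn, vtwo, hb_zero_right]⟩
  have k1 : ∀ w, hb (M v + v) (M w) = hb (M v + v) w := fun w => by
    nth_rw 1 [← nn v]; rw [hM]
  refine ⟨M v + v, v, hu, hv1, ⟨v, rfl⟩, fun w => ?_, ?_⟩
  · simp only [LinearMap.comp_apply, tvL_apply, tv, map_add (f := M) (M w), map_smul, nn, h2, k1,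
      hb_add_right (M v + v) w, hb_smul_right, hu.2, mul_zero, add_zero]
    rw [add_assoc, vtwo, add_zero]
  · rintro _ ⟨w, rfl⟩
    simp only [LinearMap.add_apply, LinearMap.comp_apply, tvL_apply, tv, LinearMap.id_apply, k1]
    refine ⟨⟨w + hb (M v + v) w • v, ?_⟩, ?_⟩
    · simp only [LinearMap.add_apply, LinearMap.id_apply, map_add, map_smul, smul_add]
      abel
    · rw [add_right_comm, hb_add_right, hb_smul_right, hv1, ← ad, mul_one, F4.two]

theorem u2_rank {M : V6 →ₗ[F4] V6} (h2 : ∀ v, M (M v) = v) :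
    finrank F4 (LinearMap.range (M + LinearMap.id)) ≤ 3 := by
  have h1 := LinearMap.finrank_range_add_finrank_ker (M + LinearMap.id)
  have h3 : LinearMap.range (M + LinearMap.id) ≤ LinearMap.ker (M + LinearMap.id) := by
    rintro _ ⟨w, rfl⟩
    simp only [LinearMap.mem_ker, LinearMap.add_apply, LinearMap.id_apply, map_add, h2]
    rw [add_comm w, vtwo]
  have := Submodule.finrank_mono h3
  simp only [finrank_fintype_fun_eq_card, Fintype.card_fin] at h1
  omega

theorem u2_orth {M : V6 →ₗ[F4] V6} (hM : ∀ v w, hb (M v) (M w) = hb v w) (h2 : ∀ v, M (M v) = v)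
    {u w : V6} (hu : u ∈ LinearMap.range (M + LinearMap.id))
    (hw : w ∈ LinearMap.range (M + LinearMap.id)) : hb u w = 0 := by
  obtain ⟨u, rfl⟩ := hu
  obtain ⟨w, rfl⟩ := hw
  simp only [LinearMap.add_apply, LinearMap.id_apply]
  rw [hb_add_left, ← hM u (M w + w), map_add, h2, add_comm w, F4.two]

theorem scalar_of_iso {N : V6 →ₗ[F4] V6} (h : ∀ v, Iso v → ∃ c : F4, N v = c • v) :
    ∃ c : F4, ∀ v, N v = c • v := by
  have st : ∀ {y z : V6} {c : F4}, Ind y z → N y = c • y → N z = c • z := by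
    intro y z c hi e
    obtain ⟨a, ha⟩ := h z hi.2.1
    obtain ⟨b, hb⟩ := h _ (hi.iso 1)
    rw [one_smul, map_add, e, ha, smul_add] at hb
    have e1 : (a - b) • z = (b - c) • y := by
      rw [sub_smul, sub_smul]; linear_combination (exp := 1) hb
    have e2 : a = b := by
      by_contra hne
      exact hi.2.2.2 ((a - b)⁻¹ * (b - c)) (by
        rw [mul_smul, ← e1, smul_smul, inv_mul_cancel₀ (sub_ne_zero.2 hne), one_smul])
    rw [e2, sub_self, zero_smul, eq_comm, smul_eq_zero, sub_eq_zero] at e1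
    rw [ha, e2, e1.resolve_right hi.1.1]
  obtain ⟨c, h0⟩ := h (dec 5) (by decide)
  have h1 := st (z := dec 80) (by decide) h0
  have h2 := st (z := dec 9) (by decide) h1
  have h3 := st (z := dec 1280) (by decide) h2
  have h4 := st (z := dec 20) (by decide) h3
  have h5 := st (z := dec 320) (by decide) h4
  have ad : ∀ {y z : V6}, N y = c • y → N z = c • z → N (y + z) = c • (y + z) := fun e1 e2 => by
    rw [map_add, e1, e2, smul_add]
  have k1 : N (om • (dec 5 + dec 9)) = c • om • (dec 5 + dec 9) := by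
    rw [map_smul, ad h0 h2, smul_comm]
  have k0 := ad h0 k1
  have k2 := ad h4 k1
  have k3 := ad h1 k2
  have k4 := ad h5 k3
  have k5 := ad h3 k4
  have : N = c • LinearMap.id := (Pi.basisFun F4 (Fin 6)).ext fun i => by
    rw [Pi.basisFun_apply, LinearMap.smul_apply, LinearMap.id_apply]
    fin_cases i
    · convert k0 using 2 <;> decide
    · convert k1 using 2 <;> decide
    · convert k2 using 2 <;> decide
    · convert k3 using 2 <;> decide
    · convert k4 using 2 <;> decide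
    · convert k5 using 2 <;> decide
  exact ⟨c, fun v => by rw [this]; rfl⟩

variable {G : Type*} [Group G]

/-- `h` acts on the points as the isometry `M` -/
def Rep (π : V6 → G) (h : G) (M : V6 →ₗ[F4] V6) : Prop :=
  (∀ v w, hb (M v) (M w) = hb v w) ∧ ∀ v, Iso v → Iso (M v) ∧ cj h (π v) = π (M v)

/-- independent triple of pairwise commuting points -/
def I3 (H : Set G) (e f g : G) : Prop :=
  e ∈ H ∧ f ∈ Dx H e ∧ g ∈ H ∧ Commute e g ∧ Commute f g ∧ g ∉ Ln H e f

theorem I3.dx {H : Set G} {e f g : G} (h : I3 H e f g) : g ∈ Dx (Dx H e) f :=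
  ⟨⟨h.2.2.1, fun k => h.2.2.2.2.2 (by rw [k]; exact left_mem_Ln h.1), h.2.2.2.1⟩,
    fun k => h.2.2.2.2.2 (by rw [k]; exact right_mem_Ln h.2.1.1), h.2.2.2.2.1⟩

theorem I3.cj {H : Set G} (L : LQ H) {e f g k : G} (h : I3 H e f g) (hk : k ∈ Subgroup.closure H) :
    I3 H (cj k e) (cj k f) (cj k g) :=
  ⟨L.conj h.1 hk, (L.mem_Dx_cj hk).2 h.2.1, L.conj h.2.2.1 hk, commute_cj.2 h.2.2.2.1,
    commute_cj.2 h.2.2.2.2.1, fun e => h.2.2.2.2.2 ((L.mem_Ln_cj hk).1 e)⟩

/-- independence test for triples -/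
def Ind3 (u v w : V6) : Prop :=
  Ind u v ∧ Iso w ∧ hb u w = 0 ∧ hb v w = 0 ∧ ∀ a b : F4, w ≠ a • u + b • v

instance instDecInd3 (u v w : V6) : Decidable (Ind3 u v w) :=
  inferInstanceAs (Decidable (_ ∧ _ ∧ _ ∧ _ ∧ _))

/-- projective equality of codes -/
noncomputable def peq (a b : ℕ) : Bool :=
  Nat.beq a b || (Nat.beq a (enc (om • dec b)) || Nat.beq a (enc (ob • dec b)))

noncomputable def goD (l : List ℕ) : ℕ → List ℕ :=
  List.rec (motive := fun _ => ℕ → List ℕ) (fun x => [x])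
    (fun y v ih x => Bool.rec (motive := fun _ => List ℕ) (y :: lit (tvN y x) ih) v (peq x y)) l

noncomputable def stepD (l : List ℕ) : ℕ → List ℕ :=
  List.rec (motive := fun _ => ℕ → List ℕ) (fun _ => [])
    (fun y v ih i => Nat.rec (motive := fun _ => List ℕ) (goD v y) (fun j _ => y :: ih j) i) l

noncomputable def redD (st : List ℕ) : List ℕ → List ℕ :=
  List.rec (motive := fun _ => List ℕ → List ℕ) id (fun i _ ih l => ih (stepD l i)) st

/-- the word fixes the generating points -/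
noncomputable def fixN (gs w : List ℕ) : Bool := gens8.all fun g => peq (evN gs w g) g

namespace UM

variable {H : Set G} {π : V6 → G} (h : UM H π)
include h

theorem rep_pt {u : V6} (hu : Iso u) {k : G} {M : V6 →ₗ[F4] V6} (R : Rep π k M) :
    Rep π (π u * k) (tvL u ∘ₗ M) := by
  refine ⟨fun v w => ?_, fun v hv => ?_⟩
  · simp only [LinearMap.comp_apply, tvL_apply, hb_tv hu, R.1]
  · rw [LinearMap.comp_apply, tvL_apply, ← cj_cj, (R.2 v hv).2, h.cj hu (R.2 v hv).1]
    exact ⟨hu.tv (R.2 v hv).1, rfl⟩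

theorem exists_rep (L : LQ H) {k : G} (hk : k ∈ Subgroup.closure H) : ∃ M, Rep π k M := by
  induction hk using Subgroup.closure_induction_left with
  | one => exact ⟨LinearMap.id, fun _ _ => rfl, fun v hv => ⟨hv, cj_one _⟩⟩
  | mul_left a ha g _ ih =>
    obtain ⟨u, hu, rfl⟩ := h.surj ha
    exact ⟨_, h.rep_pt hu ih.choose_spec⟩
  | inv_mul_cancel a ha g _ ih =>
    rw [L.inv ha]
    obtain ⟨u, hu, rfl⟩ := h.surj ha
    exact ⟨_, h.rep_pt hu ih.choose_spec⟩

theorem i3 {u v w : V6} (k : Ind3 u v w) : I3 H (π u) (π v) (π w) :=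
  ⟨h.mem k.1.1, h.mem_Dx k.1, h.mem k.2.1, (h.comm k.1.1 k.2.1).2 k.2.2.1,
    (h.comm k.1.2.1 k.2.1).2 k.2.2.2.1, fun e =>
      let ⟨a, b, e⟩ := (h.ln k.1.1 k.1.2.1 k.2.1 k.1.2.2.1).1 e; k.2.2.2.2 a b e⟩

theorem core (L : LQ H) {k : G} (hk : k ∈ Subgroup.closure H) (hc : ∀ x ∈ H, Commute (k * k) x) :
    ∃ z, (∀ x ∈ H, Commute z x) ∧ (k = z ∨ (∃ e ∈ H, k = e * z) ∨
      (∃ e ∈ H, ∃ f ∈ Dx H e, k = e * f * z) ∨ ∃ e f g, I3 H e f g ∧ k = e * f * g * z) := by
  obtain ⟨M0, R0⟩ := h.exists_rep L hk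
  obtain ⟨c, hc0⟩ := scalar_of_iso (N := M0 ∘ₗ M0) fun v hv => h.inj (R0.2 _ (R0.2 v hv).1).1 hv (by
    rw [LinearMap.comp_apply, ← (R0.2 _ (R0.2 v hv).1).2, ← (R0.2 v hv).2, cj_cj, cj_of_commute (hc _ (h.mem hv))])
  have hc1 : c ≠ 0 := by
    rintro rfl
    exact (R0.2 _ (R0.2 (dec 5) (by decide)).1).1.1 ((hc0 _).trans (zero_smul _ _))
  have R : Rep π k (c • M0) := by
    refine ⟨fun v w => ?_, fun v hv => ⟨(R0.2 v hv).1.smul hc1, ?_⟩⟩
    · rw [LinearMap.smul_apply, LinearMap.smul_apply, hb_smul_left, hb_smul_right, R0.1, ← mul_assoc,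
        F4.cube c hc1, one_mul]
    · rw [LinearMap.smul_apply, h.smul (R0.2 v hv).1 hc1, (R0.2 v hv).2]
  have h2 : ∀ v, (c • M0) ((c • M0) v) = v := fun v => by
    have := hc0 v
    rw [LinearMap.comp_apply] at this
    rw [LinearMap.smul_apply, LinearMap.smul_apply, map_smul, this, smul_smul, smul_smul,
      F4.cube c hc1, one_smul]
  generalize c • M0 = M at R h2
  have fin : ∀ {z M}, Rep π z M → (∀ w, M w = w) → ∀ x ∈ H, Commute z x := by
    intro z M R e x hx
    obtain ⟨v, hv, rfl⟩ := h.surj hx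
    rw [← cj_eq_self, (R.2 v hv).2, e]
  have can : ∀ {u : V6}, Iso u → ∀ y, π u * (π u * y) = y := fun hu y => by
    rw [← mul_assoc, L.sq (h.mem hu), one_mul]
  by_cases e0 : ∀ w, M w = w
  · exact ⟨k, fin R e0, Or.inl rfl⟩
  obtain ⟨u1, v1, i1, b1, m1, s1, t1⟩ := u2_step R.1 h2 e0
  have R1 := h.rep_pt i1 R
  by_cases e1 : ∀ w, (tvL u1 ∘ₗ M) w = w
  · exact ⟨_, fin R1 e1, Or.inr (Or.inl ⟨_, h.mem i1, (can i1 k).symm⟩)⟩
  obtain ⟨u2, v2, i2, b2, m2, s2, t2⟩ := u2_step R1.1 s1 e1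
  have R2 := h.rep_pt i2 R1
  have o21 : hb u2 u1 = 0 := u2_orth R.1 h2 (t1 _ m2).1 m1
  have c21 := (h.comm i2 i1).2 o21
  by_cases e2 : ∀ w, (tvL u2 ∘ₗ tvL u1 ∘ₗ M) w = w
  · refine ⟨_, fin R2 e2, Or.inr (Or.inr (Or.inl ⟨_, h.mem i2, _, h.mem_Dx
      ⟨i2, i1, o21, fun c e => ?_⟩, ?_⟩))⟩
    · rw [e, hb_smul_right, (t1 _ m2).2, mul_zero] at b1
      exact zero_ne_one b1
    · rw [c21.eq, mul_assoc, can i2, can i1]
  obtain ⟨u3, v3, i3, b3, m3, s3, t3⟩ := u2_step R2.1 s2 e2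
  have R3 := h.rep_pt i3 R2
  have o32 : hb u3 u2 = 0 := u2_orth R1.1 s1 (t2 _ m3).1 m2
  have o31 : hb u3 u1 = 0 := u2_orth R.1 h2 (t1 _ (t2 _ m3).1).1 m1
  refine ⟨_, fin R3 fun w => ?_, Or.inr (Or.inr (Or.inr ⟨_, _, _, h.i3 ⟨⟨i3, i2, o32, fun c e => ?_⟩,
    i1, o31, o21, fun a b e => ?_⟩, ?_⟩))⟩
  · have lt : ∀ {A B : Submodule F4 V6} {u v}, hb v u = 1 → u ∈ B →
        (∀ w ∈ A, w ∈ B ∧ hb v w = 0) → finrank F4 A < finrank F4 B := by
      intro A B u v b m t
      refine Submodule.finrank_lt_finrank_of_lt (lt_of_le_of_ne (fun w hw => (t w hw).1) ?_)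
      rintro rfl
      exact zero_ne_one ((t u m).2.symm.trans b)
    have l0 := u2_rank h2
    have l1 := lt b1 m1 t1
    have l2 := lt b2 m2 t2
    have l3 := lt b3 m3 t3
    have z : LinearMap.range (tvL u3 ∘ₗ tvL u2 ∘ₗ tvL u1 ∘ₗ M + LinearMap.id) = ⊥ :=
      Submodule.finrank_eq_zero.1 (by omega)
    have : (tvL u3 ∘ₗ tvL u2 ∘ₗ tvL u1 ∘ₗ M) w + w = 0 :=
      LinearMap.congr_fun (LinearMap.range_eq_bot.1 z) w
    rw [← add_zero ((tvL u3 ∘ₗ tvL u2 ∘ₗ tvL u1 ∘ₗ M) w), ← vtwo w, ← add_assoc, this, zero_add]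
  · rw [e, hb_smul_right, (t2 _ m3).2, mul_zero] at b2
    exact zero_ne_one b2
  · rw [e, hb_add_right, hb_smul_right, hb_smul_right, (t1 _ m2).2, (t1 _ (t2 _ m3).1).2, mul_zero,
      mul_zero, add_zero] at b1
    exact zero_ne_one b1
  · have c32 := (h.comm i3 i2).2 o32
    have c31 := (h.comm i3 i1).2 o31
    rw [c32.eq, (c21.mul_left c31).eq, mul_assoc, mul_assoc, can i3, can i2, can i1]

theorem peq_eq {a b : ℕ} (hb : Iso (dec b)) (e : peq a b = true) : π (dec a) = π (dec b) := by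
  simp only [peq, Bool.or_eq_true, H29.beq_true] at e
  rcases e with rfl | rfl | rfl
  · rfl
  · rw [dec_enc, h.smul hb (by decide)]
  · rw [dec_enc, h.smul hb (by decide)]

theorem cen_word {gs : List ℕ} (hg : isoL gs) {w : List ℕ} (e : fixN gs w = true) :
    ∀ x ∈ H, Commute (H29.ev (fun c => π (dec (nth 5 gs c))) w) x := fun x hx => by
  refine (Subgroup.mem_centralizer_singleton_iff.1 (h.gen693 (K := Subgroup.centralizer {_})
    (fun g hg' => Subgroup.mem_centralizer_singleton_iff.2 ?_) hx)).symm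
  have i8 : isoL gens8 := by decide
  have := (h.ev hg (i8 g hg') w).2
  rw [h.peq_eq (i8 g hg') (List.all_eq_true.1 e g hg'), cj_eq_self] at this
  exact this.symm.eq

variable (L : LQ H)
include L

theorem go_ok : ∀ (l : List ℕ) (x : ℕ), isoL l → Iso (dec x) →
    isoL (goD l x) ∧ H29.ev (fun c => π (dec c)) (goD l x) = π (dec x) * H29.ev (fun c => π (dec c)) l
  | [], x, _, hx => ⟨fun g hg => by rwa [List.mem_singleton.1 hg], ev_cons _ _ _⟩
  | y :: v, x, hl, hx => by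
    have hy := hl y (by simp)
    have hv : isoL v := fun g hg => hl g (by simp [hg])
    cases e : peq x y
    · rw [show goD (y :: v) x = Bool.rec (motive := fun _ => List ℕ) (y :: goD v (tvN y x)) v
        (peq x y) from rfl, e]
      obtain ⟨k1, k2⟩ := go_ok v (tvN y x) hv (dec_tvN y x ▸ hy.tv hx)
      refine ⟨fun g hg => (List.mem_cons.1 hg).elim (fun e => e ▸ hy) (k1 g), ?_⟩
      rw [ev_cons, k2, dec_tvN, ← h.cj hy hx, ev_cons, H0.cj, ← mul_assoc, ← mul_assoc, ← mul_assoc,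
        L.sq (h.mem hy), one_mul, L.inv (h.mem hy), mul_assoc]
    · rw [show goD (y :: v) x = Bool.rec (motive := fun _ => List ℕ) (y :: goD v (tvN y x)) v
        (peq x y) from rfl, e]
      exact ⟨hv, by rw [ev_cons, h.peq_eq hy e, ← mul_assoc, L.sq (h.mem hy), one_mul]⟩

theorem step_ok : ∀ (l : List ℕ) (i : ℕ), isoL l →
    isoL (stepD l i) ∧ H29.ev (fun c => π (dec c)) (stepD l i) = H29.ev (fun c => π (dec c)) l
  | [], _, hl => ⟨hl, rfl⟩
  | y :: v, 0, hl => by
    rw [ev_cons]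
    exact h.go_ok L v y (fun g hg => hl g (by simp [hg])) (hl y (by simp))
  | y :: v, j + 1, hl => by
    obtain ⟨k1, k2⟩ := step_ok v j fun g hg => hl g (by simp [hg])
    rw [show stepD (y :: v) (j + 1) = y :: stepD v j from rfl, ev_cons, ev_cons, k2]
    exact ⟨fun g hg => (List.mem_cons.1 hg).elim (fun e => e ▸ hl y (by simp)) (k1 g), rfl⟩

theorem red_ok : ∀ (st l : List ℕ), isoL l → redD st l = [] → H29.ev (fun c => π (dec c)) l = 1
  | [], l, _, e => by rw [show l = [] from e, ev_nil]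
  | i :: st, l, hl, e => by
    rw [← (h.step_ok L l i hl).2]
    exact red_ok st _ (h.step_ok L l i hl).1 e

end UM

end H0
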