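import Mathlib
import Cfsg.Agent.H0.W8
import Cfsg.Agent.H0.W5

/-! The class of an involution whose centraliser is a double cover generated by 3-transpositions. -/

set_option autoImplicit false
set_option linter.unusedSectionVars false

namespace H0

variable {K G : Type*} [Group K] [Group G]

theorem isSquare_cj {x : K} (h : IsSquare x) (g : K) : IsSquare (cj g x) :=
  let ⟨r, hr⟩ := h; ⟨cj g r, by rw [hr, cj_mul]⟩

theorem sq_A3 {a b c : K} (hb : b * b = 1) (h1 : cj a b = cj b a) (h2 : cj c b = cj b c)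
    (ha : a * a = 1) (hc : c * c = 1) (h3 : Commute a c) :
    a * c = cj b (a * b * c) * cj b (a * b * c) := by
  have : a * b * c * (a * b * c) = cj a b * cj c b := by
    rw [cj, cj, inv_eq_of_sq ha, inv_eq_of_sq hc, mul_assoc (a * b) c, ← mul_assoc c, ← mul_assoc c,
      ← h3.eq]
    simp only [mul_assoc]
  rw [← cj_mul, this, h1, h2, ← cj_mul, cj_cj, hb, cj_one]

theorem prod_map_cen {δ : K} (hc : ∀ k, Commute δ k) : ∀ l : List K,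
    (l.map fun x => δ * x).prod = δ ^ l.length * l.prod
  | [] => by simp
  | b :: l => by
    rw [List.map_cons, List.prod_cons, prod_map_cen hc l, List.length_cons, List.prod_cons,
      pow_succ', mul_assoc, mul_assoc, ← mul_assoc b, ← ((hc b).pow_left _).eq, mul_assoc]

structure Pkg (δ : K) (Δ C : Set K) : Prop where
  cen : ∀ k, Commute δ k
  sq : δ * δ = 1
  lq : LQ Δ
  gen : Subgroup.closure Δ = ⊤
  nsq : ¬ IsSquare δ
  zen : ∀ z, (∀ y ∈ Δ, Commute z y) → z = 1 ∨ z = δ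
  inv : ∀ t, t * t = 1 → t = 1 ∨ t = δ ∨ t ∈ Δ ∨ δ * t ∈ Δ ∨
    (∃ e ∈ Δ, ∃ f ∈ Dx Δ e, t = e * f ∨ t = δ * (e * f)) ∨ t ∈ C
  s2 : ∀ e ∈ Δ, ∀ f ∈ Dx Δ e, IsSquare (e * f) ∧ IsSquare (δ * (e * f))
  cls : ∀ t ∈ C, ∀ u ∈ C, ∃ g, cj g t = u
  cδ : ∀ t ∈ C, δ * t ∈ C
  c3 : ∀ t ∈ C, ∃ e ∈ Δ, ∃ f ∈ Dx Δ e, ∃ g ∈ Dx (Dx Δ e) f, t = e * f * g ∨ t = δ * (e * f * g)
  ex : ∃ t ∈ C, ∃ u ∈ C, Commute t u ∧ IsSquare (t * u) ∧ IsSquare (δ * (t * u))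
  hyp : ∃ l : List K, Even l.length ∧ (∀ x ∈ l, x ∈ Δ) ∧ l.Pairwise Commute ∧ l.prod = δ
  odd : ∃ l : List K, Odd l.length ∧ (∀ x ∈ l, x ∈ Δ) ∧ l.prod = 1
  f6 : ∀ e ∈ Δ, ∀ f ∈ Dx Δ e, ∃ g ∈ Dx (Dx Δ e) f, ∃ g' ∈ Dx (Dx Δ e) f, ¬ Commute g g'

namespace Pkg

variable {δ : K} {Δ C : Set K} (h : Pkg δ Δ C)
include h

theorem δδ (k : K) : δ * (δ * k) = k := by rw [← mul_assoc, h.sq, one_mul]

theorem mul2 (x y : K) : δ * x * (δ * y) = x * y := by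
  rw [mul_assoc, ← mul_assoc x, ← (h.cen x).eq, mul_assoc, h.δδ]

theorem conj {x : K} (hx : x ∈ Δ) (g : K) : cj g x ∈ Δ :=
  h.lq.conj hx (h.gen ▸ Subgroup.mem_top g)

theorem ne_δ {x : K} (hx : x ∈ Δ) : x ≠ δ := by
  rintro rfl
  obtain ⟨y, -, hy⟩ := h.lq.adj_ne hx
  exact hy (h.cen y)

theorem ne_one {x : K} (hx : x ∈ Δ) : x ≠ 1 := by
  rintro rfl
  obtain ⟨y, -, hy⟩ := h.lq.adj_ne hx
  exact hy (Commute.one_left y)

theorem fiso : FIso (fun x => δ * x) Δ := h.lq.fiso_mul h.cen h.sq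

theorem symm : Pkg δ ((fun x => δ * x) '' Δ) C := by
  have F := h.fiso
  have d1 : ∀ {e}, e ∈ Δ → Dx ((fun x => δ * x) '' Δ) (δ * e) = (fun x => δ * x) '' Dx Δ e :=
    fun he => (F.image_Dx he).symm
  have d2 : ∀ {e f}, e ∈ Δ → f ∈ Dx Δ e → Dx (Dx ((fun x => δ * x) '' Δ) (δ * e)) (δ * f) =
      (fun x => δ * x) '' Dx (Dx Δ e) f := fun he hf => by
    rw [d1 he]; exact ((F.res _).image_Dx hf).symm
  have po : ∀ {n}, Odd n → δ ^ n = δ := by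
    rintro _ ⟨k, rfl⟩; rw [pow_succ, pow_mul, pow_two, h.sq, one_pow, one_mul]
  have pe : ∀ {n}, Even n → δ ^ n = 1 := by
    rintro _ ⟨k, rfl⟩; rw [← two_mul, pow_mul, pow_two, h.sq, one_pow]
  have ml : ∀ {l : List K}, (∀ x ∈ l, x ∈ Δ) →
      ∀ x ∈ l.map fun x => δ * x, x ∈ (fun x => δ * x) '' Δ := fun hl x hx => by
    obtain ⟨y, hy, rfl⟩ := List.mem_map.1 hx
    exact ⟨y, hl y hy, rfl⟩
  obtain ⟨l, l1, l2, l3, l4⟩ := h.hyp
  obtain ⟨m, m1, m2, m3⟩ := h.odd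
  refine ⟨h.cen, h.sq, F.lq h.lq, ?_, h.nsq, fun z hz => h.zen z fun y hy => ?_, fun t ht => ?_, ?_,
    h.cls, h.cδ, fun t ht => ?_, h.ex, ⟨_, by rwa [List.length_map], ml l2, ?_, ?_⟩,
    ⟨(l ++ m).map fun x => δ * x, ?_, ml fun x hx => (List.mem_append.1 hx).elim (l2 x) (m2 x), ?_⟩,
    ?_⟩
  · have k : δ ∈ Subgroup.closure ((fun x => δ * x) '' Δ) := by
      have := Subgroup.list_prod_mem _ fun x hx => Subgroup.subset_closure (ml m2 x hx)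
      rwa [prod_map_cen h.cen, po m1, m3, mul_one] at this
    rw [eq_top_iff, ← h.gen, Subgroup.closure_le]
    intro x hx
    rw [← h.δδ x]
    exact mul_mem k (Subgroup.subset_closure ⟨x, hx, rfl⟩)
  · rw [← h.δδ y]
    exact (h.cen z).symm.mul_right (hz _ ⟨y, hy, rfl⟩)
  · rcases h.inv t ht with k | k | k | k | ⟨e, he, f, hf, k⟩ | k
    · exact Or.inl k
    · exact Or.inr (Or.inl k)
    · exact Or.inr (Or.inr (Or.inr (Or.inl ⟨t, k, rfl⟩)))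
    · exact Or.inr (Or.inr (Or.inl ⟨_, k, h.δδ t⟩))
    · exact Or.inr (Or.inr (Or.inr (Or.inr (Or.inl ⟨_, ⟨e, he, rfl⟩, δ * f,
        d1 he ▸ ⟨f, hf, rfl⟩, by rwa [h.mul2]⟩))))
    · exact Or.inr (Or.inr (Or.inr (Or.inr (Or.inr k))))
  · rintro _ ⟨e, he, rfl⟩ f hf
    rw [d1 he] at hf
    obtain ⟨f, hf, rfl⟩ := hf
    rw [h.mul2]
    exact h.s2 e he f hf
  · obtain ⟨e, he, f, hf, g, hg, k⟩ := h.c3 t ht
    refine ⟨_, ⟨e, he, rfl⟩, δ * f, d1 he ▸ ⟨f, hf, rfl⟩, δ * g, d2 he hf ▸ ⟨g, hg, rfl⟩, ?_⟩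
    rw [h.mul2, ← mul_assoc, ← (h.cen (e * f)).eq, mul_assoc δ, h.δδ]
    exact k.symm
  · exact List.pairwise_map.2 (l3.imp fun k => ((h.cen _).mul_left
      ((h.cen _).symm.mul_right k)))
  · rw [prod_map_cen h.cen, pe l1, l4, one_mul]
  · rw [List.length_map, List.length_append]; exact l1.add_odd m1
  · rw [prod_map_cen h.cen, List.length_append, po (l1.add_odd m1), List.prod_append, l4, m3, mul_one,
      h.sq]
  · rintro _ ⟨e, he, rfl⟩ f hf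
    rw [d1 he] at hf
    obtain ⟨f, hf, rfl⟩ := hf
    obtain ⟨g, hg, g', hg', k⟩ := h.f6 e he f hf
    rw [d2 he hf]
    exact ⟨_, ⟨g, hg, rfl⟩, _, ⟨g', hg', rfl⟩, fun e => k ((F.comm hg.1.1 hg'.1.1).1 e)⟩

end Pkg

/-- the conjugacy class -/
def Cl (d : G) : Set G := {x | ∃ g, cj g d = x}

theorem Cl.conj {d x : G} (hx : x ∈ Cl d) (g : G) : cj g x ∈ Cl d :=
  let ⟨k, hk⟩ := hx; ⟨g * k, by rw [← cj_cj, hk]⟩

theorem Cl.self (d : G) : d ∈ Cl d := ⟨1, cj_one d⟩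

theorem Cl.image (d g : G) : cj g '' Cl d = Cl d := by
  ext x
  rw [mem_image_cj']
  exact ⟨fun h => by simpa using Cl.conj h g, fun h => Cl.conj h _⟩

/-- `ι` identifies `K` with the centraliser of `ι δ` -/
structure Cen (ι : K →* G) (δ : K) : Prop where
  inj : Function.Injective ι
  rng : ∀ g, Commute g (ι δ) → ∃ k, ι k = g

namespace Cen

variable {ι : K →* G} {δ : K} (c : Cen ι δ) {Δ C : Set K} (h : Pkg δ Δ C)
include c h

theorem nsq {x : G} (hx : x ∈ Cl (ι δ)) : ¬ IsSquare x := by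
  obtain ⟨g, rfl⟩ := hx
  intro hs
  obtain ⟨r, hr⟩ := isSquare_cj hs g⁻¹
  rw [cj_inv_cj] at hr
  obtain ⟨k, rfl⟩ := c.rng r (hr ▸ (Commute.refl r).mul_right (Commute.refl r))
  exact h.nsq ⟨k, c.inj (by rw [hr, map_mul])⟩

theorem nsq' {k : K} (hx : ι k ∈ Cl (ι δ)) : ¬ IsSquare k := fun hs => c.nsq h hx (hs.map ι)

theorem sq {x : G} (hx : x ∈ Cl (ι δ)) : x * x = 1 := by
  obtain ⟨g, rfl⟩ := hx
  rw [← cj_mul, ← map_mul, h.sq, map_one, cj, mul_one, mul_inv_cancel]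

theorem cases {y : G} (hy : y ∈ Dx (Cl (ι δ)) (ι δ)) :
    ∃ k, ι k = y ∧ (k ∈ Δ ∨ δ * k ∈ Δ ∨ k ∈ C) := by
  obtain ⟨k, rfl⟩ := c.rng y hy.2.2.symm
  have n := c.nsq' h hy.1
  refine ⟨k, rfl, ?_⟩
  rcases h.inv k (c.inj (by rw [map_mul, c.sq h hy.1, map_one])) with
    rfl | rfl | e | e | ⟨e, he, f, hf, rfl | rfl⟩ | e
  · exact absurd IsSquare.one n
  · exact absurd rfl hy.2.1
  · exact Or.inl e
  · exact Or.inr (Or.inl e)
  · exact absurd (h.s2 e he f hf).1 n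
  · exact absurd (h.s2 e he f hf).2 n
  · exact Or.inr (Or.inr e)

theorem not_C [Finite K] {t : K} (ht : t ∈ C) : ι t ∉ Cl (ι δ) := by
  intro hD
  have all : ∀ u ∈ C, ι u ∈ Cl (ι δ) := fun u hu => by
    obtain ⟨g, rfl⟩ := h.cls t ht u hu
    rw [map_cj]; exact Cl.conj hD _
  obtain ⟨t, ht, u, hu, tu, s1, s2⟩ := h.ex
  obtain ⟨g, hg⟩ := all t ht
  have hg' : cj g⁻¹ (ι t) = ι δ := by rw [← hg, cj_inv_cj]
  have tt : t * t = 1 := c.inj (by rw [map_mul, c.sq h (all t ht), map_one])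
  have key : ∀ v ∈ C, Commute t v → IsSquare (t * v) → IsSquare (δ * (t * v)) →
      ∃ k, ι k = cj g⁻¹ (ι v) ∧ (k ∈ Δ ∨ δ * k ∈ Δ) := by
    intro v hv tv q1 q2
    obtain ⟨k, e, hk⟩ := c.cases h (y := cj g⁻¹ (ι v)) ⟨Cl.conj (all v hv) _, fun e => h.nsq (by
      rw [← hg', cj_inj, c.inj.eq_iff] at e
      rwa [e, tt, mul_one] at q2), hg' ▸ commute_cj.2 (tv.map ι)⟩
    refine ⟨k, e, hk.imp_right fun hk => hk.resolve_right fun hk => c.nsq h (all _ (h.cδ k hk)) ?_⟩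
    rw [map_mul, e, ← hg', ← cj_mul, ← map_mul]
    exact isSquare_cj (q1.map ι) _
  have sw : t * (δ * u) = δ * (t * u) := by rw [← mul_assoc, ← (h.cen t).eq, mul_assoc]
  obtain ⟨a, ea, ha⟩ := key u hu tu s1 s2
  obtain ⟨b, eb, hb⟩ := key _ (h.cδ u hu) ((h.cen t).symm.mul_right tu) (sw ▸ s2)
    (by rw [sw, h.δδ]; exact s1)
  have uu : u * u = 1 := c.inj (by rw [map_mul, c.sq h (all u hu), map_one])
  have ab : ι (a * b) = cj g⁻¹ (ι δ) := by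
    rw [map_mul, ea, eb, ← cj_mul, ← map_mul, ← mul_assoc, ← (h.cen u).eq, mul_assoc, uu, mul_one]
  have n := c.nsq' h (ab ▸ Cl.conj (Cl.self _) _)
  have nδ : a * b ≠ δ := fun e => by
    have e1 : t = δ := c.inj (cj_injective g⁻¹ (by rw [hg', ← ab, e]))
    have := all _ (h.cδ t ht)
    rw [e1, h.sq] at this
    exact c.nsq' h this IsSquare.one
  have cab : Commute a b := by
    have : Commute (ι a) (ι b) := by
      rw [ea, eb, commute_cj]; exact ((h.cen u).symm.mul_right (Commute.refl u)).map ι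
    exact this.of_map c.inj
  have fin : ∀ e ∈ Δ, ∀ f ∈ Δ, Commute e f → a * b = e * f ∨ a * b = δ * (e * f) → False := by
    intro e he f hf ef k
    by_cases e1 : f = e
    · rw [e1, h.lq.sq he, mul_one] at k
      exact k.elim (fun k => n (k ▸ IsSquare.one)) nδ
    · have := h.s2 e he f ⟨hf, e1, ef⟩
      exact k.elim (fun k => n (k ▸ this.1)) fun k => n (k ▸ this.2)
  have sw' : ∀ x y : K, x * (δ * y) = δ * (x * y) := fun x y => by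
    rw [← mul_assoc, ← (h.cen x).eq, mul_assoc]
  rcases ha with ha | ha <;> rcases hb with hb | hb
  · exact fin _ ha _ hb cab (Or.inl rfl)
  · exact fin _ ha _ hb ((h.cen a).symm.mul_right cab) (Or.inr (by rw [sw', h.δδ]))
  · exact fin _ ha _ hb ((h.cen b).mul_left cab) (Or.inr (by rw [mul_assoc, h.δδ]))
  · exact fin _ ha _ hb ((h.cen _).mul_left ((h.cen a).symm.mul_right cab))
      (Or.inl (h.mul2 a b).symm)

theorem all_of [Finite K] {x : K} (hx : x ∈ Δ) (hD : ι x ∈ Cl (ι δ)) :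
    ι '' Δ ⊆ Dx (Cl (ι δ)) (ι δ) := by
  rintro _ ⟨y, hy, rfl⟩
  obtain ⟨g, -, rfl⟩ := h.lq.trans hx hy
  exact ⟨map_cj ι g x ▸ Cl.conj hD _, fun e => h.ne_δ hy (c.inj e), (h.cen _).map ι⟩

theorem both [Finite K] {x k : K} (hx : x ∈ Δ) (hD : ι x ∈ Cl (ι δ)) (hk : δ * k ∈ Δ) :
    ι k ∉ Cl (ι δ) := by
  intro hy
  have k1 := c.all_of h.symm ⟨_, hk, h.δδ k⟩ hy
  have k2 : ∀ y ∈ Dx (Cl (ι δ)) (ι δ), ι δ * y ∈ Cl (ι δ) := fun y hy => by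
    obtain ⟨k, rfl, hk | hk | hk⟩ := c.cases h hy
    · exact (k1 ⟨_, ⟨k, hk, rfl⟩, map_mul ι _ _⟩).1
    · exact (c.all_of h hx hD ⟨_, hk, map_mul ι _ _⟩).1
    · exact absurd hy.1 (c.not_C h hk)
  obtain ⟨f, hf⟩ := h.lq.Dx_ne hx
  obtain ⟨g, hg⟩ := hD
  have := Cl.conj (k2 (cj g⁻¹ (ι f)) ⟨Cl.conj (c.all_of h hx ⟨g, hg⟩ ⟨f, hf.1, rfl⟩).1 _,
    fun e => hf.2.1 (c.inj (by rw [← hg, ← e, cj_cj_inv])), by
      rw [← commute_cj (g := g), hg, cj_cj_inv]; exact hf.2.2.map ι⟩) g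
  rw [cj_mul, hg, cj_cj_inv, ← map_mul] at this
  exact c.nsq' h this (h.s2 x hx f hf).1

theorem eq_of [Finite K] {x : K} (hx : x ∈ Δ) (hD : ι x ∈ Cl (ι δ)) :
    Dx (Cl (ι δ)) (ι δ) = ι '' Δ := by
  refine (c.all_of h hx hD).antisymm' fun y hy => ?_
  obtain ⟨k, rfl, hk | hk | hk⟩ := c.cases h hy
  · exact ⟨k, hk, rfl⟩
  · exact absurd hy.1 (c.both h hx hD hk)
  · exact absurd hy.1 (c.not_C h hk)

theorem step1 [Finite K] (hn : (Dx (Cl (ι δ)) (ι δ)).Nonempty) :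
    Dx (Cl (ι δ)) (ι δ) = ι '' Δ ∨ Dx (Cl (ι δ)) (ι δ) = ι '' ((fun x => δ * x) '' Δ) := by
  obtain ⟨y, hy⟩ := hn
  obtain ⟨k, rfl, hk | hk | hk⟩ := c.cases h hy
  · exact Or.inl (c.eq_of h hk hy.1)
  · exact Or.inr (c.eq_of h.symm ⟨_, hk, h.δδ k⟩ hy.1)
  · exact absurd hy.1 (c.not_C h hk)

variable (e : Dx (Cl (ι δ)) (ι δ) = ι '' Δ)
include e

theorem fiso (g : G) : FIso (fun k => cj g (ι k)) Δ ∧
    Dx (Cl (ι δ)) (cj g (ι δ)) = (fun k => cj g (ι k)) '' Δ := by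
  refine ⟨h.lq.fiso ((MulAut.conj g).toMonoidHom.comp ι)
    ((cj_injective g).comp c.inj).injOn, ?_⟩
  rw [← Cl.image (ι δ) g, ← image_Dx', e, Set.image_image]

theorem hZ (z : G) (h1 : ∀ y ∈ Dx (Cl (ι δ)) (ι δ), Commute z y) (h2 : Commute z (ι δ)) :
    z = 1 ∨ z = ι δ := by
  obtain ⟨z, rfl⟩ := c.rng z h2
  rcases h.zen z fun y hy => (h1 _ (e ▸ ⟨y, hy, rfl⟩)).of_map c.inj with rfl | rfl
  exacts [Or.inl (map_one ι), Or.inr rfl]

theorem cen_le {M : Subgroup G} (hM : Dx (Cl (ι δ)) (ι δ) ⊆ M) (g : G) (hg : Commute g (ι δ)) :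
    g ∈ M := by
  obtain ⟨k, rfl⟩ := c.rng g hg
  have : k ∈ M.comap ι := by
    refine (Subgroup.closure_le (k := Δ) _).2 (fun x hx => hM (e ▸ ⟨x, hx, rfl⟩))
      (h.gen ▸ Subgroup.mem_top k)
  exact this

theorem final [Finite G] {Γ : Type*} [Group Γ] (ψ : Γ →* G) (hψ : Function.Injective ψ) {t : Γ}
    (ht : ψ t = ι δ) (T : PTT (Cl t)) (hM : Dx (Cl (ι δ)) (ι δ) ⊆ ψ.range)
    (par : ∀ u : Γ, u * u = 1 → ∃ g, Commute u (cj g t)) : Nonempty (G ≃* Γ) := by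
  have : Finite K := Finite.of_injective ι c.inj
  have F := h.lq.fiso ι c.inj.injOn
  have : ψ.range = ⊤ := End3.eq_top (D := Cl (ι δ)) (d := ι δ) ⟨fun _ => Iff.rfl,
    c.sq h (Cl.self _), c.cen_le h e hM, ?_, fun y hy hc => ?_, ?_, e ▸ F.lq h.lq, fun w hw => ?_,
    ?_, ?_, ?_⟩
  · exact ⟨(MulEquiv.ofBijective ψ ⟨hψ, MonoidHom.range_eq_top.1 this⟩).symm⟩
  · rintro _ ⟨g, rfl⟩ hc
    rw [← ht, ← map_cj] at hc ⊢
    rw [← map_cj, ← map_cj, T.braid (Cl.self t) ⟨g, rfl⟩ fun e => hc (e.map ψ)]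
  · by_cases e1 : y = ι δ
    · exact ⟨1, one_mem _, by rw [cj_one, e1]⟩
    obtain ⟨_, ⟨g, rfl⟩, k1, k2⟩ := T.Dx_ne (Cl.self t)
    obtain ⟨m, hm, rfl⟩ := (e ▸ F.lq h.lq).trans (x := ψ (cj g t)) (y := y)
      ⟨⟨ψ g, by rw [← ht, map_cj]⟩, fun e => k1 (hψ (e.trans ht.symm)), ht ▸ k2.map ψ⟩ ⟨hy, e1, hc⟩
    exact ⟨m * ψ g, mul_mem ((Subgroup.closure_le _).2 hM hm) ⟨g, rfl⟩, by
      rw [← cj_cj, ← ht, map_cj]⟩
  · rintro _ ⟨u, rfl⟩ hu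
    obtain ⟨g, hg⟩ := par u (hψ (by rw [map_mul, hu, map_one]))
    exact ⟨ψ g, ⟨g, rfl⟩, by rw [← ht, ← map_cj]; exact hg.map ψ⟩
  · obtain ⟨l, l1, l2, l3⟩ := h.odd
    have key : ∀ l : List K, (∀ x ∈ l, x ∈ Δ) →
        cj (ι l.prod) w = if Even l.length then w else w⁻¹ := by
      intro l
      induction l with
      | nil => simp
      | cons a l ih =>
        intro hl
        have := hw (ι a) (e ▸ ⟨a, hl a (by simp), rfl⟩)
        rw [List.prod_cons, map_mul, ← cj_cj, ih fun x hx => hl x (by simp [hx]), List.length_cons]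
        by_cases hl : Even l.length
        · rw [if_pos hl, if_neg (by simpa [Nat.even_add_one] using hl), this]
        · rw [if_neg hl, if_pos (Nat.even_add_one.2 hl), cj, ← conj_inv, ← cj, this, inv_inv]
    have := key l l2
    rw [l3, map_one, cj_one, if_neg (Nat.not_even_iff_odd.2 l1)] at this
    exact mul_eq_one_iff_eq_inv.2 this
  · intro x hx hD
    have hx' := hx
    rw [e] at hx'
    obtain ⟨k, hk, rfl⟩ := hx'
    exact c.both h hk hx.1 (k := δ * k) (by rwa [h.δδ]) (by rwa [map_mul])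
  · intro x hx y hy
    rw [e] at hx hy
    obtain ⟨x, hx, rfl⟩ := hx
    rw [← F.image_Dx hx] at hy
    obtain ⟨y, hy, rfl⟩ := hy
    rw [mul_assoc, ← map_mul, ← map_mul]
    exact fun hD => c.nsq' h hD (h.s2 x hx y hy).2
  · intro x hx y hy
    rw [e] at hx hy ⊢
    obtain ⟨x, hx, rfl⟩ := hx
    rw [← F.image_Dx hx] at hy ⊢
    obtain ⟨y, hy, rfl⟩ := hy
    rw [← (F.res x).image_Dx hy]
    obtain ⟨g, hg, g', hg', k⟩ := h.f6 x hx y hy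
    exact ⟨_, ⟨g, hg, rfl⟩, _, ⟨g', hg', rfl⟩, fun e => k (e.of_map c.inj)⟩

end Cen

end H0
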