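import Mathlib
import Cfsg.Agent.H0.W9
import Cfsg.Agent.H9.U62M
import Cfsg.Agent.H16.SymRep
import Cfsg.Agent.H7.SmallTools
import Cfsg.Agent.S0283

/-! Perfect double covers of `U₆(2)`. -/

set_option autoImplicit false
set_option linter.unusedSectionVars false
set_option maxRecDepth 100000

namespace H0

open H15 H15.Form Module H29

variable {K X G : Type*} [Group K] [Group X] [Group G]

theorem CE.Lift.zen {θ : K →* X} {δ : K} (h : CE θ δ) {D : Set X} {Δ : Set K}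
    (l : CE.Lift θ δ D Δ) (hZ : Subgroup.center X = ⊥) (z : K) (hz : ∀ y ∈ Δ, Commute z y) :
    z = 1 ∨ z = δ := by
  refine (h.ker z).1 (Subgroup.mem_bot.1 (hZ ▸ Subgroup.mem_center_iff.2 fun x => ?_))
  obtain ⟨x, rfl⟩ := h.surj x
  have : x ∈ Subgroup.centralizer {z} := (Subgroup.closure_le (k := Δ) _).2
    (fun y hy => Subgroup.mem_centralizer_singleton_iff.2 (hz y hy).symm.eq)
    (l.gen ▸ Subgroup.mem_top x)
  rw [← map_mul, Subgroup.mem_centralizer_singleton_iff.1 this, map_mul]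

theorem LQ.q2 {Δ : Set K} (L : LQ Δ) {e f : K} (he : e ∈ Δ) (hf : f ∈ Dx Δ e) :
    e * f * (e * f) = 1 := by
  rw [hf.2.2.symm.mul_mul_mul_comm, L.sq he, L.sq hf.1, one_mul]

theorem LQ.q3 {Δ : Set K} (L : LQ Δ) {e f g : K} (he : e ∈ Δ) (hf : f ∈ Dx Δ e)
    (hg : g ∈ Dx (Dx Δ e) f) : e * f * g * (e * f * g) = 1 := by
  rw [(hg.1.2.2.mul_left hg.2.2).symm.mul_mul_mul_comm, L.q2 he hf, L.sq hg.1.1, one_mul]

theorem nsq_of {δ : K} {Δ : Set K} (cen : ∀ k, Commute δ k) (sq : δ * δ = 1)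
    (ne : δ ≠ 1) (L : LQ Δ) (zen : ∀ z, (∀ y ∈ Δ, Commute z y) → z = 1 ∨ z = δ)
    {T : K → K → K → Prop} (T1 : ∀ {e f g}, T e f g → e ∈ Δ ∧ f ∈ Dx Δ e ∧ g ∈ Dx (Dx Δ e) f)
    (core : ∀ k, (∀ x ∈ Δ, Commute (k * k) x) → ∃ z, (∀ x ∈ Δ, Commute z x) ∧
      (k = z ∨ (∃ e ∈ Δ, k = e * z) ∨ (∃ e ∈ Δ, ∃ f ∈ Dx Δ e, k = e * f * z) ∨
        ∃ e f g, T e f g ∧ k = e * f * g * z)) : ¬ IsSquare δ := by
  rintro ⟨k, hk⟩
  obtain ⟨z, hz, h1⟩ := core k fun x _ => hk ▸ cen x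
  have z2 : ∀ y, y * y = 1 → y * z * (y * z) = 1 := fun y hy => by
    rcases zen z hz with rfl | rfl
    · simpa using hy
    · rw [(cen y).mul_mul_mul_comm, hy, sq, one_mul]
  apply ne
  rw [hk]
  rcases h1 with rfl | ⟨e, he, rfl⟩ | ⟨e, he, f, hf, rfl⟩ | ⟨e, f, g, t, rfl⟩
  exacts [by simpa using z2 1 (mul_one _), z2 _ (L.sq he), z2 _ (L.q2 he hf),
    z2 _ (L.q3 (T1 t).1 (T1 t).2.1 (T1 t).2.2)]

theorem Pkg.mk' [Finite K] {δ : K} {Δ : Set K} (cen : ∀ k, Commute δ k) (sq : δ * δ = 1)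
    (ne : δ ≠ 1) (L : LQ Δ) (gen : Subgroup.closure Δ = ⊤)
    (zen : ∀ z, (∀ y ∈ Δ, Commute z y) → z = 1 ∨ z = δ) (T : K → K → K → Prop)
    (T1 : ∀ {e f g}, T e f g → e ∈ Δ ∧ f ∈ Dx Δ e ∧ g ∈ Dx (Dx Δ e) f)
    (T2 : ∀ {e f g} (k), T e f g → T (cj k e) (cj k f) (cj k g))
    (T3 : ∀ {e f g e' f' g'}, T e f g → T e' f' g' → ∃ k, cj k (e * f * g) = e' * f' * g')
    (core : ∀ k, (∀ x ∈ Δ, Commute (k * k) x) → ∃ z, (∀ x ∈ Δ, Commute z x) ∧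
      (k = z ∨ (∃ e ∈ Δ, k = e * z) ∨ (∃ e ∈ Δ, ∃ f ∈ Dx Δ e, k = e * f * z) ∨
        ∃ e f g, T e f g ∧ k = e * f * g * z))
    (hex : ∃ a b c d e f, T a b c ∧ T d e f ∧ T a b d ∧ [a, b, c, d, e, f].Pairwise Commute ∧
      c ≠ d ∧ a * b * c * (d * e * f) = δ)
    (s2 : ∃ e ∈ Δ, ∃ f ∈ Dx Δ e, IsSquare (δ * (e * f)))
    (A3 : ∃ e ∈ Δ, ∃ f ∈ Dx Δ e, ∃ w ∈ Δ, ¬ Commute w e ∧ ¬ Commute w f)
    (odd : ∃ l : List K, Odd l.length ∧ (∀ x ∈ l, x ∈ Δ) ∧ (l.prod = 1 ∨ l.prod = δ))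
    (f6 : ∀ e ∈ Δ, ∀ f ∈ Dx Δ e, ∃ g ∈ Dx (Dx Δ e) f, ∃ g' ∈ Dx (Dx Δ e) f, ¬ Commute g g') :
    ∃ C, Pkg δ Δ C := by
  have q2 := @L.q2
  have q3 : ∀ {e f g}, T e f g → e * f * g * (e * f * g) = 1 := fun t =>
    L.q3 (T1 t).1 (T1 t).2.1 (T1 t).2.2
  have s2' : ∀ e ∈ Δ, ∀ f ∈ Dx Δ e, IsSquare (e * f) ∧ IsSquare (δ * (e * f)) := by
    intro e he f hf
    constructor
    · obtain ⟨e', he', f', hf', w, hw, h1, h2⟩ := A3
      obtain ⟨k, -, rfl, rfl⟩ := L.comm_pair_trans he' he hf' hf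
      rw [← cj_mul]
      exact isSquare_cj ⟨_, sq_A3 (L.sq hw) (L.braid hw he' h1).symm (L.braid hw hf'.1 h2).symm
        (L.sq he') (L.sq hf'.1) hf'.2.2⟩ k
    · obtain ⟨e', he', f', hf', h1⟩ := s2
      obtain ⟨k, -, rfl, rfl⟩ := L.comm_pair_trans he' he hf' hf
      rw [← cj_mul, ← cj_cen' cen]
      exact isSquare_cj h1 k
  obtain ⟨a, b, c, d, e, f, t1, t2, t3, pw, cd, pr⟩ := hex
  have cδ : ∀ t, (∃ e f g, T e f g ∧ t = e * f * g) → ∃ e f g, T e f g ∧ δ * t = e * f * g := by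
    rintro _ ⟨x, y, z, t, rfl⟩
    obtain ⟨k, hk⟩ := T3 t1 t
    refine ⟨_, _, _, T2 k t2, ?_⟩
    rw [← hk, ← cj_cen' cen, (cen _).eq, ← cj_mul, ← cj_mul]
    congr 1
    rw [← pr, ← mul_assoc, q3 t1, one_mul]
  have hl : ∀ x ∈ [a, b, c, d, e, f], x ∈ Δ := by
    simp [(T1 t1).1, (T1 t1).2.1.1, (T1 t1).2.2.1.1, (T1 t2).1, (T1 t2).2.1.1, (T1 t2).2.2.1.1]
  have hp : [a, b, c, d, e, f].prod = δ := by simp [← pr, mul_assoc]
  have cd' : d ∈ Dx Δ c := ⟨(T1 t2).1, cd.symm, by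
    simp only [List.pairwise_cons, List.mem_cons, forall_eq_or_imp] at pw; exact pw.2.2.1.1⟩
  have e1 : a * b * c * (a * b * d) = c * d := by
    rw [((T1 t1).2.2.1.2.2.mul_left (T1 t1).2.2.2.2).symm.mul_mul_mul_comm,
      q2 (T1 t1).1 (T1 t1).2.1, one_mul]
  refine ⟨{t | ∃ e f g, T e f g ∧ t = e * f * g}, cen, sq, L, gen,
    nsq_of cen sq ne L zen T1 core, zen, fun t ht => ?_, s2', ?_,
    cδ, ?_, ⟨_, ⟨_, _, _, t1, rfl⟩, _, ⟨_, _, _, t3, rfl⟩, ?_, e1 ▸ s2' c (T1 t1).2.2.1.1 d cd'⟩,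
    ⟨_, by simp; decide, hl, pw, hp⟩, ?_, f6⟩
  · obtain ⟨z, hz, h1⟩ := core t fun x _ => ht ▸ Commute.one_left x
    rcases zen z hz with rfl | rfl <;>
      rcases h1 with rfl | ⟨e, he, rfl⟩ | ⟨e, he, f, hf, rfl⟩ | ⟨e, f, g, t, rfl⟩
    · exact Or.inl rfl
    · exact Or.inr (Or.inr (Or.inl (by rwa [mul_one])))
    · exact Or.inr (Or.inr (Or.inr (Or.inr (Or.inl ⟨e, he, f, hf, Or.inl (mul_one _)⟩))))
    · exact Or.inr (Or.inr (Or.inr (Or.inr (Or.inr ⟨e, f, g, t, mul_one _⟩))))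
    · exact Or.inr (Or.inl rfl)
    · exact Or.inr (Or.inr (Or.inr (Or.inl (by rwa [← (cen e).eq, ← mul_assoc, sq, one_mul]))))
    · exact Or.inr (Or.inr (Or.inr (Or.inr (Or.inl ⟨e, he, f, hf, Or.inr (cen _).eq.symm⟩))))
    · exact Or.inr (Or.inr (Or.inr (Or.inr (Or.inr ((cen _).eq ▸ cδ _ ⟨e, f, g, t, rfl⟩)))))
  · rintro _ ⟨x, y, z, t, rfl⟩ _ ⟨x', y', z', t', rfl⟩
    exact T3 t t'
  · rintro _ ⟨x, y, z, t, rfl⟩
    exact ⟨x, (T1 t).1, y, (T1 t).2.1, z, (T1 t).2.2, Or.inl rfl⟩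
  · have k1 := (T1 t1).2.2.1.2.2.mul_left (T1 t1).2.2.2.2
    have k3 := (T1 t3).2.2.1.2.2.mul_left (T1 t3).2.2.2.2
    exact ((Commute.refl _).mul_right k3).mul_left (k1.symm.mul_right cd'.2.2)
  · obtain ⟨l, l1, l2, l3 | l3⟩ := odd
    · exact ⟨l, l1, l2, l3⟩
    · exact ⟨[a, b, c, d, e, f] ++ l, by
        rw [List.length_append]; exact Even.add_odd (by simp; decide) l1,
        fun x hx => (List.mem_append.1 hx).elim (hl x) (l2 x), by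
          rw [List.prod_append, hp, l3, sq]⟩

theorem hubs : allN 4096 (fun n => decide (hb (dec 5) (dec n) = 0 → hb (dec 80) (dec n) = 0 →
    hb (dec 1280) (dec n) = 0 → hb (dec 1536) (dec n) = 0 →
      ∃ a b : F4, dec n = a • dec 5 + b • dec 80)) = true := by decide +kernel

/-- data of a hyperoval -/
def HypD (a b c d e f u v : V6) : Prop :=
  Ind3 a b c ∧ Ind3 d e f ∧ Ind3 a b d ∧ Ind c d ∧ Iso u ∧ Iso v ∧
    hb a e = 0 ∧ hb a f = 0 ∧ hb b e = 0 ∧ hb b f = 0 ∧ hb c e = 0 ∧ hb c f = 0 ∧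
    hb u c ≠ 0 ∧ hb u d ≠ 0 ∧ hb u e = 0 ∧ hb u f = 0 ∧ hb v e ≠ 0 ∧ hb v f ≠ 0 ∧ hb v c = 0 ∧
    hb v d = 0 ∧ hb u v = 0

instance instDecHypD (a b c d e f u v : V6) : Decidable (HypD a b c d e f u v) := by
  unfold HypD; infer_instance

namespace UM

variable [Finite G] {H : Set G} {π : V6 → G} (h : UM H π) (L : LQ H)
include h L

theorem i3_std {e f g : G} (t : I3 H e f g) : ∃ k ∈ Subgroup.closure H,
    H0.cj k (e * f * g) = π (dec 5) * π (dec 80) * π (dec 1280) := by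
  obtain ⟨k, hk, e1, e2⟩ := L.comm_pair_trans t.1 (h.mem (v := dec 5) (by decide)) t.2.1
    (h.mem_Dx (z := dec 80) (by decide))
  have t' := t.cj L hk
  suffices ∃ k' ∈ Subgroup.closure H, H0.cj k' (π (dec 5) * π (dec 80) * H0.cj k g) =
      π (dec 5) * π (dec 80) * π (dec 1280) by
    obtain ⟨k', hk', e⟩ := this
    exact ⟨k' * k, mul_mem hk' hk, by rw [← cj_cj, cj_mul k, cj_mul k, e1, e2, e]⟩
  rw [e1, e2] at t'
  generalize H0.cj k g = g at t'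
  have st : ∀ {x y}, I3 H (π (dec 5)) (π (dec 80)) x → I3 H (π (dec 5)) (π (dec 80)) y →
      ¬ Commute x y → x * y ∈ Subgroup.closure H ∧
        H0.cj (x * y) (π (dec 5) * π (dec 80) * x) = π (dec 5) * π (dec 80) * y := fun a b c =>
    ⟨mul_mem (Subgroup.subset_closure a.2.2.1) (Subgroup.subset_closure b.2.2.1), by
      rw [cj_mul, L.cj_mul_adj a.2.2.1 b.2.2.1 c, cj_of_commute ((a.2.2.2.1.mul_left
        a.2.2.2.2.1).symm.mul_left (b.2.2.2.1.mul_left b.2.2.2.2.1).symm)]⟩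
  have i1 := h.i3 (u := dec 5) (v := dec 80) (w := dec 1280) (by decide)
  have i2 := h.i3 (u := dec 5) (v := dec 80) (w := dec 1536) (by decide)
  by_cases c1 : Commute (π (dec 1280)) g
  swap
  · exact ⟨_, st t' i1 fun e => c1 e.symm⟩
  by_cases c2 : Commute (π (dec 1536)) g
  swap
  · obtain ⟨k1, k2⟩ := st t' i2 fun e => c2 e.symm
    obtain ⟨k3, k4⟩ := st i2 i1 ((h.comm (by decide) (by decide)).not.2 (by decide))
    exact ⟨_, mul_mem k3 k1, by rw [← cj_cj, k2, k4]⟩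
  obtain ⟨v, hv, rfl⟩ := h.surj t'.2.2.1
  have := of_decide_eq_true (allN_true.1 hubs _ (enc_lt v))
  rw [dec_enc] at this
  exact absurd ((h.ln (by decide) (by decide) hv (by decide)).2 (this
    ((h.comm (by decide) hv).1 t'.2.2.2.1) ((h.comm (by decide) hv).1 t'.2.2.2.2.1)
    ((h.comm (by decide) hv).1 c1) ((h.comm (by decide) hv).1 c2))) t'.2.2.2.2.2

theorem f6 {e f : G} (he : e ∈ H) (hf : f ∈ Dx H e) :
    ∃ g ∈ Dx (Dx H e) f, ∃ g' ∈ Dx (Dx H e) f, ¬ Commute g g' := by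
  obtain ⟨k, hk, rfl, rfl⟩ := L.comm_pair_trans (h.mem (v := dec 5) (by decide)) he
    (h.mem_Dx (z := dec 80) (by decide)) hf
  exact ⟨_, ((h.i3 (w := dec 1280) (by decide)).cj L hk).dx, _,
    ((h.i3 (w := dec 1536) (by decide)).cj L hk).dx,
    commute_cj.not.2 ((h.comm (by decide) (by decide)).not.2 (by decide))⟩

theorem hyper {a b c d e f u v : V6} (k : HypD a b c d e f u v) :
    [π a, π b, π c, π d, π e, π f].Pairwise Commute ∧ IsSquare (π c * π d * (π e * π f)) := by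
  obtain ⟨t1, t2, t3, i, iu, iv, ae, af, be, bf, ce, cf, uc, ud, ue, uf, ve, vf, vc, vd, uv⟩ := k
  have ia := t1.1.1
  have ib := t1.1.2.1
  have ic := t1.2.1
  have id := t2.1.1
  have ie := t2.1.2.1
  have jf := t2.2.1
  have cm : ∀ {x y}, Iso x → Iso y → hb x y = 0 → Commute (π x) (π y) := fun hx hy =>
    (h.comm hx hy).2
  have br : ∀ {x y}, Iso x → Iso y → hb x y ≠ 0 → H0.cj (π y) (π x) = H0.cj (π x) (π y) :=
    fun hx hy e => (L.braid (h.mem hx) (h.mem hy) ((h.comm hx hy).not.2 e)).symm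
  have sq : ∀ {x}, Iso x → π x * π x = 1 := fun hx => L.sq (h.mem hx)
  constructor
  · simp only [List.pairwise_cons, List.mem_cons, forall_eq_or_imp, List.not_mem_nil,
      List.Pairwise.nil, false_imp_iff, implies_true, and_true]
    exact ⟨⟨cm ia ib t1.1.2.2.1, cm ia ic t1.2.2.1, cm ia id t3.2.2.1, cm ia ie ae, cm ia jf af⟩,
      ⟨cm ib ic t1.2.2.2.1, cm ib id t3.2.2.2.1, cm ib ie be, cm ib jf bf⟩,
      ⟨cm ic id i.2.2.1, cm ic ie ce, cm ic jf cf⟩, ⟨cm id ie t2.1.2.2.1, cm id jf t2.2.2.1⟩,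
      cm ie jf t2.2.2.2.1⟩
  rw [sq_A3 (sq iu) (br iu ic uc) (br iu id ud) (sq ic) (sq id) (cm ic id i.2.2.1),
    sq_A3 (sq iv) (br iv ie ve) (br iv jf vf) (sq ie) (sq jf) (cm ie jf t2.2.2.2.1)]
  refine ⟨_, (Commute.mul_mul_mul_comm ?_ _ _)⟩
  have k1 : ∀ {x}, Commute x (π e) → Commute x (π v) → Commute x (π f) →
      Commute x (H0.cj (π v) (π e * π v * π f)) := fun a b c =>
    (commute_cj_right b.symm).2 ((a.mul_right b).mul_right c)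
  have k2 := k1 (cm iu ie ue) (cm iu iv uv) (cm iu jf uf)
  exact (commute_cj_left k2).2 (((k1 (cm ic ie ce) (cm iv ic vc).symm (cm ic jf cf)).mul_left
    k2).mul_left (k1 (cm id ie t2.1.2.2.1) (cm iv id vd).symm (cm id jf t2.2.2.1)))

omit L in
theorem pick {M : Set G} (hM : IsLine H M) (a b c e : G) :
    ∃ x ∈ M, x ≠ a ∧ x ≠ b ∧ x ≠ c ∧ x ≠ e := by
  obtain ⟨p, hp, q, hq, hpq, hc, rfl⟩ := hM
  obtain ⟨y, hy, rfl⟩ := h.surj hp
  obtain ⟨z, hz, rfl⟩ := h.surj hq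
  have hi : Ind y z := ⟨hy, hz, (h.comm hy hz).1 hc, fun c e => hpq (by
    rw [e, h.smul hy]; rintro rfl; exact hz.1 (by rw [e, zero_smul]))⟩
  have inj : Function.Injective fun c : F4 => π (z + c • y) := fun c c' e => by
    obtain ⟨k, e⟩ := h.inj (hi.iso c) (hi.iso c') e
    have e1 : (1 - k) • z = (k * c' - c) • y := by
      rw [smul_add, smul_smul] at e
      rw [sub_smul, sub_smul, one_smul]; linear_combination (exp := 1) e
    by_cases hk : 1 - k = 0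
    · rw [hk, zero_smul, eq_comm, smul_eq_zero, ← sub_eq_zero.1 hk, one_mul, sub_eq_zero] at e1
      exact (e1.resolve_right hy.1).symm
    · exact absurd (by rw [mul_smul, ← e1, smul_smul, inv_mul_cancel₀ hk, one_smul])
        (hi.2.2.2 ((1 - k)⁻¹ * (k * c' - c)))
  obtain ⟨x, hx, hn⟩ := Set.exists_mem_notMem_of_ncard_lt_ncard (s := {a, b, c, e})
    (t := insert (π y) (Set.range fun c : F4 => π (z + c • y))) (by
      have h1 := Set.ncard_insert_le a ({b, c, e} : Set G)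
      have h2 := Set.ncard_insert_le b ({c, e} : Set G)
      have h3 := Set.ncard_insert_le c ({e} : Set G)
      rw [Set.ncard_singleton] at h3
      rw [Set.ncard_insert_of_notMem (a := π y) (by rintro ⟨c, e⟩; exact h.ne (hi.shift c) e),
        Set.ncard_range_of_injective inj, Nat.card_eq_fintype_card, F4.card]
      omega)
  simp only [Set.mem_insert_iff, Set.mem_singleton_iff, not_or] at hn
  refine ⟨x, ?_, hn⟩
  rcases hx with rfl | ⟨c, rfl⟩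
  exacts [left_mem_Ln hp, h.pt_ln hi c]

end UM

theorem Pol.common4 [Finite G] {D : Set G} (h : Pol D)
    (pick : ∀ L, IsLine D L → ∀ a b c e : G, ∃ x ∈ L, x ≠ a ∧ x ≠ b ∧ x ≠ c ∧ x ≠ e) :
    ∀ a ∈ D, ∀ b ∈ D, ∀ c ∈ D, ∀ e ∈ D, ∃ w ∈ D,
      ¬ Commute w a ∧ ¬ Commute w b ∧ ¬ Commute w c ∧ ¬ Commute w e := by
  have P := h.toPTT
  have foot : ∀ L, IsLine D L → ∀ a ∈ D, ∀ w ∈ L, ¬ Commute w a →
      ∃ μ, ∀ x ∈ L, x ≠ μ → ¬ Commute x a := by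
    intro L hL a ha w hw hwa
    obtain ⟨μ, hμ, h1⟩ := h.exists_mu hL ha
    exact ⟨μ, fun x hx hne e => P.adj_of_mu hL hμ hw hx hne ha h1 (fun e => hwa e.symm) e.symm⟩
  have step : ∀ a ∈ D, ∀ b ∈ D, ∀ c ∈ D, ∀ e ∈ D, ∀ w ∈ D,
      ¬ Commute w a → ¬ Commute w b → ¬ Commute w c → ∃ w ∈ D,
        ¬ Commute w a ∧ ¬ Commute w b ∧ ¬ Commute w c ∧ ¬ Commute w e := by
    have step1 : ∀ a ∈ D, ∀ b ∈ D, ∀ c ∈ D, ∀ e ∈ D, ∀ w ∈ D,
        ¬ Commute w a → ¬ Commute w b → ¬ Commute w c → w ≠ e → ∃ w ∈ D,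
          ¬ Commute w a ∧ ¬ Commute w b ∧ ¬ Commute w c ∧ ¬ Commute w e := by
      intro a ha b hb c hc e he w hw h1 h2 h3 h4
      by_cases hwe : Commute w e
      swap
      · exact ⟨w, hw, h1, h2, h3, hwe⟩
      obtain ⟨f, hf, hfe⟩ := P.sep hw he h4
      have hL := isLine_Ln hw hf.1 hf.2.1.symm hf.2.2
      obtain ⟨μ1, k1⟩ := foot _ hL a ha w (left_mem_Ln hw) h1
      obtain ⟨μ2, k2⟩ := foot _ hL b hb w (left_mem_Ln hw) h2
      obtain ⟨μ3, k3⟩ := foot _ hL c hc w (left_mem_Ln hw) h3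
      obtain ⟨μ4, k4⟩ := foot _ hL e he f (right_mem_Ln hf.1) hfe
      obtain ⟨x, hx, n1, n2, n3, n4⟩ := pick _ hL μ1 μ2 μ3 μ4
      exact ⟨x, hx.1, k1 x hx n1, k2 x hx n2, k3 x hx n3, k4 x hx n4⟩
    intro a ha b hb c hc e he w hw h1 h2 h3
    obtain ⟨r, hr⟩ := P.Dx_ne hw
    have hL := isLine_Ln hw hr.1 hr.2.1.symm hr.2.2
    obtain ⟨μ1, k1⟩ := foot _ hL a ha w (left_mem_Ln hw) h1
    obtain ⟨μ2, k2⟩ := foot _ hL b hb w (left_mem_Ln hw) h2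
    obtain ⟨μ3, k3⟩ := foot _ hL c hc w (left_mem_Ln hw) h3
    obtain ⟨x, hx, n1, n2, n3, n4⟩ := pick _ hL μ1 μ2 μ3 e
    exact step1 a ha b hb c hc e he x hx.1 (k1 x hx n1) (k2 x hx n2) (k3 x hx n3) n4
  intro a ha b hb c hc e he
  obtain ⟨w, hw, h1⟩ := P.adj_ne ha
  replace h1 : ¬ Commute w a := fun e => h1 e.symm
  obtain ⟨w, hw, h1, -, -, h2⟩ := step a ha a ha a ha b hb w hw h1 h1 h1
  obtain ⟨w, hw, h1, h2, -, h3⟩ := step a ha b hb b hb c hc w hw h1 h2 h2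
  exact step a ha b hb c hc e he w hw h1 h2 h3

theorem cen_eq_one {D : Set G} (hD : Subgroup.closure D = ⊤) (hZ : Subgroup.center G = ⊥) {z : G}
    (hz : ∀ y ∈ D, Commute z y) : z = 1 :=
  Subgroup.mem_bot.1 (hZ ▸ Subgroup.mem_center_iff.2 fun x =>
    Subgroup.mem_centralizer_singleton_iff.1 ((Subgroup.closure_le (k := D) _).2
      (fun y hy => Subgroup.mem_centralizer_singleton_iff.2 (hz y hy).symm.eq)
      (hD ▸ Subgroup.mem_top x)))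

theorem ev_cen {δ : K} (hc : ∀ k, Commute δ k) (e : ℕ → K) (w : List ℕ) :
    ev (fun c => δ * e c) w = δ ^ w.length * ev e w := by
  rw [ev, ev, ← List.length_map (f := e), ← prod_map_cen hc, List.map_map]; rfl

theorem ub_poly [Finite K] {iv : ℕ → ℕ} {R : List (List ℕ)} {L : List ℕ} {n : ℕ}
    (h : H9.MX.UBd iv R L n) {e : ℕ → K} (h1 : IvOK e iv) (h2 : ∀ r ∈ R, ev e r = 1)
    (h3 : gen e L = ⊤) : Nat.card K ≤ n := by
  let f : K ≃* Shrink.{0} K := Shrink.mulEquiv.symm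
  have := h _ (fun c => f (e c)) (H9.MX.ivOK_map f.toMonoidHom h1) fun r hr => by
    have := map_ev f.toMonoidHom e r
    rw [h2 r hr, map_one] at this
    exact this.symm
  rw [Nat.card_congr f.toEquiv]
  refine (this.of_top (eq_top_iff.2 fun x _ => ?_)).2
  obtain ⟨x, rfl⟩ := f.surjective x
  have : x ∈ (gen (fun c => f (e c)) L).comap f.toMonoidHom :=
    (gen_le (e := e) (l := L)).2 (fun c hc => mem_gen (e := fun c => f (e c)) hc)
      (h3 ▸ Subgroup.mem_top x)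
  exact this

def gsU : List ℕ := [5, 5, 1406, 1216, 1097, 287, 311, 1411, 318, 1250]

noncomputable def q0 : List ℕ := powW 2 [3, 4, 5, 9, 7, 8]
noncomputable def q1 : List ℕ := powW 5 [4, 5, 6, 9, 8, 7]
noncomputable def q2 : List ℕ := powW 5 [2, 3, 4, 7, 8, 9]
noncomputable def q3 : List ℕ := powW 9 [2, 3, 4, 5, 6, 7, 8]

noncomputable def wdU : List (ℕ × List ℕ × ℕ) :=
  [(1280, [9, 8, 4, 5, 9, 7, 8, 5, 4, 3, 7, 6, 5, 4, 3], 2),
    (3584, [9, 3, 7, 8, 5, 9, 8, 3, 7, 6, 5, 4, 3], 2),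
    (5, [8, 6, 5, 9, 4, 3, 7, 8, 5, 4, 3, 7, 6, 5, 4, 3], 2), (20, [6], 5),
    (80, [3, 4, 5, 9, 8, 3, 7, 5, 4, 3], 2), (9, [7, 8, 3, 7, 4, 3], 2),
    (1365, [7, 8, 4, 5, 9, 7, 6, 5, 4], 3), (2645, [7, 6, 3, 4, 5, 9, 8, 7, 6, 5, 4, 3], 2)]

theorem chkU : (∀ r ∈ H9.U62.R, (redD [0, 0, 0] (r.map (nth 5 gsU)) = [] ∧ Even r.length) ∨
      r = q0 ++ q0 ∨ r = q1 ∨ r = q2 ∨ r = q3) ∧
    (∀ g ∈ gens8, ∃ x ∈ wdU, (∀ c ∈ x.2.2 :: x.2.1, c ∈ [2, 3, 4, 5, 6, 7, 8, 9]) ∧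
      peq (evN gsU x.2.1 (nth 5 gsU x.2.2)) g = true) ∧
    fixN gsU (q0 ++ q0) = true ∧ fixN gsU q1 = true ∧ fixN gsU q2 = true ∧ fixN gsU q3 = true ∧
    redD [5, 4, 3, 2, 1, 0, 0, 0, 0, 0, 0, 0, 0, 0, 0, 0, 0, 0]
      ([1097, 311, 1411, 1250, 412, 1320] ++ q1.map (nth 5 gsU)) = [] ∧
    redD [5, 4, 3, 2, 1, 0, 0, 0, 0, 0, 0, 0, 0, 0, 0, 0, 0, 0]
      ([1406, 1097, 1411, 1250, 1709, 1787] ++ q2.map (nth 5 gsU)) = [] ∧
    Even (q0 ++ q0).length ∧ Even q1.length ∧ Even q2.length ∧ Odd q3.length ∧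
    fixN [5, 80, 85, 90, 95] [0, 1, 2, 3, 4] = true := by decide +kernel

theorem CE.card {θ : K →* X} {δ : K} (h : CE θ δ) : Nat.card K = 2 * Nat.card X := by
  have h1 : (θ.ker : Set K) = {1, δ} := by ext k; simp [h.ker]
  rw [Subgroup.card_eq_card_quotient_mul_card_subgroup θ.ker,
    Nat.card_congr (QuotientGroup.quotientKerEquivOfSurjective θ h.surj).toEquiv, mul_comm]
  congr 1
  rw [← SetLike.coe_sort_coe, h1, Nat.card_coe_set_eq, Set.ncard_pair h.ne.symm]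

theorem ln_ev (π : V6 → G) : ev (fun c => π (dec (nth 5 [5, 80, 85, 90, 95] c))) [0, 1, 2, 3, 4] =
    ([5, 80, 85, 90, 95].map fun c => π (dec c)).prod := rfl

theorem pkg_u6 [Finite K] [Finite X] {θ : K →* X} {δ : K} (h : CE θ δ) {D : Set X} (P : PTT D)
    (U : MU D 6) (hZ : Subgroup.center X = ⊥) (hc : Nat.card X = 9196830720) :
    ∃ Δ C, Pkg δ Δ C ∧ MU Δ 6 := by
  obtain ⟨k1, k2, k3, k4, k5, k6, k7, k8, k9, k10, k11, k12, k13⟩ := chkU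
  obtain ⟨ρ, hρ⟩ := P.lq.exists_um U
  have l1 := ln_ev ρ ▸ cen_eq_one P.gen hZ (hρ.cen_word (by decide) k13)
  have c1 := fun x y => h.L1 P (hρ.mem (v := dec 1280) (by decide)) (fun b hb => by
    obtain ⟨c, hc, rfl⟩ := List.mem_map.1 hb
    exact hρ.mem_Dx ((by decide : ∀ c ∈ [5, 80, 85, 90, 95], Ind (dec 1280) (dec c)) c hc))
    (by simp; decide) (Or.inl l1) (x := x) (y := y)
  have i5 : isoL [5, 80, 85, 90, 95] := by decide
  have c2 := fun x => h.L2 P c1 (fun b hb => by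
    obtain ⟨c, hc, rfl⟩ := List.mem_map.1 hb
    exact hρ.mem (i5 c hc)) (List.pairwise_map.2 (List.Pairwise.imp_of_mem
      (R := fun a b => hb (dec a) (dec b) = 0) (fun ha hb e => (hρ.comm (i5 _ ha) (i5 _ hb)).2 e)
      (by decide))) (by simp; decide) l1 (x := x)
  have c4 := Pol.common4 ⟨P, P.lq.thick_of_MU U⟩ fun L hL => hρ.pick hL
  obtain ⟨Δ, l⟩ := h.lift_cob P c1 c2 c4
  have U' : MU Δ 6 := by
    obtain ⟨φ, M⟩ := U
    have F := l.lq.fiso θ l.inj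
    refine ⟨fun x => φ (θ x), fun x hx y hy => ?_, fun p hp => ?_⟩
    · rw [← F.comm hx hy]; exact M.1 _ (l.im ▸ ⟨x, hx, rfl⟩) _ (l.im ▸ ⟨y, hy, rfl⟩)
    · obtain ⟨x, hx, e⟩ := M.2 p hp
      rw [← l.im] at hx
      obtain ⟨x, hx, rfl⟩ := hx
      exact ⟨x, hx, e⟩
  have L := l.lq
  obtain ⟨π, hπ⟩ := L.exists_um U'
  have zen := l.zen h hZ
  have top : ∀ k, k ∈ Subgroup.closure Δ := fun k => l.gen ▸ Subgroup.mem_top k
  have ig : isoL gsU := by decide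
  have igm : ∀ w : List ℕ, isoL (w.map (nth 5 gsU)) := fun w g hg => by
    obtain ⟨c, -, rfl⟩ := List.mem_map.1 hg
    exact ig.nth c
  have evm : ∀ w : List ℕ, ev (fun c => π (dec c)) (w.map (nth 5 gsU)) =
      ev (fun c => π (dec (nth 5 gsU c))) w := fun w => by rw [ev, List.map_map]; rfl
  set t : ℕ → K := fun c => π (dec (nth 5 gsU c)) with ht
  have fin : ∀ {a b c d e f u v : ℕ} {w st : List ℕ},
      HypD (dec a) (dec b) (dec c) (dec d) (dec e) (dec f) (dec u) (dec v) →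
      redD st ([a, b, c, d, e, f] ++ w.map (nth 5 gsU)) = [] → ev t w = δ →
      ∃ C, Pkg δ Δ C := by
    intro a b c d e f u v w st k r q
    obtain ⟨pw, sq⟩ := hπ.hyper L k
    have := hπ.red_ok L st _ (fun g hg => (List.mem_append.1 hg).elim (fun hg => by
      simp only [List.mem_cons, List.not_mem_nil, or_false] at hg
      rcases hg with rfl | rfl | rfl | rfl | rfl | rfl
      exacts [k.1.1.1, k.1.1.2.1, k.1.2.1, k.2.1.1.1, k.2.1.1.2.1, k.2.1.2.1]) (igm w g)) r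
    rw [ev_append, evm, q, mul_eq_one_iff_eq_inv, inv_eq_of_sq h.sq] at this
    simp only [ev_cons, ev_nil, mul_one] at this
    refine Pkg.mk' h.cen h.sq h.ne L l.gen zen (I3 Δ) (fun t => ⟨t.1, t.2.1, t.dx⟩)
      (fun k t => t.cj L (top k)) (fun t t' => ?_) (fun k => hπ.core L (top k))
      ⟨_, _, _, _, _, _, hπ.i3 k.1, hπ.i3 k.2.1, hπ.i3 k.2.2.1, pw, (hπ.ne k.2.2.2.1).symm, by
        simp only [← this, mul_assoc]⟩ ⟨_, hπ.mem k.1.1.1, _, hπ.mem_Dx k.1.1, ?_⟩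
      ⟨_, hπ.mem (v := dec 5) (by decide), _, hπ.mem_Dx (z := dec 80) (by decide), _,
        hπ.mem (v := dec 20) (by decide), (hπ.comm (by decide) (by decide)).not.2 (by decide),
        (hπ.comm (by decide) (by decide)).not.2 (by decide)⟩
      ⟨_, by simp; decide, fun b hb => ?_, ln_ev π ▸ zen _ (hπ.cen_word (by decide) k13)⟩
      fun e he f hf => hπ.f6 L he hf
    · obtain ⟨k, -, e⟩ := hπ.i3_std L t
      obtain ⟨k', -, e'⟩ := hπ.i3_std L t'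
      exact ⟨k'⁻¹ * k, by rw [← cj_cj, e, ← e', cj_inv_cj]⟩
    · have c := (hπ.mem_Dx k.1.1).2.2
      rw [(h.cen _).eq, ← this, c.eq, mul_assoc, ← mul_assoc (π (dec a)), L.sq (hπ.mem k.1.1.1),
        one_mul, ← mul_assoc, L.sq (hπ.mem k.1.1.2.1), one_mul, ← mul_assoc]
      exact sq
    · obtain ⟨c, hc, rfl⟩ := List.mem_map.1 hb
      exact hπ.mem (i5 c hc)
  have cw : ∀ {w}, fixN gsU w = true → ev t w = 1 ∨ ev t w = δ := fun e => zen _ (hπ.cen_word ig e)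
  rcases cw k4 with e1 | e1
  swap
  · exact ⟨Δ, (fin (u := 85) (v := 90) (by decide) k7 e1).imp fun C hC => ⟨hC, U'⟩⟩
  rcases cw k5 with e2 | e2
  swap
  · exact ⟨Δ, (fin (u := 6) (v := 315) (by decide) k8 e2).imp fun C hC => ⟨hC, U'⟩⟩
  exfalso
  have e0 : ev t (q0 ++ q0) = 1 := (cw k3).resolve_right fun e =>
    nsq_of h.cen h.sq h.ne L zen (T := I3 Δ) (fun t => ⟨t.1, t.2.1, t.dx⟩)
      (fun k => hπ.core L (top k)) ⟨_, e.symm.trans (ev_append _ _ _)⟩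
  have ts : ∀ c, t c * t c = 1 := fun c => L.sq (hπ.mem (ig.nth c))
  have rel : ∀ r ∈ H9.U62.R, (ev t r = 1 ∧ Even r.length) ∨ r = q3 := fun r hr => by
    rcases k1 r hr with ⟨k, k'⟩ | rfl | rfl | rfl | rfl
    exacts [Or.inl ⟨evm r ▸ hπ.red_ok L _ _ (igm r) k, k'⟩, Or.inl ⟨e0, k9⟩, Or.inl ⟨e1, k10⟩,
      Or.inl ⟨e2, k11⟩, Or.inr rfl]
  have key : ∀ s : ℕ → K, (∀ c, s c * s c = 1) → (∀ c, θ (s c) = θ (t c)) →
      ¬ ∀ r ∈ H9.U62.R, ev s r = 1 := by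
    intro s s1 s2 s3
    have := ub_poly H9.U62.ubd (fun c => (inv_eq_of_sq (s1 c)).symm) s3 (h.top fun x => ?_)
    · rw [h.card, hc] at this
      omega
    have sub : ∀ c ∈ [2, 3, 4, 5, 6, 7, 8, 9], t c ∈ ((gen s [2, 3, 4, 5, 6, 7, 8, 9]).map θ).comap θ :=
      fun c hc => ⟨s c, mem_gen hc, s2 c⟩
    obtain ⟨x, rfl⟩ := h.surj x
    refine (Subgroup.closure_le _).2 (hπ.gen693
      (K := ((gen s [2, 3, 4, 5, 6, 7, 8, 9]).map θ).comap θ) fun g hg => ?_) (top x)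
    obtain ⟨y, -, y1, y2⟩ := k2 g hg
    rw [← hπ.peq_eq ((by decide : isoL gens8) g hg) y2, ← (hπ.ev ig (ig.nth _) _).2]
    have := ev_mem (e := t) fun c hc => sub c (y1 c (List.mem_cons_of_mem _ hc))
    exact mul_mem (mul_mem this (sub _ (y1 _ List.mem_cons_self))) (inv_mem this)
  rcases cw k6 with e3 | e3
  · exact key t ts (fun _ => rfl) fun r hr => (rel r hr).elim (fun k => k.1) fun k => k ▸ e3
  · refine key (fun c => δ * t c) (fun c => by rw [sq_cen h.cen h.sq, ts])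
      (fun c => h.map_δ_mul _) fun r hr => ?_
    rw [ev_cen h.cen]
    rcases rel r hr with ⟨k, n, hn⟩ | rfl
    · rw [k, hn, ← two_mul, pow_mul, pow_two, h.sq, one_pow, one_mul]
    · rw [e3, h.pow_odd k12, h.sq]

end H0
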