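import Mathlib
import Cfsg.Agent.H0.W3
import Cfsg.Agent.H0.F24a

/-! Embeddings of `Fi₂₂` and `Fi₂₃` from local hypotheses. -/

set_option autoImplicit false
set_option linter.unusedSectionVars false
set_option maxRecDepth 100000

namespace H0

open H29

variable {G : Type*} [Group G]

theorem inj_of_simple {Γ : Type*} [Group Γ] [IsSimpleGroup Γ] (ψ : Γ →* G) {g : Γ}
    (h : ψ g ≠ 1) : Function.Injective ψ := by
  rw [← MonoidHom.ker_eq_bot_iff]
  refine (ψ.normal_ker.eq_bot_or_eq_top).resolve_right fun ht => h ?_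
  rw [← MonoidHom.mem_ker, ht]; trivial

theorem iv_of {y : ℕ → G} {n : ℕ} (h1 : ∀ c < n, y c * y c = 1) (h2 : ∀ c, n ≤ c → y c = 1) :
    IvOK y (ivOf []) := by
  intro c
  by_cases hc : c < n
  · exact (inv_eq_of_sq (h1 c hc)).symm
  · change y c = _
    rw [h2 c (not_lt.1 hc), inv_one]

theorem cj_of_braid {s t : G} (hs : s * s = 1) (h : cj s t = cj t s) : cj (s * t) s = t := by
  rw [← cj_cj, ← h, cj_cj, hs, cj_one]

theorem F22q.hom [Finite G] {E : Set G} (hE : WS E) (hr : F22q E) {x : G} (hx : x ∈ E)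
    (hZ : ∀ z, (∀ y ∈ Dx E x, Commute z y) → Commute z x → z = 1 ∨ z = x) :
    ∃ ψ : Fi22.P.G →* G, Function.Injective ψ ∧ Dx E x ⊆ ψ.range ∧
      ∃ g, ψ (cj g (Fi22.P.e 0)) = x := by
  obtain ⟨L, U⟩ := hr x hx
  obtain ⟨y0, hy0⟩ := L.nonempty
  obtain ⟨b0, hb0, hxb⟩ := (hr y0 hy0.1).1.adj_ne (Dx_symm hx hy0)
  obtain ⟨π, hπ⟩ := L.exists_um U
  obtain ⟨g, hg, k, hk, hs⟩ := hπ.normq L (hr.ho hx hb0.1 hxb ⟨y0, hy0, hb0.2.2⟩)
  have C : Cq E (fun v => π (sc k v)) x (cj g b0) := ⟨hE, hr, hx,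
    hE.conj hb0.1 (Subgroup.closure_mono (Dx_subset E x) hg), by
      rwa [commute_cj_right (PTT.commute_of_mem_closure hg)], hπ.sc hk, hs⟩
  generalize cj g b0 = b at C
  obtain ⟨T, hT⟩ := C.exists_tab
  obtain ⟨hy, hX⟩ := C.y22 hT chk1
  have h8 : Yf T iy1 8 = b := by
    rw [hX 8 (by decide), show XW yw1 8 = [9] by decide +kernel, ev_cons, ev_nil, mul_one]; rfl
  generalize Yf T iy1 = y at hy h8
  have hs : ∀ c < 9, y c * y c = 1 := fun c hc => hE.sq (hy.mem c hc)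
  have iv := iv_of hs hy.one
  obtain ⟨ψ, hψ⟩ := PData.exists_hom Fi22.coh Fi22.hg (σ := y) iv
    (rels_sub (R := coxW 9 A332 ++ [rS, rA, rG]) (rels_append (cox_ok iv hy.dg) fun r hr =>
      (hZ _ (fun z hz => hy.cen r hr z (Or.inl hz)) (hy.cen r hr _ (Or.inr (Or.inl rfl)))).resolve_right
        fun e => C.adj (e ▸ hy.cen r hr _ (Or.inr (Or.inr rfl)))) (by decide +kernel))
  have hK := hy.gen ψ.range fun c hc => ⟨_, hψ c hc⟩
  have := Fi22.simple
  refine ⟨ψ, inj_of_simple ψ (g := Fi22.P.e 8) (by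
    rw [hψ 8 (by decide), h8]; rintro rfl; exact C.adj (Commute.one_right x)),
    fun z hz => hK (Or.inl hz), ?_⟩
  have st : ∀ s < 9, ∀ t < 9, (s, t) ∈ A332 → (∃ g, ψ (cj g (Fi22.P.e 0)) = y s) →
      ∃ g, ψ (cj g (Fi22.P.e 0)) = y t := by
    rintro s hs' t ht hA ⟨g, hg⟩
    refine ⟨Fi22.P.e s * Fi22.P.e t * g, ?_⟩
    rw [← cj_cj, map_cj, hg, map_mul, hψ s hs', hψ t ht,
      cj_of_braid (hs s hs') ((hy.dg s hs' t ht).1 hA)]
  obtain ⟨g, hg⟩ := st 7 (by decide) 8 (by decide) (by decide) (st 3 (by decide) 7 (by decide)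
    (by decide) (st 2 (by decide) 3 (by decide) (by decide) (st 1 (by decide) 2 (by decide)
    (by decide) (st 0 (by decide) 1 (by decide) (by decide) ⟨1, by rw [cj_one, hψ 0 (by decide)]⟩))))
  obtain ⟨a, ha⟩ := hK (Or.inr (Or.inl rfl))
  refine ⟨Fi22.P.e 8 * a * g, ?_⟩
  rw [← cj_cj, map_cj, hg, map_mul, hψ 8 (by decide), ha, h8]
  exact cj_of_braid (hE.sq C.hb) ((C.dg 8 (by decide) 9 (by decide)).1 (by decide)).symm

theorem F23q.hom [Finite G] {E : Set G} (hE : WS E) (hr : F23q E) {p : G} (hp : p ∈ E)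
    (hZ : ∀ z, (∀ y ∈ Dx E p, Commute z y) → Commute z p → z = 1 ∨ z = p) :
    ∃ ψ : Fi23.P.G →* G, Function.Injective ψ ∧ Dx E p ⊆ ψ.range ∧ ψ t23 = p := by
  obtain ⟨y, j, hy⟩ := hr.exists_y23 hp
  have m0 := hy.y22.mem 0 (by decide)
  have j0 : j ∈ Dx E (y 0) := ⟨hy.hj, fun e => hy.adj (e ▸ m0.2.2), (hy.comm 0 (by decide)).symm⟩
  have L0 := (hr _ m0.1).1
  have adj6 : ¬ Commute j (y 6) := by
    intro h6
    obtain ⟨f, hf, h1⟩ := L0.sep (Dx_symm hp m0) j0 fun e => hy.adj (e ▸ Commute.refl p)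
    refine h1 (Subgroup.mem_centralizer_singleton_iff.1 (hy.y22.gen (Subgroup.centralizer {j})
      (fun c hc => Subgroup.mem_centralizer_singleton_iff.2 (Commute.symm ?_).eq) ⟨hf.1.1, hf.2⟩))
    by_cases h7 : c = 6
    · rwa [h7]
    · exact hy.comm c (by revert c; decide)
  have dg : Dg (ext9 y j) 10 A342 := by
    intro s hs t ht
    by_cases h1 : s = 9
    · subst h1
      refine ⟨fun hA => absurd hA (by revert t; decide), fun _ h2 => ?_⟩
      by_cases h3 : t = 9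
      · rw [h3]
      · rw [show ext9 y j t = y t from if_neg h3]
        exact hy.comm t ((by decide : ∀ t < 10, (t, 9) ∉ A342 → t ≠ 9 → t ∈ [0, 1, 2, 3, 4, 5, 7, 8])
          t ht h2 h3)
    by_cases h3 : t = 9
    · subst h3
      rw [show ext9 y j s = y s from if_neg h1]
      refine ⟨fun hA => ?_, fun h2 _ => (hy.comm s ((by decide : ∀ t < 10, (t, 9) ∉ A342 → t ≠ 9 →
        t ∈ [0, 1, 2, 3, 4, 5, 7, 8]) s hs h2 h1)).symm⟩
      obtain rfl : s = 6 := by revert s; decide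
      exact L0.braid ⟨(hy.y22.mem 6 (by decide)).1, fun e => adj6 (e ▸ j0.2.2.symm),
        (hy.y22.dg 0 (by decide) 6 (by decide)).2 (by decide) (by decide)⟩ j0 fun e => adj6 e.symm
    rw [show ext9 y j s = y s from if_neg h1, show ext9 y j t = y t from if_neg h3]
    have := hy.y22.dg s (by omega) t (by omega)
    simp only [A342, List.mem_append, List.mem_singleton, Prod.mk.injEq, h1, h3, and_false, or_false]
    exact this
  have iv : IvOK (ext9 y j) (ivOf []) := iv_of (n := 10) (fun c hc => by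
      unfold ext9
      split_ifs with h9
      · exact hE.sq hy.hj
      · exact hE.sq (hy.y22.mem c (by omega)).1)
    fun c hc => by rw [ext9, if_neg (by omega), hy.y22.one c (by omega)]
  have cp : ∀ {w : List ℕ}, (∀ c ∈ w, c < 9) → Commute (ev y w) p := fun hw =>
    (commute_ev fun c hc => (hy.y22.mem c (hw c hc)).2.2).symm
  have k : ∀ r ∈ [rS, rA], r ∈ [rS, rA, rG] ∧ (∀ c ∈ r, c < 9) ∧
      ∀ c ∈ r, c ∈ [0, 1, 2, 3, 4, 5, 7, 8] := by decide +kernel
  obtain ⟨ψ, hψ⟩ := PData.exists_hom Fi23.coh Fi23.hg (σ := ext9 y j) iv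
    (rels_sub (R := coxW 10 A342 ++ [rS, rA]) (rels_append (cox_ok iv dg) fun r hr => by
      obtain ⟨k1, k2, k3⟩ := k r hr
      rw [ev_ext9 k2]
      exact (hZ _ (hy.y22.cen r k1) (cp k2)).resolve_right fun e => hy.adj
        (e ▸ (commute_ev fun c hc => hy.comm c (k3 c hc)).symm)) (by decide +kernel))
  have := Fi23.simple
  have hi := inj_of_simple ψ (g := Fi23.P.e 9) (by
    rw [hψ 9 (by decide)]; intro e; exact hy.adj (by
      rw [show j = 1 from e]; exact Commute.one_right p))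
  have kG : ∀ c ∈ rG, c < 9 := by decide +kernel
  have e1 : ψ t23 = ev y rG := by
    rw [t23, map_ev, ev_congr (e' := ext9 y j) fun c hc => hψ c (Nat.lt_succ_of_lt (kG c hc)),
      ev_ext9 kG]
  refine ⟨ψ, hi, hy.y22.gen ψ.range fun c hc => ⟨_, (hψ c (Nat.lt_succ_of_lt hc)).trans
    (if_neg hc.ne)⟩, ?_⟩
  rw [e1]
  refine (hZ _ (hy.y22.cen rG (by simp)) (cp kG)).resolve_left fun e => Y23.rG_ne (hi ?_)
  rw [map_one, ← e, ← e1]; rfl

end H0
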