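import Mathlib
import Cfsg.Agent.H0.W10
import Cfsg.Agent.H0.W4
import Cfsg.Agent.H9.TT

/-! Recognition of `Fi₂₂` from the centraliser of a transposition. -/

set_option autoImplicit false
set_option linter.unusedSectionVars false
set_option maxRecDepth 100000

namespace H0

open H15 H15.Form Module H29

variable {K X G : Type*} [Group K] [Group X] [Group G]

theorem perf_of_simple [IsSimpleGroup G] (hZ : Subgroup.center G = ⊥) : commutator G = ⊤ :=
  (inferInstance : (commutator G).Normal).eq_bot_or_eq_top.resolve_left fun e => by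
    obtain ⟨a, ha⟩ := exists_ne (1 : G)
    refine ha (Subgroup.mem_bot.1 (hZ ▸ Subgroup.mem_center_iff.2 fun b => ?_))
    rw [← commutatorElement_eq_one_iff_mul_comm, ← Subgroup.mem_bot, ← e]
    exact Subgroup.commutator_mem_commutator (Subgroup.mem_top b) (Subgroup.mem_top a)

theorem TT.ptt_simple [Finite G] [IsSimpleGroup G] (hZ : Subgroup.center G = ⊥) {D : Set G}
    (T : TT D) : PTT D := by
  have hc := perf_of_simple hZ
  refine T.ptt_of_simple (((MulEquiv.subgroupCongr hc).trans Subgroup.topEquiv).isSimpleGroup) ?_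
  by_contra hn
  push Not at hn
  obtain ⟨a, ha⟩ := exists_ne (1 : G)
  exact ha (Subgroup.mem_bot.1 (hZ ▸ Subgroup.mem_center_iff.2 fun b => congrArg Subtype.val
    (hn ⟨b, hc ▸ Subgroup.mem_top b⟩ ⟨a, hc ▸ Subgroup.mem_top a⟩)))

theorem TT.fiso {E : Set G} (T : TT E) (f : G →* X) (hf : Set.InjOn f E) : FIso f E :=
  ⟨hf, fun x _ y hy => T.conj y hy x, fun x _ y _ => map_cj f x y, T.sq,
    fun x hx => by rw [← map_mul, T.sq x hx, map_one]⟩

theorem TT.injOn_quot {E : Set G} (T : TT E) (P : PTT ((QuotientGroup.mk'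
    (Subgroup.center G)) '' E)) : Set.InjOn (QuotientGroup.mk' (Subgroup.center G)) E := by
  intro a ha b hb e
  have hz : a⁻¹ * b ∈ Subgroup.center G := QuotientGroup.eq.1 e
  obtain ⟨_, ⟨y, hy, rfl⟩, hn⟩ := P.adj_ne ⟨a, ha, rfl⟩
  have k1 := T.pow_three ha hy (T.braid ha hy fun c => hn (c.map _))
  have k2 := T.pow_three hb hy (T.braid hb hy fun c => hn (e ▸ c.map _))
  have c : ∀ g, Commute (a⁻¹ * b) g := fun g => (Subgroup.mem_center_iff.1 hz g).symm
  have e1 : b = a⁻¹ * b * a := by rw [(c a).eq, mul_inv_cancel_left]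
  have k3 := T.sq b hb
  generalize a⁻¹ * b = z at c e1
  rw [e1, mul_assoc, (c _).mul_pow, k1, mul_one] at k2
  rw [e1, (c a).symm.mul_mul_mul_comm, T.sq a ha, mul_one] at k3
  rw [pow_succ, pow_two, k3, one_mul] at k2
  rw [e1, k2, one_mul]

theorem psu_card {F : Type} [Field F] [Fintype F] (hF : Fintype.card F = 4) :
    Nat.card (Cfsg.PSU 6 F 2) = 9196830720 :=
  (Nat.card_congr (H7.quotCenterCongr (H16.suCongr (FiniteField.ringEquivOfCardEq
    (hF.trans H9.F4.card.symm)) 6 2)).toEquiv).trans H9.U62M.card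

theorem psu_cen {F : Type} [Field F] [Fintype F] (hF : Fintype.card F = 4) :
    Subgroup.center (Cfsg.PSU 6 F 2) = ⊥ := by
  have := Cfsg.Agent.S0283.result (F := F) (q := 2) hF 6 (by norm_num) (by norm_num)
  have : Finite (Cfsg.PSU 6 F 2) := Nat.finite_of_card_ne_zero (by rw [psu_card hF]; norm_num)
  exact center_eq_bot_of_simple (by rw [psu_card hF]; norm_num)

theorem psu_class : ∃ D : Set (Cfsg.PSU 6 F4 2), PTT D ∧ MU D 6 := by
  classical
  have := Cfsg.Agent.S0283.result (F := F4) (q := 2) F4.card 6 (by norm_num) (by norm_num)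
  have : Finite (Cfsg.PSU 6 F4 2) := Nat.finite_of_card_ne_zero (by rw [psu_card F4.card]; norm_num)
  have h := tf_un F4.card 6
  have hi := suHom_injective F4.card 6
  have hr := range_su F4.card (n := 6) (by norm_num)
  have T := TT.of_class (h.isClass (suHom F4.card 6) hi hr
    ⟨dec 5, by decide, (hb_eq _ _).trans (by decide), rfl⟩
    fun p q => by rw [hr]; exact h.conj_of_tau (fun _ => rfl) p q)
  have P := (T.map (QuotientGroup.mk' _) (QuotientGroup.mk'_surjective _)).ptt_simple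
    (psu_cen F4.card)
  have inj := T.injOn_quot P
  refine ⟨_, P, (T.fiso _ inj).mu ?_⟩
  choose! φ hφ using fun (g : Cfsg.SU 6 F4 2) (hg : ∃ p, suHom F4.card 6 g = h.T p) =>
    (let ⟨p, e⟩ := hg; ⟨p, p.2, e⟩ : ∃ v hp, suHom F4.card 6 g = h.T ⟨v, hp⟩)
  refine ⟨φ, fun x hx y hy => ?_, fun p hp => ?_⟩
  · obtain ⟨p1, e1⟩ := hφ x hx
    obtain ⟨p2, e2⟩ := hφ y hy
    rw [← cj_eq_self, ← hi.eq_iff, map_cj, e1, e2, cj, h.T_conj, h.T_eq_iff]
    simp only [TF.T_apply]
    refine ⟨fun ⟨c, hc, e⟩ => ?_, fun e => ⟨1, one_ne_zero, by simp [e]⟩⟩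
    by_contra hb
    have e1 := congrArg ((unForm F4.card 6).B (φ x)) e
    rw [map_smul, map_add, map_smul, p1.2.1, smul_zero, add_zero, smul_eq_mul, eq_comm,
      mul_left_eq_self₀] at e1
    rw [e1.resolve_right hb, one_smul, left_eq_add, smul_eq_zero] at e
    exact e.elim hb p1.1
  · obtain ⟨g, hg⟩ := h.exists_T _ hi hr ⟨p, hp⟩
    obtain ⟨p1, e1⟩ := hφ g ⟨_, hg⟩
    exact ⟨g, ⟨_, hg⟩, (h.T_eq_iff _ _).1 (e1.symm.trans hg)⟩

theorem psu_data {F : Type} [Field F] [Fintype F] (hF : Fintype.card F = 4) :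
    ∃ D : Set (Cfsg.PSU 6 F 2), PTT D ∧ MU D 6 := by
  obtain ⟨D, P, U⟩ := psu_class
  let f := H7.quotCenterCongr (H16.suCongr (FiniteField.ringEquivOfCardEq
    (F4.card.trans hF.symm)) 6 2)
  exact ⟨_, P.map f.toMonoidHom f.surjective f.injective.injOn,
    (P.toTT.fiso f.toMonoidHom f.injective.injOn).mu U⟩

theorem cl_eq (t : G) : conjugatesOf t = Cl t := by
  ext x; exact isConj_iff

/-- an involution of a perfect group centralises a member of a class of size not divisible by 4 -/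
theorem par_of [Finite G] (hp : commutator G = ⊤) {t : G}
    (hN : Nat.card (Cl t) % 4 = 2 ∨ Nat.card (Cl t) % 2 = 1) (u : G) (hu : u * u = 1) :
    ∃ g, Commute u (cj g t) := by
  classical
  have := Fintype.ofFinite (Cl t)
  let act : MulAction G (Cl t) :=
    { smul := fun g x => ⟨cj g x, Cl.conj x.2 g⟩
      one_smul := fun x => Subtype.ext (cj_one _)
      mul_smul := fun g k x => Subtype.ext (cj_cj _ _ _).symm }
  have h2 : MulAction.toPermHom G (Cl t) u ^ 2 = 1 := by rw [← map_pow, pow_two, hu, map_one]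
  suffices ∃ x, MulAction.toPermHom G (Cl t) u x = x by
    obtain ⟨⟨_, g, rfl⟩, e⟩ := this
    exact ⟨g, cj_eq_self.1 (congrArg Subtype.val e)⟩
  rw [Nat.card_eq_fintype_card] at hN
  rcases hN with hN | hN
  · by_contra hn
    push Not at hn
    have k := Equiv.Perm.sign_of_pow_two_eq_one h2
    have : IsEmpty (Function.fixedPoints (MulAction.toPermHom G (Cl t) u)) := ⟨fun x => hn _ x.2⟩
    rw [Fintype.card_eq_zero (α := Function.fixedPoints _), Nat.sub_zero, Odd.neg_one_pow (by rw [Nat.odd_iff]; omega)] at k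
    have := Abelianization.commutator_subset_ker
      (Equiv.Perm.sign.comp (MulAction.toPermHom G (Cl t))) (hp ▸ Subgroup.mem_top u)
    rw [MonoidHom.mem_ker, MonoidHom.comp_apply, k] at this
    exact absurd this (by decide)
  · exact Equiv.Perm.exists_fixed_point_of_prime (p := 2) (n := 1) (by omega) h2

theorem fi22_facts : Subgroup.centralizer {Fi22.P.e 0} = gen Fi22.e1 Fi22U.hcols ∧
    PTT (Cl (Fi22.P.e 0)) ∧ Nat.card (Cl (Fi22.P.e 0)) = 3510 := by
  open H29.Fi22 in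
  have := simple
  have := bd.1
  have h0 : gen (extE e1 11 Fi22X.defs) Fi22U.hcols = gen e1 Fi22U.hcols := gen_extE _ _ (by decide)
  obtain ⟨h1, h2, h3⟩ := H9.threeTransp_of_chk Fi22X.hn Fi22X.prim (h0 ▸ cm) (Fi22X.map hρ) (by norm_num)
    (ivOK_extE hiv1 Fi22X.hext) (by rw [card.1]; norm_num) (a := 0)
    (H9.MX.ev_ne_one_of_chk Fi22X.hn (fun c _ => Fi22X.map hρ c) (b := 1) (by decide +kernel))
    (fun x => Nat.beq x 31) (rels_of_faithful card.2 (Fi22X.map hρ)
      (rels_of_chk (k := 12) Fi22X.hn (by decide) Fi22X.hiv (allN_true.1 (by decide +kernel))))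
  rw [extE_lt _ _ _ (by decide), show e1 0 = P.e 0 from extE_lt _ _ _ (by decide)] at h1 h2 h3
  rw [cl_eq] at h2 h3
  exact ⟨h1.trans h0, (TT.of_class h2).ptt_simple
    (center_eq_bot_of_simple (by rw [card.1]; norm_num)), h3⟩

theorem fi22_cen : Subgroup.center Fi22.P.G = ⊥ :=
  haveI := Fi22.simple
  haveI := Fi22.bd.1
  center_eq_bot_of_simple (by rw [Fi22.card.1]; norm_num)

theorem Cl.cj (t g : G) : Cl (cj g t) = Cl t := by
  ext x
  exact ⟨fun ⟨k, hk⟩ => ⟨k * g, by rw [← cj_cj, hk]⟩, fun ⟨k, hk⟩ => ⟨k * g⁻¹, by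
    rw [← cj_cj, cj_inv_cj, hk]⟩⟩

theorem loc22 [Finite G] {ι : K →* G} {δ : K} (c : Cen ι δ) {F : Type} [Field F] [Fintype F]
    (hF : Fintype.card F = 4) {θ : K →* Cfsg.PSU 6 F 2} (h : CE θ δ)
    (hn : (Dx (Cl (ι δ)) (ι δ)).Nonempty) :
    ∃ Δ C, Pkg δ Δ C ∧ MU Δ 6 ∧ Dx (Cl (ι δ)) (ι δ) = ι '' Δ := by
  have : Finite K := Finite.of_injective ι c.inj
  have : Finite (Cfsg.PSU 6 F 2) := Finite.of_surjective θ h.surj
  obtain ⟨D, P, U⟩ := psu_data hF
  obtain ⟨Δ, C, k, U'⟩ := pkg_u6 h P U (psu_cen hF) (psu_card hF)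
  rcases c.step1 k hn with e | e
  exacts [⟨_, C, k, U', e⟩, ⟨_, C, k.symm, k.fiso.mu U', e⟩]

theorem Cen.ws {ι : K →* G} {δ : K} (c : Cen ι δ) {Δ C : Set K} (h : Pkg δ Δ C) :
    WS (Cl (ι δ)) := ⟨c.sq h, fun hx _ => Cl.conj hx _⟩

theorem Cen.f22 {ι : K →* G} {δ : K} (c : Cen ι δ) {Δ C : Set K} (h : Pkg δ Δ C) (U : MU Δ 6)
    (e : Dx (Cl (ι δ)) (ι δ) = ι '' Δ) : F22q (Cl (ι δ)) := by
  rintro _ ⟨g, rfl⟩
  obtain ⟨F, e'⟩ := c.fiso h e g
  exact e' ▸ ⟨F.lq h.lq, F.mu U⟩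

theorem fi22_main [Finite G] {ι : K →* G} {δ : K} (c : Cen ι δ) {F : Type} [Field F] [Fintype F]
    (hF : Fintype.card F = 4) {θ : K →* Cfsg.PSU 6 F 2} (h : CE θ δ)
    (hn : (Dx (Cl (ι δ)) (ι δ)).Nonempty) : Nonempty (G ≃* Fi22.P.G) := by
  obtain ⟨Δ, C, k, U, e⟩ := loc22 c hF h hn
  obtain ⟨ψ, h1, h2, g, h3⟩ := (c.f22 k U e).hom (c.ws k) (Cl.self _) (c.hZ k e)
  have := Fi22.simple
  have := Fi22.bd.1
  exact c.final k e ψ h1 h3 (by rw [Cl.cj]; exact fi22_facts.2.1) h2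
    (par_of (perf_of_simple fi22_cen) (Or.inl (by rw [Cl.cj, fi22_facts.2.2])))

theorem ce_of {d : G} (hd : orderOf d = 2) (hp : commutator (Subgroup.centralizer {d}) = ⊤)
    [((Subgroup.zpowers d).subgroupOf (Subgroup.centralizer {d})).Normal]
    (e : Subgroup.centralizer {d} ⧸ (Subgroup.zpowers d).subgroupOf (Subgroup.centralizer {d}) ≃* X) :
    ∃ δ : Subgroup.centralizer {d}, (δ : G) = d ∧ Cen (Subgroup.subtype _) δ ∧
      ∃ θ : Subgroup.centralizer {d} →* X, CE θ δ := by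
  have h2 : d * d = 1 := by rw [← pow_two, ← hd, pow_orderOf_eq_one]
  have h1 : d ≠ 1 := fun e => by rw [e, orderOf_one] at hd; exact absurd hd (by decide)
  refine ⟨⟨d, Subgroup.mem_centralizer_singleton_iff.2 rfl⟩, rfl, ⟨Subtype.val_injective,
    fun g hg => ⟨⟨g, Subgroup.mem_centralizer_singleton_iff.2 hg⟩, rfl⟩⟩,
    e.toMonoidHom.comp (QuotientGroup.mk' _), e.surjective.comp (QuotientGroup.mk'_surjective _),
    fun k => ?_, fun k => commute_coe.1 (Subgroup.mem_centralizer_singleton_iff.1 k.2).symm,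
    Subtype.ext h2, fun e => h1 (congrArg Subtype.val e), hp⟩
  rw [MonoidHom.comp_apply, MulEquiv.coe_toMonoidHom, e.map_eq_one_iff, QuotientGroup.mk'_apply,
    QuotientGroup.eq_one_iff, Subgroup.mem_subgroupOf, Subtype.ext_iff, Subtype.ext_iff]
  constructor
  · rintro ⟨n, hn⟩
    rcases Int.even_or_odd' n with ⟨m, rfl | rfl⟩
    · left; rw [← hn]; simp only [zpow_mul, zpow_two, h2, one_zpow, OneMemClass.coe_one]
    · right; rw [← hn]; simp only [zpow_add, zpow_mul, zpow_two, h2, one_zpow, one_mul, zpow_one]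
  · rintro (e | e) <;> rw [e]
    exacts [one_mem _, Subgroup.mem_zpowers d]

end H0
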