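import Mathlib
import Cfsg.Agent.H0.W11
import Cfsg.Agent.H29.Fi23Z

/-! Recognition of `Fi₂₃` from the centraliser of a transposition. -/

set_option autoImplicit false
set_option linter.unusedSectionVars false
set_option maxRecDepth 100000

namespace H0

open H29

variable {K X G : Type*} [Group K] [Group X] [Group G]

theorem FIso.symm {β : K → X} {E : Set K} (h : FIso β E) :
    FIso (Function.invFunOn β E) (β '' E) ∧ Function.invFunOn β E '' (β '' E) = E := by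
  have k : ∀ x ∈ E, Function.invFunOn β E (β x) = x := fun x hx => h.inj.leftInvOn_invFunOn hx
  refine ⟨⟨?_, ?_, ?_, ?_, ?_⟩, h.inj.invFunOn_image subset_rfl⟩
  · rintro _ ⟨x, hx, rfl⟩ _ ⟨y, hy, rfl⟩ e
    rw [k x hx, k y hy] at e
    rw [e]
  · rintro _ ⟨x, hx, rfl⟩ _ ⟨y, hy, rfl⟩
    exact ⟨_, h.cl x hx y hy, h.hom x hx y hy⟩
  · rintro _ ⟨x, hx, rfl⟩ _ ⟨y, hy, rfl⟩
    rw [← h.hom x hx y hy, k _ (h.cl x hx y hy), k x hx, k y hy]
  · rintro _ ⟨x, hx, rfl⟩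
    exact h.sq' x hx
  · rintro _ ⟨x, hx, rfl⟩
    rw [k x hx, h.sq x hx]

theorem CE.Lift.symm {θ : K →* X} {δ : K} (h : CE θ δ) {D : Set X} {Δ : Set K}
    (l : CE.Lift θ δ D Δ) : CE.Lift θ δ D ((fun x => δ * x) '' Δ) := by
  have im : θ '' ((fun x => δ * x) '' Δ) = D := by
    rw [Set.image_image, ← l.im]; simp only [h.map_δ_mul]
  refine ⟨(l.lq.fiso_mul h.cen h.sq).lq l.lq, h.top fun x => ?_, ?_, im⟩
  · have : x ∈ (Subgroup.closure ((fun x => δ * x) '' Δ)).map θ := by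
      rw [MonoidHom.map_closure, im, ← l.im, ← MonoidHom.map_closure, l.gen]
      exact let ⟨y, hy⟩ := h.surj x; ⟨y, trivial, hy⟩
    exact this
  · rintro _ ⟨x, hx, rfl⟩ _ ⟨y, hy, rfl⟩ e
    rw [h.map_δ_mul, h.map_δ_mul] at e
    rw [l.inj hx hy e]

theorem ce_of_cover [IsSimpleGroup X] (hZ : Subgroup.center X = ⊥)
    (h : Cfsg.IsNonsplitDoubleCover K X) {δ : K} (hc : ∀ k, Commute δ k) (h1 : δ ≠ 1) :
    ∃ θ : K →* X, CE θ δ := by
  obtain ⟨c2, ⟨e⟩, ns⟩ := h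
  have m : δ ∈ Subgroup.center K := Subgroup.mem_center_iff.2 fun k => (hc k).symm.eq
  have z : ∀ k ∈ Subgroup.center K, k = 1 ∨ k = δ := fun k hk => by
    obtain ⟨y, -, hy⟩ := (Nat.card_eq_two_iff' (1 : Subgroup.center K)).1 c2
    exact or_iff_not_imp_left.2 fun e => congrArg Subtype.val
      ((hy ⟨k, hk⟩ fun e' => e (congrArg Subtype.val e')).trans
        (hy ⟨δ, m⟩ fun e' => h1 (congrArg Subtype.val e')).symm)
  let θ := e.toMonoidHom.comp (QuotientGroup.mk' (Subgroup.center K))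
  have hs : Function.Surjective θ := e.surjective.comp (QuotientGroup.mk'_surjective _)
  have hk : ∀ k, θ k = 1 ↔ k ∈ Subgroup.center K := fun k =>
    e.map_eq_one_iff.trans (QuotientGroup.eq_one_iff k)
  have key : ∀ k, ∃ c ∈ Subgroup.center K, ∃ n ∈ commutator K, c * n = k := fun k => by
    have : θ k ∈ (commutator K).map θ := by
      rw [map_commutator_eq, MonoidHom.range_eq_top.2 hs, ← commutator_def, perf_of_simple hZ]
      trivial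
    obtain ⟨n, hn, e⟩ := this
    exact ⟨k * n⁻¹, (hk _).1 (by rw [map_mul, map_inv, e, mul_inv_cancel]), n, hn, by simp⟩
  refine ⟨θ, hs, fun k => (hk k).trans ⟨z k, ?_⟩, hc,
    (z _ (mul_mem m m)).resolve_right fun e => h1 (by simpa using e), h1, ?_⟩
  · rintro (rfl | rfl)
    exacts [one_mem _, m]
  have : δ ∈ commutator K := by
    by_contra hn
    refine ns (commutator K) (Subgroup.isComplement'_of_disjoint_and_mul_eq_univ
      (Subgroup.disjoint_def.2 fun {k} a b => (z k a).resolve_right fun e => hn (e ▸ b))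
      (Set.eq_univ_of_forall fun k => ?_))
    obtain ⟨c, hc, n, hn, e⟩ := key k
    exact ⟨c, hc, n, hn, e⟩
  refine eq_top_iff.2 fun k _ => ?_
  obtain ⟨c, hc, n, hn, rfl⟩ := key k
  rcases z c hc with rfl | rfl
  exacts [by simpa using hn, mul_mem this hn]

/-- triple of distinct pairwise commuting points -/
def T3 (D : Set G) (e f g : G) : Prop := e ∈ D ∧ f ∈ Dx D e ∧ g ∈ Dx (Dx D e) f

theorem T3.cj {D : Set G} {e f g k : G} (h : T3 D e f g) (hk : ∀ x ∈ D, cj k x ∈ D) :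
    T3 D (cj k e) (cj k f) (cj k g) :=
  ⟨hk e h.1, ⟨hk f h.2.1.1, fun e => h.2.1.2.1 (cj_inj.1 e), commute_cj.2 h.2.1.2.2⟩,
    ⟨hk g h.2.2.1.1, fun e => h.2.2.1.2.1 (cj_inj.1 e), commute_cj.2 h.2.2.1.2.2⟩,
    fun e => h.2.2.2.1 (cj_inj.1 e), commute_cj.2 h.2.2.2.2⟩

theorem T3.map {Δ : Set K} {D : Set G} {e f g : K} (h : T3 Δ e f g) (ι : K →* G)
    (hι : Function.Injective ι) (hD : ι '' Δ ⊆ D) : T3 D (ι e) (ι f) (ι g) :=
  ⟨hD ⟨e, h.1, rfl⟩, ⟨hD ⟨f, h.2.1.1, rfl⟩, fun e => h.2.1.2.1 (hι e), h.2.1.2.2.map ι⟩,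
    ⟨hD ⟨g, h.2.2.1.1, rfl⟩, fun e => h.2.2.1.2.1 (hι e), h.2.2.1.2.2.map ι⟩,
    fun e => h.2.2.2.1 (hι e), h.2.2.2.2.map ι⟩

/-- products of at most three commuting points -/
def Inv3 (D : Set G) (u : G) : Prop :=
  u = 1 ∨ u ∈ D ∨ (∃ e ∈ D, ∃ f ∈ Dx D e, u = e * f) ∨ ∃ e f g, T3 D e f g ∧ u = e * f * g

theorem Inv3.cj {t u : G} (h : Inv3 (Cl t) u) (k : G) : Inv3 (Cl t) (cj k u) := by
  rcases h with rfl | h | ⟨e, he, f, hf, rfl⟩ | ⟨e, f, g, h, rfl⟩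
  · exact Or.inl (by simp [H0.cj])
  · exact Or.inr (Or.inl (Cl.conj h k))
  · exact Or.inr (Or.inr (Or.inl ⟨_, Cl.conj he k, _, ⟨Cl.conj hf.1 k,
      fun e => hf.2.1 (cj_inj.1 e), commute_cj.2 hf.2.2⟩, cj_mul _ _ _⟩))
  · exact Or.inr (Or.inr (Or.inr ⟨_, _, _, h.cj fun x hx => Cl.conj hx k, by rw [cj_mul, cj_mul]⟩))

theorem Cen.inv3 {ι : K →* G} {δ : K} (c : Cen ι δ) {Δ C : Set K} (h : Pkg δ Δ C)
    (e : Dx (Cl (ι δ)) (ι δ) = ι '' Δ) {u g : G} (hu : u * u = 1) (hc : Commute u (cj g (ι δ))) :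
    Inv3 (Cl (ι δ)) u := by
  rw [← cj_cj_inv g u]
  refine Inv3.cj ?_ g
  obtain ⟨k, hk⟩ := c.rng (cj g⁻¹ u) (by rw [← commute_cj (g := g), cj_cj_inv]; exact hc)
  have sub : ι '' Δ ⊆ Cl (ι δ) := e ▸ Dx_subset _ _
  have m : ∀ {x}, x ∈ Δ → ι x ∈ Dx (Cl (ι δ)) (ι δ) := fun hx => e ▸ ⟨_, hx, rfl⟩
  rw [← hk]
  rcases h.inv k (c.inj (by rw [map_mul, hk, ← cj_mul, hu, map_one]; simp [cj])) with
    rfl | rfl | k1 | k1 | ⟨x, hx, y, hy, rfl | rfl⟩ | k1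
  · exact Or.inl (map_one ι)
  · exact Or.inr (Or.inl (Cl.self _))
  · exact Or.inr (Or.inl (m k1).1)
  · exact Or.inr (Or.inr (Or.inl ⟨_, Cl.self _, _, m k1, by rw [← map_mul, h.δδ]⟩))
  · exact Or.inr (Or.inr (Or.inl ⟨_, (m hx).1, _, ⟨(m hy.1).1, fun e => hy.2.1 (c.inj e),
      hy.2.2.map ι⟩, map_mul _ _ _⟩))
  · exact Or.inr (Or.inr (Or.inr ⟨_, _, _, ⟨Cl.self _, m hx, m hy.1, fun e => hy.2.1 (c.inj e),
      hy.2.2.map ι⟩, by rw [map_mul, map_mul, mul_assoc]⟩))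
  · have t : ∀ {x y z}, T3 Δ x y z → Inv3 (Cl (ι δ)) (ι (x * y * z)) := fun t =>
      Or.inr (Or.inr (Or.inr ⟨_, _, _, t.map ι c.inj sub, by rw [map_mul, map_mul]⟩))
    obtain ⟨x, hx, y, hy, z, hz, k2 | k2⟩ := h.c3 k k1
    · exact k2 ▸ t ⟨hx, hy, hz⟩
    · obtain ⟨j, hj⟩ := h.cls _ (h.cδ k k1) k k1
      rw [← hj, map_cj, k2, h.δδ]
      exact (t ⟨hx, hy, hz⟩).cj _

theorem fi22_loc : F22q (Cl (Fi22.P.e 0)) ∧
    (∀ g, Commute g (Fi22.P.e 0) → g ∈ Subgroup.closure (Dx (Cl (Fi22.P.e 0)) (Fi22.P.e 0))) ∧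
    (∃ l : List Fi22.P.G, (∀ b ∈ l, b ∈ Dx (Cl (Fi22.P.e 0)) (Fi22.P.e 0)) ∧ Odd l.length ∧
      l.prod = 1) ∧
    (∃ l : List Fi22.P.G, (∀ b ∈ l, b ∈ Cl (Fi22.P.e 0)) ∧ l.Pairwise Commute ∧ Odd l.length ∧
      l.prod = 1) ∧ ∀ u, u * u = 1 → Inv3 (Cl (Fi22.P.e 0)) u := by
  obtain ⟨h1, P, h3⟩ := fi22_facts
  have := Fi22.simple
  have := Fi22.bd.1
  have := Cfsg.Agent.S0283.result (F := H9.F4) (q := 2) H9.F4.card 6 (by norm_num) (by norm_num)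
  let δ : gen Fi22.e1 Fi22U.hcols := ⟨Fi22.P.e 0, h1 ▸ Subgroup.mem_centralizer_singleton_iff.2 rfl⟩
  have c : Cen (Subgroup.subtype _) δ := ⟨Subtype.val_injective, fun g hg =>
    ⟨⟨g, h1 ▸ Subgroup.mem_centralizer_singleton_iff.2 hg⟩, rfl⟩⟩
  obtain ⟨θ, h⟩ := ce_of_cover (psu_cen H9.F4.card) H9.U62M.cover (δ := δ)
    (fun k => commute_coe.1 (Subgroup.mem_centralizer_singleton_iff.1 (h1.ge k.2)).symm) fun e => by
      obtain ⟨y, -, hy⟩ := P.adj_ne (Cl.self _)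
      exact hy (by rw [show Fi22.P.e 0 = 1 from congrArg Subtype.val e]; exact Commute.one_left y)
  obtain ⟨Δ, C, k, U, e⟩ := loc22 c H9.F4.card h (P.Dx_ne (Cl.self _))
  obtain ⟨l, l1, l2, l3, l4⟩ := k.hyp
  obtain ⟨m, m1, m2, m3⟩ := k.odd
  have ml : ∀ {l : List _}, (∀ x ∈ l, x ∈ Δ) → ∀ x ∈ l.map (gen Fi22.e1 Fi22U.hcols).subtype,
      x ∈ Dx (Cl (Fi22.P.e 0)) (Fi22.P.e 0) := fun hl x hx => by
    obtain ⟨y, hy, rfl⟩ := List.mem_map.1 hx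
    exact e.ge ⟨y, hl y hy, rfl⟩
  refine ⟨c.f22 k U e, c.cen_le k e Subgroup.subset_closure,
    ⟨_, ml m2, by rwa [List.length_map], by rw [← map_list_prod, m3, map_one]⟩,
    ⟨Fi22.P.e 0 :: _, List.forall_mem_cons.2 ⟨Cl.self _, fun x hx => (ml l2 x hx).1⟩,
      List.pairwise_cons.2 ⟨fun x hx => (ml l2 x hx).2.2,
        List.pairwise_map.2 (l3.imp fun k => k.map _)⟩,
      by rw [List.length_cons, List.length_map]; exact l1.add_one,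
      by rw [List.prod_cons, ← map_list_prod, l4]; exact P.sq _ (Cl.self _)⟩, fun u hu => ?_⟩
  obtain ⟨g, hg⟩ := par_of (perf_of_simple fi22_cen) (Or.inl (by rw [h3])) u hu
  exact c.inv3 k e hu hg

theorem dg_of_cox {e : ℕ → G} (hiv : IvOK e (ivOf [])) {n : ℕ} {A : List (ℕ × ℕ)}
    (h : ∀ r ∈ coxW n A, ev e r = 1) : Dg e n A := by
  intro s hs t ht
  have := h _ (List.mem_flatMap.2 ⟨s, List.mem_range.2 hs, List.mem_map.2
    ⟨t, List.mem_range.2 ht, rfl⟩⟩)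
  constructor
  · intro hA
    rw [if_pos (Or.inl hA)] at this
    refine braid_of_cube (sq_of_iv hiv s) (sq_of_iv hiv t) ?_
    simpa [pow_succ, mul_assoc] using this
  · intro h1 h2
    rw [if_neg (not_or.2 ⟨h1, h2⟩)] at this
    simp only [ev_cons, ev_nil, mul_one] at this
    rw [← mul_assoc, mul_eq_one_iff_eq_inv, mul_inv_rev, inv_of_iv hiv, inv_of_iv hiv] at this
    exact this

theorem ev_e1 {w : List ℕ} (hw : ∀ c ∈ w, c < 9) : ev Fi22.e1 w = ev Fi22.P.e w :=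
  ev_congr fun c hc => extE_lt _ _ _ (hw c hc)

theorem dg22 : Dg Fi22.P.e 9 A332 := dg_of_cox Fi22.hiv0 fun r hr => by
  rw [← ev_e1 ((by decide +kernel : ∀ r ∈ coxW 9 A332, ∀ c ∈ r, c < 9) r hr)]
  exact rels_of_faithful Fi22.card.2 Fi22.hρ (rels_of_chk (k := 12) Fi22U.hn (by decide)
    H9.U62P.hivN (allN_true.1 (by decide +kernel))) r hr

theorem mem22 : ∀ c < 9, Fi22.P.e c ∈ Cl (Fi22.P.e 0) := by
  have st : ∀ s < 9, ∀ t < 9, (s, t) ∈ A332 → Fi22.P.e s ∈ Cl (Fi22.P.e 0) →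
      Fi22.P.e t ∈ Cl (Fi22.P.e 0) := fun s hs t ht hA h =>
    cj_of_braid (sq_of_iv Fi22.hiv0 s) ((dg22 s hs t ht).1 hA) ▸ Cl.conj h _
  have h0 := Cl.self (Fi22.P.e 0)
  have h1 := st 0 (by decide) 1 (by decide) (by decide) h0
  have h2 := st 1 (by decide) 2 (by decide) (by decide) h1
  have h3 := st 2 (by decide) 3 (by decide) (by decide) h2
  have h4 := st 3 (by decide) 4 (by decide) (by decide) h3
  have h5 := st 4 (by decide) 5 (by decide) (by decide) h4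
  have h6 := st 5 (by decide) 6 (by decide) (by decide) h5
  have h7 := st 3 (by decide) 7 (by decide) (by decide) h3
  have h8 := st 7 (by decide) 8 (by decide) (by decide) h7
  intro c hc
  interval_cases c <;> assumption

def wp : List ℕ := cw [3, 7, 8, 2, 3, 7, 1, 2, 3, 4, 0, 1, 2, 3, 7, 8, 3, 4, 5, 2, 3, 4, 1, 2, 3, 7,
  6, 5, 4, 3, 2, 1] 0
def wq : List ℕ := cw [3, 7, 8, 4, 3, 7, 1, 2, 3, 4, 0, 1, 2, 3, 7, 8, 3, 4, 5, 2, 3, 4, 1, 2, 3, 7,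
  6, 5, 4, 3, 2, 1] 0

theorem ne22 : ∀ x ∈ [([2], [0]), ([4], [0]), ([4], [2]), ([6], [0]), ([6], [2]), ([4], [6]),
    (wp, [6]), (wq, [6]), (wq, wp), ([1, 0], [0, 1]), ([1, 2], [2, 1])],
    ev Fi22.P.e x.1 ≠ ev Fi22.P.e x.2 := by
  intro x hx e
  obtain ⟨h1, b, -, h2⟩ := (by decide +kernel : ∀ x ∈ [([2], [0]), ([4], [0]), ([4], [2]), ([6], [0]),
    ([6], [2]), ([4], [6]), (wp, [6]), (wq, [6]), (wq, wp), ([1, 0], [0, 1]), ([1, 2], [2, 1])],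
    (∀ c ∈ x.1 ++ x.2.reverse, c < 9) ∧ ∃ b < 60, disj (bit b)
      (pullW (nth Net.nil Fi22U.nl) (x.1 ++ x.2.reverse) (bit b)) = true) x hx
  refine H9.MX.ev_ne_one_of_chk Fi22U.hn (fun c _ => Fi22.hρ c) h2 ?_
  rw [ev_e1 h1, ev_append, ev_reverse Fi22.hiv0, e, mul_inv_cancel]

theorem hex23 : ev Fi23.P.e (rG ++ ([0, 2, 4, 6] ++ (wp ++ wq))) = 1 :=
  rels_of_faithful Fi23.card.2 Fi23.hρ (rels_of_chk (k := 15) Fi23T.hn (by decide) Fi23T.hiv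
    (allN_true.1 (by decide +kernel))) _ (List.mem_singleton_self _)

theorem tr23 [Finite K] {y : ℕ → K} (iv : IvOK y (ivOf [])) (h : ∀ r ∈ FiA.R0, ev y r = 1) :
    Tr Fi23.P.e y FiA.cols := by
  let f : K ≃* Shrink.{0} K := Shrink.mulEquiv.symm
  exact (Fi23.ub.tr (fun _ h => h) Fi23.hiv0 (rels_sub Fi23.hR (by decide +kernel)) Fi23.cardH.ge
    (H9.MX.ivOK_map f.toMonoidHom iv) fun r hr => by
      rw [← map_ev, h r hr, map_one]).trans (Tr.of_hom f.symm.toMonoidHom fun c _ => by simp)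

theorem F22q.t3 [Finite G] {Δ : Set G} (L : LQ Δ) (U : F22q Δ) {e f g e' f' g' : G}
    (t : T3 Δ e f g) (t' : T3 Δ e' f' g') : ∃ k, cj k (e * f * g) = e' * f' * g' := by
  obtain ⟨k, hk, rfl⟩ := L.trans t.1 t'.1
  have t1 := t.cj fun x hx => L.conj hx hk
  obtain ⟨j, hj, e1, e2⟩ := (U _ t'.1).1.comm_pair_trans t1.2.1 t'.2.1 t1.2.2 t'.2.2
  exact ⟨j * k, by rw [← cj_cj, cj_mul k, cj_mul k, cj_mul j, cj_mul j, e1, e2,
    cj_of_commute (PTT.commute_of_mem_closure hj)]⟩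

theorem F22q.f6 [Finite G] {Δ : Set G} (U : F22q Δ) {e f : G} (he : e ∈ Δ) (hf : f ∈ Dx Δ e) :
    ∃ g ∈ Dx (Dx Δ e) f, ∃ g' ∈ Dx (Dx Δ e) f, ¬ Commute g g' := by
  obtain ⟨L, M⟩ := U e he
  obtain ⟨π, hπ⟩ := L.exists_um M
  obtain ⟨f', hf'⟩ := L.Dx_ne hf
  obtain ⟨g, hg, g', hg', k⟩ := hπ.f6 L hf hf'
  exact ⟨g, hg.1, g', hg'.1, k⟩

theorem pkg_f22 [Finite K] {θ : K →* Fi22.P.G} {δ : K} (h : CE θ δ) :
    ∃ Δ C, Pkg δ Δ C ∧ F22q Δ := by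
  have := Fi22.bd.1
  have P := fi22_facts.2.1
  obtain ⟨U, hC, ⟨l, l1, l2, l3⟩, ⟨m, m1, m2, m3, mm⟩, hI⟩ := fi22_loc
  have c1 := fun x y => h.L1 P (Cl.self _) l1 l2 (Or.inl l3) (x := x) (y := y)
  have c2 := fun x => h.L2 P c1 m1 m2 m3 mm (x := x)
  have let1 : ∀ {Δ}, CE.Lift θ δ (Cl (Fi22.P.e 0)) Δ → ∃ y : ℕ → K, (∀ c < 9, y c ∈ Δ) ∧
      (∀ c, 9 ≤ c → y c = 1) ∧ ∀ c < 9, θ (y c) = Fi22.P.e c := fun {Δ} l => by
    have : ∀ c, ∃ x, (c < 9 → x ∈ Δ) ∧ (9 ≤ c → x = 1) ∧ (c < 9 → θ x = Fi22.P.e c) := fun c => by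
      by_cases hc : c < 9
      · obtain ⟨x, hx, e⟩ := l.im.ge (mem22 c hc)
        exact ⟨x, fun _ => hx, fun h => absurd hc (not_lt.2 h), fun _ => e⟩
      · exact ⟨1, fun h => absurd h hc, fun _ => rfl, fun h => absurd h hc⟩
    choose y y1 y2 y3 using this
    exact ⟨y, y1, y2, y3⟩
  have evθ : ∀ {y : ℕ → K}, (∀ c < 9, θ (y c) = Fi22.P.e c) → ∀ {w : List ℕ}, (∀ c ∈ w, c < 9) →
      θ (ev y w) = ev Fi22.P.e w := fun hy w hw => by
    rw [map_ev, ev_congr fun c hc => hy c (hw c hc)]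
  have kk : ∀ r ∈ [rS, rA, rG], (∀ c ∈ r, c < 9) ∧ r ∈ Fi22.P.relL := by decide +kernel
  have rr : ∀ {y : ℕ → K}, (∀ c < 9, θ (y c) = Fi22.P.e c) → ∀ r ∈ [rS, rA, rG],
      ev y r = 1 ∨ ev y r = δ := fun hy r hr =>
    (h.ker _).1 ((evθ hy (kk r hr).1).trans (Fi22.hR r (kk r hr).2))
  obtain ⟨Δ, l, y, y1, y2, y3, hA⟩ : ∃ Δ, CE.Lift θ δ (Cl (Fi22.P.e 0)) Δ ∧ ∃ y : ℕ → K,
      (∀ c < 9, y c ∈ Δ) ∧ (∀ c, 9 ≤ c → y c = 1) ∧ (∀ c < 9, θ (y c) = Fi22.P.e c) ∧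
        ev y rA = 1 := by
    obtain ⟨Δ, l⟩ := h.lift_cen P c1 c2 (Cl.self _) hC
    obtain ⟨y, y1, y2, y3⟩ := let1 l
    rcases rr y3 rA (by simp) with e | e
    · exact ⟨Δ, l, y, y1, y2, y3, e⟩
    obtain ⟨z, z1, z2, z3⟩ := let1 (l.symm h)
    refine ⟨_, l.symm h, z, z1, z2, z3, ?_⟩
    rw [ev_congr (e' := fun c => δ * y c) fun c hc => (l.symm h).inj (z1 c ((kk rA (by simp)).1 c hc))
      ⟨_, y1 c ((kk rA (by simp)).1 c hc), rfl⟩ (by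
        rw [h.map_δ_mul, z3 c ((kk rA (by simp)).1 c hc), y3 c ((kk rA (by simp)).1 c hc)]),
      ev_cen h.cen, h.pow_odd (by decide +kernel), e, h.sq]
  have L := l.lq
  have F := L.fiso θ l.inj
  have U' : F22q Δ := F.symm.2 ▸ F.symm.1.f22 (l.im.symm ▸ U)
  have zen := l.zen h fi22_cen
  have top : ∀ k, k ∈ Subgroup.closure Δ := fun k => l.gen ▸ Subgroup.mem_top k
  have core : ∀ k, (∀ x ∈ Δ, Commute (k * k) x) → ∃ z, (∀ x ∈ Δ, Commute z x) ∧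
      (k = z ∨ (∃ e ∈ Δ, k = e * z) ∨ (∃ e ∈ Δ, ∃ f ∈ Dx Δ e, k = e * f * z) ∨
        ∃ e f g, T3 Δ e f g ∧ k = e * f * g * z) := by
    intro k hk
    have z : ∀ w, θ k = θ w → ∃ z, (∀ x ∈ Δ, Commute z x) ∧ k = w * z := fun w e => by
      rcases h.eq_or e with rfl | rfl
      exacts [⟨1, fun x _ => Commute.one_left x, (mul_one _).symm⟩,
        ⟨δ, fun x _ => h.cen x, (h.cen w).eq⟩]
    have := hI (θ k) (by rw [← map_mul, h.ker]; exact zen _ hk)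
    rw [← l.im] at this
    rcases this with e | ⟨x, hx, e⟩ | ⟨_, ⟨x, hx, rfl⟩, f, hf, e⟩ | ⟨_, f, g, ⟨⟨x, hx, rfl⟩, hf, hg⟩, e⟩
    · obtain ⟨w, hw, e⟩ := z 1 (e.trans (map_one θ).symm)
      exact ⟨w, hw, Or.inl (by rw [e, one_mul])⟩
    · obtain ⟨w, hw, e⟩ := z x e.symm
      exact ⟨w, hw, Or.inr (Or.inl ⟨x, hx, e⟩)⟩
    · rw [← F.image_Dx hx] at hf
      obtain ⟨f, hf, rfl⟩ := hf
      obtain ⟨w, hw, e⟩ := z (x * f) (by rw [e, map_mul])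
      exact ⟨w, hw, Or.inr (Or.inr (Or.inl ⟨x, hx, f, hf, e⟩))⟩
    · rw [← F.image_Dx hx] at hf hg
      obtain ⟨f, hf, rfl⟩ := hf
      rw [← (F.res x).image_Dx hf] at hg
      obtain ⟨g, hg, rfl⟩ := hg
      obtain ⟨w, hw, e⟩ := z (x * f * g) (by rw [e, map_mul, map_mul])
      exact ⟨w, hw, Or.inr (Or.inr (Or.inr ⟨x, f, g, ⟨hx, hf, hg⟩, e⟩))⟩
  have nsq := nsq_of h.cen h.sq h.ne L zen (T := T3 Δ) id core
  have sq : ∀ c < 9, y c * y c = 1 := fun c hc => L.sq (y1 c hc)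
  have iv := iv_of sq y2
  have dg : Dg y 9 A332 := fun s hs t ht =>
    ⟨fun hA => l.inj (L.cj_mem (y1 s hs) (y1 t ht)) (L.cj_mem (y1 t ht) (y1 s hs)) (by
      rw [map_cj, map_cj, y3 s hs, y3 t ht, (dg22 s hs t ht).1 hA]),
    fun h1 h2 => (F.comm (y1 s hs) (y1 t ht)).1 (by
      rw [y3 s hs, y3 t ht]; exact (dg22 s hs t ht).2 h1 h2)⟩
  have hS : ev y rS = 1 := (rr y3 rS (by simp)).resolve_right fun e => nsq
    ⟨ev y [3, 2, 1, 3, 4, 5, 3, 7, 8] ^ 5, by rw [← e, rS, ev_powW, ← pow_add]⟩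
  have hG : ev y rG = δ := (rr y3 rG (by simp)).resolve_left fun e => by
    obtain ⟨ψ, hψ⟩ := PData.exists_hom Fi22.coh Fi22.hg (σ := y) iv
      (rels_sub (R := coxW 9 A332 ++ [rS, rA, rG]) (rels_append (cox_ok iv dg) (by
        simp [hS, hA, e])) (by decide +kernel))
    have e1 : ∀ x, θ (ψ x) = x := fun x => by
      have : x ∈ (θ.comp ψ).eqLocus (MonoidHom.id _) := gen_le.2 (fun c hc => by
        have hc' : c < 9 := by revert c; decide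
        exact (congrArg θ (hψ c hc')).trans (y3 c hc')) (Fi22.top ▸ Subgroup.mem_top x)
      exact this
    obtain ⟨x, hx⟩ : δ ∈ ψ.range := h.top (N := ψ.range) (fun x => ⟨_, ⟨x, rfl⟩, e1 x⟩) ▸
      Subgroup.mem_top δ
    exact h.ne (by rw [← hx, ← e1 x, hx, h.map_δ, map_one])
  have hx := tr23 iv (rels_sub (R := coxW 9 A332 ++ [rS, rA]) (rels_append (cox_ok iv dg) (by
    simp [hS, hA])) (by decide +kernel)) _ (by decide +kernel) hex23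
  have ne : ∀ x ∈ [([2], [0]), ([4], [0]), ([4], [2]), ([6], [0]), ([6], [2]), ([4], [6]),
      (wp, [6]), (wq, [6]), (wq, wp), ([1, 0], [0, 1]), ([1, 2], [2, 1])],
      ev y x.1 ≠ ev y x.2 := fun x hx e => ne22 x hx (by
    obtain ⟨k1, k2⟩ := (by decide +kernel : ∀ x ∈ [([2], [0]), ([4], [0]), ([4], [2]), ([6], [0]),
      ([6], [2]), ([4], [6]), (wp, [6]), (wq, [6]), (wq, wp), ([1, 0], [0, 1]), ([1, 2], [2, 1])],
      (∀ c ∈ x.1, c < 9) ∧ ∀ c ∈ x.2, c < 9) x hx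
    rw [← evθ y3 k1, ← evθ y3 k2, e])
  have mp : ev y wp ∈ Δ := by rw [wp, ev_cw iv]; exact L.conj (y1 0 (by decide)) (top _)
  have mq : ev y wq ∈ Δ := by rw [wq, ev_cw iv]; exact L.conj (y1 0 (by decide)) (top _)
  simp only [List.forall_mem_cons, ev_cons, ev_nil, mul_one] at ne
  simp only [ev_append, hG, ev_cons, ev_nil, mul_one] at hx
  generalize ev y wp = p at *
  generalize ev y wq = q at *
  obtain ⟨n1, n2, n3, n4, n5, n6, n7, n8, n9, n10, n11, -⟩ := ne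
  have cm : ∀ s < 9, ∀ t < 9, (s, t) ∉ A332 → (t, s) ∉ A332 → Commute (y s) (y t) :=
    fun s hs t ht => (dg s hs t ht).2
  have c02 := cm 0 (by decide) 2 (by decide) (by decide) (by decide)
  have c04 := cm 0 (by decide) 4 (by decide) (by decide) (by decide)
  have c06 := cm 0 (by decide) 6 (by decide) (by decide) (by decide)
  have c24 := cm 2 (by decide) 4 (by decide) (by decide) (by decide)
  have c26 := cm 2 (by decide) 6 (by decide) (by decide) (by decide)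
  have c46 := cm 4 (by decide) 6 (by decide) (by decide) (by decide)
  have m0 := y1 0 (by decide)
  have m2 := y1 2 (by decide)
  have m4 := y1 4 (by decide)
  have m6 := y1 6 (by decide)
  have t1 : T3 Δ (y 0) (y 2) (y 4) := ⟨m0, ⟨m2, n1, c02⟩, ⟨m4, n2, c04⟩, n3, c24⟩
  have t3 : T3 Δ (y 0) (y 2) (y 6) := ⟨m0, ⟨m2, n1, c02⟩, ⟨m6, n4, c06⟩, n5, c26⟩
  have sA : y 0 * y 2 * y 4 * y 6 * (y 0 * y 2 * y 4 * y 6) = 1 := by
    rw [((c06.mul_left c26).mul_left c46).symm.mul_mul_mul_comm, L.q3 t1.1 t1.2.1 t1.2.2, L.sq m6,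
      one_mul]
  have pq : p * q = δ * (y 0 * y 2 * y 4 * y 6) := by
    rw [← mul_assoc, mul_eq_one_iff_inv_eq] at hx
    rw [← hx, inv_eq_iff_mul_eq_one, ← mul_assoc (y 0), ← mul_assoc (y 0 * y 2), sq_cen h.cen h.sq, sA]
  have cpq : Commute p q := by
    have := (sq_cen h.cen h.sq).trans sA
    rw [← pq, mul_eq_one_iff_eq_inv, mul_inv_rev, L.inv mp, L.inv mq] at this
    exact this
  have cc : ∀ x ∈ Δ, Commute x (y 0) → Commute x (y 2) → Commute x (y 4) → Commute x (y 6) →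
      Commute x p ∧ Commute x q := fun x hx a b c d =>
    com2 (L.sq mp) (L.sq mq) (L.braid hx mp) (L.braid hx mq) n9.symm
      (pq ▸ (h.cen x).symm.mul_right (((a.mul_right b).mul_right c).mul_right d)) cpq
  have d0 := cc _ m0 (Commute.refl _) c02 c04 c06
  have d2 := cc _ m2 c02.symm (Commute.refl _) c24 c26
  have d4 := cc _ m4 c04.symm c24.symm (Commute.refl _) c46
  have d6 := cc _ m6 c06.symm c26.symm c46.symm (Commute.refl _)
  refine ⟨Δ, (Pkg.mk' h.cen h.sq h.ne L l.gen zen (T3 Δ) id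
    (fun k t => t.cj fun x hx => L.conj hx (top k)) (U'.t3 L) core
    ⟨y 0, y 2, y 4, y 6, p, q, t1, ⟨m6, ⟨mp, n7, d6.1⟩, ⟨mq, n8, d6.2⟩, n9, cpq⟩, t3, ?_, n6, ?_⟩
    ⟨p, mp, q, ⟨mq, n9, cpq⟩, ?_⟩ ⟨_, m0, _, t1.2.1, _, y1 1 (by decide), n10, n11⟩ ?_
    fun e he f hf => U'.f6 he hf).imp fun C hC => ⟨hC, U'⟩⟩
  · simp [c02, c04, c06, c24, c26, c46, d0, d2, d4, d6, cpq]
  · rw [mul_assoc (y 6), pq, ← mul_assoc (y 0 * y 2 * y 4), (h.cen _).eq, ← mul_assoc, sA, one_mul]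
  · rw [pq, h.δδ, mul_assoc (y 0 * y 2),
      sq_A3 (sq 1 (by decide)) ((dg 0 (by decide) 1 (by decide)).1 (by decide))
        ((dg 1 (by decide) 2 (by decide)).1 (by decide)).symm (L.sq m0) (L.sq m2) c02,
      sq_A3 (sq 5 (by decide)) ((dg 4 (by decide) 5 (by decide)).1 (by decide))
        ((dg 5 (by decide) 6 (by decide)).1 (by decide)).symm (L.sq m4) (L.sq m6) c46]
    refine ⟨_, (Commute.mul_mul_mul_comm ?_ _ _)⟩
    have k1 : ∀ {x}, Commute x (y 4) → Commute x (y 5) → Commute x (y 6) →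
        Commute x (cj (y 5) (y 4 * y 5 * y 6)) := fun a b c =>
      (commute_cj_right b.symm).2 ((a.mul_right b).mul_right c)
    have k2 := k1 (cm 1 (by decide) 4 (by decide) (by decide) (by decide))
      (cm 1 (by decide) 5 (by decide) (by decide) (by decide))
      (cm 1 (by decide) 6 (by decide) (by decide) (by decide))
    exact (commute_cj_left k2).2 (((k1 c04 (cm 0 (by decide) 5 (by decide) (by decide) (by decide))
      c06).mul_left k2).mul_left (k1 c24 (cm 2 (by decide) 5 (by decide) (by decide) (by decide)) c26))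
  · have k : ∀ x ∈ m, Function.invFunOn θ Δ x ∈ Δ ∧ θ (Function.invFunOn θ Δ x) = x := fun x hx =>
      Function.invFunOn_pos (l.im.ge (m1 x hx))
    refine ⟨m.map (Function.invFunOn θ Δ), by rwa [List.length_map], fun x hx => ?_, (h.ker _).1 ?_⟩
    · obtain ⟨z, hz, rfl⟩ := List.mem_map.1 hx
      exact (k z hz).1
    · rw [map_list_prod, List.map_map, List.map_congr_left (f := θ ∘ Function.invFunOn θ Δ) (g := id)
        fun x hx => (k x hx).2,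
        List.map_id, mm]

theorem fi23_facts : PTT (Cl t23) ∧ Nat.card (Cl t23) = 31671 := by
  open H29.Fi23 in
  have := simple
  have := bd.1
  have h0 : gen (extE P.e 10 Fi23Z.defs) Fi23T.hcols = gen P.e Fi23T.hcols := gen_extE _ _ (by decide)
  obtain ⟨-, h2, h3⟩ := H9.threeTransp_of_chk Fi23Z.hn Fi23Z.prim (h0 ▸ cm) (Fi23Z.map hρ) (by norm_num)
    (ivOK_extE hiv0 Fi23Z.hext) (by rw [card.1]; norm_num) (a := 10)
    (H9.MX.ev_ne_one_of_chk Fi23Z.hn (fun c _ => Fi23Z.map hρ c) (b := 1) (by decide +kernel))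
    (fun x => Nat.beq x 12) (rels_of_faithful card.2 (Fi23Z.map hρ)
      (rels_sub Fi23Z.hz (by decide +kernel)))
  rw [ext10, cl_eq] at h2 h3
  exact ⟨(TT.of_class h2).ptt_simple (center_eq_bot_of_simple (by rw [card.1]; norm_num)), h3⟩

theorem fi23_main [Finite G] {ι : K →* G} {δ : K} (c : Cen ι δ) {θ : K →* Fi22.P.G} (h : CE θ δ)
    (hn : (Dx (Cl (ι δ)) (ι δ)).Nonempty) : Nonempty (G ≃* Fi23.P.G) := by
  have : Finite K := Finite.of_injective ι c.inj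
  obtain ⟨Δ, C, k, U, e⟩ : ∃ Δ C, Pkg δ Δ C ∧ F22q Δ ∧ Dx (Cl (ι δ)) (ι δ) = ι '' Δ := by
    obtain ⟨Δ, C, k, U⟩ := pkg_f22 h
    rcases c.step1 k hn with e | e
    exacts [⟨_, C, k, U, e⟩, ⟨_, C, k.symm, k.fiso.f22 U, e⟩]
  have U' : F23q (Cl (ι δ)) := by
    rintro _ ⟨g, rfl⟩
    obtain ⟨F, e'⟩ := c.fiso k e g
    exact e' ▸ ⟨F.lq k.lq, F.f22 U⟩
  obtain ⟨ψ, h1, h2, h3⟩ := U'.hom (c.ws k) (Cl.self _) (c.hZ k e)
  have := Fi23.bd.1
  refine c.final k e ψ h1 h3 fi23_facts.1 h2 fun u hu => ?_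
  have := Fi23.simple
  exact par_of (perf_of_simple (center_eq_bot_of_simple (by rw [Fi23.card.1]; norm_num)))
    (Or.inr (by rw [fi23_facts.2])) u hu

end H0
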