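import Mathlib

/-! Integral vectors of small norm (for `H13/WAlg`). -/

set_option autoImplicit false

namespace H0.WL

open Finset

variable {ι : Type*} [Fintype ι] [DecidableEq ι]

/-- standard inner product -/
def dot (v w : ι → ℤ) : ℤ := ∑ x, v x * w x

/-- signed unit vector -/
def e (a : ι) (s : ℤ) : ι → ℤ := Pi.single a s

theorem e_apply (a : ι) (s : ℤ) (x : ι) : e a s x = if x = a then s else 0 := by
  simp [e, Pi.single_apply]

theorem e_self (a : ι) (s : ℤ) : e a s a = s := by simp [e]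

theorem e_ne {a x : ι} (h : x ≠ a) (s : ℤ) : e a s x = 0 := by simp [e, h]

theorem dot_comm (v w : ι → ℤ) : dot v w = dot w v := by simp [dot, mul_comm]

theorem dot_add (u v w : ι → ℤ) : dot (u + v) w = dot u w + dot v w := by
  simp [dot, add_mul, sum_add_distrib]

theorem dot_sub (u v w : ι → ℤ) : dot (u - v) w = dot u w - dot v w := by
  simp [dot, sub_mul, sum_sub_distrib]

theorem dot_add' (u v w : ι → ℤ) : dot w (u + v) = dot w u + dot w v := by
  simp [dot, mul_add, sum_add_distrib]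

theorem dot_sub' (u v w : ι → ℤ) : dot w (u - v) = dot w u - dot w v := by
  simp [dot, mul_sub, sum_sub_distrib]

theorem dot_e (a : ι) (s : ℤ) (w : ι → ℤ) : dot (e a s) w = s * w a := by
  simp [dot, e_apply]

theorem dot_e' (a : ι) (s : ℤ) (w : ι → ℤ) : dot w (e a s) = s * w a := by
  rw [dot_comm, dot_e]

theorem dot_nonneg (v : ι → ℤ) : 0 ≤ dot v v := sum_nonneg fun x _ => mul_self_nonneg _

theorem eq_zero_of_dot {v : ι → ℤ} (h : dot v v = 0) : v = 0 := by
  funext x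
  have := (sum_eq_zero_iff_of_nonneg (fun x _ => mul_self_nonneg (v x))).1 h x (mem_univ _)
  simpa using this

/-- remove one coordinate -/
def cut (v : ι → ℤ) (a : ι) : ι → ℤ := v - e a (v a)

theorem cut_self (v : ι → ℤ) (a : ι) : cut v a a = 0 := by simp [cut, e_self]

theorem cut_ne (v : ι → ℤ) {a x : ι} (h : x ≠ a) : cut v a x = v x := by simp [cut, e_ne h]

theorem cut_zero {v : ι → ℤ} (a : ι) {x : ι} (h : v x = 0) : cut v a x = 0 := by
  by_cases hx : x = a
  · subst hx; exact cut_self _ _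
  · rw [cut_ne _ hx, h]

theorem eq_cut (v : ι → ℤ) (a : ι) : v = cut v a + e a (v a) := by simp [cut]

theorem dot_cut (v w : ι → ℤ) (a : ι) : dot (cut v a) w = dot v w - v a * w a := by
  rw [cut, dot_sub, dot_e]

theorem norm_cut (v : ι → ℤ) (a : ι) : dot (cut v a) (cut v a) = dot v v - v a * v a := by
  rw [dot_cut, dot_comm v, dot_cut, cut_self]; ring

theorem sq_le (v : ι → ℤ) (a : ι) : v a * v a ≤ dot v v := by
  have := dot_nonneg (cut v a); rw [norm_cut] at this; linarith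

/-- sign -/
def Sg (s : ℤ) : Prop := s = 1 ∨ s = -1

theorem Sg.sq {s : ℤ} (h : Sg s) : s * s = 1 := by rcases h with rfl | rfl <;> norm_num

theorem Sg.neg {s : ℤ} (h : Sg s) : Sg (-s) := by rcases h with rfl | rfl <;> simp [Sg]

theorem Sg.ne {s : ℤ} (h : Sg s) : s ≠ 0 := by rcases h with rfl | rfl <;> norm_num

theorem sg_of {s : ℤ} (h0 : s ≠ 0) (h3 : s * s ≤ 3) : Sg s := by
  have h1 : s ≤ 1 := by nlinarith
  have h2 : -1 ≤ s := by nlinarith
  unfold Sg; omega

theorem peel {v : ι → ℤ} (h0 : dot v v ≠ 0) (h3 : dot v v ≤ 3) :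
    ∃ a, Sg (v a) ∧ dot (cut v a) (cut v a) = dot v v - 1 := by
  have : v ≠ 0 := by rintro rfl; simp [dot] at h0
  obtain ⟨a, ha⟩ := Function.ne_iff.1 this
  have hs : Sg (v a) := sg_of ha ((sq_le v a).trans h3)
  exact ⟨a, hs, by rw [norm_cut, hs.sq]⟩

theorem norm1 {v : ι → ℤ} (h : dot v v = 1) : ∃ a, Sg (v a) ∧ v = e a (v a) := by
  obtain ⟨a, hs, h1⟩ := peel (v := v) (by omega) (by omega)
  have := eq_zero_of_dot (v := cut v a) (by omega)
  refine ⟨a, hs, ?_⟩
  have h2 := eq_cut v a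
  rw [this, zero_add] at h2; exact h2

theorem norm2 {v : ι → ℤ} (h : dot v v = 2) :
    ∃ a b, a ≠ b ∧ Sg (v a) ∧ Sg (v b) ∧ v = e a (v a) + e b (v b) := by
  obtain ⟨a, hs, h1⟩ := peel (v := v) (by omega) (by omega)
  obtain ⟨b, hb, h2⟩ := norm1 (v := cut v a) (by omega)
  have hab : b ≠ a := by rintro rfl; rw [cut_self] at hb; exact hb.ne rfl
  rw [cut_ne _ hab] at hb h2
  refine ⟨a, b, hab.symm, hs, hb, ?_⟩
  have h3 := eq_cut v a
  rw [h2, add_comm] at h3; exact h3

theorem diff2 {v deg : ι → ℤ} (pos : ∀ x, 0 < deg x) (h : dot v v = 2) (hd : dot v deg = 0) :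
    ∃ a b, a ≠ b ∧ v = e a 1 - e b 1 := by
  obtain ⟨a, b, hab, ha, hb, hv⟩ := norm2 h
  rw [hv, dot_add, dot_e, dot_e] at hd
  have := pos a; have := pos b
  have key : ∀ (x : ι), e x (-1) = - e x 1 := by intro x; funext y; simp [e_apply]; split <;> simp
  rcases ha with ha | ha <;> rcases hb with hb | hb <;> rw [ha, hb] at hd hv
  · omega
  · exact ⟨a, b, hab, by rw [hv, key, sub_eq_add_neg]⟩
  · exact ⟨b, a, hab.symm, by rw [hv, key]; abel⟩
  · omega

theorem triple {v w deg : ι → ℤ} (pos : ∀ x, 0 < deg x) (h : dot v v = 2) (hd : dot v deg = 0)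
    (h' : dot w w = 2) (hd' : dot w deg = 0) (hvw : dot v w = 1) :
    ∃ a b d s, a ≠ b ∧ a ≠ d ∧ b ≠ d ∧ Sg s ∧ v = e a s - e b s ∧ w = e a s - e d s := by
  obtain ⟨a, b, hab, rfl⟩ := diff2 pos h hd
  obtain ⟨c, d, hcd, rfl⟩ := diff2 pos h' hd'
  rw [dot_sub, dot_e, dot_e] at hvw
  simp only [Pi.sub_apply, e_apply] at hvw
  have key : ∀ (x y : ι), e x 1 - e y 1 = e y (-1) - e x (-1) := by
    intro x y; funext z; simp only [Pi.sub_apply, e_apply]; split <;> split <;> simp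
  by_cases h1 : a = c
  · subst h1
    refine ⟨a, b, d, 1, hab, hcd, ?_, Or.inl rfl, rfl, rfl⟩
    rintro rfl; simp [hab, hab.symm] at hvw
  · by_cases h2 : b = d
    · subst h2
      exact ⟨b, a, c, -1, hab.symm, hcd.symm, h1, Or.inr rfl, key _ _, key _ _⟩
    · exfalso
      simp only [h1, h2, if_false] at hvw
      split_ifs at hvw <;> omega

/-- a vector that is constant on a triple and has norm at most 3 and degree zero vanishes there -/
theorem const3 {v deg : ι → ℤ} (pos : ∀ x, 0 < deg x) (h : dot v v ≤ 3) (hd : dot v deg = 0)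
    {a b d : ι} (hab : a ≠ b) (had : a ≠ d) (hbd : b ≠ d) (h1 : v b = v a) (h2 : v d = v a) :
    v a = 0 := by
  by_contra h0
  have hs : Sg (v a) := sg_of h0 ((sq_le v a).trans h)
  have n1 := norm_cut v a
  have n2 := norm_cut (cut v a) b
  have n3 := norm_cut (cut (cut v a) b) d
  have d1 := dot_cut v deg a
  have d2 := dot_cut (cut v a) deg b
  have d3 := dot_cut (cut (cut v a) b) deg d
  rw [cut_ne _ hbd.symm, cut_ne _ had.symm, h2] at n3 d3
  rw [cut_ne _ hab.symm, h1] at n2 d2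
  have := hs.sq
  have z : cut (cut (cut v a) b) d = 0 :=
    eq_zero_of_dot (le_antisymm (by omega) (dot_nonneg _))
  rw [z] at d3
  have z0 : dot (0 : ι → ℤ) deg = 0 := by simp [dot]
  have := pos a; have := pos b; have := pos d
  rcases hs with hs | hs <;> rw [hs] at d1 d2 d3 <;> omega

/-- one triple splits off with norm 1 (first vertex) or 2 -/
theorem split3 (v : ι → ℤ) {a b d : ι} (hab : a ≠ b) (had : a ≠ d) (hbd : b ≠ d) :
    ∃ r : ι → ℤ, r a = 0 ∧ r b = 0 ∧ r d = 0 ∧ (∀ x, x ≠ a → x ≠ b → x ≠ d → r x = v x) ∧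
      v = r + e a (v a) + e b (v b) + e d (v d) ∧
      dot r r = dot v v - v a * v a - v b * v b - v d * v d := by
  refine ⟨cut (cut (cut v a) b) d, ?_, ?_, cut_self _ _, ?_, ?_, ?_⟩
  · exact cut_zero _ (cut_zero _ (cut_self _ _))
  · exact cut_zero _ (cut_self _ _)
  · intro x h1 h2 h3; rw [cut_ne _ h3, cut_ne _ h2, cut_ne _ h1]
  · have h1 := eq_cut v a
    have h2 := eq_cut (cut v a) b
    have h3 := eq_cut (cut (cut v a) b) d
    rw [cut_ne _ hbd.symm, cut_ne _ had.symm] at h3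
    rw [cut_ne _ hab.symm] at h2
    calc v = cut v a + e a (v a) := h1
      _ = cut (cut v a) b + e b (v b) + e a (v a) := by rw [← h2]
      _ = cut (cut (cut v a) b) d + e d (v d) + e b (v b) + e a (v a) := by rw [← h3]
      _ = _ := by abel
  · rw [norm_cut, norm_cut, norm_cut, cut_ne _ hbd.symm, cut_ne _ had.symm, cut_ne _ hab.symm]

theorem e_zero (a : ι) : e a 0 = 0 := by simp [e]

theorem e_neg (a : ι) (s : ℤ) : e a (-s) = - e a s := by
  funext y; simp only [e_apply, Pi.neg_apply]; split <;> simp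

/-- shape of the eight vectors -/
theorem shape {deg A1 A2 B1 B2 C D E G : ι → ℤ} (pos : ∀ x, 0 < deg x)
    (dA1 : dot A1 deg = 0) (dA2 : dot A2 deg = 0) (dB1 : dot B1 deg = 0) (dB2 : dot B2 deg = 0)
    (dC : dot C deg = 0) (dG : dot G deg = 0)
    (g00 : dot A1 A1 = 2) (g11 : dot A2 A2 = 2) (g01 : dot A1 A2 = 1)
    (g22 : dot B1 B1 = 2) (g33 : dot B2 B2 = 2) (g23 : dot B1 B2 = 1)
    (g02 : dot A1 B1 = 0) (g12 : dot A2 B1 = 0) (g03 : dot A1 B2 = 0) (g13 : dot A2 B2 = 0)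
    (g44 : dot C C = 3) (g04 : dot A1 C = 0) (g14 : dot A2 C = 0) (g24 : dot B1 C = 0)
    (g34 : dot B2 C = 0)
    (g55 : dot D D = 3) (g05 : dot A1 D = -1) (g15 : dot A2 D = -1) (g25 : dot B1 D = 1)
    (g35 : dot B2 D = 1) (g45 : dot D C = -1)
    (g66 : dot E E = 3) (g06 : dot A1 E = -1) (g16 : dot A2 E = -1) (g26 : dot B1 E = -1)
    (g36 : dot B2 E = -1) (g56 : dot D E = 0)
    (g77 : dot G G = 3) (g07 : dot A1 G = -1) (g17 : dot A2 G = -1) (g27 : dot B1 G = 0)
    (g37 : dot B2 G = 0) (g47 : dot G C = 1) (g57 : dot D G = 1) :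
    ∃ (a b p q c h x0 x1 χ : ι) (s τ γ η ξ0 ξ1 κ : ℤ), Sg s ∧ Sg τ ∧ Sg γ ∧ Sg η ∧ Sg ξ0 ∧ Sg ξ1 ∧
      Sg κ ∧ a ≠ b ∧ A1 = e a s - e b s ∧ B1 = e p τ - e q τ ∧ C = e x0 ξ0 - e x1 ξ1 + e c γ ∧
      D = e p τ - e a s - e c γ ∧ E = e h η - e a s - e p τ ∧ G = e x0 ξ0 + e χ κ - e a s ∧
      C x0 = ξ0 ∧ ∀ y, C y ≠ 0 → G y ≠ 0 → y = x0 := by
  obtain ⟨a, b, d, s, hab, had, hbd, hs, rfl, rfl⟩ := triple pos g00 dA1 g11 dA2 g01
  obtain ⟨p, q, r, τ, hpq, hpr, hqr, hτ, hB1, hB2⟩ := triple pos g22 dB1 g33 dB2 g23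
  simp only [dot_sub, dot_e] at g02 g12 g03 g13 g04 g14 g05 g15 g06 g16 g07 g17
  have hss := hs.sq
  have hττ := hτ.sq
  have cst : ∀ {x y σ : ℤ}, Sg σ → σ * x - σ * y = 0 → y = x := by
    intro x y σ hσ h; rcases hσ with rfl | rfl <;> omega
  have cst1 : ∀ {x y σ : ℤ}, Sg σ → σ * x - σ * y = -1 → y = x + σ := by
    intro x y σ hσ h; rcases hσ with rfl | rfl <;> omega
  have cst2 : ∀ {x y σ : ℤ}, Sg σ → σ * x - σ * y = 1 → y = x - σ := by
    intro x y σ hσ h; rcases hσ with rfl | rfl <;> omega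
  -- the triples are disjoint
  have z1 : B1 a = 0 := const3 pos (by omega) dB1 hab had hbd (cst hs g02) (cst hs g12)
  have z2 : B2 a = 0 := const3 pos (by omega) dB2 hab had hbd (cst hs g03) (cst hs g13)
  have z1b : B1 b = 0 := (cst hs g02).trans z1
  have z1d : B1 d = 0 := (cst hs g12).trans z1
  have z2b : B2 b = 0 := (cst hs g03).trans z2
  have z2d : B2 d = 0 := (cst hs g13).trans z2
  have hp : ∀ x, B1 x = 0 → x ≠ p := by
    rintro x hx rfl; rw [hB1, Pi.sub_apply, e_self, e_ne hpq] at hx; exact hτ.ne (by omega)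
  have hq : ∀ x, B1 x = 0 → x ≠ q := by
    rintro x hx rfl; rw [hB1, Pi.sub_apply, e_self, e_ne hpq.symm] at hx; exact hτ.ne (by omega)
  have hr : ∀ x, B2 x = 0 → x ≠ r := by
    rintro x hx rfl; rw [hB2, Pi.sub_apply, e_self, e_ne hpr.symm] at hx; exact hτ.ne (by omega)
  have hap := hp a z1; have hbp := hp b z1b; have hdp := hp d z1d
  have haq := hq a z1; have hbq := hq b z1b; have hdq := hq d z1d
  have har := hr a z2; have hbr := hr b z2b; have hdr := hr d z2d
  clear hp hq hr z1 z2 z1b z1d z2b z2d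
  subst hB1 hB2
  simp only [dot_sub, dot_e] at g24 g34 g25 g35 g26 g36 g27 g37
  -- C vanishes on both
  have Ca : C a = 0 := const3 pos (by omega) dC hab had hbd (cst hs g04) (cst hs g14)
  have Cb : C b = 0 := (cst hs g04).trans Ca
  have Cd : C d = 0 := (cst hs g14).trans Ca
  have Cp : C p = 0 := const3 pos (by omega) dC hpq hpr hqr (cst hτ g24) (cst hτ g34)
  have Cq : C q = 0 := (cst hτ g24).trans Cp
  have Cr : C r = 0 := (cst hτ g34).trans Cp
  -- splitting off six coordinates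
  have six : ∀ v : ι → ℤ, ∃ w : ι → ℤ, w a = 0 ∧ w p = 0 ∧
      v = w + e p (v p) + e q (v q) + e r (v r) + e a (v a) + e b (v b) + e d (v d) ∧
      dot w w = dot v v - v a * v a - v b * v b - v d * v d - v p * v p - v q * v q - v r * v r := by
    intro v
    obtain ⟨w1, h1, h2, h3, h4, h5, h6⟩ := split3 v hab had hbd
    obtain ⟨w2, k1, k2, k3, k4, k5, k6⟩ := split3 w1 hpq hpr hqr
    rw [h4 p hap.symm hbp.symm hdp.symm, h4 q haq.symm hbq.symm hdq.symm,
      h4 r har.symm hbr.symm hdr.symm] at k5 k6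
    refine ⟨w2, by rw [k4 a hap haq har, h1], k1, ?_, by rw [k6, h6]⟩
    rw [← k5]; exact h5
  have small : ∀ x σ : ℤ, Sg σ → 1 ≤ x * x + (x + σ) * (x + σ) + (x + σ) * (x + σ) ∧
      (x * x + (x + σ) * (x + σ) + (x + σ) * (x + σ) ≤ 2 → x = -σ ∨ x = 0) := by
    intro x σ hσ
    rcases hσ with rfl | rfl
    · constructor
      · rcases le_or_gt 0 x with h | h
        · nlinarith
        · nlinarith
      · intro h
        have : x ≤ 0 := by nlinarith
        have : -1 ≤ x := by nlinarith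
        omega
    · constructor
      · rcases le_or_gt x 0 with h | h
        · nlinarith
        · nlinarith
      · intro h
        have : x ≤ 1 := by nlinarith
        have : 0 ≤ x := by nlinarith
        omega
  -- D
  obtain ⟨wD, wDa, wDp, hD, nD⟩ := six D
  have Db := cst1 hs g05; have Dd := cst1 hs g15
  have Dq := cst2 hτ g25; have Dr := cst2 hτ g35
  have wDC : dot wD C = -1 := by
    rw [hD] at g45; simpa [dot_add, dot_e, Ca, Cb, Cd, Cp, Cq, Cr] using g45
  have nD1 : 1 ≤ dot wD wD := by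
    by_contra hh
    have := eq_zero_of_dot (le_antisymm (by omega) (dot_nonneg wD))
    rw [this] at wDC; simp [dot] at wDC
  obtain ⟨sD1, sD2⟩ := small (D a) s hs
  obtain ⟨sD3, sD4⟩ := small (D p) (-τ) hτ.neg
  rw [Db, Dd, Dq, Dr, g55] at nD
  simp only [← sub_eq_add_neg] at sD3 sD4
  have Da : D a = -s := by
    rcases sD2 (by omega) with h | h
    · exact h
    · exfalso; rw [h] at nD; simp only [zero_add, mul_zero] at nD; omega
  have Dp : D p = τ := by
    rcases sD4 (by omega) with h | h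
    · omega
    · exfalso; rw [h, Da] at nD; simp only [zero_sub, mul_zero, neg_mul_neg, neg_add_cancel] at nD
      omega
  rw [Da, Dp] at nD
  simp only [neg_add_cancel, sub_self, neg_mul_neg, mul_zero] at nD
  obtain ⟨c, hc, hwD⟩ := norm1 (v := wD) (by omega)
  rw [hwD, dot_e] at wDC
  have hγ : Sg (C c) := by rcases hc with hc | hc <;> rw [hc] at wDC <;> unfold Sg <;> omega
  have hwc : wD c = -C c := by rcases hc with hc | hc <;> rw [hc] at wDC ⊢ <;> omega
  have hD' : D = e p τ - e a s - e c (C c) := by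
    rw [hD, Db, Dd, Dq, Dr, Da, Dp, hwD, hwc]
    simp only [neg_add_cancel, sub_self, e_zero, e_neg]; abel
  have hca : c ≠ a := by rintro rfl; exact hγ.ne Ca
  have hcp : c ≠ p := by rintro rfl; exact hγ.ne Cp
  -- E
  obtain ⟨wE, wEa, wEp, hE, nE⟩ := six E
  have Eb := cst1 hs g06; have Ed := cst1 hs g16
  have Eq' := cst1 hτ g26; have Er := cst1 hτ g36
  obtain ⟨sE1, sE2⟩ := small (E a) s hs
  obtain ⟨sE3, sE4⟩ := small (E p) τ hτ
  rw [Eb, Ed, Eq', Er, g66] at nE
  have nE0 := dot_nonneg wE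
  rw [hD', dot_sub, dot_sub, dot_e, dot_e, dot_e] at g56 g57
  have hcb : c ≠ b := by rintro rfl; exact hγ.ne Cb
  have hcd : c ≠ d := by rintro rfl; exact hγ.ne Cd
  have hcq : c ≠ q := by rintro rfl; exact hγ.ne Cq
  have hcr : c ≠ r := by rintro rfl; exact hγ.ne Cr
  have wc : ∀ (v w : ι → ℤ),
      v = w + e p (v p) + e q (v q) + e r (v r) + e a (v a) + e b (v b) + e d (v d) → v c = w c := by
    intro v w h
    have := congrFun h c
    simpa [e_ne hca, e_ne hcb, e_ne hcd, e_ne hcp, e_ne hcq, e_ne hcr] using this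
  have Ea : E a = -s ∧ E p = -τ := by
    rcases sE2 (by omega) with h | h <;> rcases sE4 (by omega) with h' | h'
    · exact ⟨h, h'⟩
    · exfalso
      rw [h, h'] at nE g56
      simp only [zero_add, mul_zero, neg_mul_neg, neg_add_cancel] at nE
      have z := eq_zero_of_dot (le_antisymm (by omega) nE0)
      rw [wc _ _ hE, z] at g56; simp [hs.ne] at g56
    · exfalso
      rw [h, h'] at nE g56
      simp only [zero_add, mul_zero, neg_mul_neg, neg_add_cancel] at nE
      have z := eq_zero_of_dot (le_antisymm (by omega) nE0)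
      rw [wc _ _ hE, z] at g56; simp [hτ.ne] at g56
    · exfalso
      rw [h, h'] at nE
      simp only [zero_add, mul_zero] at nE; omega
  rw [Ea.1, Ea.2] at nE
  simp only [neg_add_cancel, neg_mul_neg, mul_zero] at nE
  obtain ⟨h, hη, hwE⟩ := norm1 (v := wE) (by omega)
  have hE' : E = e h (wE h) - e a s - e p τ := by
    rw [hE, Eb, Ed, Eq', Er, Ea.1, Ea.2, ← hwE]
    simp only [neg_add_cancel, e_zero, e_neg]; abel
  -- G
  have Gp : G p = 0 := const3 pos (by omega) dG hpq hpr hqr (cst hτ g27) (cst hτ g37)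
  have Gq : G q = 0 := (cst hτ g27).trans Gp
  have Gr : G r = 0 := (cst hτ g37).trans Gp
  obtain ⟨wG, wGa, wGp, hG, nG⟩ := six G
  have Gb := cst1 hs g07; have Gd := cst1 hs g17
  obtain ⟨sG1, sG2⟩ := small (G a) s hs
  rw [Gb, Gd, Gp, Gq, Gr, g77] at nG
  have wGC : dot wG C = 1 := by
    rw [hG] at g47; simpa [dot_add, dot_e, Ca, Cb, Cd, Cp, Cq, Cr] using g47
  have nG1 : 1 ≤ dot wG wG := by
    by_contra hh
    have := eq_zero_of_dot (le_antisymm (by omega) (dot_nonneg wG))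
    rw [this] at wGC; simp [dot] at wGC
  have hγγ := hγ.sq
  have Ga : G a = -s := by
    rcases sG2 (by omega) with h | h
    · exact h
    · exfalso
      rw [h] at nG g57
      simp only [zero_add, mul_zero] at nG
      obtain ⟨y, hy, hwG⟩ := norm1 (v := wG) (by omega)
      rw [Gp, wc _ _ hG] at g57
      rw [hwG, dot_e] at wGC
      by_cases hyc : c = y
      · subst hyc; simp at g57; nlinarith
      · rw [hwG, e_ne hyc] at g57; simp at g57
  rw [Ga] at nG g57
  simp only [neg_add_cancel, neg_mul_neg, mul_zero] at nG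
  have Gc : wG c = 0 := by
    rw [Gp, wc _ _ hG] at g57
    have : C c * wG c = 0 := by linarith
    exact (mul_eq_zero.1 this).resolve_left hγ.ne
  obtain ⟨y1, y2, h12, hy1, hy2, hwG⟩ := norm2 (v := wG) (by omega)
  have hG' : G = wG - e a s := by
    rw [hG, Gb, Gd, Gp, Gq, Gr, Ga]
    simp only [neg_add_cancel, e_zero, e_neg]; abel
  have sC : ∀ y, C y = 0 ∨ Sg (C y) := fun y => by
    by_cases h : C y = 0
    · exact Or.inl h
    · exact Or.inr (sg_of h ((sq_le C y).trans g44.le))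
  have main : ∀ x0 χ : ι, x0 ≠ χ → Sg (wG x0) → Sg (wG χ) → wG = e x0 (wG x0) + e χ (wG χ) →
      C x0 = wG x0 → C χ = 0 →
      ∃ (a' b' p' q' c h x0 x1 χ : ι) (s' τ' γ η ξ0 ξ1 κ : ℤ), Sg s' ∧ Sg τ' ∧ Sg γ ∧ Sg η ∧ Sg ξ0 ∧
      Sg ξ1 ∧ Sg κ ∧ a' ≠ b' ∧ e a s - e b s = e a' s' - e b' s' ∧
      e p τ - e q τ = e p' τ' - e q' τ' ∧ C = e x0 ξ0 - e x1 ξ1 + e c γ ∧
      D = e p' τ' - e a' s' - e c γ ∧ E = e h η - e a' s' - e p' τ' ∧
      G = e x0 ξ0 + e χ κ - e a' s' ∧ C x0 = ξ0 ∧ ∀ y, C y ≠ 0 → G y ≠ 0 → y = x0 := by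
    intro x0 χ hne h1 h2 h3 h4 h5
    have hx0c : x0 ≠ c := by rintro rfl; exact h1.ne Gc
    have n1 := norm_cut C c
    have n2 := norm_cut (cut C c) x0
    rw [cut_ne _ hx0c, h4] at n2
    have := h1.sq
    obtain ⟨x1, hx1, hw⟩ := norm1 (v := cut (cut C c) x0) (by omega)
    refine ⟨a, b, p, q, c, h, x0, x1, χ, s, τ, C c, wE h, wG x0, -(cut (cut C c) x0 x1), wG χ,
      hs, hτ, hγ, hη, h1, hx1.neg, h2, hab, rfl, rfl, ?_, hD', hE', by rw [hG', ← h3], h4, ?_⟩
    · have e1 := eq_cut C c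
      have e2 := eq_cut (cut C c) x0
      rw [cut_ne _ hx0c, h4] at e2
      rw [e_neg, ← hw]
      calc C = cut C c + e c (C c) := e1
        _ = cut (cut C c) x0 + e x0 (wG x0) + e c (C c) := by rw [← e2]
        _ = _ := by abel
    · intro y hy hy'
      by_contra hne'
      apply hy'
      have hya : y ≠ a := by rintro rfl; exact hy Ca
      have hyχ : y ≠ χ := by rintro rfl; exact hy h5
      rw [hG', h3]; simp [e_ne hya, e_ne hyχ, e_ne hne']
  rw [hwG, dot_add, dot_e, dot_e] at wGC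
  rcases sC y1 with c1 | c1 <;> rcases sC y2 with c2 | c2
  · rw [c1, c2] at wGC; simp at wGC
  · refine main y2 y1 h12.symm hy2 hy1 (by rw [add_comm]; exact hwG) ?_ c1
    rw [c1] at wGC
    rcases hy2 with k | k <;> rw [k] at wGC ⊢ <;> omega
  · refine main y1 y2 h12 hy1 hy2 hwG ?_ c2
    rw [c2] at wGC
    rcases hy1 with k | k <;> rw [k] at wGC ⊢ <;> omega
  · exfalso
    rcases hy1 with k | k <;> rcases hy2 with k' | k' <;> rcases c1 with l | l <;>
      rcases c2 with l' | l' <;> rw [k, k', l, l'] at wGC <;> omega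

end H0.WL
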