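import Mathlib
import Cfsg.Agent.H16.PGamma

/-! Facts on `PGL₂(q)`, `q` odd, acting on the projective line. -/

set_option autoImplicit false
set_option linter.unusedSectionVars false

namespace H0.WM

open MulAction Matrix OnePoint H16
open scoped MatrixGroups

variable {F : Type} [Field F] [Finite F] [DecidableEq F]

instance factChar : Fact (ringChar F).Prime := ⟨CharP.char_is_prime F (ringChar F)⟩

theorem LA : LineAct (ringChar F) (AlgebraicClosure F) PGL(2, F) (PLine F) := lineAct_PLine _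

theorem rat_fix {g : PGL(2, F)} {x : OnePoint F} : g • PLine.rat x = PLine.rat x ↔ g • x = x := by
  rw [PLine.smul_rat, PLine.rat_injective.eq_iff]

/-- root group -/
noncomputable def Ux (x : OnePoint F) : Subgroup PGL(2, F) := LA.U (PLine.rat x)

theorem mem_Ux {x : OnePoint F} {g : PGL(2, F)} : g ∈ Ux x ↔ g • x = x ∧ g ^ ringChar F = 1 := by
  rw [Ux, LineAct.mem_U, rat_fix]

theorem conj_mem_Ux {x : OnePoint F} {g : PGL(2, F)} (c : PGL(2, F)) (h : g ∈ Ux x) :
    c * g * c⁻¹ ∈ Ux (c • x) := by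
  rw [Ux, ← PLine.smul_rat]; exact LA.conj_mem_U c h

theorem transl_mem (b : F) : transl b ∈ Ux (∞ : OnePoint F) :=
  mem_Ux.2 ⟨transl_smul_infty b, transl_pow_char _ b⟩

theorem mem_Ux_std {c g : PGL(2, F)} : g ∈ Ux (c • (∞ : OnePoint F)) ↔
    ∃ b, g = c * transl b * c⁻¹ := by
  refine ⟨fun h => ?_, by rintro ⟨b, rfl⟩; exact conj_mem_Ux c (transl_mem b)⟩
  have h1 := conj_mem_Ux c⁻¹ h
  rw [inv_smul_smul, mem_Ux] at h1
  obtain ⟨b, hb⟩ := exists_transl_of_unip _ _ h1.1 h1.2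
  exact ⟨b, by rw [← hb]; group⟩

theorem exists_std1 (x : OnePoint F) : ∃ c : PGL(2, F), c • (∞ : OnePoint F) = x := by
  obtain ⟨g, hg⟩ := exists_gl2_one x
  exact ⟨ProjGenLinGroup.mk g, hg⟩

theorem exists_std {x y : OnePoint F} (h : x ≠ y) :
    ∃ c : PGL(2, F), c • (∞ : OnePoint F) = x ∧ c • ((0 : F) : OnePoint F) = y := by
  obtain ⟨c, rfl⟩ := exists_std1 x
  obtain ⟨y, rfl⟩ : ∃ z, c • z = y := ⟨c⁻¹ • y, smul_inv_smul c y⟩
  cases y with
  | infty => exact absurd rfl h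
  | coe t => exact ⟨c * transl t, by rw [mul_smul, transl_smul_infty],
      by rw [mul_smul, transl_smul_coe, zero_add]⟩

theorem two_trans {x y x' y' : OnePoint F} (h : x ≠ y) (h' : x' ≠ y') :
    ∃ g : PGL(2, F), g • x = x' ∧ g • y = y' := by
  obtain ⟨c, rfl, rfl⟩ := exists_std h
  obtain ⟨d, rfl, rfl⟩ := exists_std h'
  exact ⟨d * c⁻¹, by simp [mul_smul], by simp [mul_smul]⟩

theorem card_Ux (x : OnePoint F) : Nat.card (Ux x) = Nat.card F := by
  obtain ⟨c, rfl⟩ := exists_std1 x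
  symm
  refine Nat.card_eq_of_bijective (fun b => ⟨_, mem_Ux_std.2 ⟨b, rfl⟩⟩) ⟨fun a b h => ?_, ?_⟩
  · exact transl_injective (by simpa using congrArg Subtype.val h)
  · rintro ⟨g, hg⟩
    obtain ⟨b, rfl⟩ := mem_Ux_std.1 hg
    exact ⟨b, rfl⟩

theorem Ux_fix {x y : OnePoint F} {g : PGL(2, F)} (hg : g ∈ Ux x) (h1 : g ≠ 1) (hy : g • y = y) :
    y = x :=
  PLine.rat_injective (LA.unip g _ _ hg.2 h1 hg.1 (rat_fix.2 hy))

theorem Ux_trans {x y z : OnePoint F} (hy : y ≠ x) (hz : z ≠ x) : ∃ u ∈ Ux x, u • y = z := by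
  obtain ⟨c, rfl⟩ := exists_std1 x
  obtain ⟨y, rfl⟩ : ∃ w, c • w = y := ⟨c⁻¹ • y, smul_inv_smul c y⟩
  obtain ⟨z, rfl⟩ : ∃ w, c • w = z := ⟨c⁻¹ • z, smul_inv_smul c z⟩
  cases y with
  | infty => exact absurd rfl hy
  | coe s =>
  cases z with
  | infty => exact absurd rfl hz
  | coe t => exact ⟨_, mem_Ux_std.2 ⟨t - s, rfl⟩, by simp [mul_smul, transl_smul_coe]⟩

theorem sq_mem_PB (g : PGL(2, F)) : g * g ∈ PB F := by
  by_cases h : g ∈ PB F
  exacts [mul_mem h h, mul_mem_PB h h]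

theorem mem_PB_of_odd {g : PGL(2, F)} {k : ℕ} (hk : Odd k) (h : g ^ k = 1) : g ∈ PB F := by
  obtain ⟨k, rfl⟩ := hk
  have : g = ((g * g) ^ k)⁻¹ := by
    rw [eq_inv_iff_mul_eq_one, ← sq, ← pow_mul, ← pow_succ', h]
  rw [this]
  exact inv_mem (pow_mem (sq_mem_PB g) k)

instance normal_PB : (PB F).Normal := ⟨fun _ hy c => conj_mem_PB c hy⟩

/-- lower unitriangular element -/
noncomputable def low (d : F) : PGL(2, F) := ProjGenLinGroup.mk (gl2 1 0 d 1 (by simp))

theorem low_mem (d : F) : low d ∈ Ux ((0 : F) : OnePoint F) := by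
  let w : PGL(2, F) := ProjGenLinGroup.mk (gl2 0 1 1 0 (by simp))
  have h1 : w • (∞ : OnePoint F) = ((0 : F) : OnePoint F) := by
    simp [w, pgl_mk_smul, smul_infty_eq_ite]
  rw [← h1, mem_Ux_std]
  refine ⟨d, ?_⟩
  rw [eq_mul_inv_iff_mul_eq, low, transl, ← map_mul, ← map_mul]
  congr 1
  ext i j
  fin_cases i <;> fin_cases j <;> simp [mul_apply, Fin.sum_univ_two]

variable (h2 : (2 : F) ≠ 0)
include h2

theorem odd_char : Odd (ringChar F) :=
  (Fact.out : (ringChar F).Prime).odd_of_ne_two (ringChar_ne_two h2)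

theorem Ux_le (x : OnePoint F) : Ux x ≤ PB F := fun _ hg => mem_PB_of_odd (odd_char h2) hg.2

theorem Ux_sup {x y : OnePoint F} (h : x ≠ y) : Ux x ⊔ Ux y = PB F := by
  refine le_antisymm (sup_le (Ux_le h2 x) (Ux_le h2 y)) fun g hg => ?_
  obtain ⟨c, rfl, rfl⟩ := exists_std h
  have key : ∀ k : SL(2, F), c * ProjectiveSpecialLinearGroup.toPGL (k : PSL(2, F)) * c⁻¹ ∈
      Ux (c • (∞ : OnePoint F)) ⊔ Ux (c • ((0 : F) : OnePoint F)) := by
    refine Matrix.SL2.transvection_induction _ (fun i j hij a => ?_) fun A B hA hB => ?_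
    · fin_cases i <;> fin_cases j
      · exact absurd rfl hij
      · refine Subgroup.mem_sup_left (mem_Ux_std.2 ⟨a, ?_⟩)
        rw [ProjectiveSpecialLinearGroup.toPGL_mk, transl]
        congr 3
        ext i j
        fin_cases i <;> fin_cases j <;>
          simp [SpecialLinearGroup.transvection, Matrix.transvection, SpecialLinearGroup.toGL]
      · refine Subgroup.mem_sup_right ?_
        convert conj_mem_Ux c (low_mem a) using 3
        rw [ProjectiveSpecialLinearGroup.toPGL_mk, low]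
        congr 1
        ext i j
        fin_cases i <;> fin_cases j <;>
          simp [SpecialLinearGroup.transvection, Matrix.transvection, SpecialLinearGroup.toGL]
      · exact absurd rfl hij
    · have := mul_mem hA hB
      rw [QuotientGroup.mk_mul, map_mul]
      convert this using 1; group
  obtain ⟨k, hk⟩ := conj_mem_PB c⁻¹ hg
  induction k using QuotientGroup.induction_on with | H k =>
  have := key k
  rw [hk] at this
  convert this using 1; group

omit h2 in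
theorem braid_std {b : F} (hb : b ≠ 0) :
    transl b * low (-b⁻¹) * transl b = ProjGenLinGroup.mk (gl2 0 b (-b⁻¹) 0 (by simp [hb])) ∧
    low (-b⁻¹) * transl b * low (-b⁻¹) = ProjGenLinGroup.mk (gl2 0 b (-b⁻¹) 0 (by simp [hb])) := by
  constructor <;> rw [low, transl, ← map_mul, ← map_mul] <;> congr 1 <;> ext i j <;>
    fin_cases i <;> fin_cases j <;> simp [mul_apply, Fin.sum_univ_two, hb]

omit h2 in
theorem braid {a b : OnePoint F} (h : a ≠ b) {x : PGL(2, F)} (hx : x ∈ Ux a) (h1 : x ≠ 1) :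
    ∃ y ∈ Ux b, y ≠ 1 ∧ x * y * x = y * x * y ∧ x * y * x * (x * y * x) = 1 ∧
      (x * y * x) • a = b := by
  obtain ⟨c, rfl, rfl⟩ := exists_std h
  obtain ⟨t, rfl⟩ := mem_Ux_std.1 hx
  have ht : t ≠ 0 := by rintro rfl; simp [transl_zero] at h1
  obtain ⟨e1, e2⟩ := braid_std ht
  have e3 : c * transl t * c⁻¹ * (c * low (-t⁻¹) * c⁻¹) * (c * transl t * c⁻¹) =
      c * (transl t * low (-t⁻¹) * transl t) * c⁻¹ := by group
  refine ⟨_, conj_mem_Ux c (low_mem (-t⁻¹)), ?_, ?_, ?_, ?_⟩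
  · rw [Ne, conj_eq_one_iff, low, pgl2_mk_eq_one_iff]; simp [ht]
  · rw [e3, e1, ← e2]; group
  · rw [e3, e1, conj_mul, mk_mul_self (by simp)]; simp
  · rw [e3, e1, mul_smul, mul_smul, inv_smul_smul]
    simp [pgl_mk_smul, smul_infty_eq_ite, ht]

theorem card_fix_mk {g : GL (Fin 2) F} (hg : g 1 1 = -g 0 0) :
    Nat.card (fixedBy (OnePoint F) (ProjGenLinGroup.mk g)) =
      Nat.card {a : F // a ^ 2 = -g.1.det} := by
  have hd : -g.1.det = g 0 0 ^ 2 + g 0 1 * g 1 0 := by rw [det_fin_two]; simp [hg]; ring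
  have hf : ∀ t : F, g • (t : OnePoint F) = t ↔ g 1 0 * t ^ 2 - 2 * g 0 0 * t - g 0 1 = 0 := by
    intro t
    rw [← GeneralLinearGroup.fixpointPolynomial_aeval_eq_zero_iff]
    simp only [GeneralLinearGroup.fixpointPolynomial, hg]
    simp
    constructor <;> intro h <;> linear_combination h
  by_cases h : g 1 0 = 0
  · have h0 : g 0 0 ≠ 0 := (upper_ne_zero g h).1
    rw [(card_sq_eq h2 (neg_ne_zero.2 g.det_ne_zero)).1 ⟨g 0 0, by rw [hd, h]; ring⟩]
    have : fixedBy (OnePoint F) (ProjGenLinGroup.mk g) =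
        {∞, ((-g 0 1 / (2 * g 0 0) : F) : OnePoint F)} := by
      ext x
      rw [mem_fixedBy, pgl_mk_smul]
      cases x with
      | infty => simp [smul_infty_eq_self_iff, h]
      | coe t =>
        rw [hf, h]
        simp only [Set.mem_insert_iff, coe_ne_infty, Set.mem_singleton_iff, coe_eq_coe, false_or]
        rw [eq_div_iff (mul_ne_zero h2 h0)]
        constructor <;> intro h <;> linear_combination -h
    rw [this, Nat.card_coe_set_eq, Set.ncard_pair (infty_ne_coe _)]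
  · symm
    refine Nat.card_eq_of_bijective (fun a => ⟨((a.1 + g 0 0) / g 1 0 : F), ?_⟩) ⟨?_, ?_⟩
    · rw [mem_fixedBy, pgl_mk_smul, hf]
      have := a.2.trans hd
      field_simp
      linear_combination this
    · intro a b e
      have := congrArg Subtype.val e
      simp only [coe_eq_coe] at this
      exact Subtype.ext (add_right_cancel ((div_left_inj' h).1 this))
    · rintro ⟨x, hx⟩
      rw [mem_fixedBy, pgl_mk_smul] at hx
      cases x with
      | infty => exact absurd (smul_infty_eq_self_iff.1 hx) h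
      | coe t =>
        rw [hf] at hx
        refine ⟨⟨g 1 0 * t - g 0 0, by rw [hd]; linear_combination g 1 0 * hx⟩, Subtype.ext ?_⟩
        simp [h]

theorem card_fix {ω : PGL(2, F)} (h1 : ω * ω = 1) (h0 : ω ≠ 1) :
    Nat.card (tor (PLine F) ω) + Nat.card (fixedBy (OnePoint F) ω) = Nat.card F + 1 ∧
    ((IsSquare (-1 : F) ↔ ω ∈ PB F) → Nat.card (fixedBy (OnePoint F) ω) = 2) ∧
    (¬ (IsSquare (-1 : F) ↔ ω ∈ PB F) → Nat.card (fixedBy (OnePoint F) ω) = 0) := by
  obtain ⟨g, rfl, hg⟩ := exists_traceless h1 h0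
  rw [card_fix_mk h2 hg, mem_PB]
  obtain ⟨h6, h7⟩ := card_sq_eq h2 (neg_ne_zero.2 g.det_ne_zero)
  have a := fun (a : IsSquare (-1 : F)) (b : IsSquare g.1.det) => a.mul b
  have b := isSquare_mul_of_not (a := -1) (b := g.1.det)
  have c := fun (a : IsSquare (-1 : F)) (b : IsSquare (-g.1.det)) => a.mul b
  have d := fun (a : IsSquare (-g.1.det)) (b : IsSquare g.1.det) => a.div b
  simp only [neg_mul, one_mul, neg_neg, neg_div, div_self g.det_ne_zero] at a b c d
  exact ⟨card_tor hg h2, fun h => h6 (by tauto), fun h => h7 (by tauto)⟩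

theorem index_PB : (PB F).index = 2 := by
  obtain ⟨y, -, hy⟩ := exists_tor_not_PB (g := gl2 (0 : F) 1 1 0 (by simp)) (by simp) h2
  refine Subgroup.index_eq_two_iff.2 ⟨y, fun b => ?_⟩
  by_cases hb : b ∈ PB F
  · exact Or.inr ⟨hb, fun h => hy ((Subgroup.mul_mem_cancel_left _ hb).1 h)⟩
  · exact Or.inl ⟨mul_mem_PB hb hy, hb⟩

theorem exists_four : ∃ a ∈ PB F, ∃ b ∈ PB F, a * a = 1 ∧ b * b = 1 ∧ a * b = b * a ∧ a ≠ 1 ∧
    b ≠ 1 ∧ a ≠ b := by
  have hg : (gl2 (0 : F) (-1) 1 0 (by simp)) 1 1 = -(gl2 (0 : F) (-1) 1 0 (by simp)) 0 0 := by simp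
  have h1 := mk_mul_self hg
  have h0 := mk_ne_one hg h2
  obtain ⟨s, h3, h4, h5⟩ := exists_swap h2 h1 h0
  refine ⟨_, (mem_PB _).2 ⟨1, by simp [det_fin_two]⟩, s, h3, h1,
    LA.tor_sq (inv_pow_ne h2 h1 h0) h4 h5, h4.symm, h0, ?_, ?_⟩
  · rintro rfl; exact h5 (one_mem _)
  · rintro rfl; exact h5 self_mem_tor

omit h2 in
/-- an odd order `p'`-subgroup is cyclic -/
theorem cyc_of_odd (X : Subgroup PGL(2, F)) (ho : Odd (Nat.card X))
    (hp : ¬ ringChar F ∣ Nat.card X) : IsCyclic X := by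
  obtain ⟨x, hx⟩ := (LA.subgroup X).fixed_of_odd ho
  obtain ⟨χ, hχ⟩ := (LA (F := F)).chi x
  let f : X →* stabilizer PGL(2, F) x := X.subtype.codRestrict _ hx
  refine isCyclic_of_injective_ringHom ((Units.coeHom _).comp (χ.comp f))
    ((injective_iff_map_eq_one _).2 fun g hg => ?_)
  have h1 : (g : PGL(2, F)) ^ ringChar F = 1 := (hχ (f g)).1 (Units.ext hg)
  by_contra h
  refine hp ?_
  rw [← orderOf_eq_prime (x := g) (Subtype.ext h1) h]
  exact orderOf_dvd_natCard g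

omit h2 in
theorem le_Ux (X : Subgroup PGL(2, F)) (hX : IsPGroup (ringChar F) X) (h : X ≠ ⊥) :
    ∃ x, X ≤ Ux x := by
  obtain ⟨y, hy⟩ := LA.exists_fixed_of_isPGroup X hX h
  obtain ⟨⟨g, hg⟩, h1⟩ := Subgroup.ne_bot_iff_exists_ne_one.1 h
  obtain ⟨x, rfl⟩ := PLine.rat_of_unip _ g (hy hg).2 (fun e => h1 (Subtype.ext e)) y (hy hg).1
  exact ⟨x, hy⟩

omit h2 in
/-- a semisimple element fixing a rational point fixes a second one -/
theorem second_fix {a : OnePoint F} {g : PGL(2, F)} (hg : g • a = a) (hp : g ^ ringChar F ≠ 1) :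
    ∃ b, b ≠ a ∧ g • b = b := by
  obtain ⟨c, rfl⟩ := exists_std1 a
  obtain ⟨t, u, e⟩ := exists_transl_mul_dil (c⁻¹ * g * c) (by
    rw [mul_smul, mul_smul, hg, inv_smul_smul])
  have hu : (u : F) ≠ 1 := fun h => hp (by
    rw [(dil_eq_one_iff u).2 (Units.ext h), mul_one] at e
    have : g = c * transl t * c⁻¹ := by rw [← e]; group
    rw [this, conj_pow, transl_pow_char]; simp)
  refine ⟨c • ((t / (1 - u) : F) : OnePoint F), fun h => coe_ne_infty _ (smul_left_cancel c h), ?_⟩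
  have : g = c * (transl t * dil u) * c⁻¹ := by rw [← e]; group
  rw [this, mul_smul, mul_smul, inv_smul_smul, mul_smul, dil_smul_coe, transl_smul_coe]
  congr 2
  have : (1 : F) - u ≠ 0 := sub_ne_zero.2 hu.symm
  field_simp
  ring

omit h2 in
theorem alt_four (k : ℕ) : ∃ a b : alternatingGroup (Fin (k + 4)), a * a = 1 ∧ b * b = 1 ∧
    a * b = b * a ∧ a ≠ 1 ∧ b ≠ 1 ∧ a ≠ b := by
  let f : alternatingGroup (Fin 4) →* alternatingGroup (Fin (k + 4)) :=
    ((Equiv.Perm.viaEmbeddingHom (Fin.natAddEmb k)).comp (Subgroup.subtype _)).codRestrict _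
      fun g => by
        rw [Equiv.Perm.mem_alternatingGroup]
        simp only [MonoidHom.comp_apply, Equiv.Perm.viaEmbeddingHom_apply, Equiv.Perm.viaEmbedding,
          Equiv.Perm.sign_extendDomain]
        exact g.2
  have hf : Function.Injective f := fun a b e =>
    Subtype.ext (Equiv.Perm.viaEmbeddingHom_injective _ (congrArg Subtype.val e))
  obtain ⟨a, b, k⟩ : ∃ a b : alternatingGroup (Fin 4), a * a = 1 ∧ b * b = 1 ∧
      a * b = b * a ∧ a ≠ 1 ∧ b ≠ 1 ∧ a ≠ b := by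
    have h1 : (Equiv.swap 0 1 * Equiv.swap 2 3 : Equiv.Perm (Fin 4)) ∈ alternatingGroup (Fin 4) :=
      Equiv.Perm.mem_alternatingGroup.2 (by decide)
    have h3 : (Equiv.swap 0 2 * Equiv.swap 1 3 : Equiv.Perm (Fin 4)) ∈ alternatingGroup (Fin 4) :=
      Equiv.Perm.mem_alternatingGroup.2 (by decide)
    refine ⟨⟨_, h1⟩, ⟨_, h3⟩, ?_⟩
    simp only [Ne, Subtype.ext_iff, Subgroup.coe_mul, Subgroup.coe_one]
    decide
  refine ⟨f a, f b, ?_⟩
  simpa only [← map_mul, Ne, hf.eq_iff, map_eq_one_iff _ hf] using k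

/-- few involutions in the absence of four-groups -/
theorem ncard_invol (J : Subgroup PSL(2, F))
    (h : ∀ a ∈ J, ∀ b ∈ J, a * a = 1 → b * b = 1 → a * b = b * a → a = 1 ∨ b = 1 ∨ a = b) :
    {t : J | t * t = 1 ∧ t ≠ 1}.ncard ≤ Nat.card F := by
  have := Fintype.ofFinite F
  have no : ∀ {Y : Type} [Group Y], (∃ a b : Y, a * a = 1 ∧ b * b = 1 ∧ a * b = b * a ∧ a ≠ 1 ∧
      b ≠ 1 ∧ a ≠ b) → ¬ Nonempty (J ≃* Y) := by
    rintro Y _ ⟨a, b, h1, h3, h4, h5, h6, h7⟩ ⟨e⟩
    rcases h _ (e.symm a).2 _ (e.symm b).2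
      (by rw [← Subgroup.coe_mul, ← map_mul, h1]; simp)
      (by rw [← Subgroup.coe_mul, ← map_mul, h3]; simp)
      (by rw [← Subgroup.coe_mul, ← Subgroup.coe_mul, ← map_mul, ← map_mul, h4]) with k | k | k
    · exact h5 (by simpa using k)
    · exact h6 (by simpa using k)
    · exact h7 (e.symm.injective (Subtype.ext k))
  have hq : Odd (Nat.card F) := by
    rw [Nat.card_eq_fintype_card, Nat.odd_iff]
    exact FiniteField.odd_card_of_char_ne_two (ringChar_ne_two h2)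
  have small : Nat.card J ≤ Nat.card F + 1 → {t : J | t * t = 1 ∧ t ≠ 1}.ncard ≤ Nat.card F := by
    intro hJ
    have h1 : {t : J | t * t = 1 ∧ t ≠ 1} ⊂ Set.univ :=
      Set.ssubset_univ_iff.2 fun e => (e.ge (Set.mem_univ 1)).2 rfl
    have := Set.ncard_lt_ncard h1
    rw [Set.ncard_univ] at this
    omega
  have h1 : 1 < Nat.card F := Finite.one_lt_card
  rcases dickson_psl (ringChar F) (q := Nat.card F) Nat.card_eq_fintype_card.symm J with
    ⟨k, hk, hJ⟩ | ⟨x, hx⟩ | e | e | e | ⟨L, -, e⟩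
  · have h3 : Nat.gcd 2 (Nat.card F - 1) = 2 := by
      obtain ⟨m, hm⟩ := hq
      rw [hm]; simp
    rw [h3] at hk
    have h4 : 2 * k ≤ Nat.card F + 1 := by
      obtain ⟨m, hm⟩ := hq
      rcases hk with hk | hk <;> have := Nat.le_of_dvd (by omega) hk <;> omega
    refine small ?_
    rcases hJ with ⟨-, hJ⟩ | ⟨⟨e⟩⟩
    · omega
    · rw [Nat.card_congr e.toEquiv, DihedralGroup.nat_card]; exact h4
  · have L := (lineAct_PSL (F := F) (ringChar F)).subgroup J
    have h3 := L.ncard_inv_fix (ringChar_ne_two h2) (PLine.rat x)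
    have h4 : {t : J | t * t = 1 ∧ t ≠ 1 ∧ t • PLine.rat x = PLine.rat x} =
        {t : J | t * t = 1 ∧ t ≠ 1} := by
      ext t
      have : t • PLine.rat x = PLine.rat x := by
        change (t : PSL(2, F)) • PLine.rat x = _
        rw [psl_smul_rat, mem_stabilizer_iff.1 (hx t.2)]
      simp [this]
    rw [h4] at h3
    refine h3.trans (le_of_le_of_eq ?_ (card_Ux x))
    refine Nat.card_le_card_of_injective (fun u => ⟨ProjectiveSpecialLinearGroup.toPGL u.1.1,
      u.2.1, ?_⟩) fun u v e => Subtype.ext (Subtype.ext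
        (ProjectiveSpecialLinearGroup.toPGL_injective (congrArg Subtype.val e)))
    rw [← map_pow, ← Subgroup.coe_pow, u.2.2]; simp
  · exact (no (alt_four 0) e).elim
  · exact (no ⟨Equiv.swap 0 1, Equiv.swap 2 3, by decide⟩ e).elim
  · exact (no (alt_four 1) e).elim
  · have h2' : (2 : L) ≠ 0 := fun e => h2 (by
      have := congrArg L.subtype e
      rwa [map_ofNat, map_zero] at this)
    obtain ⟨_, ⟨a, rfl⟩, _, ⟨b, rfl⟩, k⟩ := exists_four (F := L) h2'
    rcases e with e | e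
    · have i := ProjectiveSpecialLinearGroup.toPGL_injective (n := Fin 2) (R := L)
      simp only [← map_mul, Ne, i.eq_iff, map_eq_one_iff _ i] at k
      exact (no ⟨a, b, k⟩ e).elim
    · exact (no ⟨_, _, k⟩ e).elim

end H0.WM
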