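import Mathlib
import Cfsg.Agent.H0.WM1

/-! `PΓL₂(q)` on the projective line; the dihedral Sylow 2-subgroup. -/

set_option autoImplicit false
set_option linter.unusedSectionVars false

namespace H0.WM

open MulAction Matrix OnePoint H16 SemidirectProduct
open scoped MatrixGroups

variable {F : Type} [Field F] [Finite F] [DecidableEq F]

theorem fld_smul (s : RingAut F) (g : PGL(2, F)) (z : OnePoint F) :
    OnePoint.map s (g • z) = fldAut F s g • OnePoint.map s z := by
  induction g using ProjGenLinGroup.induction_on with | mk g =>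
  exact OnePoint.map_smul (s : F →+* F) g z

/-- the action of `PΓL₂` on the projective line -/
@[reducible] noncomputable def gaMul : MulAction (PGa F) (OnePoint F) where
  smul x z := x.left • OnePoint.map x.right z
  one_smul z := by
    change (1 : PGL(2, F)) • OnePoint.map (1 : RingAut F) z = z
    cases z <;> simp
  mul_smul x y z := by
    change (x.left * fldAut F x.right y.left) • OnePoint.map (x.right * y.right) z =
      x.left • OnePoint.map x.right (y.left • OnePoint.map y.right z)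
    rw [fld_smul, mul_smul]
    cases z <;> rfl

attribute [local instance] gaMul

theorem ga_smul (x : PGa F) (z : OnePoint F) : x • z = x.left • OnePoint.map x.right z := rfl

theorem inl_smul (y : PGL(2, F)) (z : OnePoint F) : (inl y : PGa F) • z = y • z := by
  rw [ga_smul]; cases z <;> simp

theorem gaAct_smul (x : PGa F) (y : PGL(2, F)) (z : OnePoint F) :
    gaAct x y • x • z = x • y • z := by
  rw [← inl_smul, ← conj_inl, mul_smul, mul_smul, inv_smul_smul, inl_smul]

theorem gaAct_mem_Ux {x : PGa F} {y : PGL(2, F)} {z : OnePoint F} (h : y ∈ Ux z) :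
    gaAct x y ∈ Ux (x • z) := by
  rw [mem_Ux] at h ⊢
  exact ⟨by rw [gaAct_smul, h.1], by rw [← map_pow, h.2, map_one]⟩

theorem fld_transl (s : RingAut F) (b : F) : fldAut F s (transl b) = transl (s b) := by
  rw [fldAut_apply, transl, transl, ProjGenLinGroup.map_mk]
  congr 1
  ext i j
  fin_cases i <;> fin_cases j <;> simp

theorem right_eq_one_of_Ux {x : PGa F} {z : OnePoint F} (hz : x • z = z)
    (h : ∀ y ∈ Ux z, gaAct x y = y) : x.right = 1 := by
  obtain ⟨c, rfl⟩ := exists_std1 z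
  let x' : PGa F := (inl c)⁻¹ * x * inl c
  have h1 : x'.right = x.right := by simp [x']
  have h2 : x' • (∞ : OnePoint F) = ∞ := by
    rw [mul_smul, mul_smul, inl_smul, hz, ← map_inv, inl_smul, inv_smul_smul]
  have h3 : ∀ b, gaAct x' (transl b) = transl b := fun b => inl_injective (φ := fldAut F) (by
    have := congrArg (inl (φ := fldAut F)) (h _ (mem_Ux_std.2 ⟨b, rfl⟩))
    rw [← conj_inl, map_mul, map_mul, map_inv] at this
    rw [← conj_inl]
    calc _ = (inl c)⁻¹ * (x * (inl c * inl (transl b) * (inl c)⁻¹) * x⁻¹) * inl c := by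
          simp only [x']; group
      _ = _ := by rw [this]; group)
  obtain ⟨t, a, e⟩ := exists_transl_mul_dil x'.left h2
  have h4 : ∀ b, a * x'.right b = b := fun b => transl_injective (by
    have := h3 b
    rw [gaAct_apply, fld_transl, e, mul_assoc (transl t), dil_mul_transl, ← mul_assoc,
      ← transl_add, add_comm, transl_add] at this
    rw [← this]; group)
  have h5 : (a : F) = 1 := by simpa using h4 1
  rw [← h1]
  exact RingEquiv.ext fun b => by simpa [h5] using h4 b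

variable (h2 : (2 : F) ≠ 0)
include h2

theorem odd_card : Odd (Nat.card F) := by
  have := Fintype.ofFinite F
  rw [Nat.card_eq_fintype_card, Nat.odd_iff]
  exact FiniteField.odd_card_of_char_ne_two (ringChar_ne_two h2)

theorem fld_small {ω : PGL(2, F)} (h1 : ω * ω = 1) (h0 : ω ≠ 1) {x : PGa F} (hx : x.right ≠ 1)
    (ho : Odd (orderOf x.right)) (C : Subgroup PGL(2, F)) (hC : C ≤ tor (PLine F) ω)
    (hf : ∀ y ∈ C, gaAct x y = y) : Nat.card C ^ 2 + 1 < Nat.card F := by
  classical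
  have := Fintype.ofFinite F
  have : Finite (RingAut F) := DFunLike.finite _
  have := Fintype.ofFinite (Subgroup.zpowers x.right)
  let K := FixedPoints.subfield (Subgroup.zpowers x.right) F
  have h7 : Nat.card F = Nat.card K ^ orderOf x.right := by
    rw [Module.natCard_eq_pow_finrank (K := K), FixedPoints.finrank_eq_card,
      ← Nat.card_eq_fintype_card, Nat.card_zpowers]
  have h10 : 3 ≤ Nat.card K := by
    have h11 := odd_card h2
    rw [h7, Nat.odd_pow_iff (orderOf_pos _).ne', Nat.odd_iff] at h11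
    have : 1 < Nat.card K := Finite.one_lt_card
    omega
  have h11 : 3 ≤ orderOf x.right := by
    have h3 : orderOf x.right ≠ 1 := fun e => hx (orderOf_eq_one_iff.1 e)
    obtain ⟨k, hk⟩ := ho
    omega
  have := Fintype.ofFinite K
  have := Fintype.ofFinite C
  have h9 : ∀ z : C, tau z.1 ∈ K := fun z s => by
    have h10 : x.right ∈ stabilizer (RingAut F) (tau z.1) :=
      (tau_gaAct x _).symm.trans (by rw [hf _ z.2])
    exact (Subgroup.zpowers_le.2 h10) s.2
  have t1 : tau (1 : PGL(2, F)) = 4 := by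
    rw [← map_one ProjGenLinGroup.mk, tau_mk]; simp; norm_num
  have t2 : tau ω = 0 := by
    obtain ⟨g, rfl, hg⟩ := exists_traceless h1 h0
    rw [tau_mk, trace_fin_two]; simp [hg]
  have h4 : (4 : K) ≠ 0 := fun e => h2 (by
    have := congrArg K.subtype e
    rw [map_ofNat, map_zero] at this
    have h5 : (2 : F) * 2 = 0 := by rw [← this]; norm_num
    simpa using h5)
  have h8 := Finset.card_le_mul_card_image_of_maps_to (f := fun z : C => (⟨_, h9 z⟩ : K))
    (s := Finset.univ.filter fun z : C => z.1 ≠ 1 ∧ z.1 ≠ ω) (t := Finset.univ \ {4, 0})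
    (fun z hz => by
      obtain ⟨-, k1, k2⟩ := Finset.mem_filter.1 hz
      simp only [Finset.mem_sdiff, Finset.mem_univ, Finset.mem_insert, Finset.mem_singleton,
        true_and, not_or, Subtype.ext_iff]
      refine ⟨fun e => k1 ?_, fun e => k2 ?_⟩
      · simpa using tor_tau h2 h1 h0 (one_mem _) (hC z.2) (t1.trans e.symm)
      · simpa [inv_eq_of_mul_eq_one_right h1] using
          tor_tau h2 h1 h0 self_mem_tor (hC z.2) (t2.trans e.symm)) 2 fun b _ => by
    rcases Finset.eq_empty_or_nonempty ((Finset.univ.filter fun z : C => z.1 ≠ 1 ∧ z.1 ≠ ω).filter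
      fun a => (⟨_, h9 a⟩ : K) = b) with e | ⟨z, hz⟩
    · rw [e]; simp
    · refine (Finset.card_le_card (t := {z, z⁻¹}) fun w hw => ?_).trans Finset.card_le_two
      simpa only [Finset.mem_insert, Finset.mem_singleton, Subtype.ext_iff,
        Subgroup.coe_inv] using tor_tau h2 h1 h0 (hC z.2) (hC w.2) (congrArg Subtype.val
          ((Finset.mem_filter.1 hz).2.trans (Finset.mem_filter.1 hw).2.symm))
  rw [Finset.card_univ_diff, Finset.card_pair h4, ← Nat.card_eq_fintype_card] at h8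
  have h12 : Nat.card C ≤ (Finset.univ.filter fun z : C => z.1 ≠ 1 ∧ z.1 ≠ ω).card + 2 := by
    rw [Nat.card_eq_fintype_card, ← Finset.card_univ,
      ← Finset.card_filter_add_card_filter_not (fun z : C => z.1 ≠ 1 ∧ z.1 ≠ ω)]
    refine Nat.add_le_add_left ?_ _
    refine (Finset.card_le_card_of_injOn (t := {1, ω}) (fun z => z.1) (fun z hz => ?_)
      fun _ _ _ _ e => Subtype.ext e).trans Finset.card_le_two
    have := (Finset.mem_filter.1 hz).2
    simp only [Finset.coe_insert, Finset.coe_singleton, Set.mem_insert_iff, Set.mem_singleton_iff]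
    tauto
  have h13 : Nat.card K ^ 3 ≤ Nat.card F := h7 ▸ Nat.pow_le_pow_right (by omega) h11
  obtain ⟨k, hk⟩ := Nat.exists_eq_add_of_le' h10
  rw [hk] at h8 h13
  have h14 : Nat.card C ≤ 2 * k + 4 := by omega
  have := Nat.pow_le_pow_left h14 2
  nlinarith [Nat.zero_le (k ^ 3), Nat.zero_le (k ^ 2)]

omit h2 in
variable (F) in
/-- generators of a Sylow 2-subgroup of `PGL₂(q)` -/
structure Dih (n : ℕ) where
  e : PGL(2, F)
  s : PGL(2, F)
  hn : 2 ≤ n
  ord : orderOf e = 2 ^ n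
  e_not : e ∉ PB F
  s_mem : s ∈ PB F
  s_sq : s * s = 1
  s_inv : s * e * s⁻¹ = e⁻¹
  syl : ∃ k, Odd k ∧ Nat.card PGL(2, F) = 2 ^ (n + 1) * k

namespace Dih

omit h2
variable {n : ℕ} (D : Dih F n)

/-- the central involution -/
noncomputable def ω : PGL(2, F) := D.e ^ 2 ^ (n - 1)

/-- the torus -/
noncomputable def T : Subgroup PGL(2, F) := tor (PLine F) D.ω

theorem pow_ne {k : ℕ} (hk : k < n) : D.e ^ 2 ^ k ≠ 1 :=
  pow_ne_one_of_lt_orderOf (by positivity) (D.ord ▸ Nat.pow_lt_pow_right one_lt_two hk)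

theorem ω_sq : D.ω * D.ω = 1 := by
  have := D.hn
  rw [ω, ← pow_add, ← two_mul, ← pow_succ', show n - 1 + 1 = n by omega, ← D.ord,
    pow_orderOf_eq_one]

theorem ω_ne : D.ω ≠ 1 := D.pow_ne (by have := D.hn; omega)

theorem ω_mem : D.ω ∈ PB F := by
  have := D.hn
  rw [ω, show n - 1 = n - 2 + 1 by omega, pow_succ, mul_two, pow_add]
  exact sq_mem_PB _

theorem e_sq : D.e * D.e ≠ 1 := by
  have := D.pow_ne (k := 1) (by have := D.hn; omega)
  rwa [pow_one, sq] at this

theorem e_ne : D.e ≠ 1 := fun h => D.e_sq (by rw [h, one_mul])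

theorem s_comm : D.s * D.ω = D.ω * D.s := by
  rw [← mul_inv_eq_iff_eq_mul, ω, ← conj_pow, D.s_inv, inv_pow]
  exact inv_eq_of_mul_eq_one_right D.ω_sq

include h2

theorem hp : D.ω ^ ringChar F ≠ 1 := inv_pow_ne h2 D.ω_sq D.ω_ne

theorem e_mem : D.e ∈ D.T :=
  (LA.mem_tor_iff (D.hp h2) D.ω_sq).2 ⟨(Commute.self_pow _ _).eq, fun h => (D.e_sq h).elim⟩

theorem s_not : D.s ∉ D.T := fun h => D.e_sq (by
  have := D.s_inv
  rw [LA.tor_comm (D.hp h2) h (D.e_mem h2), mul_inv_cancel_right] at this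
  nth_rewrite 1 [this]; simp)

theorem fix_eq {y : PGL(2, F)} (hy : y ∈ D.T) (h1 : y ≠ 1) :
    fixedBy (OnePoint F) y = fixedBy (OnePoint F) D.ω := by
  ext x
  rw [mem_fixedBy, mem_fixedBy, ← rat_fix, ← rat_fix, LA.fix_iff (D.hp h2) hy h1]

theorem card_T : (IsSquare (-1 : F) → Nat.card D.T + 1 = Nat.card F ∧
      Nat.card (fixedBy (OnePoint F) D.ω) = 2 ∧ Nat.card (fixedBy (OnePoint F) (D.e * D.s)) = 0) ∧
    (¬ IsSquare (-1 : F) → Nat.card D.T = Nat.card F + 1 ∧
      Nat.card (fixedBy (OnePoint F) D.ω) = 0 ∧ Nat.card (fixedBy (OnePoint F) (D.e * D.s)) = 2) := by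
  obtain ⟨a1, a2, a3⟩ := card_fix h2 D.ω_sq D.ω_ne
  have b0 : D.e * D.s ∉ PB F := fun h => D.e_not ((Subgroup.mul_mem_cancel_right _ D.s_mem).1 h)
  obtain ⟨-, b2, b3⟩ := card_fix h2 (ω := D.e * D.s) (by
    have := D.s_inv
    rw [inv_eq_of_mul_eq_one_right D.s_sq] at this
    rw [mul_assoc, ← mul_assoc D.s, this, mul_inv_cancel]) (fun h => b0 (h ▸ one_mem _))
  have c := D.ω_mem
  refine ⟨fun h => ?_, fun h => ?_⟩
  · have := a2 (by tauto)
    exact ⟨by unfold T; omega, this, b3 (by tauto)⟩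
  · have := a3 (by tauto)
    exact ⟨by unfold T; omega, this, b2 (by tauto)⟩

/-- an odd order subgroup normalised by `e` lies in the torus, if it contains no root elements -/
theorem le_T (X : Subgroup PGL(2, F)) (ho : Odd (Nat.card X)) (hp : ¬ ringChar F ∣ Nat.card X)
    (he : ∀ y ∈ X, D.e * y * D.e⁻¹ ∈ X) : X ≤ D.T := by
  obtain ⟨y, hy⟩ := (Subgroup.isCyclic_iff_exists_zpowers_eq_top _).1 (cyc_of_odd X ho hp)
  subst hy
  by_cases h1 : y = 1
  · simp [h1]
  have h3 : y ^ ringChar F ≠ 1 := fun h => hp (by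
    rw [Nat.card_zpowers, orderOf_eq_prime h h1])
  have h4 : D.e * y * D.e⁻¹ ∈ tor (PLine F) y :=
    (Subgroup.zpowers_le.2 self_mem_tor) (he y (Subgroup.mem_zpowers y))
  have h5 : ∀ x : PLine F, y • x = x → y • D.e • x = D.e • x := fun x hx => by
    rw [← LA.fix_iff h3 h4 (by simpa using h1), mul_smul, mul_smul, inv_smul_smul, hx]
  obtain ⟨a, b, hab, h6, h7, -⟩ := LA.fix_two h3
  have h8 : D.e * D.e ∈ tor (PLine F) y := by
    rw [h7, mul_smul, mul_smul]
    have ne : D.e • a ≠ D.e • b := fun e => hab (smul_left_cancel _ e)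
    rcases (h6 _).1 (h5 a ((h6 a).2 (Or.inl rfl))) with k | k <;>
      rcases (h6 _).1 (h5 b ((h6 b).2 (Or.inr rfl))) with k' | k'
    · exact (ne (k.trans k'.symm)).elim
    · simp [k, k']
    · simp [k, k']
    · exact (ne (k.trans k'.symm)).elim
  rw [Subgroup.zpowers_le, T, ← LA.tor_eq (D.hp h2) (mul_mem (D.e_mem h2) (D.e_mem h2)) D.e_sq,
    LA.tor_eq h3 h8 D.e_sq]
  exact self_mem_tor

/-- the split case: two rational fixed points -/
theorem exists_ab (h : IsSquare (-1 : F)) : ∃ a b : OnePoint F, a ≠ b ∧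
    (∀ z, D.ω • z = z ↔ z = a ∨ z = b) ∧ (∀ g, g ∈ D.T ↔ g • a = a ∧ g • b = b) ∧
    D.s • a = b ∧ D.s • b = a := by
  obtain ⟨⟨a, ha⟩, ⟨b, hb⟩, hab, -⟩ := Nat.card_eq_two_iff.1 ((D.card_T h2).1 h).2.1
  have hab' : a ≠ b := fun e => hab (Subtype.ext e)
  obtain ⟨x, y, hxy, h3, h4, h5⟩ := LA.fix_two (D.hp h2)
  obtain ⟨h6, h7⟩ := h5 _ D.s_comm (D.s_not h2)
  have i := PLine.rat_injective (F := F)
  have key : ∀ a b : OnePoint F, x = PLine.rat a → y = PLine.rat b → ∃ a b : OnePoint F, a ≠ b ∧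
      (∀ z, D.ω • z = z ↔ z = a ∨ z = b) ∧ (∀ g, g ∈ D.T ↔ g • a = a ∧ g • b = b) ∧
      D.s • a = b ∧ D.s • b = a := by
    rintro a b rfl rfl
    refine ⟨a, b, fun e => hxy (e ▸ rfl), fun z => by rw [← rat_fix, h3, i.eq_iff, i.eq_iff],
      fun g => by rw [T, h4, rat_fix, rat_fix], i ?_, i ?_⟩
    · rw [← PLine.smul_rat, h6]
    · rw [← PLine.smul_rat, h7]
  rcases (h3 _).1 (rat_fix.2 ha) with k | k <;> rcases (h3 _).1 (rat_fix.2 hb) with k' | k'
  · exact (hab' (i (k.trans k'.symm))).elim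
  · exact key a b k.symm k'.symm
  · exact key b a k'.symm k.symm
  · exact (hab' (i (k.trans k'.symm))).elim

end Dih

/-- large odd order subgroups -/
theorem big {a b : OnePoint F} (hab : a ≠ b) {T : Subgroup PGL(2, F)}
    (hT : ∀ g, g ∈ T ↔ g • a = a ∧ g • b = b) (hc : Nat.card T + 1 = Nat.card F)
    (J : Subgroup PGL(2, F)) (hJ : J ≤ PB F) (ho : Odd (Nat.card J))
    (hq : Nat.card F < Nat.card J) :
    ∃ g ∈ PB F, (∀ u ∈ Ux a, g⁻¹ * u * g ∈ J) ∧ ∃ c ∈ T, c ≠ 1 ∧ g⁻¹ * c * g ∈ J := by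
  have := Fintype.ofFinite F
  by_cases hp : ringChar F ∣ Nat.card J
  swap
  · exfalso
    obtain ⟨y, rfl⟩ := (Subgroup.isCyclic_iff_exists_zpowers_eq_top _).1 (cyc_of_odd J ho hp)
    obtain ⟨y, rfl⟩ := hJ (Subgroup.mem_zpowers y)
    rw [Nat.card_zpowers, orderOf_injective _ ProjectiveSpecialLinearGroup.toPGL_injective] at hp hq
    have h1 : 1 < Nat.card F := Finite.one_lt_card
    obtain ⟨m, hm⟩ := odd_card h2
    have h3 := psl2_orderOf_dvd (ringChar F) (q := Nat.card F) Nat.card_eq_fintype_card.symm y hp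
    rw [show Nat.gcd 2 (Nat.card F - 1) = 2 by rw [hm]; simp] at h3
    rcases h3 with h3 | h3 <;> have := Nat.le_of_dvd (by omega) h3 <;> omega
  obtain ⟨x, hx⟩ := (LA.subgroup J).fixed_of_odd ho
  obtain ⟨v, hv⟩ := exists_prime_orderOf_dvd_card' (ringChar F) hp
  have hv1 : (v : PGL(2, F)) ≠ 1 := fun e => by
    rw [show v = 1 from Subtype.ext e, orderOf_one] at hv
    exact (Fact.out : (ringChar F).Prime).ne_one hv.symm
  obtain ⟨x, rfl⟩ := PLine.rat_of_unip _ (v : PGL(2, F)) (by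
    rw [← Subgroup.coe_pow, ← hv, pow_orderOf_eq_one]; rfl) hv1 x (hx v)
  obtain ⟨g, hg⟩ := exists_smul_eq PSL(2, F) x a
  rw [psl_smul_def] at hg
  have hg' : ProjectiveSpecialLinearGroup.toPGL g ∈ PB F := ⟨g, rfl⟩
  generalize ProjectiveSpecialLinearGroup.toPGL g = g at hg hg'
  let J' := J.map (MulAut.conj g).toMonoidHom
  have hm : ∀ y, y ∈ J' → g⁻¹ * y * g ∈ J := by
    rintro _ ⟨y, hy, rfl⟩; simpa [mul_assoc] using hy
  have hcard : Nat.card J' = Nat.card J := Subgroup.card_map_of_injective (MulAut.conj g).injective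
  have hfix : ∀ y ∈ J', y • a = a := by
    rintro _ ⟨y, hy, rfl⟩
    have := rat_fix.1 (hx ⟨y, hy⟩)
    change (g * y * g⁻¹) • a = a
    rw [← hg, mul_smul, mul_smul, inv_smul_smul, this]
  refine ⟨g, hg', ?_⟩
  suffices h : Ux a ≤ J' ∧ ∃ c ∈ T, c ≠ 1 ∧ c ∈ J' from
    ⟨fun u hu => hm u (h.1 hu), h.2.imp fun c hc => ⟨hc.1, hc.2.1, hm c hc.2.2⟩⟩
  rw [← hcard] at hq ho
  generalize J' = J at hq ho hfix
  have L := LA.subgroup J
  obtain ⟨k, k1, k2, k3, k4, -⟩ := L.exists_k (PLine.rat a)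
  have hst : stabilizer J (PLine.rat a) = ⊤ :=
    eq_top_iff.2 fun y _ => rat_fix.2 (hfix y y.2)
  rw [hst, Subgroup.card_top] at k1
  have hV : (L.U (PLine.rat a)).map J.subtype = Ux a ⊓ J := by
    ext y
    constructor
    · rintro ⟨z, hz, rfl⟩
      exact ⟨⟨hz.1, congrArg Subtype.val hz.2⟩, z.2⟩
    · rintro ⟨h3, h4⟩
      exact ⟨⟨y, h4⟩, ⟨h3.1, Subtype.ext h3.2⟩, rfl⟩
  have hVc : Nat.card (L.U (PLine.rat a)) = Nat.card ↥(Ux a ⊓ J) := by
    rw [← hV, Subgroup.card_map_of_injective J.subtype_injective]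
  rw [hVc] at k1 k4
  -- the order of the point stabiliser
  obtain ⟨k', l1, l2, -, l4, -⟩ := (LA (F := F)).exists_k (PLine.rat a)
  change _ = Nat.card (Ux a) * k' at l1
  change _ ∣ Nat.card (Ux a) - 1 at l4
  rw [card_Ux] at l1 l4
  have hJle : J ≤ stabilizer PGL(2, F) (PLine.rat a) := fun y hy => rat_fix.2 (hfix y hy)
  obtain ⟨f, hpp, hf⟩ := FiniteField.card F (ringChar F)
  rw [← Nat.card_eq_fintype_card] at hf
  have hkq : k ∣ Nat.card F - 1 := by
    have h3 := (Dvd.intro_left _ k1.symm).trans (Subgroup.card_dvd_of_le hJle)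
    rw [l1, hf] at h3
    exact (((Nat.coprime_comm.1 ((hpp.coprime_iff_not_dvd).2 k2)).pow_right _).dvd_of_dvd_mul_left
      h3).trans l4
  obtain ⟨i, hi, hV'⟩ := (Nat.dvd_prime_pow hpp).1
    (hf ▸ card_Ux a ▸ Subgroup.card_dvd_of_le (inf_le_left : Ux a ⊓ J ≤ _))
  have hif : i = f := by
    by_contra hne
    obtain ⟨d, hd⟩ := Nat.exists_eq_add_of_lt (lt_of_le_of_ne hi hne)
    have p1 : 1 < ringChar F ^ (d + 1) := Nat.one_lt_pow (by omega) hpp.one_lt
    have p2 : 0 < ringChar F ^ i := pow_pos hpp.pos _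
    rw [hV'] at k4 k1
    rw [hf, hd, add_assoc, pow_add] at hkq hq
    generalize ringChar F ^ (d + 1) = A at *
    generalize ringChar F ^ i = B at *
    have h5 : k ∣ A - 1 := by
      have h6 := (Nat.dvd_sub hkq (Dvd.dvd.mul_left k4 A))
      have : B * A - 1 - A * (B - 1) = A - 1 := by
        rw [Nat.mul_sub, mul_one, mul_comm A B]
        have : A ≤ B * A := Nat.le_mul_of_pos_left _ p2
        omega
      rwa [this] at h6
    have h6 := Nat.le_of_dvd (by omega) h5
    have : B * k < B * A := Nat.mul_lt_mul_of_pos_left (by omega) p2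
    omega
  have hU : Ux a ≤ J := by
    have := Subgroup.eq_of_le_of_card_ge (inf_le_left : Ux a ⊓ J ≤ _)
      (by rw [hV', hif, card_Ux, hf])
    exact this.ge.trans inf_le_right
  refine ⟨hU, ?_⟩
  obtain ⟨y, hy, hyU⟩ : ∃ y ∈ J, y ∉ Ux a := by
    by_contra! h
    have := Subgroup.card_le_of_le (show J ≤ Ux a from h)
    rw [card_Ux] at this; omega
  obtain ⟨b', h3, h4⟩ := second_fix (hfix y hy) fun e => hyU (mem_Ux.2 ⟨hfix y hy, e⟩)
  obtain ⟨u, hu, rfl⟩ := Ux_trans h3 hab.symm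
  have h5 : u * y * u⁻¹ ∈ J := mul_mem (mul_mem (hU hu) hy) (inv_mem (hU hu))
  refine ⟨_, (hT _).2 ⟨hfix _ h5, by rw [mul_smul, mul_smul, inv_smul_smul, h4]⟩, ?_, h5⟩
  rw [Ne, conj_eq_one_iff]
  rintro rfl
  exact hyU (one_mem _)

end H0.WM
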