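import Mathlib
import Cfsg.Agent.H0.WM2
import Cfsg.Agent.H13.WDefs

/-! Groups between `PGL₂(q)` and `PΓL₂(q)`. -/

set_option autoImplicit false
set_option linter.unusedSectionVars false

namespace H0.WM

open MulAction OnePoint H16 SemidirectProduct H24 Subgroup
open Matrix (ProjectiveSpecialLinearGroup ProjGenLinGroup)
open Matrix.ProjectiveSpecialLinearGroup (toPGL toPGL_injective)
open scoped MatrixGroups

attribute [local instance] gaMul

theorem two_pow_dvd {m : ℤ} (hm : Odd m) (k : ℕ) : (2 : ℤ) ^ k ∣ m ^ 2 ^ k - 1 := by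
  induction k with
  | zero => simp
  | succ k ih =>
    rw [pow_succ 2 k, pow_succ 2 k, pow_mul, show ∀ x : ℤ, x ^ 2 - 1 = (x - 1) * (x + 1) from
      fun x => by ring]
    exact mul_dvd_mul ih (hm.pow.add_one).two_dvd

theorem fix_of_two {M X : Type*} [Group M] [MulAction M X] {g : M} {a b : X}
    (ha : g • a = a ∨ g • a = b) (hb : g • b = a ∨ g • b = b) {i : ℕ} (hi : Odd i)
    (h : g ^ i • a = a) : g • a = a := by
  rcases ha with ha | ha
  · exact ha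
  rcases hb with hb | hb
  · obtain ⟨k, rfl⟩ := hi
    have h1 : g ^ 2 ∈ stabilizer M a := by rw [mem_stabilizer_iff, sq, mul_smul, ha, hb]
    rw [pow_succ', mul_smul, pow_mul, mem_stabilizer_iff.1 (pow_mem h1 k)] at h
    exact h
  · rw [smul_left_cancel g (ha.trans hb.symm)]; exact hb

variable {F : Type} [Field F] [Finite F] [DecidableEq F]

instance finite_onePoint : Finite (OnePoint F) := inferInstanceAs (Finite (Option F))

theorem Ux_conj {a b : OnePoint F} (h : a ≠ b) {x y : PGL(2, F)} (hx : x ∈ Ux a) (hy : y ∈ Ux a)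
    (hx1 : x ≠ 1) (hy1 : y ≠ 1) : ∃ c : PGL(2, F), c • a = a ∧ c • b = b ∧ c * x * c⁻¹ = y := by
  obtain ⟨c, rfl, rfl⟩ := exists_std h
  obtain ⟨β, rfl⟩ := mem_Ux_std.1 hx
  obtain ⟨γ, rfl⟩ := mem_Ux_std.1 hy
  have hβ : β ≠ 0 := by rintro rfl; simp [transl_zero] at hx1
  have hγ : γ ≠ 0 := by rintro rfl; simp [transl_zero] at hy1
  refine ⟨c * dil (Units.mk0 _ (div_ne_zero hγ hβ)) * c⁻¹, ?_, ?_, ?_⟩
  · rw [mul_smul, mul_smul, inv_smul_smul, dil_smul_infty]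
  · rw [mul_smul, mul_smul, inv_smul_smul, dil_smul_coe, mul_zero]
  · have := dil_mul_transl (Units.mk0 _ (div_ne_zero hγ hβ)) β
    rw [Units.val_mk0, div_mul_cancel₀ _ hβ, ← mul_inv_eq_iff_eq_mul] at this
    rw [← this]; group

theorem eq_one_of_three {g : PGL(2, F)} {x y z : OnePoint F} (hxy : x ≠ y) (hxz : x ≠ z)
    (hyz : y ≠ z) (hx : g • x = x) (hy : g • y = y) (hz : g • z = z) : g = 1 :=
  have i := PLine.rat_injective (F := F)
  LA.eq_one_of_three g (i.ne hxy) (i.ne hxz) (i.ne hyz) (rat_fix.2 hx) (rat_fix.2 hy) (rat_fix.2 hz)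

/-- `PGL₂ ≤ Γ ≤ PΓL₂` with odd index. -/
structure Emb (Γ : Type) [Group Γ] (F : Type) [Field F] where
  j : Γ →* PGa F
  inj : Function.Injective j
  ι : PGL(2, F) →* Γ
  jι : ∀ y, j (ι y) = inl y
  odd : Odd ι.range.index

namespace Emb

variable {Γ : Type} [Group Γ] [Finite Γ] (E : Emb Γ F)

theorem ι_inj : Function.Injective E.ι := fun a b h =>
  inl_injective (φ := fldAut F) (by rw [← E.jι, h, E.jι])

/-- the action on `PGL₂` -/
noncomputable def A : Γ →* MulAut PGL(2, F) := gaAct.comp E.j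

theorem conj_ι (g : Γ) (y : PGL(2, F)) : g * E.ι y * g⁻¹ = E.ι (E.A g y) := E.inj (by
  rw [map_mul, map_mul, map_inv, E.jι, E.jι, conj_inl]; rfl)

theorem cent_iff {g : Γ} {y : PGL(2, F)} : g ∈ C{E.ι y} ↔ E.A g y = y := by
  rw [mem_C1_iff_conj, conj_ι, E.ι_inj.eq_iff]

theorem cent_iff' {x y : PGL(2, F)} : E.ι x ∈ C{E.ι y} ↔ x * y = y * x := by
  rw [mem_C1, ← map_mul, ← map_mul, E.ι_inj.eq_iff]

theorem mem_range {g : Γ} : g ∈ E.ι.range ↔ (E.j g).right = 1 :=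
  ⟨by rintro ⟨y, rfl⟩; rw [E.jι, right_inl], fun h => ⟨_, E.inj (by rw [E.jι, ← eq_inl h])⟩⟩

instance normal_range : E.ι.range.Normal :=
  ⟨by rintro _ ⟨y, rfl⟩ g; exact ⟨_, (E.conj_ι g y).symm⟩⟩

theorem pow_mem_range (g : Γ) : ∃ y, E.ι y = g ^ E.ι.range.index := E.ι.range.pow_index_mem g

/-- the image of `PSL₂` -/
noncomputable def L : Subgroup Γ := (PB F).map E.ι

theorem mem_L {g : Γ} : g ∈ E.L ↔ E.j g ∈ PH F :=
  ⟨by rintro ⟨y, hy, rfl⟩; rw [E.jι]; exact inl_mem_PH.2 hy,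
    fun ⟨y, hy, h⟩ => ⟨y, hy, E.inj (by rw [E.jι, h])⟩⟩

theorem normal_L : E.L.Normal :=
  ⟨by rintro _ ⟨y, hy, rfl⟩ g; exact ⟨_, gaAct_mem_PB _ hy, (E.conj_ι g y).symm⟩⟩

theorem mem_map {X : Subgroup PGL(2, F)} {y : PGL(2, F)} : E.ι y ∈ X.map E.ι ↔ y ∈ X :=
  mem_map_iff_mem E.ι_inj

theorem card_map (X : Subgroup PGL(2, F)) : ♯(X.map E.ι) = ♯X := card_map_of_injective E.ι_inj

theorem card_comap_dvd (X : Subgroup Γ) : ♯(X.comap E.ι) ∣ ♯X := by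
  rw [← E.card_map]; exact card_dvd_of_le (map_comap_le _ _)

theorem card_comap {X : Subgroup Γ} (h : X ≤ E.ι.range) : ♯(X.comap E.ι) = ♯X := by
  rw [← E.card_map, map_comap_eq_self h]

/-- the action on the projective line -/
@[reducible] noncomputable def act : MulAction Γ (OnePoint F) := MulAction.compHom _ E.j

theorem fixedBy_ι (y : PGL(2, F)) :
    @fixedBy _ _ _ E.act (E.ι y) = fixedBy (OnePoint F) y := by
  ext z
  change E.j (E.ι y) • z = z ↔ _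
  rw [E.jι, inl_smul, mem_fixedBy]

theorem A_smul {g : Γ} {y : PGL(2, F)} (h : E.A g y = y) {z : OnePoint F} (hz : y • z = z) :
    y • E.j g • z = E.j g • z := by
  have := gaAct_smul (E.j g) y z
  rwa [hz, show gaAct (E.j g) y = y from h] at this

theorem norm_Ux {g : Γ} {z : OnePoint F} (h : E.j g • z = z) : g ∈ N[(Ux z).map E.ι] :=
  H22.mem_normalizer_of_conj_mem (by
    rintro _ ⟨y, hy, rfl⟩
    rw [conj_ι, mem_map, ← h]
    exact gaAct_mem_Ux hy)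

theorem cj_Ux (c : PGL(2, F)) (z : OnePoint F) :
    cj (E.ι c) ((Ux z).map E.ι) = (Ux (c • z)).map E.ι := by
  ext x
  rw [mem_cj']
  constructor
  · rintro ⟨_, ⟨y, hy, rfl⟩, rfl⟩
    exact ⟨_, conj_mem_Ux c hy, by simp⟩
  · rintro ⟨y, hy, rfl⟩
    have := conj_mem_Ux c⁻¹ hy
    rw [inv_smul_smul] at this
    exact ⟨_, ⟨_, this, rfl⟩, by simp [mul_assoc]⟩

theorem isPi_Ux (z : OnePoint F) : IsPi {ringChar F} ((Ux z).map E.ι) := by
  have := Fintype.ofFinite F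
  obtain ⟨f, hp, hf⟩ := FiniteField.card F (ringChar F)
  rw [IsPi, card_map, card_Ux, Nat.card_eq_fintype_card, hf]
  exact piNat_self_pow hp _

theorem comm_le : commutator Γ ≤ E.L :=
  commutator_le.2 fun a _ b _ => E.mem_L.2 (by
    rw [map_commutatorElement]; exact commutator_mem_PH _ _)

theorem cyc_quot : ∃ φ, E.ι.range ⊔ zpowers φ = ⊤ := by
  let := ZMod.algebra F (ringChar F)
  have : IsCyclic (RingAut F) := (ringAutEquiv (ringChar F)).isCyclic.2 inferInstance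
  obtain ⟨_, ⟨φ, rfl⟩, h⟩ := Cyc.exists_gen (H := (rightHom.comp E.j).range) inferInstance
  refine ⟨φ, eq_top_iff.2 fun g _ => ?_⟩
  obtain ⟨k, hk⟩ := mem_zpowers_iff.1 (h.ge ⟨g, rfl⟩)
  rw [← inv_mul_cancel_right g (φ ^ k)]
  refine mul_mem (mem_sup_left (E.mem_range.2 ?_)) (mem_sup_right ⟨k, rfl⟩)
  change (rightHom.comp E.j) _ = 1
  rw [map_mul, map_inv, map_zpow, hk, mul_inv_cancel]

/-- the map from `PSL₂` -/
noncomputable def κ : PSL(2, F) →* Γ := E.ι.comp toPGL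

theorem range_κ : E.κ.range = E.L := by rw [κ, MonoidHom.range_comp]; rfl

theorem κ_inj : Function.Injective E.κ :=
  E.ι_inj.comp toPGL_injective

theorem nml_big (hq : 4 ≤ Nat.card F) (K : Subgroup Γ) (hK : K.Normal) (h : K ≠ ⊥) : E.L ≤ K := by
  have := Matrix.ProjectiveSpecialLinearGroup.rank_two_simple hq
  rcases (hK.comap E.κ).eq_bot_or_eq_top with h1 | h1
  · refine (h (eq_bot_iff.2 fun k hk => E.inj ?_)).elim
    rw [map_one]
    refine eq_one_of_gaAct fun y hy => ?_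
    obtain ⟨x, hx⟩ := mul_mem (gaAct_mem_PB (E.j k) hy) (inv_mem hy)
    have h3 : x ∈ K.comap E.κ := by
      rw [mem_comap, κ, MonoidHom.comp_apply, hx, map_mul, map_inv]
      change E.ι (E.A k y) * _ ∈ _
      rw [← conj_ι, mul_assoc, mul_assoc, ← mul_assoc (E.ι y)]
      exact mul_mem hk (hK.conj_mem _ (inv_mem hk) _)
    rw [h1, mem_bot] at h3
    rwa [h3, map_one, eq_comm, mul_inv_eq_one] at hx
  · rw [← range_κ]
    rintro _ ⟨x, rfl⟩
    exact h1.ge (mem_top x)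

theorem perfect (hq : 4 ≤ Nat.card F) : ⁅E.L, E.L⁆ = E.L := by
  have := Fintype.ofFinite F
  have h := SL2Simple.PSL_commutator_eq_top (F := F)
    (H7.exists_sq_ne_one_of_card (Nat.card_eq_fintype_card (α := F) ▸ hq))
  rw [← range_κ, MonoidHom.range_eq_map, ← map_commutator, ← commutator_def, h]

theorem odd_of_isPi {M : Type*} [Group M] [Finite M] {r : ℕ} (hr2 : r ≠ 2) {X : Subgroup M}
    (h : IsPi {r} X) : Odd ♯X :=
  Nat.not_even_iff_odd.1 fun e => hr2 (h 2 Nat.prime_two e.two_dvd).symm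

theorem isPi_comap {π : Set ℕ} {X : Subgroup Γ} (h : IsPi π X) : IsPi π (X.comap E.ι) :=
  PiNat.dvd h (E.card_comap_dvd X)

variable (h2 : (2 : F) ≠ 0) {n : ℕ} (D : Dih F n)
include h2

theorem cyc_syl {r : ℕ} (hr2 : r ≠ 2) (hp : r ≠ ringChar F) {X : Subgroup Γ} (hX : X ≤ E.ι.range)
    (h : IsPi {r} X) : Cyc X := by
  rw [← map_comap_eq_self hX]
  exact Cyc.map (cyc_of_odd _ (odd_of_isPi hr2 (E.isPi_comap h))
    fun e => hp (E.isPi_comap h _ Fact.out e).symm) _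

theorem inv_conj {a : Γ} (ha : a ∈ E.L) (ho : orderOf a = 2) :
    ∃ g ∈ E.L, g * E.ι D.ω * g⁻¹ = a := by
  rw [← range_κ] at ha ⊢
  obtain ⟨a, rfl⟩ := ha
  obtain ⟨w, hw⟩ := D.ω_mem
  rw [orderOf_injective _ E.κ_inj] at ho
  obtain ⟨g, hg⟩ := isConj_iff.1 (psl2_involutions_conj h2 w a
    (fun h => D.ω_ne (by rw [← hw, h, map_one]))
    (toPGL_injective (by rw [map_mul, hw, D.ω_sq, map_one]))
    (fun h => by simp [h] at ho) (by have := pow_orderOf_eq_one a; rwa [ho, sq] at this))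
  exact ⟨_, ⟨g, rfl⟩, by rw [← hg, ← hw, map_mul, map_mul, map_inv]; rfl⟩

theorem A_mem_T {g : Γ} (h : E.A g D.ω = D.ω) {y : PGL(2, F)} (hy : y ∈ D.T) : E.A g y ∈ D.T := by
  have := gaAct_mem_tor h2 (x := E.j g) D.ω_sq D.ω_ne hy
  rwa [show gaAct (E.j g) D.ω = D.ω from h] at this

theorem decomp {g : Γ} (h : g ∈ C{E.ι D.ω}) :
    ∃ c ∈ C{E.ι D.e}, ∃ y, y * D.ω = D.ω * y ∧ g = c * E.ι y := by
  have h' := E.cent_iff.1 h
  have := LA.tor_cyc (D.hp h2)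
  obtain ⟨m, hm⟩ := MonoidHom.map_cyclic (G := tor (PLine F) D.ω)
    (((E.A g).toMonoidHom.comp (Subgroup.subtype _)).codRestrict _ fun y => E.A_mem_T h2 D h' y.2)
  have h3 : E.A g D.e = D.e ^ m := congrArg Subtype.val (hm ⟨_, D.e_mem h2⟩)
  have h4 : D.ω = D.ω ^ m := h'.symm.trans (congrArg Subtype.val (hm ⟨_, self_mem_tor⟩))
  have h5 : Odd m := Int.not_even_iff_odd.1 fun ⟨k, hk⟩ => D.ω_ne (by
    rw [h4, hk, ← two_mul, zpow_mul, zpow_two, D.ω_sq, one_zpow])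
  have h6 : ∀ k : ℕ, E.A (g ^ k) D.e = D.e ^ m ^ k := fun k => by
    induction k with
    | zero => simp
    | succ k ih => rw [pow_succ', map_mul, MulAut.mul_apply, ih, map_zpow, h3, ← zpow_mul, pow_succ']
  have h7 : g ^ 2 ^ n ∈ C{E.ι D.e} := E.cent_iff.2 (by
    rw [h6, ← mul_inv_eq_one, ← zpow_sub_one, ← orderOf_dvd_iff_zpow_eq_one, D.ord]
    exact_mod_cast two_pow_dvd h5 n)
  obtain ⟨y, hy⟩ := E.pow_mem_range g
  have h8 := Nat.gcd_eq_gcd_ab (2 ^ n) E.ι.range.index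
  rw [Nat.Coprime.pow_left n (Nat.coprime_two_left.2 E.odd)] at h8
  refine ⟨_, zpow_mem h7 ((2 ^ n).gcdA E.ι.range.index), y ^ (2 ^ n).gcdB E.ι.range.index, ?_, ?_⟩
  · exact (Commute.zpow_left (E.cent_iff'.1 (hy ▸ pow_mem h _)) _).eq
  · rw [map_zpow, hy, ← zpow_natCast, ← zpow_natCast, ← zpow_mul, ← zpow_mul, ← zpow_add, ← h8]
    simp

theorem T_cent {x y : PGL(2, F)} (hx : x ∈ D.T) (hy : y ∈ D.T) : E.ι x ∈ C{E.ι y} :=
  E.cent_iff'.2 (LA.tor_comm (D.hp h2) hx hy)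

theorem cent_u {g : Γ} (h : g ∈ C{E.ι D.ω}) : g ∈ C{E.ι D.e} ∨ g * E.ι D.s ∈ C{E.ι D.e} := by
  obtain ⟨c, hc, y, hy, rfl⟩ := E.decomp h2 D h
  by_cases h1 : y ∈ D.T
  · exact Or.inl (mul_mem hc (E.T_cent h2 D h1 (D.e_mem h2)))
  · rw [mul_assoc, ← map_mul]
    exact Or.inr (mul_mem hc (E.T_cent h2 D
      (LA.tor_mul (D.hp h2) hy h1 D.s_comm (D.s_not h2)) (D.e_mem h2)))

theorem cover : E.ι.range ⊔ C{E.ι D.e} = ⊤ := by
  refine eq_top_iff.2 fun g _ => ?_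
  have : Fact (Nat.Prime 2) := ⟨Nat.prime_two⟩
  obtain ⟨k, ⟨k, -, rfl⟩, hk⟩ := E.inv_conj h2 D
    (E.normal_L.conj_mem _ (E.mem_map.2 D.ω_mem) g) (by
      rw [← MulAut.conj_apply, MulEquiv.orderOf_eq, orderOf_injective _ E.ι_inj]
      exact orderOf_eq_prime (by rw [sq, D.ω_sq]) D.ω_ne)
  obtain ⟨c, hc, y, -, h⟩ := E.decomp h2 D (g := (E.ι k)⁻¹ * g) (mem_C1_iff_conj.2 (by
    rw [mul_inv_rev, mul_assoc _ g, mul_assoc, ← mul_assoc _ g⁻¹, ← hk]; group))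
  rw [inv_mul_eq_iff_eq_mul] at h
  rw [h]
  exact mul_mem (mem_sup_left ⟨k, rfl⟩) (mul_mem (mem_sup_right hc) (mem_sup_left ⟨y, rfl⟩))

theorem mem_T_of {y : PGL(2, F)} (h : E.ι y ∈ C{E.ι D.e}) : y ∈ D.T :=
  LA.tor_cent (D.hp h2) (D.e_mem h2) D.e_sq (E.cent_iff'.1 h)

theorem le_card_T : Nat.card F ≤ ♯D.T + 1 := by
  by_cases h : IsSquare (-1 : F)
  · exact ((D.card_T h2).1 h).1.ge
  · have := ((D.card_T h2).2 h).1; omega

theorem fld_T {φ : Γ} (h : φ ∈ C{E.ι D.e}) (hφ : φ ∉ D.T.map E.ι) :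
    ♯(D.T.map E.ι ⊓ C{φ}) ^ 2 < ♯D.T := by
  have h1 : (E.j φ).right ≠ 1 := fun e => by
    obtain ⟨y, rfl⟩ := E.mem_range.2 e
    exact hφ (E.mem_map.2 (E.mem_T_of h2 D h))
  have h3 : Odd (orderOf (E.j φ).right) := E.odd.of_dvd_nat (orderOf_dvd_of_pow_eq_one (by
    have := E.mem_range.1 (E.ι.range.pow_index_mem φ)
    rwa [map_pow, ← rightHom_eq_right, map_pow] at this))
  have := fld_small h2 D.ω_sq D.ω_ne h1 h3 ((D.T.map E.ι ⊓ C{φ}).comap E.ι)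
    (fun y hy => E.mem_map.1 hy.1) fun y hy => E.cent_iff.1 (mem_C1_comm.1 hy.2)
  rw [E.card_comap (inf_le_left.trans (map_le_range _ _))] at this
  have := le_card_T h2 D
  omega

theorem mem_T_of_cent {φ : Γ} (h : ∀ y ∈ D.T, φ ∈ C{E.ι y}) : φ ∈ D.T.map E.ι := by
  by_contra h1
  have := E.fld_T h2 D (h _ (D.e_mem h2)) h1
  rw [inf_of_le_left (by rintro _ ⟨y, hy, rfl⟩; exact mem_C1_comm.1 (h y hy)), card_map] at this
  have h3 : 0 < ♯D.T := Nat.card_pos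
  nlinarith

theorem cent_ω {φ : Γ} (h : φ ∈ C{E.ι D.e}) : E.A φ D.ω = D.ω := by
  rw [Dih.ω, map_pow, E.cent_iff.1 h]

theorem fld_U {φ : Γ} (h : φ ∈ C{E.ι D.e} ⊓ C{E.ι D.s}) (ho : Odd (orderOf φ)) (h1 : φ ≠ 1) :
    ∃ U : Subgroup Γ, IsPi {ringChar F} U ∧ φ ∈ N[U] ∧ φ ∉ C[U] := by
  obtain ⟨v, hv, hc⟩ : ∃ v, E.A φ v = v ∧ Nat.card (fixedBy (OnePoint F) v) = 2 := by
    by_cases h3 : IsSquare (-1 : F)
    · exact ⟨_, E.cent_ω h2 D h.1, ((D.card_T h2).1 h3).2.1⟩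
    · exact ⟨_, by rw [map_mul, E.cent_iff.1 h.1, E.cent_iff.1 h.2], ((D.card_T h2).2 h3).2.2⟩
  obtain ⟨⟨a, ha⟩, ⟨b, hb⟩, -, hu⟩ := Nat.card_eq_two_iff.1 hc
  have h3 : ∀ z, v • z = z → z = a ∨ z = b := fun z hz => by
    simpa [Subtype.ext_iff] using hu.ge (Set.mem_univ ⟨z, hz⟩)
  have h4 : E.j φ • a = a := fix_of_two (h3 _ (E.A_smul hv ha)) (h3 _ (E.A_smul hv hb)) ho
    (by rw [← map_pow, pow_orderOf_eq_one, map_one, one_smul])
  refine ⟨_, E.isPi_Ux a, E.norm_Ux h4, fun h5 => h1 ?_⟩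
  obtain ⟨y, rfl⟩ := E.mem_range.2 (right_eq_one_of_Ux h4 fun y hy =>
    E.cent_iff.1 (mem_C1.2 (h5 _ (E.mem_map.2 hy)).symm))
  have h6 := LA.tor_inv (D.hp h2) D.s_comm (D.s_not h2) (E.mem_T_of h2 D h.1)
  rw [← E.cent_iff'.1 h.2, mul_inv_cancel_right, eq_inv_iff_mul_eq_one, ← sq] at h6
  rw [orderOf_injective _ E.ι_inj] at ho
  rw [orderOf_eq_one_iff.1 (Nat.eq_one_of_dvd_coprimes (Nat.coprime_two_left.2 ho)
    (orderOf_dvd_of_pow_eq_one h6) dvd_rfl),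
    map_one]

theorem rootfree {r : ℕ} (hr : r.Prime) (hr2 : r ≠ 2) (h : ¬ IsSquare (-1 : F) ∨ r ≠ ringChar F)
    {X : Subgroup Γ} (hX : IsPi {r} X) (he : E.ι D.e ∈ N[X]) : X ≤ C{E.ι D.e} := by
  have h0 := E.isPi_comap hX
  have h1 : ∀ y ∈ X.comap E.ι, D.e * y * D.e⁻¹ ∈ X.comap E.ι := fun y hy => by
    rw [mem_comap, map_mul, map_mul, map_inv]; exact (he _).1 hy
  have h3 : X.comap E.ι ≤ D.T := by
    by_cases hp : r = ringChar F
    swap
    · exact D.le_T h2 _ (odd_of_isPi hr2 h0) (fun e => hp (h0 _ Fact.out e).symm) h1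
    by_cases h3 : X.comap E.ι = ⊥
    · simp [h3]
    subst hp
    obtain ⟨z, hz⟩ := le_Ux _ (h0.isPGroup hr) h3
    obtain ⟨⟨y, hy⟩, hy1⟩ := ne_bot_iff_exists_ne_one.1 h3
    have h4 := Ux_fix (hz (h1 y hy)) (by simpa [Subtype.ext_iff] using hy1)
      (mem_Ux.1 (conj_mem_Ux D.e (hz hy))).1
    have h5 := ((D.card_T h2).2 (h.resolve_right (fun e => e rfl))).2.1
    rw [← D.fix_eq h2 (D.e_mem h2) D.e_ne] at h5
    have : Nonempty (fixedBy (OnePoint F) D.e) := ⟨⟨z, h4⟩⟩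
    exact absurd h5 Nat.card_pos.ne'
  intro x hx
  have h4 : E.ι (E.A x D.e * D.e⁻¹) ∈ X := by
    rw [map_mul, map_inv, ← conj_ι, mul_assoc, mul_assoc, ← mul_assoc (E.ι D.e)]
    exact mul_mem hx ((he _).1 (inv_mem hx))
  have h5 : (E.A x D.e * D.e⁻¹) ^ 2 ^ n = 1 := by
    have h6 := h3 h4
    rw [Commute.mul_pow (LA.tor_comm (D.hp h2) ((Subgroup.mul_mem_cancel_right _
      (inv_mem (D.e_mem h2))).1 h6) (inv_mem (D.e_mem h2))), ← map_pow, inv_pow, ← D.ord,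
      pow_orderOf_eq_one, map_one, inv_one, one_mul]
  rw [cent_iff, ← mul_inv_eq_one, ← orderOf_eq_one_iff]
  exact Nat.eq_one_of_dvd_coprimes (Nat.Coprime.pow_left n (Nat.coprime_two_left.2
    (odd_of_isPi hr2 h0))) (orderOf_dvd_of_pow_eq_one h5) (orderOf_dvd_natCard _ h4)

section Split

variable {a b : OnePoint F} (hab : a ≠ b) (hω : ∀ z, D.ω • z = z ↔ z = a ∨ z = b)
  (hT : ∀ g, g ∈ D.T ↔ g • a = a ∧ g • b = b)
include hab hω hT

theorem norm_root : C{E.ι D.e} ≤ N[(Ux a).map E.ι] := fun g hg => by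
  have h1 := E.cent_ω h2 D hg
  obtain ⟨y, hy⟩ := E.pow_mem_range g
  refine E.norm_Ux (fix_of_two ((hω _).1 (E.A_smul h1 ((hω a).2 (Or.inl rfl))))
    ((hω _).1 (E.A_smul h1 ((hω b).2 (Or.inr rfl)))) E.odd ?_)
  rw [← map_pow, ← hy, E.jι, inl_smul]
  exact ((hT _).1 (E.mem_T_of h2 D (hy ▸ pow_mem hg _))).1

theorem eq_root {X : Subgroup Γ} (hn : C{E.ι D.e} ≤ N[X]) (h0 : X.comap E.ι ≠ ⊥)
    (h1 : X.comap E.ι ≤ Ux a) : X = (Ux a).map E.ι := by
  have h3 : ∀ c ∈ D.T, ∀ x ∈ X, E.ι c * x * (E.ι c)⁻¹ ∈ X := fun c hc x hx =>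
    (hn (E.T_cent h2 D hc (D.e_mem h2)) x).1 hx
  obtain ⟨⟨y, hy⟩, hy1⟩ := ne_bot_iff_exists_ne_one.1 h0
  replace hy1 : y ≠ 1 := by simpa [Subtype.ext_iff] using hy1
  have h4 : ∀ u ∈ Ux a, E.ι u ∈ X := fun u hu => by
    by_cases hu1 : u = 1
    · rw [hu1, map_one]; exact one_mem _
    obtain ⟨c, c1, c2, rfl⟩ := Ux_conj hab (h1 hy) hu hy1 hu1
    rw [map_mul, map_mul, map_inv]
    exact h3 c ((hT c).2 ⟨c1, c2⟩) _ hy
  refine le_antisymm (fun x hx => ?_) (map_le_iff_le_comap.2 h4)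
  have h5 : ∀ x ∈ X, E.j x • a = a := fun x hx =>
    Ux_fix (h1 (show E.A x y ∈ X.comap E.ι by
      rw [mem_comap, ← conj_ι]; exact mul_mem (mul_mem hx hy) (inv_mem hx)))
      (by simpa using hy1) (mem_Ux.1 (gaAct_mem_Ux (h1 hy))).1
  obtain ⟨u, hu, h6⟩ := Ux_trans (x := a) (y := E.j x • b)
    (fun e => hab (smul_left_cancel _ ((h5 x hx).trans e.symm))) hab.symm
  have h7 : E.ι u * x ∈ X := mul_mem (h4 u hu) hx
  rw [← inl_smul, ← E.jι, ← mul_smul, ← map_mul] at h6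
  rw [← Subgroup.mul_mem_cancel_left _ (E.mem_map.2 hu)]
  generalize E.ι u * x = x at h6 h7
  obtain ⟨c, -, rfl⟩ := E.mem_T_of_cent h2 D (φ := x) fun c hc => by
    have h8 : E.A x c • b = b := by
      have := gaAct_smul (E.j x) c b
      rwa [((hT c).1 hc).2, h6] at this
    have h9 : E.A x c * c⁻¹ ∈ Ux a := h1 (by
      rw [mem_comap, map_mul, map_inv, ← conj_ι, mul_assoc, mul_assoc, ← mul_assoc (E.ι c)]
      exact mul_mem h7 (h3 c hc _ (inv_mem h7)))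
    rw [cent_iff, ← mul_inv_eq_one]
    by_contra h10
    exact hab (Ux_fix h9 h10 (by rw [mul_smul, ((hT _).1 (inv_mem hc)).2, h8])).symm
  exact E.mem_map.2 (h1 h7)

theorem inv_sub {X : Subgroup Γ} (hX : IsPi {ringChar F} X) (hn : C{E.ι D.e} ≤ N[X]) :
    X = ⊥ ∨ X = (Ux a).map E.ι ∨ X = (Ux b).map E.ι := by
  have h3 : ∀ c ∈ D.T, ∀ x ∈ X, E.ι c * x * (E.ι c)⁻¹ ∈ X := fun c hc x hx =>
    (hn (E.T_cent h2 D hc (D.e_mem h2)) x).1 hx
  by_cases h0 : X.comap E.ι = ⊥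
  · refine Or.inl (eq_bot_iff.2 fun x hx => ?_)
    obtain ⟨c, -, rfl⟩ := E.mem_T_of_cent h2 D (φ := x) fun c hc => by
      rw [cent_iff, ← mul_inv_eq_one, ← mem_bot, ← h0, mem_comap, map_mul, map_inv, ← conj_ι,
        mul_assoc, mul_assoc, ← mul_assoc (E.ι c)]
      exact mul_mem hx (h3 c hc _ (inv_mem hx))
    rw [mem_bot.1 (h0.le hx), map_one]; exact one_mem _
  obtain ⟨z, hz⟩ := le_Ux _ ((E.isPi_comap hX).isPGroup Fact.out) h0
  obtain ⟨⟨y, hy⟩, hy1⟩ := ne_bot_iff_exists_ne_one.1 h0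
  have h4 := Ux_fix (hz (show D.ω * y * D.ω⁻¹ ∈ X.comap E.ι by
    rw [mem_comap, map_mul, map_mul, map_inv]; exact h3 _ self_mem_tor _ hy))
    (by simpa [Subtype.ext_iff] using hy1) (mem_Ux.1 (conj_mem_Ux D.ω (hz hy))).1
  rcases (hω z).1 h4 with rfl | rfl
  · exact Or.inr (Or.inl (E.eq_root h2 D hab hω hT hn h0 hz))
  · exact Or.inr (Or.inr (E.eq_root h2 D hab.symm (fun z => (hω z).trans or_comm)
      (fun g => (hT g).trans and_comm) hn h0 hz))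

end Split

theorem invol (J : Subgroup Γ) (h : ∀ a ∈ J, ∀ b ∈ J, a * a = 1 → b * b = 1 → a * b = b * a →
    a = 1 ∨ b = 1 ∨ a = b) : {a | a ∈ J ⊓ E.L ∧ orderOf a = 2}.ncard ≤ Nat.card F := by
  refine le_trans ?_ (ncard_invol h2 (J.comap E.κ) fun a ha b hb h1 h3 h4 => by
    simpa only [← map_mul, ← map_one E.κ, E.κ_inj.eq_iff] using h _ ha _ hb
      (by rw [← map_mul, h1, map_one]) (by rw [← map_mul, h3, map_one])
      (by rw [← map_mul, h4, map_mul]))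
  refine (Set.ncard_le_ncard (fun a ha => ?_)).trans
    (Set.ncard_image_le (f := fun t : J.comap E.κ => E.κ t))
  obtain ⟨⟨h1, h3⟩, h4⟩ := ha
  obtain ⟨x, rfl⟩ := E.range_κ.ge h3
  rw [orderOf_injective _ E.κ_inj] at h4
  refine ⟨⟨x, h1⟩, ⟨Subtype.ext ?_, fun e => ?_⟩, rfl⟩
  · have := pow_orderOf_eq_one x
    rwa [h4, sq] at this
  · simp [show x = 1 from congrArg Subtype.val e] at h4

open scoped Classical in
/-- the numerical parameters -/
@[reducible] noncomputable def np : H4.NP where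
  q := Nat.card F
  p := ringChar F
  f := Nat.log (ringChar F) (Nat.card F)
  m := ♯D.T
  n := if IsSquare (-1 : F) then Nat.card F + 1 else Nat.card F - 1
  ε := if IsSquare (-1 : F) then 1 else -1
  hp := Fact.out
  p_ne := ringChar_ne_two h2
  f_pos := by
    have := Fintype.ofFinite F
    obtain ⟨f, hp, hf⟩ := FiniteField.card F (ringChar F)
    rw [Nat.card_eq_fintype_card, hf, Nat.log_pow hp.one_lt]; exact f.2
  hq := by
    have := Fintype.ofFinite F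
    obtain ⟨f, hp, hf⟩ := FiniteField.card F (ringChar F)
    rw [Nat.card_eq_fintype_card, hf, Nat.log_pow hp.one_lt]
  hε := by split_ifs <;> simp
  hm := by
    split_ifs with h
    · have := ((D.card_T h2).1 h).1; omega
    · have := ((D.card_T h2).2 h).1; omega
  hn := by
    have : 0 < Nat.card F := Nat.card_pos
    split_ifs <;> omega

theorem card_pgl : Nat.card PGL(2, F) = (np h2 D).q * (np h2 D).m * (np h2 D).n := by
  have h1 := (np h2 D).hm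
  have h3 := (np h2 D).hn
  have h4 : 1 ≤ Nat.card F ^ 2 := Nat.one_le_pow _ _ Nat.card_pos
  have h5 := (np h2 D).hε
  rw [card_pgl_two, show Nat.card F = (np h2 D).q from rfl] at *
  generalize np h2 D = N at *
  zify [h4]
  rw [h1, h3]
  rcases h5 with h | h <;> rw [h] <;> ring

theorem odd_m : Odd (♯D.T / 2 ^ n) ∧ ♯D.T = 2 ^ n * (♯D.T / 2 ^ n) := by
  obtain ⟨m, hm⟩ : 2 ^ n ∣ ♯D.T := D.ord ▸ orderOf_dvd_natCard _ (D.e_mem h2)
  rw [hm, Nat.mul_div_cancel_left _ (by positivity)]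
  refine ⟨?_, rfl⟩
  obtain ⟨k, hk, h⟩ := D.syl
  obtain ⟨l, hl⟩ : 2 ∣ (np h2 D).n := by
    have h3 := (np h2 D).hn
    obtain ⟨a, ha⟩ := odd_card h2
    change _ = (Nat.card F : ℤ) + _ at h3
    rcases (np h2 D).hε with h | h <;> omega
  rw [card_pgl h2 D, hl, show (np h2 D).m = _ from hm] at h
  have : k = m * ((np h2 D).q * l) := Nat.eq_of_mul_eq_mul_left (by positivity : 0 < 2 ^ (n + 1))
    (by rw [← h]; ring)
  exact hk.of_dvd_nat ⟨_, this⟩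

omit [Finite Γ] in
theorem four_le (h : Nat.card F ≠ 3) : 4 ≤ Nat.card F := by
  have h1 : 1 < Nat.card F := Finite.one_lt_card
  obtain ⟨a, ha⟩ := odd_card h2
  omega

/-- the abstract description -/
@[reducible] noncomputable def pd : H13.W.PD Γ n where
  N := np h2 D
  m' := ♯D.T / 2 ^ n
  odd_m' := (odd_m h2 D).1
  hm := (odd_m h2 D).2
  Ω := OnePoint F
  fΩ := Fintype.ofFinite _
  act := E.act
  cardΩ := by rw [← @Nat.card_eq_fintype_card _ (_)]; exact Finite.card_option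
  L := E.L
  L0 := E.ι.range
  T := D.T.map E.ι
  e := E.ι D.e
  s := E.ι D.s
  L_le := map_le_range _ _
  L_nml := E.normal_L
  L0_nml := E.normal_range
  odd_index := E.odd
  L_index := by rw [← index_comap, L, comap_map_eq_self_of_injective E.ι_inj, index_PB h2]
  card_L0 := by rw [← card_pgl, MonoidHom.range_eq_map, card_map, card_top]
  two_trans := fun x y x' y' h h' => by
    obtain ⟨g, h1, h3⟩ := two_trans h h'
    refine ⟨_, ⟨g, rfl⟩, ?_, ?_⟩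
    · change E.j (E.ι g) • x = x'
      rwa [E.jι, inl_smul]
    · change E.j (E.ι g) • y = y'
      rwa [E.jι, inl_smul]
  T_le := map_le_range _ _
  T_cyc := Cyc.map (LA.tor_cyc (D.hp h2)) _
  card_T := E.card_map _
  e_mem := E.mem_map.2 (D.e_mem h2)
  ord_e := by rw [orderOf_injective _ E.ι_inj, D.ord]
  e_not := fun h => D.e_not (E.mem_map.1 h)
  s_mem := E.mem_map.2 D.s_mem
  s_sq := by rw [← map_mul, D.s_sq, map_one]
  s_not := fun h => D.s_not h2 (E.mem_map.1 h)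
  s_inv := by
    rintro _ ⟨y, hy, rfl⟩
    rw [← map_inv, ← map_mul, ← map_mul, LA.tor_inv (D.hp h2) D.s_comm (D.s_not h2) hy, map_inv]
  fix_e := by
    rintro _ ⟨k, rfl⟩ h
    simp only [← map_zpow] at h ⊢
    rw [fixedBy_ι, D.fix_eq h2 (zpow_mem (D.e_mem h2) k) fun e => h (by rw [e, map_one])]
    split_ifs with h1
    · rw [((D.card_T h2).1 h1).2.1]; rfl
    · rw [((D.card_T h2).2 h1).2.1]; rfl
  fix_es := by
    rw [← map_mul, fixedBy_ι]
    dsimp only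
    split_ifs with h1
    · rw [((D.card_T h2).1 h1).2.2]; rfl
    · rw [((D.card_T h2).2 h1).2.2]; rfl
  cent_T := by
    rintro _ ⟨y, hy, rfl⟩ h _ ⟨⟨x, rfl⟩, hx⟩
    exact E.mem_map.2 (LA.tor_cent (D.hp h2) hy (fun e => h (by rw [← map_mul, e, map_one]))
      (E.cent_iff'.1 hx))
  cent_u := fun g hg => E.cent_u h2 D (by rwa [← map_pow] at hg)
  cover := E.cover h2 D
  inv_conj := fun a ha ho => by rw [← map_pow]; exact E.inv_conj h2 D ha ho
  comm_le := E.comm_le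
  cyc_quot := E.cyc_quot
  fld_T := fun φ => E.fld_T h2 D
  fld_U := fun φ => E.fld_U h2 D
  rootfree := fun r hr hr2 h X => E.rootfree h2 D hr hr2 (h.imp_left fun e h1 => by
    simp [h1] at e)
  nml_big := fun h => E.nml_big (four_le h2 h)
  perfect := fun h => E.perfect (four_le h2 h)
  cyc_syl := fun r _ hr2 hp X => E.cyc_syl h2 hr2 hp
  model := ⟨F, inferInstance, Fintype.ofFinite F, (@Nat.card_eq_fintype_card _ (_)).symm,
    ⟨(MonoidHom.ofInjective E.ι_inj).symm⟩⟩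

theorem roots (h : (E.pd h2 D).N.ε = 1) : ∃ U, H13.W.Roots (E.pd h2 D) U := by
  have h1 : IsSquare (-1 : F) := by
    by_contra h1
    simp [h1] at h
  obtain ⟨a, b, hab, hω, hT, sa, sb⟩ := D.exists_ab h2 h1
  have hs : cj (E.ι D.s) ((Ux a).map E.ι) = (Ux b).map E.ι := by rw [cj_Ux, sa]
  refine ⟨(Ux a).map E.ι, E.isPi_Ux a, (E.card_map _).trans (card_Ux a), map_mono (Ux_le h2 a),
    E.norm_root h2 D hab hω hT, ?_, fun X hX hn => hs ▸ E.inv_sub h2 D hab hω hT hX hn, ?_, ?_, ?_,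
    ?_, E.invol h2, fun J hJ ho hq => ?_⟩
  · rw [hs, ← Subgroup.map_sup, Ux_sup h2 hab]; rfl
  · rintro _ ⟨x, hx, rfl⟩ _ ⟨y, hy, rfl⟩ x1 y1
    obtain ⟨c, c1, c2, rfl⟩ := Ux_conj hab hx hy (fun e => x1 (by rw [e, map_one]))
      fun e => y1 (by rw [e, map_one])
    exact ⟨_, ⟨c, (hT c).2 ⟨c1, c2⟩, rfl⟩, by simp⟩
  · rintro _ ⟨c, hc, rfl⟩ _ ⟨x, hx, rfl⟩ e
    have h3 := E.cent_iff'.1 (mem_C1_iff_conj.2 e)
    obtain ⟨c1, c2⟩ := (hT c).1 hc
    by_cases x1 : x = 1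
    · exact Or.inr (by rw [x1, map_one])
    · refine Or.inl ?_
      rw [eq_one_of_three hab (z := x • b) (fun e => hab (smul_left_cancel x
        ((mem_Ux.1 hx).1.trans e))) (fun e => hab (Ux_fix hx x1 e.symm).symm) c1 c2
        (by rw [← mul_smul, h3, mul_smul, c2]), map_one]
  · rintro _ ⟨x, hx, rfl⟩ x1
    refine (congrArg (fun s : Set (OnePoint F) => Nat.card s) ((E.fixedBy_ι x).trans
      (Set.eq_singleton_iff_unique_mem.2 ⟨(mem_Ux.1 hx).1, fun y hy => Ux_fix hx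
        (fun e => x1 (by rw [e, map_one])) hy⟩))).trans (by simp)
  · rintro _ ⟨x, hx, rfl⟩ x1
    obtain ⟨y, hy, y1, h3, h4, h5⟩ := braid hab hx fun e => x1 (by rw [e, map_one])
    refine ⟨E.ι y, hs ▸ E.mem_map.2 hy, fun e => y1 (E.ι_inj (e.trans (map_one _).symm)),
      by simpa only [map_mul] using congrArg E.ι h3,
      by simpa only [map_mul, map_one] using congrArg E.ι h4, ?_⟩
    rintro _ ⟨c, hc, rfl⟩
    rw [← map_mul, ← map_mul, ← map_inv, ← map_mul, ← map_mul, ← map_inv]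
    generalize x * y * x = w at h4 h5
    have h6 : w • b = a := by rw [← h5, ← mul_smul, h4, one_smul]
    have h7 : w⁻¹ = w := inv_eq_of_mul_eq_one_right h4
    have h8 := (hT _).1 (self_mem_tor : D.ω ∈ D.T)
    refine congrArg _ (LA.tor_inv (D.hp h2) ?_ (fun e => hab (((hT w).1 e).1.symm.trans h5)) hc)
    rw [← mul_inv_eq_iff_eq_mul]
    refine (LA.tor_two (D.hp h2) D.ω_sq ((hT _).2 ?_) ?_).resolve_left (by simpa using D.ω_ne)
    · simp [h7, mul_smul, h5, h6, h8]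
    · rw [← sq, conj_pow, sq, D.ω_sq, mul_one, mul_inv_cancel]
  · have h3 := E.card_comap (hJ.trans (map_le_range _ _))
    obtain ⟨g, hg, h4, c, hc, c1, h5⟩ := big h2 hab hT ((D.card_T h2).1 h1).1 (J.comap E.ι)
      (fun y hy => E.mem_map.1 (hJ hy)) (h3 ▸ ho) (h3 ▸ hq)
    refine ⟨_, E.mem_map.2 hg, ?_, _, E.mem_map.2 hc,
      fun e => c1 (E.ι_inj (e.trans (map_one _).symm)), mem_cj.2 (by simpa using h5)⟩
    rintro _ ⟨u, hu, rfl⟩
    exact mem_cj.2 (by simpa using h4 u hu)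

end Emb

end H0.WM
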